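import Cfsg.Agent.Lib.QS3.Coset
import Cfsg.Agent.Lib.QS3.RelData

/-!
Groups with an involution centraliser `Q.S₃`: a certificate of coset enumeration, case 000.
-/

set_option autoImplicit false
set_option maxRecDepth 10000

namespace CfsgQS3.Cert000

variable {M α : Type*} [Group M] [MulAction M α] {g : ℕ → M} {p : α} (H : CosetData rels000 3 g p)
include H

theorem r0_1_0 : ∀ x : α, path g [6, 6, 6] x = x :=
  trivial_rot 0 (H.trivial_inv (i := 0) (by decide) (by decide)) (by decide)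

theorem r1_0_0 : ∀ x : α, path g [2, 1, 2, 1] x = x :=
  trivial_rot 0 (H.trivial_rev (i := 1) (by decide)) (by decide)

theorem r1_0_1 : ∀ x : α, path g [1, 2, 1, 2] x = x :=
  trivial_rot 1 (H.trivial_rev (i := 1) (by decide)) (by decide)

theorem r1_1_0 : ∀ x : α, path g [6, 7, 6, 7] x = x :=
  trivial_rot 0 (H.trivial_inv (i := 1) (by decide) (by decide)) (by decide)

theorem r2_0_0 : ∀ x : α, path g [2, 0, 0, 2, 0, 0] x = x :=
  trivial_rot 0 (H.trivial_rev (i := 2) (by decide)) (by decide)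

theorem r2_0_1 : ∀ x : α, path g [0, 0, 2, 0, 0, 2] x = x :=
  trivial_rot 1 (H.trivial_rev (i := 2) (by decide)) (by decide)

theorem r2_0_2 : ∀ x : α, path g [0, 2, 0, 0, 2, 0] x = x :=
  trivial_rot 2 (H.trivial_rev (i := 2) (by decide)) (by decide)

theorem r2_1_1 : ∀ x : α, path g [5, 7, 5, 5, 7, 5] x = x :=
  trivial_rot 1 (H.trivial_inv (i := 2) (by decide) (by decide)) (by decide)

theorem r2_1_2 : ∀ x : α, path g [7, 5, 5, 7, 5, 5] x = x :=
  trivial_rot 2 (H.trivial_inv (i := 2) (by decide) (by decide)) (by decide)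

theorem r3_0_0 : ∀ x : α, path g [1, 5, 1, 0, 1, 0] x = x :=
  trivial_rot 0 (H.trivial_rev (i := 3) (by decide)) (by decide)

theorem r3_0_1 : ∀ x : α, path g [5, 1, 0, 1, 0, 1] x = x :=
  trivial_rot 1 (H.trivial_rev (i := 3) (by decide)) (by decide)

theorem r3_0_2 : ∀ x : α, path g [1, 0, 1, 0, 1, 5] x = x :=
  trivial_rot 2 (H.trivial_rev (i := 3) (by decide)) (by decide)

theorem r3_0_3 : ∀ x : α, path g [0, 1, 0, 1, 5, 1] x = x :=
  trivial_rot 3 (H.trivial_rev (i := 3) (by decide)) (by decide)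

theorem r3_0_4 : ∀ x : α, path g [1, 0, 1, 5, 1, 0] x = x :=
  trivial_rot 4 (H.trivial_rev (i := 3) (by decide)) (by decide)

theorem r3_0_5 : ∀ x : α, path g [0, 1, 5, 1, 0, 1] x = x :=
  trivial_rot 5 (H.trivial_rev (i := 3) (by decide)) (by decide)

theorem r3_1_0 : ∀ x : α, path g [5, 6, 5, 6, 0, 6] x = x :=
  trivial_rot 0 (H.trivial_inv (i := 3) (by decide) (by decide)) (by decide)

theorem r3_1_1 : ∀ x : α, path g [6, 5, 6, 0, 6, 5] x = x :=
  trivial_rot 1 (H.trivial_inv (i := 3) (by decide) (by decide)) (by decide)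

theorem r3_1_3 : ∀ x : α, path g [6, 0, 6, 5, 6, 5] x = x :=
  trivial_rot 3 (H.trivial_inv (i := 3) (by decide) (by decide)) (by decide)

theorem r3_1_4 : ∀ x : α, path g [0, 6, 5, 6, 5, 6] x = x :=
  trivial_rot 4 (H.trivial_inv (i := 3) (by decide) (by decide)) (by decide)

theorem r4_0_0 : ∀ x : α, path g [2, 0, 2, 0, 2, 0, 2, 0] x = x :=
  trivial_rot 0 (H.trivial_rev (i := 4) (by decide)) (by decide)

theorem r4_0_1 : ∀ x : α, path g [0, 2, 0, 2, 0, 2, 0, 2] x = x :=
  trivial_rot 1 (H.trivial_rev (i := 4) (by decide)) (by decide)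

theorem r4_1_0 : ∀ x : α, path g [5, 7, 5, 7, 5, 7, 5, 7] x = x :=
  trivial_rot 0 (H.trivial_inv (i := 4) (by decide) (by decide)) (by decide)

theorem r4_1_1 : ∀ x : α, path g [7, 5, 7, 5, 7, 5, 7, 5] x = x :=
  trivial_rot 1 (H.trivial_inv (i := 4) (by decide) (by decide)) (by decide)

theorem r5_0_0 : ∀ x : α, path g [5, 6, 7, 5, 6, 7, 0, 2, 1, 0, 2, 1] x = x :=
  trivial_rot 0 (H.trivial_rev (i := 5) (by decide)) (by decide)

theorem r5_0_7 : ∀ x : α, path g [2, 1, 0, 2, 1, 5, 6, 7, 5, 6, 7, 0] x = x :=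
  trivial_rot 7 (H.trivial_rev (i := 5) (by decide)) (by decide)

theorem r5_0_9 : ∀ x : α, path g [0, 2, 1, 5, 6, 7, 5, 6, 7, 0, 2, 1] x = x :=
  trivial_rot 9 (H.trivial_rev (i := 5) (by decide)) (by decide)

theorem r5_1_5 : ∀ x : α, path g [5, 2, 1, 0, 2, 1, 0, 6, 7, 5, 6, 7] x = x :=
  trivial_rot 5 (H.trivial_inv (i := 5) (by decide) (by decide)) (by decide)

theorem r5_1_8 : ∀ x : α, path g [0, 2, 1, 0, 6, 7, 5, 6, 7, 5, 2, 1] x = x :=
  trivial_rot 8 (H.trivial_inv (i := 5) (by decide) (by decide)) (by decide)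

theorem r5_1_11 : ∀ x : α, path g [0, 6, 7, 5, 6, 7, 5, 2, 1, 0, 2, 1] x = x :=
  trivial_rot 11 (H.trivial_inv (i := 5) (by decide) (by decide)) (by decide)

theorem r6_0_0 : ∀ x : α, path g [5, 5, 6, 5, 7, 5, 6, 5, 8, 2, 3] x = x :=
  trivial_rot 0 (H.trivial_rev (i := 6) (by decide)) (by decide)

theorem r6_0_1 : ∀ x : α, path g [5, 6, 5, 7, 5, 6, 5, 8, 2, 3, 5] x = x :=
  trivial_rot 1 (H.trivial_rev (i := 6) (by decide)) (by decide)

theorem r6_0_3 : ∀ x : α, path g [5, 7, 5, 6, 5, 8, 2, 3, 5, 5, 6] x = x :=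
  trivial_rot 3 (H.trivial_rev (i := 6) (by decide)) (by decide)

theorem r6_0_4 : ∀ x : α, path g [7, 5, 6, 5, 8, 2, 3, 5, 5, 6, 5] x = x :=
  trivial_rot 4 (H.trivial_rev (i := 6) (by decide)) (by decide)

theorem r6_0_7 : ∀ x : α, path g [5, 8, 2, 3, 5, 5, 6, 5, 7, 5, 6] x = x :=
  trivial_rot 7 (H.trivial_rev (i := 6) (by decide)) (by decide)

theorem r6_0_8 : ∀ x : α, path g [8, 2, 3, 5, 5, 6, 5, 7, 5, 6, 5] x = x :=
  trivial_rot 8 (H.trivial_rev (i := 6) (by decide)) (by decide)

theorem r6_0_10 : ∀ x : α, path g [3, 5, 5, 6, 5, 7, 5, 6, 5, 8, 2] x = x :=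
  trivial_rot 10 (H.trivial_rev (i := 6) (by decide)) (by decide)

theorem r6_1_0 : ∀ x : α, path g [8, 7, 3, 0, 1, 0, 2, 0, 1, 0, 0] x = x :=
  trivial_rot 0 (H.trivial_inv (i := 6) (by decide) (by decide)) (by decide)

theorem r6_1_2 : ∀ x : α, path g [3, 0, 1, 0, 2, 0, 1, 0, 0, 8, 7] x = x :=
  trivial_rot 2 (H.trivial_inv (i := 6) (by decide) (by decide)) (by decide)

theorem r6_1_3 : ∀ x : α, path g [0, 1, 0, 2, 0, 1, 0, 0, 8, 7, 3] x = x :=
  trivial_rot 3 (H.trivial_inv (i := 6) (by decide) (by decide)) (by decide)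

theorem r6_1_5 : ∀ x : α, path g [0, 2, 0, 1, 0, 0, 8, 7, 3, 0, 1] x = x :=
  trivial_rot 5 (H.trivial_inv (i := 6) (by decide) (by decide)) (by decide)

theorem r6_1_6 : ∀ x : α, path g [2, 0, 1, 0, 0, 8, 7, 3, 0, 1, 0] x = x :=
  trivial_rot 6 (H.trivial_inv (i := 6) (by decide) (by decide)) (by decide)

theorem r6_1_10 : ∀ x : α, path g [0, 8, 7, 3, 0, 1, 0, 2, 0, 1, 0] x = x :=
  trivial_rot 10 (H.trivial_inv (i := 6) (by decide) (by decide)) (by decide)

theorem r7_0_1 : ∀ x : α, path g [5, 7, 5, 6, 8, 0, 3, 6] x = x :=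
  trivial_rot 1 (H.trivial_rev (i := 7) (by decide)) (by decide)

theorem r7_0_2 : ∀ x : α, path g [7, 5, 6, 8, 0, 3, 6, 5] x = x :=
  trivial_rot 2 (H.trivial_rev (i := 7) (by decide)) (by decide)

theorem r7_0_5 : ∀ x : α, path g [8, 0, 3, 6, 5, 7, 5, 6] x = x :=
  trivial_rot 5 (H.trivial_rev (i := 7) (by decide)) (by decide)

theorem r7_1_0 : ∀ x : α, path g [8, 5, 3, 1, 0, 2, 0, 1] x = x :=
  trivial_rot 0 (H.trivial_inv (i := 7) (by decide) (by decide)) (by decide)

theorem r7_1_1 : ∀ x : α, path g [5, 3, 1, 0, 2, 0, 1, 8] x = x :=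
  trivial_rot 1 (H.trivial_inv (i := 7) (by decide) (by decide)) (by decide)

theorem r7_1_2 : ∀ x : α, path g [3, 1, 0, 2, 0, 1, 8, 5] x = x :=
  trivial_rot 2 (H.trivial_inv (i := 7) (by decide) (by decide)) (by decide)

theorem r7_1_3 : ∀ x : α, path g [1, 0, 2, 0, 1, 8, 5, 3] x = x :=
  trivial_rot 3 (H.trivial_inv (i := 7) (by decide) (by decide)) (by decide)

theorem r7_1_4 : ∀ x : α, path g [0, 2, 0, 1, 8, 5, 3, 1] x = x :=
  trivial_rot 4 (H.trivial_inv (i := 7) (by decide) (by decide)) (by decide)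

theorem r7_1_5 : ∀ x : α, path g [2, 0, 1, 8, 5, 3, 1, 0] x = x :=
  trivial_rot 5 (H.trivial_inv (i := 7) (by decide) (by decide)) (by decide)

theorem r8_0_0 : ∀ x : α, path g [7, 5, 8, 1, 0, 2, 0, 1, 3] x = x :=
  trivial_rot 0 (H.trivial_rev (i := 8) (by decide)) (by decide)

theorem r8_0_1 : ∀ x : α, path g [5, 8, 1, 0, 2, 0, 1, 3, 7] x = x :=
  trivial_rot 1 (H.trivial_rev (i := 8) (by decide)) (by decide)

theorem r8_0_2 : ∀ x : α, path g [8, 1, 0, 2, 0, 1, 3, 7, 5] x = x :=
  trivial_rot 2 (H.trivial_rev (i := 8) (by decide)) (by decide)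

theorem r8_0_4 : ∀ x : α, path g [0, 2, 0, 1, 3, 7, 5, 8, 1] x = x :=
  trivial_rot 4 (H.trivial_rev (i := 8) (by decide)) (by decide)

theorem r8_0_7 : ∀ x : α, path g [1, 3, 7, 5, 8, 1, 0, 2, 0] x = x :=
  trivial_rot 7 (H.trivial_rev (i := 8) (by decide)) (by decide)

theorem r8_1_2 : ∀ x : α, path g [5, 7, 5, 6, 3, 0, 2, 8, 6] x = x :=
  trivial_rot 2 (H.trivial_inv (i := 8) (by decide) (by decide)) (by decide)

theorem r8_1_3 : ∀ x : α, path g [7, 5, 6, 3, 0, 2, 8, 6, 5] x = x :=
  trivial_rot 3 (H.trivial_inv (i := 8) (by decide) (by decide)) (by decide)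

theorem r8_1_5 : ∀ x : α, path g [6, 3, 0, 2, 8, 6, 5, 7, 5] x = x :=
  trivial_rot 5 (H.trivial_inv (i := 8) (by decide) (by decide)) (by decide)

theorem r8_1_7 : ∀ x : α, path g [0, 2, 8, 6, 5, 7, 5, 6, 3] x = x :=
  trivial_rot 7 (H.trivial_inv (i := 8) (by decide) (by decide)) (by decide)

theorem r8_1_8 : ∀ x : α, path g [2, 8, 6, 5, 7, 5, 6, 3, 0] x = x :=
  trivial_rot 8 (H.trivial_inv (i := 8) (by decide) (by decide)) (by decide)

theorem r9_0_0 : ∀ x : α, path g [3, 3, 3] x = x :=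
  trivial_rot 0 (H.trivial_rev (i := 9) (by decide)) (by decide)

theorem r9_1_0 : ∀ x : α, path g [8, 8, 8] x = x :=
  trivial_rot 0 (H.trivial_inv (i := 9) (by decide) (by decide)) (by decide)

theorem r10_0_0 : ∀ x : α, path g [5, 5, 5, 7, 5, 9, 2, 4] x = x :=
  trivial_rot 0 (H.trivial_rev (i := 10) (by decide)) (by decide)

theorem r10_0_1 : ∀ x : α, path g [5, 5, 7, 5, 9, 2, 4, 5] x = x :=
  trivial_rot 1 (H.trivial_rev (i := 10) (by decide)) (by decide)

theorem r10_0_3 : ∀ x : α, path g [7, 5, 9, 2, 4, 5, 5, 5] x = x :=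
  trivial_rot 3 (H.trivial_rev (i := 10) (by decide)) (by decide)

theorem r10_0_5 : ∀ x : α, path g [9, 2, 4, 5, 5, 5, 7, 5] x = x :=
  trivial_rot 5 (H.trivial_rev (i := 10) (by decide)) (by decide)

theorem r10_0_7 : ∀ x : α, path g [4, 5, 5, 5, 7, 5, 9, 2] x = x :=
  trivial_rot 7 (H.trivial_rev (i := 10) (by decide)) (by decide)

theorem r10_1_0 : ∀ x : α, path g [9, 7, 4, 0, 2, 0, 0, 0] x = x :=
  trivial_rot 0 (H.trivial_inv (i := 10) (by decide) (by decide)) (by decide)

theorem r10_1_2 : ∀ x : α, path g [4, 0, 2, 0, 0, 0, 9, 7] x = x :=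
  trivial_rot 2 (H.trivial_inv (i := 10) (by decide) (by decide)) (by decide)

theorem r10_1_5 : ∀ x : α, path g [0, 0, 0, 9, 7, 4, 0, 2] x = x :=
  trivial_rot 5 (H.trivial_inv (i := 10) (by decide) (by decide)) (by decide)

theorem r10_1_6 : ∀ x : α, path g [0, 0, 9, 7, 4, 0, 2, 0] x = x :=
  trivial_rot 6 (H.trivial_inv (i := 10) (by decide) (by decide)) (by decide)

theorem r11_0_2 : ∀ x : α, path g [5, 7, 5, 6, 7, 9, 0, 2, 0, 4, 5, 6] x = x :=
  trivial_rot 2 (H.trivial_rev (i := 11) (by decide)) (by decide)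

theorem r11_0_7 : ∀ x : α, path g [9, 0, 2, 0, 4, 5, 6, 5, 7, 5, 6, 7] x = x :=
  trivial_rot 7 (H.trivial_rev (i := 11) (by decide)) (by decide)

theorem r11_0_8 : ∀ x : α, path g [0, 2, 0, 4, 5, 6, 5, 7, 5, 6, 7, 9] x = x :=
  trivial_rot 8 (H.trivial_rev (i := 11) (by decide)) (by decide)

theorem r11_1_1 : ∀ x : α, path g [5, 7, 5, 4, 2, 1, 0, 2, 0, 1, 0, 9] x = x :=
  trivial_rot 1 (H.trivial_inv (i := 11) (by decide) (by decide)) (by decide)

theorem r11_1_5 : ∀ x : α, path g [2, 1, 0, 2, 0, 1, 0, 9, 5, 7, 5, 4] x = x :=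
  trivial_rot 5 (H.trivial_inv (i := 11) (by decide) (by decide)) (by decide)

theorem r11_1_7 : ∀ x : α, path g [0, 2, 0, 1, 0, 9, 5, 7, 5, 4, 2, 1] x = x :=
  trivial_rot 7 (H.trivial_inv (i := 11) (by decide) (by decide)) (by decide)

theorem r11_1_9 : ∀ x : α, path g [0, 1, 0, 9, 5, 7, 5, 4, 2, 1, 0, 2] x = x :=
  trivial_rot 9 (H.trivial_inv (i := 11) (by decide) (by decide)) (by decide)

theorem r11_1_10 : ∀ x : α, path g [1, 0, 9, 5, 7, 5, 4, 2, 1, 0, 2, 0] x = x :=
  trivial_rot 10 (H.trivial_inv (i := 11) (by decide) (by decide)) (by decide)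

theorem r12_0_0 : ∀ x : α, path g [5, 6, 7, 5, 6, 9, 1, 1, 0, 1, 4] x = x :=
  trivial_rot 0 (H.trivial_rev (i := 12) (by decide)) (by decide)

theorem r12_0_1 : ∀ x : α, path g [6, 7, 5, 6, 9, 1, 1, 0, 1, 4, 5] x = x :=
  trivial_rot 1 (H.trivial_rev (i := 12) (by decide)) (by decide)

theorem r12_0_5 : ∀ x : α, path g [9, 1, 1, 0, 1, 4, 5, 6, 7, 5, 6] x = x :=
  trivial_rot 5 (H.trivial_rev (i := 12) (by decide)) (by decide)

theorem r12_1_0 : ∀ x : α, path g [9, 6, 5, 6, 6, 4, 1, 0, 2, 1, 0] x = x :=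
  trivial_rot 0 (H.trivial_inv (i := 12) (by decide) (by decide)) (by decide)

theorem r12_1_1 : ∀ x : α, path g [6, 5, 6, 6, 4, 1, 0, 2, 1, 0, 9] x = x :=
  trivial_rot 1 (H.trivial_inv (i := 12) (by decide) (by decide)) (by decide)

theorem r12_1_3 : ∀ x : α, path g [6, 6, 4, 1, 0, 2, 1, 0, 9, 6, 5] x = x :=
  trivial_rot 3 (H.trivial_inv (i := 12) (by decide) (by decide)) (by decide)

theorem r12_1_7 : ∀ x : α, path g [0, 2, 1, 0, 9, 6, 5, 6, 6, 4, 1] x = x :=
  trivial_rot 7 (H.trivial_inv (i := 12) (by decide) (by decide)) (by decide)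

theorem r12_1_8 : ∀ x : α, path g [2, 1, 0, 9, 6, 5, 6, 6, 4, 1, 0] x = x :=
  trivial_rot 8 (H.trivial_inv (i := 12) (by decide) (by decide)) (by decide)

theorem r12_1_9 : ∀ x : α, path g [1, 0, 9, 6, 5, 6, 6, 4, 1, 0, 2] x = x :=
  trivial_rot 9 (H.trivial_inv (i := 12) (by decide) (by decide)) (by decide)

theorem r13_0_0 : ∀ x : α, path g [4, 4, 4] x = x :=
  trivial_rot 0 (H.trivial_rev (i := 13) (by decide)) (by decide)

theorem r13_1_0 : ∀ x : α, path g [9, 9, 9] x = x :=
  trivial_rot 0 (H.trivial_inv (i := 13) (by decide) (by decide)) (by decide)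

theorem r14_0_0 : ∀ x : α, path g [9, 8, 4, 3] x = x :=
  trivial_rot 0 (H.trivial_rev (i := 14) (by decide)) (by decide)

theorem r14_0_3 : ∀ x : α, path g [3, 9, 8, 4] x = x :=
  trivial_rot 3 (H.trivial_rev (i := 14) (by decide)) (by decide)

theorem r14_1_0 : ∀ x : α, path g [8, 9, 3, 4] x = x :=
  trivial_rot 0 (H.trivial_inv (i := 14) (by decide) (by decide)) (by decide)

theorem r14_1_1 : ∀ x : α, path g [9, 3, 4, 8] x = x :=
  trivial_rot 1 (H.trivial_inv (i := 14) (by decide) (by decide)) (by decide)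

theorem r14_1_2 : ∀ x : α, path g [3, 4, 8, 9] x = x :=
  trivial_rot 2 (H.trivial_inv (i := 14) (by decide) (by decide)) (by decide)

theorem r14_1_3 : ∀ x : α, path g [4, 8, 9, 3] x = x :=
  trivial_rot 3 (H.trivial_inv (i := 14) (by decide) (by decide)) (by decide)

theorem r15_1_0 : ∀ x : α, path g [8, 6, 8, 6, 8, 6, 8, 6, 8, 6, 8, 6, 8, 6] x = x :=
  trivial_rot 0 (H.trivial_inv (i := 15) (by decide) (by decide)) (by decide)

theorem r16_1_1 : ∀ x : α, path g [6, 9, 6, 9, 6, 9, 6, 9, 6, 9, 6, 9, 6, 9] x = x :=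
  trivial_rot 1 (H.trivial_inv (i := 16) (by decide) (by decide)) (by decide)

theorem r17_0_0 : ∀ x : α, path g [0, 1, 3, 0, 1, 3, 0, 1, 3] x = x :=
  trivial_rot 0 (H.trivial_rev (i := 17) (by decide)) (by decide)

theorem r17_0_1 : ∀ x : α, path g [1, 3, 0, 1, 3, 0, 1, 3, 0] x = x :=
  trivial_rot 1 (H.trivial_rev (i := 17) (by decide)) (by decide)

theorem r17_1_0 : ∀ x : α, path g [8, 6, 5, 8, 6, 5, 8, 6, 5] x = x :=
  trivial_rot 0 (H.trivial_inv (i := 17) (by decide) (by decide)) (by decide)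

theorem r17_1_1 : ∀ x : α, path g [6, 5, 8, 6, 5, 8, 6, 5, 8] x = x :=
  trivial_rot 1 (H.trivial_inv (i := 17) (by decide) (by decide)) (by decide)

theorem r17_1_2 : ∀ x : α, path g [5, 8, 6, 5, 8, 6, 5, 8, 6] x = x :=
  trivial_rot 2 (H.trivial_inv (i := 17) (by decide) (by decide)) (by decide)

theorem r18_0_1 : ∀ x : α, path g [1, 4, 2, 1, 4, 2, 1, 4, 2] x = x :=
  trivial_rot 1 (H.trivial_rev (i := 18) (by decide)) (by decide)

theorem r18_0_2 : ∀ x : α, path g [4, 2, 1, 4, 2, 1, 4, 2, 1] x = x :=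
  trivial_rot 2 (H.trivial_rev (i := 18) (by decide)) (by decide)

theorem r18_1_0 : ∀ x : α, path g [9, 6, 7, 9, 6, 7, 9, 6, 7] x = x :=
  trivial_rot 0 (H.trivial_inv (i := 18) (by decide) (by decide)) (by decide)

theorem r18_1_1 : ∀ x : α, path g [6, 7, 9, 6, 7, 9, 6, 7, 9] x = x :=
  trivial_rot 1 (H.trivial_inv (i := 18) (by decide) (by decide)) (by decide)

theorem r18_1_2 : ∀ x : α, path g [7, 9, 6, 7, 9, 6, 7, 9, 6] x = x :=
  trivial_rot 2 (H.trivial_inv (i := 18) (by decide) (by decide)) (by decide)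

theorem f0 : g 0 • path g [] p = path g [] p :=
  H.base (i := 0) (by decide)

theorem f1 : g 5 • path g [] p = path g [] p :=
  H.back (i := 0) (by decide) (f0 H)

theorem f2 : g 1 • path g [] p = path g [] p :=
  H.base (i := 1) (by decide)

theorem f3 : g 6 • path g [] p = path g [] p :=
  H.back (i := 1) (by decide) (f2 H)

theorem f4 : g 2 • path g [] p = path g [] p :=
  H.base (i := 2) (by decide)

theorem f5 : g 7 • path g [] p = path g [] p :=
  H.back (i := 2) (by decide) (f4 H)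

theorem f6 : g 3 • path g [] p = path g [3] p :=
  rfl

theorem f7 : g 8 • path g [3] p = path g [] p :=
  H.back (i := 3) (by decide) (f6 H)

theorem f8 : g 4 • path g [] p = path g [4] p :=
  rfl

theorem f9 : g 9 • path g [4] p = path g [] p :=
  H.back (i := 4) (by decide) (f8 H)

theorem f10 : g 8 • path g [] p = path g [8] p :=
  rfl

theorem f11 : g 3 • path g [8] p = path g [] p :=
  H.back (i := 8) (by decide) (f10 H)

theorem f12 : g 8 • path g [8] p = path g [3] p :=
  scan (u := [8]) (w := [8]) (i := 8) (r9_1_0 H) (step (f10 H) rfl) (step (H.back (i := 3) (by decide) (f6 H)) rfl)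

theorem f14 : g 0 • path g [8] p = path g [8] p :=
  scan (u := [8]) (w := [3, 6, 5, 7, 5, 6]) (i := 0) (r7_0_5 H) (step (f10 H) rfl) (step (H.back (i := 8) (by decide) (f10 H)) (step (H.back (i := 1) (by decide) (f2 H)) (step (H.back (i := 0) (by decide) (f0 H)) (step (H.back (i := 2) (by decide) (f4 H)) (step (H.back (i := 0) (by decide) (f0 H)) (step (H.back (i := 1) (by decide) (f2 H)) rfl))))))

theorem f15 : g 5 • path g [8] p = path g [8] p :=
  H.back (i := 0) (by decide) (f14 H)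

theorem f16 : g 2 • path g [8] p = path g [8] p :=
  scan (u := [8]) (w := [3, 5, 5, 6, 5, 7, 5, 6, 5]) (i := 2) (r6_0_8 H) (step (f10 H) rfl) (step (H.back (i := 8) (by decide) (f10 H)) (step (H.back (i := 0) (by decide) (f0 H)) (step (H.back (i := 0) (by decide) (f0 H)) (step (H.back (i := 1) (by decide) (f2 H)) (step (H.back (i := 0) (by decide) (f0 H)) (step (H.back (i := 2) (by decide) (f4 H)) (step (H.back (i := 0) (by decide) (f0 H)) (step (H.back (i := 1) (by decide) (f2 H)) (step (H.back (i := 0) (by decide) (f0 H)) rfl)))))))))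

theorem f17 : g 7 • path g [8] p = path g [8] p :=
  H.back (i := 2) (by decide) (f16 H)

theorem f18 : g 9 • path g [] p = path g [9] p :=
  rfl

theorem f19 : g 4 • path g [9] p = path g [] p :=
  H.back (i := 9) (by decide) (f18 H)

theorem f20 : g 9 • path g [9] p = path g [4] p :=
  scan (u := [9]) (w := [9]) (i := 9) (r13_1_0 H) (step (f18 H) rfl) (step (H.back (i := 4) (by decide) (f8 H)) rfl)

theorem f21 : g 4 • path g [4] p = path g [9] p :=
  H.back (i := 9) (by decide) (f20 H)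

theorem f22 : g 2 • path g [9] p = path g [9] p :=
  scan (u := [9]) (w := [4, 5, 5, 5, 7, 5]) (i := 2) (r10_0_5 H) (step (f18 H) rfl) (step (H.back (i := 9) (by decide) (f18 H)) (step (H.back (i := 0) (by decide) (f0 H)) (step (H.back (i := 0) (by decide) (f0 H)) (step (H.back (i := 0) (by decide) (f0 H)) (step (H.back (i := 2) (by decide) (f4 H)) (step (H.back (i := 0) (by decide) (f0 H)) rfl))))))

theorem f23 : g 7 • path g [9] p = path g [9] p :=
  H.back (i := 2) (by decide) (f22 H)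

theorem f24 : g 0 • path g [3] p = path g [3, 0] p :=
  rfl

theorem f25 : g 5 • path g [3, 0] p = path g [3] p :=
  H.back (i := 0) (by decide) (f24 H)

theorem f26 : g 2 • path g [3, 0] p = path g [3] p :=
  scan (u := [0]) (w := [8, 6, 5, 7, 5, 6, 3]) (i := 2) (r8_1_7 H) (step (f24 H) rfl) (step (H.back (i := 3) (by decide) (f6 H)) (step (H.back (i := 1) (by decide) (f2 H)) (step (H.back (i := 0) (by decide) (f0 H)) (step (H.back (i := 2) (by decide) (f4 H)) (step (H.back (i := 0) (by decide) (f0 H)) (step (H.back (i := 1) (by decide) (f2 H)) (step (H.back (i := 8) (by decide) (f7 H)) rfl)))))))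

theorem f27 : g 7 • path g [3] p = path g [3, 0] p :=
  H.back (i := 2) (by decide) (f26 H)

theorem f28 : g 1 • path g [3] p = path g [3, 1] p :=
  rfl

theorem f29 : g 6 • path g [3, 1] p = path g [3] p :=
  H.back (i := 1) (by decide) (f28 H)

theorem f30 : g 2 • path g [3] p = path g [3, 2] p :=
  rfl

theorem f31 : g 7 • path g [3, 2] p = path g [3] p :=
  H.back (i := 2) (by decide) (f30 H)

theorem f32 : g 4 • path g [3] p = path g [3, 4] p :=
  rfl

theorem f33 : g 9 • path g [3, 4] p = path g [3] p :=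
  H.back (i := 4) (by decide) (f32 H)

theorem f34 : g 8 • path g [3, 4] p = path g [4] p :=
  scan (u := [4]) (w := [9, 3]) (i := 8) (r14_1_3 H) (step (f32 H) rfl) (step (H.back (i := 4) (by decide) (f8 H)) (step (H.back (i := 8) (by decide) (f7 H)) rfl))

theorem f35 : g 3 • path g [4] p = path g [3, 4] p :=
  H.back (i := 8) (by decide) (f34 H)

theorem f36 : g 5 • path g [3] p = path g [3, 5] p :=
  rfl

theorem f38 : g 6 • path g [3] p = path g [3, 6] p :=
  rfl

theorem f39 : g 1 • path g [3, 6] p = path g [3] p :=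
  H.back (i := 6) (by decide) (f38 H)

theorem f40 : g 6 • path g [3, 6] p = path g [3, 1] p :=
  scan (u := [6]) (w := [6]) (i := 6) (r0_1_0 H) (step (f38 H) rfl) (step (H.back (i := 1) (by decide) (f28 H)) rfl)

theorem f41 : g 1 • path g [3, 1] p = path g [3, 6] p :=
  H.back (i := 6) (by decide) (f40 H)

theorem f42 : g 9 • path g [3] p = path g [3, 9] p :=
  rfl

theorem f43 : g 4 • path g [3, 9] p = path g [3] p :=
  H.back (i := 9) (by decide) (f42 H)

theorem f44 : g 9 • path g [3, 9] p = path g [3, 4] p :=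
  scan (u := [9]) (w := [9]) (i := 9) (r13_1_0 H) (step (f42 H) rfl) (step (H.back (i := 4) (by decide) (f32 H)) rfl)

theorem f46 : g 8 • path g [3, 9] p = path g [9] p :=
  scan (u := [9]) (w := [4, 3]) (i := 8) (r14_0_0 H) (step (f42 H) rfl) (step (H.back (i := 9) (by decide) (f18 H)) (step (H.back (i := 8) (by decide) (f7 H)) rfl))

theorem f47 : g 3 • path g [9] p = path g [3, 9] p :=
  H.back (i := 8) (by decide) (f46 H)

theorem f48 : g 0 • path g [4] p = path g [4, 0] p :=
  rfl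

theorem f49 : g 5 • path g [4, 0] p = path g [4] p :=
  H.back (i := 0) (by decide) (f48 H)

theorem f50 : g 1 • path g [4] p = path g [4, 1] p :=
  rfl

theorem f51 : g 6 • path g [4, 1] p = path g [4] p :=
  H.back (i := 1) (by decide) (f50 H)

theorem f52 : g 2 • path g [4] p = path g [4, 2] p :=
  rfl

theorem f53 : g 7 • path g [4, 2] p = path g [4] p :=
  H.back (i := 2) (by decide) (f52 H)

theorem f54 : g 5 • path g [4] p = path g [4, 5] p :=
  rfl

theorem f55 : g 0 • path g [4, 5] p = path g [4] p :=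
  H.back (i := 5) (by decide) (f54 H)

theorem f56 : g 6 • path g [4] p = path g [4, 6] p :=
  rfl

theorem f57 : g 1 • path g [4, 6] p = path g [4] p :=
  H.back (i := 6) (by decide) (f56 H)

theorem f58 : g 6 • path g [4, 6] p = path g [4, 1] p :=
  scan (u := [6]) (w := [6]) (i := 6) (r0_1_0 H) (step (f56 H) rfl) (step (H.back (i := 1) (by decide) (f50 H)) rfl)

theorem f59 : g 1 • path g [4, 1] p = path g [4, 6] p :=
  H.back (i := 6) (by decide) (f58 H)

theorem f60 : g 7 • path g [4] p = path g [4, 7] p :=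
  rfl

theorem f62 : g 8 • path g [4] p = path g [4, 8] p :=
  rfl

theorem f63 : g 3 • path g [4, 8] p = path g [4] p :=
  H.back (i := 8) (by decide) (f62 H)

theorem f64 : g 8 • path g [4, 8] p = path g [3, 4] p :=
  scan (u := [8]) (w := [8]) (i := 8) (r9_1_0 H) (step (f62 H) rfl) (step (H.back (i := 3) (by decide) (f35 H)) rfl)

theorem f66 : g 9 • path g [4, 8] p = path g [8] p :=
  scan (u := [8]) (w := [3, 4]) (i := 9) (r14_1_0 H) (step (f62 H) rfl) (step (H.back (i := 8) (by decide) (f10 H)) (step (H.back (i := 9) (by decide) (f9 H)) rfl))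

theorem f67 : g 4 • path g [8] p = path g [4, 8] p :=
  H.back (i := 9) (by decide) (f66 H)

theorem f68 : g 1 • path g [8] p = path g [8, 1] p :=
  rfl

theorem f69 : g 6 • path g [8, 1] p = path g [8] p :=
  H.back (i := 1) (by decide) (f68 H)

theorem f70 : g 6 • path g [8] p = path g [8, 6] p :=
  rfl

theorem f71 : g 1 • path g [8, 6] p = path g [8] p :=
  H.back (i := 6) (by decide) (f70 H)

theorem f72 : g 6 • path g [8, 6] p = path g [8, 1] p :=
  scan (u := [6]) (w := [6]) (i := 6) (r0_1_0 H) (step (f70 H) rfl) (step (H.back (i := 1) (by decide) (f68 H)) rfl)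

theorem f73 : g 1 • path g [8, 1] p = path g [8, 6] p :=
  H.back (i := 6) (by decide) (f72 H)

theorem f74 : g 7 • path g [8, 6] p = path g [8, 1] p :=
  scan (u := [6]) (w := [6, 7]) (i := 7) (r1_1_0 H) (step (f70 H) rfl) (step (H.back (i := 1) (by decide) (f68 H)) (step (H.back (i := 2) (by decide) (f16 H)) rfl))

theorem f75 : g 2 • path g [8, 1] p = path g [8, 6] p :=
  H.back (i := 7) (by decide) (f74 H)

theorem f76 : g 9 • path g [8] p = path g [8, 9] p :=
  rfl

theorem f77 : g 4 • path g [8, 9] p = path g [8] p :=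
  H.back (i := 9) (by decide) (f76 H)

theorem f78 : g 9 • path g [8, 9] p = path g [4, 8] p :=
  scan (u := [9]) (w := [9]) (i := 9) (r13_1_0 H) (step (f76 H) rfl) (step (H.back (i := 4) (by decide) (f67 H)) rfl)

theorem f79 : g 4 • path g [4, 8] p = path g [8, 9] p :=
  H.back (i := 9) (by decide) (f78 H)

theorem f80 : g 8 • path g [8, 9] p = path g [3, 9] p :=
  scan (u := [9]) (w := [4, 3]) (i := 8) (r14_0_0 H) (step (f76 H) rfl) (step (H.back (i := 9) (by decide) (f42 H)) (step (H.back (i := 8) (by decide) (f12 H)) rfl))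

theorem f81 : g 3 • path g [3, 9] p = path g [8, 9] p :=
  H.back (i := 8) (by decide) (f80 H)

theorem f82 : g 3 • path g [8, 9] p = path g [9] p :=
  scan (u := [9]) (w := [4, 8]) (i := 3) (r14_1_1 H) (step (f76 H) rfl) (step (H.back (i := 9) (by decide) (f18 H)) (step (H.back (i := 3) (by decide) (f11 H)) rfl))

theorem f83 : g 8 • path g [9] p = path g [8, 9] p :=
  H.back (i := 3) (by decide) (f82 H)

theorem f84 : g 2 • path g [8, 9] p = path g [8, 9] p :=
  scan (u := [9]) (w := [4, 5, 5, 5, 7, 5]) (i := 2) (r10_0_5 H) (step (f76 H) rfl) (step (H.back (i := 9) (by decide) (f76 H)) (step (H.back (i := 0) (by decide) (f14 H)) (step (H.back (i := 0) (by decide) (f14 H)) (step (H.back (i := 0) (by decide) (f14 H)) (step (H.back (i := 2) (by decide) (f16 H)) (step (H.back (i := 0) (by decide) (f14 H)) rfl))))))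

theorem f85 : g 7 • path g [8, 9] p = path g [8, 9] p :=
  H.back (i := 2) (by decide) (f84 H)

theorem f86 : g 0 • path g [9] p = path g [9, 0] p :=
  rfl

theorem f87 : g 5 • path g [9, 0] p = path g [9] p :=
  H.back (i := 0) (by decide) (f86 H)

theorem f88 : g 1 • path g [9] p = path g [9, 1] p :=
  rfl

theorem f89 : g 6 • path g [9, 1] p = path g [9] p :=
  H.back (i := 1) (by decide) (f88 H)

theorem f90 : g 5 • path g [9] p = path g [9, 5] p :=
  rfl

theorem f91 : g 0 • path g [9, 5] p = path g [9] p :=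
  H.back (i := 5) (by decide) (f90 H)

theorem f92 : g 7 • path g [9, 5] p = path g [9, 0] p :=
  scan (u := [5]) (w := [5, 4, 2, 1, 0, 2, 0, 1, 0, 9]) (i := 7) (r11_1_1 H) (step (f90 H) rfl) (step (H.back (i := 0) (by decide) (f86 H)) (step (H.back (i := 9) (by decide) (f18 H)) (step (H.back (i := 7) (by decide) (f5 H)) (step (H.back (i := 6) (by decide) (f3 H)) (step (H.back (i := 5) (by decide) (f1 H)) (step (H.back (i := 7) (by decide) (f5 H)) (step (H.back (i := 5) (by decide) (f1 H)) (step (H.back (i := 6) (by decide) (f3 H)) (step (H.back (i := 5) (by decide) (f1 H)) (step (H.back (i := 4) (by decide) (f19 H)) rfl))))))))))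

theorem f93 : g 2 • path g [9, 0] p = path g [9, 5] p :=
  H.back (i := 7) (by decide) (f92 H)

theorem f94 : g 6 • path g [9] p = path g [9, 6] p :=
  rfl

theorem f95 : g 1 • path g [9, 6] p = path g [9] p :=
  H.back (i := 6) (by decide) (f94 H)

theorem f96 : g 6 • path g [9, 6] p = path g [9, 1] p :=
  scan (u := [6]) (w := [6]) (i := 6) (r0_1_0 H) (step (f94 H) rfl) (step (H.back (i := 1) (by decide) (f88 H)) rfl)

theorem f97 : g 1 • path g [9, 1] p = path g [9, 6] p :=
  H.back (i := 6) (by decide) (f96 H)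

theorem f98 : g 7 • path g [9, 6] p = path g [9, 1] p :=
  scan (u := [6]) (w := [6, 7]) (i := 7) (r1_1_0 H) (step (f94 H) rfl) (step (H.back (i := 1) (by decide) (f88 H)) (step (H.back (i := 2) (by decide) (f22 H)) rfl))

theorem f99 : g 2 • path g [9, 1] p = path g [9, 6] p :=
  H.back (i := 7) (by decide) (f98 H)

theorem f100 : g 5 • path g [9, 6] p = path g [9, 6] p :=
  scan (u := [6]) (w := [6, 6, 4, 1, 0, 2, 1, 0, 9]) (i := 5) (r12_1_1 H) (step (f94 H) rfl) (step (H.back (i := 1) (by decide) (f97 H)) (step (H.back (i := 1) (by decide) (f88 H)) (step (H.back (i := 9) (by decide) (f18 H)) (step (H.back (i := 6) (by decide) (f3 H)) (step (H.back (i := 5) (by decide) (f1 H)) (step (H.back (i := 7) (by decide) (f5 H)) (step (H.back (i := 6) (by decide) (f3 H)) (step (H.back (i := 5) (by decide) (f1 H)) (step (H.back (i := 4) (by decide) (f19 H)) rfl)))))))))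

theorem f101 : g 0 • path g [9, 6] p = path g [9, 6] p :=
  H.back (i := 5) (by decide) (f100 H)

theorem f102 : g 0 • path g [3, 0] p = path g [3, 0, 0] p :=
  rfl

theorem f104 : g 2 • path g [3, 0, 0] p = path g [3, 5] p :=
  scan (u := [0]) (w := [0, 0, 2, 0]) (i := 2) (r2_0_2 H) (step (f102 H) rfl) (step (H.back (i := 5) (by decide) (f36 H)) (step (H.back (i := 5) (by decide) (f25 H)) (step (H.back (i := 7) (by decide) (f27 H)) (step (H.back (i := 5) (by decide) (f25 H)) rfl))))

theorem f106 : g 1 • path g [3, 0] p = path g [3, 0, 1] p :=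
  rfl

theorem f107 : g 6 • path g [3, 0, 1] p = path g [3, 0] p :=
  H.back (i := 1) (by decide) (f106 H)

theorem f112 : g 6 • path g [3, 0] p = path g [3, 0, 6] p :=
  rfl

theorem f114 : g 6 • path g [3, 0, 6] p = path g [3, 0, 1] p :=
  scan (u := [6]) (w := [6]) (i := 6) (r0_1_0 H) (step (f112 H) rfl) (step (H.back (i := 1) (by decide) (f106 H)) rfl)

theorem f116 : g 7 • path g [3, 0, 6] p = path g [3, 1] p :=
  scan (u := [6]) (w := [6, 7]) (i := 7) (r1_1_0 H) (step (f112 H) rfl) (step (H.back (i := 1) (by decide) (f28 H)) (step (H.back (i := 2) (by decide) (f26 H)) rfl))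

theorem f117 : g 2 • path g [3, 1] p = path g [3, 0, 6] p :=
  H.back (i := 7) (by decide) (f116 H)

theorem f128 : g 0 • path g [3, 1] p = path g [3, 1, 0] p :=
  rfl

theorem f129 : g 5 • path g [3, 1, 0] p = path g [3, 1] p :=
  H.back (i := 0) (by decide) (f128 H)

theorem f130 : g 3 • path g [3, 1] p = path g [3, 1, 3] p :=
  rfl

theorem f131 : g 8 • path g [3, 1, 3] p = path g [3, 1] p :=
  H.back (i := 3) (by decide) (f130 H)

theorem f132 : g 4 • path g [3, 1] p = path g [3, 1, 4] p :=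
  rfl

theorem f133 : g 9 • path g [3, 1, 4] p = path g [3, 1] p :=
  H.back (i := 4) (by decide) (f132 H)

theorem f134 : g 5 • path g [3, 1] p = path g [3, 1, 5] p :=
  rfl

theorem f135 : g 0 • path g [3, 1, 5] p = path g [3, 1] p :=
  H.back (i := 5) (by decide) (f134 H)

theorem f136 : g 7 • path g [3, 1] p = path g [3, 1, 7] p :=
  rfl

theorem f138 : g 8 • path g [3, 1] p = path g [3, 1, 8] p :=
  rfl

theorem f140 : g 8 • path g [3, 1, 8] p = path g [3, 1, 3] p :=
  scan (u := [8]) (w := [8]) (i := 8) (r9_1_0 H) (step (f138 H) rfl) (step (H.back (i := 3) (by decide) (f130 H)) rfl)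

theorem f141 : g 3 • path g [3, 1, 3] p = path g [3, 1, 8] p :=
  H.back (i := 8) (by decide) (f140 H)

theorem f142 : g 9 • path g [3, 1] p = path g [3, 1, 9] p :=
  rfl

theorem f144 : g 9 • path g [3, 1, 9] p = path g [3, 1, 4] p :=
  scan (u := [9]) (w := [9]) (i := 9) (r13_1_0 H) (step (f142 H) rfl) (step (H.back (i := 4) (by decide) (f132 H)) rfl)

theorem f145 : g 4 • path g [3, 1, 4] p = path g [3, 1, 9] p :=
  H.back (i := 9) (by decide) (f144 H)

theorem f148 : g 1 • path g [3, 2] p = path g [3, 2, 1] p :=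
  rfl

theorem f150 : g 2 • path g [3, 2, 1] p = path g [3, 6] p :=
  scan (u := [1]) (w := [1, 2]) (i := 2) (r1_0_1 H) (step (f148 H) rfl) (step (H.back (i := 6) (by decide) (f38 H)) (step (H.back (i := 7) (by decide) (f31 H)) rfl))

theorem f151 : g 7 • path g [3, 6] p = path g [3, 2, 1] p :=
  H.back (i := 2) (by decide) (f150 H)

theorem f154 : g 3 • path g [3, 2] p = path g [3, 2, 3] p :=
  rfl

theorem f160 : g 6 • path g [3, 2] p = path g [3, 2, 6] p :=
  rfl

theorem f162 : g 6 • path g [3, 2, 6] p = path g [3, 2, 1] p :=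
  scan (u := [6]) (w := [6]) (i := 6) (r0_1_0 H) (step (f160 H) rfl) (step (H.back (i := 1) (by decide) (f148 H)) rfl)

theorem f164 : g 8 • path g [3, 2] p = path g [3, 2, 8] p :=
  rfl

theorem f165 : g 3 • path g [3, 2, 8] p = path g [3, 2] p :=
  H.back (i := 8) (by decide) (f164 H)

theorem f166 : g 8 • path g [3, 2, 8] p = path g [3, 2, 3] p :=
  scan (u := [8]) (w := [8]) (i := 8) (r9_1_0 H) (step (f164 H) rfl) (step (H.back (i := 3) (by decide) (f154 H)) rfl)

theorem f167 : g 3 • path g [3, 2, 3] p = path g [3, 2, 8] p :=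
  H.back (i := 8) (by decide) (f166 H)

theorem f172 : g 0 • path g [3, 4] p = path g [3, 4, 0] p :=
  rfl

theorem f174 : g 1 • path g [3, 4] p = path g [3, 4, 1] p :=
  rfl

theorem f175 : g 6 • path g [3, 4, 1] p = path g [3, 4] p :=
  H.back (i := 1) (by decide) (f174 H)

theorem f176 : g 2 • path g [3, 4] p = path g [3, 4, 2] p :=
  rfl

theorem f177 : g 7 • path g [3, 4, 2] p = path g [3, 4] p :=
  H.back (i := 2) (by decide) (f176 H)

theorem f178 : g 5 • path g [3, 4] p = path g [3, 4, 5] p :=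
  rfl

theorem f180 : g 6 • path g [3, 4] p = path g [3, 4, 6] p :=
  rfl

theorem f181 : g 1 • path g [3, 4, 6] p = path g [3, 4] p :=
  H.back (i := 6) (by decide) (f180 H)

theorem f182 : g 6 • path g [3, 4, 6] p = path g [3, 4, 1] p :=
  scan (u := [6]) (w := [6]) (i := 6) (r0_1_0 H) (step (f180 H) rfl) (step (H.back (i := 1) (by decide) (f174 H)) rfl)

theorem f183 : g 1 • path g [3, 4, 1] p = path g [3, 4, 6] p :=
  H.back (i := 6) (by decide) (f182 H)

theorem f184 : g 7 • path g [3, 4] p = path g [3, 4, 7] p :=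
  rfl

theorem f208 : g 0 • path g [3, 6] p = path g [3, 6, 0] p :=
  rfl

theorem f209 : g 5 • path g [3, 6, 0] p = path g [3, 6] p :=
  H.back (i := 0) (by decide) (f208 H)

theorem f210 : g 2 • path g [3, 6] p = path g [3, 6, 2] p :=
  rfl

theorem f212 : g 1 • path g [3, 6, 2] p = path g [3, 1, 7] p :=
  scan (u := [2]) (w := [2, 1]) (i := 1) (r1_0_0 H) (step (f210 H) rfl) (step (H.back (i := 7) (by decide) (f136 H)) (step (H.back (i := 6) (by decide) (f40 H)) rfl))

theorem f213 : g 6 • path g [3, 1, 7] p = path g [3, 6, 2] p :=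
  H.back (i := 1) (by decide) (f212 H)

theorem f214 : g 3 • path g [3, 6] p = path g [3, 6, 3] p :=
  rfl

theorem f216 : g 4 • path g [3, 6] p = path g [3, 6, 4] p :=
  rfl

theorem f218 : g 5 • path g [3, 6] p = path g [3, 6, 5] p :=
  rfl

theorem f219 : g 0 • path g [3, 6, 5] p = path g [3, 6] p :=
  H.back (i := 5) (by decide) (f218 H)

theorem f220 : g 7 • path g [3, 6, 5] p = path g [3, 1, 0] p :=
  scan (u := [5]) (w := [5, 6, 8, 0, 3, 6]) (i := 7) (r7_0_1 H) (step (f218 H) rfl) (step (H.back (i := 0) (by decide) (f128 H)) (step (H.back (i := 1) (by decide) (f28 H)) (step (H.back (i := 3) (by decide) (f6 H)) (step (H.back (i := 5) (by decide) (f1 H)) (step (H.back (i := 8) (by decide) (f7 H)) (step (H.back (i := 1) (by decide) (f39 H)) rfl))))))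

theorem f221 : g 2 • path g [3, 1, 0] p = path g [3, 6, 5] p :=
  H.back (i := 7) (by decide) (f220 H)

theorem f222 : g 2 • path g [3, 6, 0] p = path g [3, 1, 5] p :=
  scan (u := [0, 0]) (w := [0, 0, 2]) (i := 2) (r2_0_1 H) (step (f219 H) (step (f208 H) rfl)) (step (H.back (i := 5) (by decide) (f134 H)) (step (H.back (i := 5) (by decide) (f129 H)) (step (H.back (i := 7) (by decide) (f220 H)) rfl)))

theorem f223 : g 7 • path g [3, 1, 5] p = path g [3, 6, 0] p :=
  H.back (i := 2) (by decide) (f222 H)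

theorem f224 : g 8 • path g [3, 6] p = path g [3, 6, 8] p :=
  rfl

theorem f225 : g 3 • path g [3, 6, 8] p = path g [3, 6] p :=
  H.back (i := 8) (by decide) (f224 H)

theorem f226 : g 8 • path g [3, 6, 8] p = path g [3, 6, 3] p :=
  scan (u := [8]) (w := [8]) (i := 8) (r9_1_0 H) (step (f224 H) rfl) (step (H.back (i := 3) (by decide) (f214 H)) rfl)

theorem f227 : g 3 • path g [3, 6, 3] p = path g [3, 6, 8] p :=
  H.back (i := 8) (by decide) (f226 H)

theorem f228 : g 5 • path g [3, 6, 8] p = path g [3, 1, 8] p :=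
  scan (u := [8]) (w := [3, 1, 0, 2, 0, 1]) (i := 5) (r7_1_0 H) (step (f224 H) rfl) (step (H.back (i := 8) (by decide) (f138 H)) (step (H.back (i := 6) (by decide) (f40 H)) (step (H.back (i := 5) (by decide) (f209 H)) (step (H.back (i := 7) (by decide) (f223 H)) (step (H.back (i := 5) (by decide) (f134 H)) (step (H.back (i := 6) (by decide) (f40 H)) rfl))))))

theorem f229 : g 0 • path g [3, 1, 8] p = path g [3, 6, 8] p :=
  H.back (i := 5) (by decide) (f228 H)

theorem f230 : g 9 • path g [3, 6] p = path g [3, 6, 9] p :=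
  rfl

theorem f231 : g 4 • path g [3, 6, 9] p = path g [3, 6] p :=
  H.back (i := 9) (by decide) (f230 H)

theorem f232 : g 9 • path g [3, 6, 9] p = path g [3, 6, 4] p :=
  scan (u := [9]) (w := [9]) (i := 9) (r13_1_0 H) (step (f230 H) rfl) (step (H.back (i := 4) (by decide) (f216 H)) rfl)

theorem f233 : g 4 • path g [3, 6, 4] p = path g [3, 6, 9] p :=
  H.back (i := 9) (by decide) (f232 H)

theorem f234 : g 0 • path g [3, 9] p = path g [3, 9, 0] p :=
  rfl

theorem f235 : g 5 • path g [3, 9, 0] p = path g [3, 9] p :=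
  H.back (i := 0) (by decide) (f234 H)

theorem f236 : g 1 • path g [3, 9] p = path g [3, 9, 1] p :=
  rfl

theorem f237 : g 6 • path g [3, 9, 1] p = path g [3, 9] p :=
  H.back (i := 1) (by decide) (f236 H)

theorem f238 : g 2 • path g [3, 9] p = path g [3, 9, 2] p :=
  rfl

theorem f240 : g 5 • path g [3, 9] p = path g [3, 9, 5] p :=
  rfl

theorem f241 : g 0 • path g [3, 9, 5] p = path g [3, 9] p :=
  H.back (i := 5) (by decide) (f240 H)

theorem f242 : g 6 • path g [3, 9] p = path g [3, 9, 6] p :=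
  rfl

theorem f243 : g 1 • path g [3, 9, 6] p = path g [3, 9] p :=
  H.back (i := 6) (by decide) (f242 H)

theorem f244 : g 6 • path g [3, 9, 6] p = path g [3, 9, 1] p :=
  scan (u := [6]) (w := [6]) (i := 6) (r0_1_0 H) (step (f242 H) rfl) (step (H.back (i := 1) (by decide) (f236 H)) rfl)

theorem f245 : g 1 • path g [3, 9, 1] p = path g [3, 9, 6] p :=
  H.back (i := 6) (by decide) (f244 H)

theorem f246 : g 7 • path g [3, 9] p = path g [3, 9, 7] p :=
  rfl

theorem f247 : g 2 • path g [3, 9, 7] p = path g [3, 9] p :=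
  H.back (i := 7) (by decide) (f246 H)

theorem f248 : g 0 • path g [4, 0] p = path g [4, 0, 0] p :=
  rfl

theorem f250 : g 1 • path g [4, 0] p = path g [4, 0, 1] p :=
  rfl

theorem f251 : g 6 • path g [4, 0, 1] p = path g [4, 0] p :=
  H.back (i := 1) (by decide) (f250 H)

theorem f252 : g 2 • path g [4, 0] p = path g [4, 0, 2] p :=
  rfl

theorem f253 : g 7 • path g [4, 0, 2] p = path g [4, 0] p :=
  H.back (i := 2) (by decide) (f252 H)

theorem f254 : g 3 • path g [4, 0] p = path g [4, 0, 3] p :=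
  rfl

theorem f256 : g 4 • path g [4, 0] p = path g [4, 0, 4] p :=
  rfl

theorem f257 : g 9 • path g [4, 0, 4] p = path g [4, 0] p :=
  H.back (i := 4) (by decide) (f256 H)

theorem f258 : g 6 • path g [4, 0] p = path g [4, 0, 6] p :=
  rfl

theorem f259 : g 1 • path g [4, 0, 6] p = path g [4, 0] p :=
  H.back (i := 6) (by decide) (f258 H)

theorem f260 : g 6 • path g [4, 0, 6] p = path g [4, 0, 1] p :=
  scan (u := [6]) (w := [6]) (i := 6) (r0_1_0 H) (step (f258 H) rfl) (step (H.back (i := 1) (by decide) (f250 H)) rfl)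

theorem f261 : g 1 • path g [4, 0, 1] p = path g [4, 0, 6] p :=
  H.back (i := 6) (by decide) (f260 H)

theorem f262 : g 7 • path g [4, 0] p = path g [4, 0, 7] p :=
  rfl

theorem f263 : g 2 • path g [4, 0, 7] p = path g [4, 0] p :=
  H.back (i := 7) (by decide) (f262 H)

theorem f264 : g 8 • path g [4, 0] p = path g [4, 0, 8] p :=
  rfl

theorem f268 : g 9 • path g [4, 0] p = path g [4, 0, 9] p :=
  rfl

theorem f269 : g 4 • path g [4, 0, 9] p = path g [4, 0] p :=
  H.back (i := 9) (by decide) (f268 H)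

theorem f270 : g 9 • path g [4, 0, 9] p = path g [4, 0, 4] p :=
  scan (u := [9]) (w := [9]) (i := 9) (r13_1_0 H) (step (f268 H) rfl) (step (H.back (i := 4) (by decide) (f256 H)) rfl)

theorem f272 : g 0 • path g [4, 1] p = path g [4, 1, 0] p :=
  rfl

theorem f273 : g 5 • path g [4, 1, 0] p = path g [4, 1] p :=
  H.back (i := 0) (by decide) (f272 H)

theorem f274 : g 2 • path g [4, 1] p = path g [4, 1, 2] p :=
  rfl

theorem f276 : g 1 • path g [4, 1, 2] p = path g [4, 7] p :=
  scan (u := [2]) (w := [2, 1]) (i := 1) (r1_0_0 H) (step (f274 H) rfl) (step (H.back (i := 7) (by decide) (f60 H)) (step (H.back (i := 6) (by decide) (f51 H)) rfl))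

theorem f277 : g 6 • path g [4, 7] p = path g [4, 1, 2] p :=
  H.back (i := 1) (by decide) (f276 H)

theorem f278 : g 3 • path g [4, 1] p = path g [4, 1, 3] p :=
  rfl

theorem f279 : g 8 • path g [4, 1, 3] p = path g [4, 1] p :=
  H.back (i := 3) (by decide) (f278 H)

theorem f280 : g 4 • path g [4, 1] p = path g [4, 1, 4] p :=
  rfl

theorem f282 : g 5 • path g [4, 1] p = path g [4, 1, 5] p :=
  rfl

theorem f283 : g 0 • path g [4, 1, 5] p = path g [4, 1] p :=
  H.back (i := 5) (by decide) (f282 H)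

theorem f284 : g 7 • path g [4, 1] p = path g [4, 1, 7] p :=
  rfl

theorem f285 : g 2 • path g [4, 1, 7] p = path g [4, 1] p :=
  H.back (i := 7) (by decide) (f284 H)

theorem f286 : g 8 • path g [4, 1] p = path g [4, 1, 8] p :=
  rfl

theorem f288 : g 8 • path g [4, 1, 8] p = path g [4, 1, 3] p :=
  scan (u := [8]) (w := [8]) (i := 8) (r9_1_0 H) (step (f286 H) rfl) (step (H.back (i := 3) (by decide) (f278 H)) rfl)

theorem f290 : g 9 • path g [4, 1] p = path g [4, 1, 9] p :=
  rfl

theorem f292 : g 9 • path g [4, 1, 9] p = path g [4, 1, 4] p :=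
  scan (u := [9]) (w := [9]) (i := 9) (r13_1_0 H) (step (f290 H) rfl) (step (H.back (i := 4) (by decide) (f280 H)) rfl)

theorem f293 : g 4 • path g [4, 1, 4] p = path g [4, 1, 9] p :=
  H.back (i := 9) (by decide) (f292 H)

theorem f296 : g 1 • path g [4, 2] p = path g [4, 2, 1] p :=
  rfl

theorem f300 : g 4 • path g [4, 2, 1] p = path g [9, 1] p :=
  scan (u := [1]) (w := [2, 1, 4, 2, 1, 4, 2]) (i := 4) (r18_0_1 H) (step (f296 H) rfl) (step (H.back (i := 7) (by decide) (f98 H)) (step (H.back (i := 6) (by decide) (f94 H)) (step (H.back (i := 9) (by decide) (f18 H)) (step (H.back (i := 7) (by decide) (f5 H)) (step (H.back (i := 6) (by decide) (f3 H)) (step (H.back (i := 9) (by decide) (f9 H)) (step (H.back (i := 7) (by decide) (f53 H)) rfl)))))))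

theorem f301 : g 9 • path g [9, 1] p = path g [4, 2, 1] p :=
  H.back (i := 4) (by decide) (f300 H)

theorem f302 : g 2 • path g [4, 2] p = path g [4, 2, 2] p :=
  rfl

theorem f303 : g 7 • path g [4, 2, 2] p = path g [4, 2] p :=
  H.back (i := 2) (by decide) (f302 H)

theorem f306 : g 4 • path g [4, 2] p = path g [4, 2, 4] p :=
  rfl

theorem f308 : g 5 • path g [4, 2, 4] p = path g [9, 0] p :=
  scan (u := [4]) (w := [5, 5, 7, 5, 9, 2]) (i := 5) (r10_0_7 H) (step (f306 H) rfl) (step (H.back (i := 0) (by decide) (f86 H)) (step (H.back (i := 0) (by decide) (f91 H)) (step (H.back (i := 2) (by decide) (f93 H)) (step (H.back (i := 0) (by decide) (f86 H)) (step (H.back (i := 4) (by decide) (f21 H)) (step (H.back (i := 7) (by decide) (f53 H)) rfl))))))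

theorem f309 : g 0 • path g [9, 0] p = path g [4, 2, 4] p :=
  H.back (i := 5) (by decide) (f308 H)

theorem f312 : g 6 • path g [4, 2] p = path g [4, 2, 6] p :=
  rfl

theorem f313 : g 1 • path g [4, 2, 6] p = path g [4, 2] p :=
  H.back (i := 6) (by decide) (f312 H)

theorem f314 : g 6 • path g [4, 2, 6] p = path g [4, 2, 1] p :=
  scan (u := [6]) (w := [6]) (i := 6) (r0_1_0 H) (step (f312 H) rfl) (step (H.back (i := 1) (by decide) (f296 H)) rfl)

theorem f315 : g 1 • path g [4, 2, 1] p = path g [4, 2, 6] p :=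
  H.back (i := 6) (by decide) (f314 H)

theorem f320 : g 9 • path g [4, 2] p = path g [4, 2, 9] p :=
  rfl

theorem f322 : g 9 • path g [4, 2, 9] p = path g [4, 2, 4] p :=
  scan (u := [9]) (w := [9]) (i := 9) (r13_1_0 H) (step (f320 H) rfl) (step (H.back (i := 4) (by decide) (f306 H)) rfl)

theorem f324 : g 1 • path g [4, 5] p = path g [4, 5, 1] p :=
  rfl

theorem f325 : g 6 • path g [4, 5, 1] p = path g [4, 5] p :=
  H.back (i := 1) (by decide) (f324 H)

theorem f326 : g 2 • path g [4, 5] p = path g [4, 5, 2] p :=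
  rfl

theorem f327 : g 7 • path g [4, 5, 2] p = path g [4, 5] p :=
  H.back (i := 2) (by decide) (f326 H)

theorem f328 : g 3 • path g [4, 5] p = path g [4, 5, 3] p :=
  rfl

theorem f332 : g 5 • path g [4, 5] p = path g [4, 5, 5] p :=
  rfl

theorem f333 : g 0 • path g [4, 5, 5] p = path g [4, 5] p :=
  H.back (i := 5) (by decide) (f332 H)

theorem f334 : g 5 • path g [4, 5, 5] p = path g [4, 0, 2] p :=
  scan (u := [5]) (w := [7, 5, 9, 2, 4, 5]) (i := 5) (r10_0_1 H) (step (f332 H) rfl) (step (H.back (i := 2) (by decide) (f252 H)) (step (H.back (i := 0) (by decide) (f48 H)) (step (H.back (i := 4) (by decide) (f8 H)) (step (H.back (i := 7) (by decide) (f5 H)) (step (H.back (i := 9) (by decide) (f9 H)) (step (H.back (i := 0) (by decide) (f55 H)) rfl))))))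

theorem f335 : g 0 • path g [4, 0, 2] p = path g [4, 5, 5] p :=
  H.back (i := 5) (by decide) (f334 H)

theorem f336 : path g [4, 5, 2] p = path g [4, 5] p :=
  close (u := [0, 2]) (w := [0, 0, 2, 0]) (r2_0_2 H) (step (f333 H) (step (f326 H) rfl)) (step (H.back (i := 5) (by decide) (f54 H)) (step (H.back (i := 5) (by decide) (f49 H)) (step (H.back (i := 7) (by decide) (f253 H)) (step (H.back (i := 5) (by decide) (f334 H)) rfl))))

theorem f337 : g 7 • path g [4, 5] p = path g [4, 5] p :=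
  (congrArg (g 7 • ·) (f336 H).symm).trans (f327 H)

theorem f339 : g 2 • path g [4, 5] p = path g [4, 5] p :=
  H.back (i := 7) (by decide) (f337 H)

theorem f340 : g 6 • path g [4, 5] p = path g [4, 5, 6] p :=
  rfl

theorem f341 : g 1 • path g [4, 5, 6] p = path g [4, 5] p :=
  H.back (i := 6) (by decide) (f340 H)

theorem f342 : g 6 • path g [4, 5, 6] p = path g [4, 5, 1] p :=
  scan (u := [6]) (w := [6]) (i := 6) (r0_1_0 H) (step (f340 H) rfl) (step (H.back (i := 1) (by decide) (f324 H)) rfl)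

theorem f343 : g 1 • path g [4, 5, 1] p = path g [4, 5, 6] p :=
  H.back (i := 6) (by decide) (f342 H)

theorem f344 : g 7 • path g [4, 5, 6] p = path g [4, 5, 1] p :=
  scan (u := [6]) (w := [6, 7]) (i := 7) (r1_1_0 H) (step (f340 H) rfl) (step (H.back (i := 1) (by decide) (f324 H)) (step (H.back (i := 2) (by decide) (f339 H)) rfl))

theorem f345 : g 2 • path g [4, 5, 1] p = path g [4, 5, 6] p :=
  H.back (i := 7) (by decide) (f344 H)

theorem f346 : path g [4, 5, 1] p = path g [4, 1, 0] p :=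
  close (u := [6, 7]) (w := [5, 6, 9, 1, 1, 0, 1, 4, 5]) (r12_0_1 H) (step (f340 H) (step (f344 H) rfl)) (step (H.back (i := 0) (by decide) (f272 H)) (step (H.back (i := 1) (by decide) (f50 H)) (step (H.back (i := 4) (by decide) (f8 H)) (step (H.back (i := 6) (by decide) (f3 H)) (step (H.back (i := 6) (by decide) (f3 H)) (step (H.back (i := 5) (by decide) (f1 H)) (step (H.back (i := 6) (by decide) (f3 H)) (step (H.back (i := 9) (by decide) (f9 H)) (step (H.back (i := 0) (by decide) (f55 H)) rfl)))))))))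

theorem f347 : g 6 • path g [4, 1, 0] p = path g [4, 5] p :=
  (congrArg (g 6 • ·) (f346 H).symm).trans (f325 H)

theorem f350 : g 1 • path g [4, 1, 0] p = path g [4, 5, 6] p :=
  (congrArg (g 1 • ·) (f346 H).symm).trans (f343 H)

theorem f352 : g 6 • path g [4, 5, 6] p = path g [4, 1, 0] p :=
  H.back (i := 1) (by decide) (f350 H)

theorem f353 : g 2 • path g [4, 1, 0] p = path g [4, 5, 6] p :=
  (congrArg (g 2 • ·) (f346 H).symm).trans (f345 H)

theorem f355 : g 7 • path g [4, 5, 6] p = path g [4, 1, 0] p :=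
  H.back (i := 2) (by decide) (f353 H)

theorem f356 : g 5 • path g [4, 5, 6] p = path g [4, 5, 6] p :=
  scan (u := [1, 0, 1, 0, 1]) (w := []) (i := 5) (r3_0_2 H) (step (f341 H) (step (f55 H) (step (f50 H) (step (f272 H) (step (f350 H) rfl))))) rfl

theorem f357 : g 0 • path g [4, 5, 6] p = path g [4, 5, 6] p :=
  H.back (i := 5) (by decide) (f356 H)

theorem f358 : path g [4, 1, 5] p = path g [4, 1, 0] p :=
  close (u := [1, 0, 1, 5]) (w := [1, 0]) (r3_0_4 H) (step (f341 H) (step (f55 H) (step (f50 H) (step (f282 H) rfl)))) (step (H.back (i := 6) (by decide) (f352 H)) (step (H.back (i := 5) (by decide) (f356 H)) rfl))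

theorem f359 : g 0 • path g [4, 1, 0] p = path g [4, 1] p :=
  (congrArg (g 0 • ·) (f358 H).symm).trans (f283 H)

theorem f362 : g 7 • path g [4, 5, 3] p = path g [3, 4, 0] p :=
  scan (u := [1, 3]) (w := [5, 8, 1, 0, 2, 0]) (i := 7) (r8_0_7 H) (step (f341 H) (step (f328 H) rfl)) (step (H.back (i := 0) (by decide) (f172 H)) (step (H.back (i := 3) (by decide) (f35 H)) (step (H.back (i := 6) (by decide) (f51 H)) (step (H.back (i := 5) (by decide) (f273 H)) (step (H.back (i := 7) (by decide) (f355 H)) (step (H.back (i := 5) (by decide) (f356 H)) rfl))))))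

theorem f364 : path g [4, 2, 1] p = path g [4, 1] p :=
  close (u := [1, 0, 9, 5, 7, 5, 4, 2, 1]) (w := [0, 2, 0]) (r11_1_10 H) (step (f341 H) (step (f55 H) (step (f9 H) (step (f1 H) (step (f5 H) (step (f1 H) (step (f8 H) (step (f52 H) (step (f296 H) rfl))))))))) (step (H.back (i := 5) (by decide) (f273 H)) (step (H.back (i := 7) (by decide) (f355 H)) (step (H.back (i := 5) (by decide) (f356 H)) rfl)))

theorem f369 : g 4 • path g [4, 1] p = path g [9, 1] p :=
  (congrArg (g 4 • ·) (f364 H).symm).trans (f300 H)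

theorem f370 : path g [4, 1, 4] p = path g [9, 1] p :=
  (f280 H).symm.trans (f369 H)

theorem f371 : g 1 • path g [4, 1] p = path g [4, 2, 6] p :=
  (congrArg (g 1 • ·) (f364 H).symm).trans (f315 H)

theorem f372 : path g [4, 6] p = path g [4, 2, 6] p :=
  (f59 H).symm.trans (f371 H)

theorem f373 : path g [4, 2, 6] p = path g [4, 6] p :=
  (f372 H).symm

theorem f374 : g 1 • path g [4, 6] p = path g [4, 2] p :=
  (congrArg (g 1 • ·) (f373 H).symm).trans (f313 H)

theorem f375 : path g [4] p = path g [4, 2] p :=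
  (f57 H).symm.trans (f374 H)

theorem f379 : path g [4, 2] p = path g [4] p :=
  (f375 H).symm

theorem f387 : g 2 • path g [4] p = path g [4, 2, 2] p :=
  (congrArg (g 2 • ·) (f379 H).symm).trans (f302 H)

theorem f388 : g 2 • path g [4] p = path g [4] p :=
  (f52 H).trans (f379 H)

theorem f389 : path g [4] p = path g [4, 2, 2] p :=
  (f388 H).symm.trans (f387 H)

theorem f401 : g 9 • path g [4] p = path g [4, 2, 9] p :=
  (congrArg (g 9 • ·) (f379 H).symm).trans (f320 H)

theorem f402 : path g [] p = path g [4, 2, 9] p :=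
  (f9 H).symm.trans (f401 H)

theorem f403 : path g [4, 2, 9] p = path g [] p :=
  (f402 H).symm

theorem f407 : g 9 • path g [] p = path g [4, 2, 4] p :=
  (congrArg (g 9 • ·) (f403 H).symm).trans (f322 H)

theorem f408 : path g [9] p = path g [4, 2, 4] p :=
  (f18 H).symm.trans (f407 H)

theorem f409 : path g [4, 2, 4] p = path g [9] p :=
  (f408 H).symm

theorem f413 : g 5 • path g [9] p = path g [9, 0] p :=
  (congrArg (g 5 • ·) (f409 H).symm).trans (f308 H)

theorem f414 : path g [9, 5] p = path g [9, 0] p :=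
  (f90 H).symm.trans (f413 H)

theorem f419 : g 0 • path g [9, 0] p = path g [9] p :=
  (f309 H).trans (f409 H)

theorem f421 : g 7 • path g [9, 0] p = path g [9, 0] p :=
  (congrArg (g 7 • ·) (f414 H).symm).trans (f92 H)

theorem f441 : path g [4, 2, 2] p = path g [4] p :=
  (f389 H).symm

theorem f442 : g 7 • path g [4, 2, 2] p = path g [4] p :=
  (f303 H).trans (f379 H)

theorem f443 : g 7 • path g [4] p = path g [4] p :=
  (congrArg (g 7 • ·) (f441 H).symm).trans (f442 H)

theorem f444 : path g [4, 7] p = path g [4] p :=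
  (f60 H).symm.trans (f443 H)

theorem f447 : g 6 • path g [4] p = path g [4, 1, 2] p :=
  (congrArg (g 6 • ·) (f444 H).symm).trans (f277 H)

theorem f448 : path g [4, 6] p = path g [4, 1, 2] p :=
  (f56 H).symm.trans (f447 H)

theorem f449 : path g [4, 1, 2] p = path g [4, 6] p :=
  (f448 H).symm

theorem f461 : g 9 • path g [9, 1] p = path g [4, 1] p :=
  (f301 H).trans (f364 H)

theorem f463 : g 4 • path g [9, 1] p = path g [4, 1, 9] p :=
  (congrArg (g 4 • ·) (f370 H).symm).trans (f293 H)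

theorem f465 : g 9 • path g [4, 1, 9] p = path g [9, 1] p :=
  H.back (i := 4) (by decide) (f463 H)

theorem f466 : g 4 • path g [4, 1] p = path g [9, 1] p :=
  (f280 H).trans (f370 H)

theorem f467 : g 5 • path g [9] p = path g [9, 0] p :=
  (f90 H).trans (f414 H)

theorem f469 : g 2 • path g [4, 5, 6] p = path g [4, 1, 0] p :=
  scan (u := [0, 0, 2, 0, 0]) (w := []) (i := 2) (r2_0_1 H) (step (f359 H) (step (f272 H) (step (f353 H) (step (f357 H) (step (f357 H) rfl))))) rfl

theorem f470 : g 7 • path g [4, 1, 0] p = path g [4, 5, 6] p :=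
  H.back (i := 2) (by decide) (f469 H)

theorem f471 : g 2 • path g [4, 1] p = path g [4, 6] p :=
  (f274 H).trans (f449 H)

theorem f472 : g 0 • path g [4, 6] p = path g [4, 6] p :=
  scan (u := [0, 1]) (w := [1, 5, 1]) (i := 0) (r3_0_3 H) (step (f359 H) (step (f59 H) rfl)) (step (H.back (i := 6) (by decide) (f56 H)) (step (H.back (i := 0) (by decide) (f55 H)) (step (H.back (i := 6) (by decide) (f347 H)) rfl)))

theorem f473 : g 5 • path g [4, 6] p = path g [4, 6] p :=
  H.back (i := 0) (by decide) (f472 H)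

theorem f474 : path g [4, 0, 1] p = path g [4, 1, 0] p :=
  close (u := [0, 1, 5, 1, 0, 1]) (w := []) (r3_0_5 H) (step (f359 H) (step (f59 H) (step (f473 H) (step (f57 H) (step (f48 H) (step (f250 H) rfl)))))) rfl

theorem f475 : path g [4, 1, 0] p = path g [4, 0, 1] p :=
  (f474 H).symm

theorem f476 : g 5 • path g [4, 0, 1] p = path g [4, 1] p :=
  (congrArg (g 5 • ·) (f475 H).symm).trans (f273 H)

theorem f478 : g 0 • path g [4, 1] p = path g [4, 0, 1] p :=
  H.back (i := 5) (by decide) (f476 H)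

theorem f481 : g 1 • path g [4, 0, 1] p = path g [4, 5, 6] p :=
  (congrArg (g 1 • ·) (f475 H).symm).trans (f350 H)

theorem f482 : path g [4, 0, 6] p = path g [4, 5, 6] p :=
  (f261 H).symm.trans (f481 H)

theorem f483 : g 2 • path g [4, 0, 1] p = path g [4, 5, 6] p :=
  (congrArg (g 2 • ·) (f475 H).symm).trans (f353 H)

theorem f485 : g 7 • path g [4, 5, 6] p = path g [4, 0, 1] p :=
  H.back (i := 2) (by decide) (f483 H)

theorem f486 : g 0 • path g [4, 0, 1] p = path g [4, 1] p :=
  (congrArg (g 0 • ·) (f475 H).symm).trans (f359 H)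

theorem f488 : g 5 • path g [4, 1] p = path g [4, 0, 1] p :=
  H.back (i := 0) (by decide) (f486 H)

theorem f489 : g 7 • path g [4, 0, 1] p = path g [4, 5, 6] p :=
  (congrArg (g 7 • ·) (f475 H).symm).trans (f470 H)

theorem f491 : g 2 • path g [4, 5, 6] p = path g [4, 0, 1] p :=
  H.back (i := 7) (by decide) (f489 H)

theorem f492 : path g [4, 5, 6] p = path g [4, 0, 6] p :=
  (f482 H).symm

theorem f493 : g 1 • path g [4, 0, 6] p = path g [4, 5] p :=
  (congrArg (g 1 • ·) (f492 H).symm).trans (f341 H)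

theorem f494 : path g [4, 0] p = path g [4, 5] p :=
  (f259 H).symm.trans (f493 H)

theorem f498 : g 7 • path g [4, 0, 6] p = path g [4, 0, 1] p :=
  (congrArg (g 7 • ·) (f492 H).symm).trans (f485 H)

theorem f500 : g 2 • path g [4, 0, 1] p = path g [4, 0, 6] p :=
  H.back (i := 7) (by decide) (f498 H)

theorem f501 : g 5 • path g [4, 5, 6] p = path g [4, 0, 6] p :=
  (f356 H).trans (f492 H)

theorem f502 : g 5 • path g [4, 0, 6] p = path g [4, 0, 6] p :=
  (congrArg (g 5 • ·) (f492 H).symm).trans (f501 H)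

theorem f503 : g 0 • path g [4, 0, 6] p = path g [4, 0, 6] p :=
  H.back (i := 5) (by decide) (f502 H)

theorem f507 : g 2 • path g [4, 0, 6] p = path g [4, 0, 1] p :=
  (congrArg (g 2 • ·) (f492 H).symm).trans (f491 H)

theorem f509 : g 7 • path g [4, 0, 1] p = path g [4, 0, 6] p :=
  H.back (i := 2) (by decide) (f507 H)

theorem f510 : path g [4, 5] p = path g [4, 0] p :=
  (f494 H).symm

theorem f519 : g 3 • path g [4, 0] p = path g [4, 5, 3] p :=
  (congrArg (g 3 • ·) (f510 H).symm).trans (f328 H)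

theorem f520 : path g [4, 0, 3] p = path g [4, 5, 3] p :=
  (f254 H).symm.trans (f519 H)

theorem f525 : g 7 • path g [4, 5] p = path g [4, 0] p :=
  (f337 H).trans (f510 H)

theorem f526 : g 7 • path g [4, 0] p = path g [4, 0] p :=
  (congrArg (g 7 • ·) (f510 H).symm).trans (f525 H)

theorem f527 : path g [4, 0, 7] p = path g [4, 0] p :=
  (f262 H).symm.trans (f526 H)

theorem f531 : g 2 • path g [4, 0] p = path g [4, 0] p :=
  (congrArg (g 2 • ·) (f527 H).symm).trans (f263 H)

theorem f532 : path g [4, 0, 2] p = path g [4, 0] p :=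
  (f252 H).symm.trans (f531 H)

theorem f534 : g 7 • path g [4, 0] p = path g [4, 0] p :=
  (f262 H).trans (f527 H)

theorem f536 : g 0 • path g [4, 0] p = path g [4, 5, 5] p :=
  (congrArg (g 0 • ·) (f532 H).symm).trans (f335 H)

theorem f537 : path g [4, 0, 0] p = path g [4, 5, 5] p :=
  (f248 H).symm.trans (f536 H)

theorem f538 : path g [4, 5, 5] p = path g [4, 0, 0] p :=
  (f537 H).symm

theorem f539 : g 0 • path g [4, 5, 5] p = path g [4, 0] p :=
  (f333 H).trans (f510 H)

theorem f540 : g 0 • path g [4, 0, 0] p = path g [4, 0] p :=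
  (congrArg (g 0 • ·) (f538 H).symm).trans (f539 H)

theorem f541 : g 5 • path g [4, 0] p = path g [4, 0, 0] p :=
  H.back (i := 0) (by decide) (f540 H)

theorem f542 : path g [4] p = path g [4, 0, 0] p :=
  (f49 H).symm.trans (f541 H)

theorem f546 : path g [4, 0, 0] p = path g [4] p :=
  (f542 H).symm

theorem f548 : g 5 • path g [4] p = path g [4, 0] p :=
  (f54 H).trans (f510 H)

theorem f557 : path g [4, 5, 3] p = path g [4, 0, 3] p :=
  (f520 H).symm

theorem f561 : g 7 • path g [4, 0, 3] p = path g [3, 4, 0] p :=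
  (congrArg (g 7 • ·) (f557 H).symm).trans (f362 H)

theorem f564 : path g [4, 6] p = path g [4, 1, 7] p :=
  close (u := [2, 0, 2, 0]) (w := [2, 0, 2, 0]) (r4_0_0 H) (step (f507 H) (step (f486 H) (step (f471 H) (step (f472 H) rfl)))) (step (H.back (i := 7) (by decide) (f284 H)) (step (H.back (i := 5) (by decide) (f476 H)) (step (H.back (i := 7) (by decide) (f498 H)) (step (H.back (i := 5) (by decide) (f502 H)) rfl))))

theorem f565 : path g [4, 1, 7] p = path g [4, 6] p :=
  (f564 H).symm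

theorem f566 : g 2 • path g [4, 6] p = path g [4, 1] p :=
  (congrArg (g 2 • ·) (f565 H).symm).trans (f285 H)

theorem f568 : g 7 • path g [4, 1] p = path g [4, 6] p :=
  H.back (i := 2) (by decide) (f566 H)

theorem f569 : g 0 • path g [4, 0] p = path g [4] p :=
  (f248 H).trans (f546 H)

theorem f570 : g 0 • path g [4, 8] p = path g [4, 0, 8] p :=
  scan (u := [5, 7, 5, 6, 8]) (w := [3, 6]) (i := 0) (r7_0_1 H) (step (f502 H) (step (f498 H) (step (f476 H) (step (f51 H) (step (f62 H) rfl))))) (step (H.back (i := 8) (by decide) (f264 H)) (step (H.back (i := 1) (by decide) (f259 H)) rfl))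

theorem f574 : g 2 • path g [4, 0] p = path g [4, 0] p :=
  (f252 H).trans (f532 H)

theorem f575 : g 5 • path g [4, 8] p = path g [4, 0, 8] p :=
  scan (u := [0, 2, 0, 1, 8]) (w := [3, 1]) (i := 5) (r7_1_4 H) (step (f486 H) (step (f471 H) (step (f472 H) (step (f57 H) (step (f62 H) rfl))))) (step (H.back (i := 8) (by decide) (f264 H)) (step (H.back (i := 6) (by decide) (f251 H)) rfl))

theorem f576 : g 0 • path g [4, 0, 8] p = path g [4, 8] p :=
  H.back (i := 5) (by decide) (f575 H)

theorem f577 : g 5 • path g [3, 4, 7] p = path g [4, 0, 3] p :=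
  scan (u := [0, 2, 0, 1, 3, 7]) (w := [8, 1]) (i := 5) (r8_0_4 H) (step (f486 H) (step (f471 H) (step (f472 H) (step (f57 H) (step (f35 H) (step (f184 H) rfl)))))) (step (H.back (i := 3) (by decide) (f254 H)) (step (H.back (i := 6) (by decide) (f251 H)) rfl))

theorem f579 : g 7 • path g [4, 8] p = path g [4, 8] p :=
  scan (u := [0, 2, 0, 1, 0, 0, 8]) (w := [3, 0, 1]) (i := 7) (r6_1_5 H) (step (f486 H) (step (f471 H) (step (f472 H) (step (f57 H) (step (f48 H) (step (f569 H) (step (f62 H) rfl))))))) (step (H.back (i := 8) (by decide) (f62 H)) (step (H.back (i := 5) (by decide) (f49 H)) (step (H.back (i := 6) (by decide) (f251 H)) rfl)))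

theorem f580 : g 2 • path g [4, 8] p = path g [4, 8] p :=
  H.back (i := 7) (by decide) (f579 H)

theorem f581 : g 3 • path g [4, 6] p = path g [4, 6, 3] p :=
  rfl

theorem f582 : g 8 • path g [4, 6, 3] p = path g [4, 6] p :=
  H.back (i := 3) (by decide) (f581 H)

theorem f583 : g 4 • path g [4, 6] p = path g [4, 6, 4] p :=
  rfl

theorem f584 : g 9 • path g [4, 6, 4] p = path g [4, 6] p :=
  H.back (i := 4) (by decide) (f583 H)

theorem f585 : g 8 • path g [4, 6] p = path g [4, 6, 8] p :=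
  rfl

theorem f586 : g 3 • path g [4, 6, 8] p = path g [4, 6] p :=
  H.back (i := 8) (by decide) (f585 H)

theorem f587 : g 8 • path g [4, 6, 8] p = path g [4, 6, 3] p :=
  scan (u := [8]) (w := [8]) (i := 8) (r9_1_0 H) (step (f585 H) rfl) (step (H.back (i := 3) (by decide) (f581 H)) rfl)

theorem f588 : g 3 • path g [4, 6, 3] p = path g [4, 6, 8] p :=
  H.back (i := 8) (by decide) (f587 H)

theorem f589 : g 0 • path g [4, 6, 8] p = path g [4, 1, 8] p :=
  scan (u := [8]) (w := [3, 6, 5, 7, 5, 6]) (i := 0) (r7_0_5 H) (step (f585 H) rfl) (step (H.back (i := 8) (by decide) (f286 H)) (step (H.back (i := 1) (by decide) (f50 H)) (step (H.back (i := 0) (by decide) (f569 H)) (step (H.back (i := 2) (by decide) (f574 H)) (step (H.back (i := 0) (by decide) (f48 H)) (step (H.back (i := 1) (by decide) (f57 H)) rfl))))))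

theorem f591 : g 2 • path g [4, 6, 8] p = path g [4, 1, 8] p :=
  scan (u := [8]) (w := [3, 5, 5, 6, 5, 7, 5, 6, 5]) (i := 2) (r6_0_8 H) (step (f585 H) rfl) (step (H.back (i := 8) (by decide) (f286 H)) (step (H.back (i := 0) (by decide) (f486 H)) (step (H.back (i := 0) (by decide) (f478 H)) (step (H.back (i := 1) (by decide) (f50 H)) (step (H.back (i := 0) (by decide) (f569 H)) (step (H.back (i := 2) (by decide) (f574 H)) (step (H.back (i := 0) (by decide) (f48 H)) (step (H.back (i := 1) (by decide) (f57 H)) (step (H.back (i := 0) (by decide) (f472 H)) rfl)))))))))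

theorem f592 : g 7 • path g [4, 1, 8] p = path g [4, 6, 8] p :=
  H.back (i := 2) (by decide) (f591 H)

theorem f593 : g 7 • path g [4, 6, 8] p = path g [4, 1, 8] p :=
  scan (u := [8]) (w := [3, 0, 1, 0, 2, 0, 1, 0, 0]) (i := 7) (r6_1_0 H) (step (f585 H) rfl) (step (H.back (i := 8) (by decide) (f286 H)) (step (H.back (i := 5) (by decide) (f476 H)) (step (H.back (i := 6) (by decide) (f260 H)) (step (H.back (i := 5) (by decide) (f502 H)) (step (H.back (i := 7) (by decide) (f509 H)) (step (H.back (i := 5) (by decide) (f488 H)) (step (H.back (i := 6) (by decide) (f58 H)) (step (H.back (i := 5) (by decide) (f473 H)) (step (H.back (i := 5) (by decide) (f473 H)) rfl)))))))))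

theorem f594 : g 2 • path g [4, 1, 8] p = path g [4, 6, 8] p :=
  H.back (i := 7) (by decide) (f593 H)

theorem f595 : g 9 • path g [4, 6] p = path g [4, 6, 9] p :=
  rfl

theorem f597 : g 9 • path g [4, 6, 9] p = path g [4, 6, 4] p :=
  scan (u := [9]) (w := [9]) (i := 9) (r13_1_0 H) (step (f595 H) rfl) (step (H.back (i := 4) (by decide) (f583 H)) rfl)

theorem f599 : g 1 • path g [4, 8] p = path g [4, 8, 1] p :=
  rfl

theorem f600 : g 6 • path g [4, 8, 1] p = path g [4, 8] p :=
  H.back (i := 1) (by decide) (f599 H)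

theorem f601 : g 6 • path g [4, 8] p = path g [4, 8, 6] p :=
  rfl

theorem f602 : g 1 • path g [4, 8, 6] p = path g [4, 8] p :=
  H.back (i := 6) (by decide) (f601 H)

theorem f603 : g 6 • path g [4, 8, 6] p = path g [4, 8, 1] p :=
  scan (u := [6]) (w := [6]) (i := 6) (r0_1_0 H) (step (f601 H) rfl) (step (H.back (i := 1) (by decide) (f599 H)) rfl)

theorem f604 : g 1 • path g [4, 8, 1] p = path g [4, 8, 6] p :=
  H.back (i := 6) (by decide) (f603 H)

theorem f605 : g 7 • path g [4, 8, 6] p = path g [4, 8, 1] p :=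
  scan (u := [6]) (w := [6, 7]) (i := 7) (r1_1_0 H) (step (f601 H) rfl) (step (H.back (i := 1) (by decide) (f599 H)) (step (H.back (i := 2) (by decide) (f580 H)) rfl))

theorem f606 : g 2 • path g [4, 8, 1] p = path g [4, 8, 6] p :=
  H.back (i := 7) (by decide) (f605 H)

theorem f607 : g 0 • path g [8, 1] p = path g [8, 1, 0] p :=
  rfl

theorem f608 : g 5 • path g [8, 1, 0] p = path g [8, 1] p :=
  H.back (i := 0) (by decide) (f607 H)

theorem f609 : g 3 • path g [8, 1] p = path g [8, 1, 3] p :=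
  rfl

theorem f611 : g 4 • path g [8, 1] p = path g [8, 1, 4] p :=
  rfl

theorem f613 : g 5 • path g [8, 1] p = path g [8, 1, 5] p :=
  rfl

theorem f614 : g 0 • path g [8, 1, 5] p = path g [8, 1] p :=
  H.back (i := 5) (by decide) (f613 H)

theorem f615 : g 7 • path g [8, 1] p = path g [8, 1, 7] p :=
  rfl

theorem f616 : g 2 • path g [8, 1, 7] p = path g [8, 1] p :=
  H.back (i := 7) (by decide) (f615 H)

theorem f617 : g 8 • path g [8, 1] p = path g [8, 1, 8] p :=
  rfl

theorem f618 : g 3 • path g [8, 1, 8] p = path g [8, 1] p :=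
  H.back (i := 8) (by decide) (f617 H)

theorem f619 : g 8 • path g [8, 1, 8] p = path g [8, 1, 3] p :=
  scan (u := [8]) (w := [8]) (i := 8) (r9_1_0 H) (step (f617 H) rfl) (step (H.back (i := 3) (by decide) (f609 H)) rfl)

theorem f621 : g 9 • path g [8, 1] p = path g [8, 1, 9] p :=
  rfl

theorem f622 : g 4 • path g [8, 1, 9] p = path g [8, 1] p :=
  H.back (i := 9) (by decide) (f621 H)

theorem f623 : g 9 • path g [8, 1, 9] p = path g [8, 1, 4] p :=
  scan (u := [9]) (w := [9]) (i := 9) (r13_1_0 H) (step (f621 H) rfl) (step (H.back (i := 4) (by decide) (f611 H)) rfl)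

theorem f624 : g 4 • path g [8, 1, 4] p = path g [8, 1, 9] p :=
  H.back (i := 9) (by decide) (f623 H)

theorem f625 : g 0 • path g [8, 6] p = path g [8, 6, 0] p :=
  rfl

theorem f626 : g 5 • path g [8, 6, 0] p = path g [8, 6] p :=
  H.back (i := 0) (by decide) (f625 H)

theorem f627 : g 6 • path g [8, 6, 0] p = path g [8, 1, 0] p :=
  scan (u := [0]) (w := [5, 6, 5, 6]) (i := 6) (r3_1_4 H) (step (f625 H) rfl) (step (H.back (i := 0) (by decide) (f607 H)) (step (H.back (i := 1) (by decide) (f68 H)) (step (H.back (i := 0) (by decide) (f14 H)) (step (H.back (i := 1) (by decide) (f71 H)) rfl))))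

theorem f629 : g 5 • path g [8, 6] p = path g [8, 6, 0] p :=
  scan (u := [6, 5, 6, 0, 6]) (w := []) (i := 5) (r3_1_1 H) (step (f627 H) (step (f608 H) (step (f69 H) (step (f14 H) (step (f70 H) rfl))))) rfl

theorem f630 : g 0 • path g [8, 6, 0] p = path g [8, 6] p :=
  H.back (i := 5) (by decide) (f629 H)

theorem f631 : path g [8, 1, 0] p = path g [8, 1, 5] p :=
  close (u := [6]) (w := [0, 6, 5, 6, 5]) (r3_1_3 H) (step (f627 H) rfl) (step (H.back (i := 5) (by decide) (f613 H)) (step (H.back (i := 1) (by decide) (f68 H)) (step (H.back (i := 0) (by decide) (f14 H)) (step (H.back (i := 1) (by decide) (f71 H)) (step (H.back (i := 0) (by decide) (f630 H)) rfl)))))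

theorem f632 : path g [8, 1, 5] p = path g [8, 1, 0] p :=
  (f631 H).symm

theorem f633 : g 0 • path g [8, 1, 0] p = path g [8, 1] p :=
  (congrArg (g 0 • ·) (f632 H).symm).trans (f614 H)

theorem f635 : g 5 • path g [8, 1] p = path g [8, 1, 0] p :=
  H.back (i := 0) (by decide) (f633 H)

theorem f636 : path g [8, 6] p = path g [8, 1, 7] p :=
  close (u := [0, 2, 0, 0]) (w := [2, 0]) (r2_0_2 H) (step (f633 H) (step (f75 H) (step (f625 H) (step (f630 H) rfl)))) (step (H.back (i := 7) (by decide) (f615 H)) (step (H.back (i := 5) (by decide) (f608 H)) rfl))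

theorem f637 : path g [8, 1, 7] p = path g [8, 6] p :=
  (f636 H).symm

theorem f638 : g 2 • path g [8, 6] p = path g [8, 1] p :=
  (congrArg (g 2 • ·) (f637 H).symm).trans (f616 H)

theorem f640 : g 7 • path g [8, 1] p = path g [8, 6] p :=
  H.back (i := 2) (by decide) (f638 H)

theorem f641 : g 7 • path g [8, 6, 0] p = path g [8, 1, 0] p :=
  scan (u := [5]) (w := [5, 6, 3, 0, 2, 8, 6]) (i := 7) (r8_1_2 H) (step (f629 H) rfl) (step (H.back (i := 0) (by decide) (f607 H)) (step (H.back (i := 1) (by decide) (f68 H)) (step (H.back (i := 8) (by decide) (f10 H)) (step (H.back (i := 5) (by decide) (f1 H)) (step (H.back (i := 7) (by decide) (f5 H)) (step (H.back (i := 3) (by decide) (f11 H)) (step (H.back (i := 1) (by decide) (f71 H)) rfl)))))))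

theorem f643 : g 8 • path g [8, 6, 0] p = path g [3, 0, 1] p :=
  scan (u := [5]) (w := [6, 5, 8, 6, 5, 8, 6]) (i := 8) (r17_1_2 H) (step (f629 H) rfl) (step (H.back (i := 1) (by decide) (f106 H)) (step (H.back (i := 0) (by decide) (f24 H)) (step (H.back (i := 3) (by decide) (f6 H)) (step (H.back (i := 1) (by decide) (f2 H)) (step (H.back (i := 0) (by decide) (f0 H)) (step (H.back (i := 3) (by decide) (f11 H)) (step (H.back (i := 1) (by decide) (f71 H)) rfl)))))))

theorem f644 : g 3 • path g [3, 0, 1] p = path g [8, 6, 0] p :=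
  H.back (i := 8) (by decide) (f643 H)

theorem f645 : g 2 • path g [8, 1, 8] p = path g [3, 0, 1] p :=
  scan (u := [5, 6, 5, 7, 5, 6, 5, 8]) (w := [3, 5]) (i := 2) (r6_0_1 H) (step (f629 H) (step (f627 H) (step (f608 H) (step (f640 H) (step (f629 H) (step (f627 H) (step (f608 H) (step (f617 H) rfl)))))))) (step (H.back (i := 8) (by decide) (f643 H)) (step (H.back (i := 0) (by decide) (f625 H)) rfl))

theorem f646 : g 7 • path g [3, 0, 1] p = path g [8, 1, 8] p :=
  H.back (i := 2) (by decide) (f645 H)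

theorem f647 : path g [3, 2, 3] p = path g [8] p :=
  close (u := [5, 7, 5, 6, 5, 8, 2, 3]) (w := [5, 5, 6]) (r6_0_3 H) (step (f629 H) (step (f641 H) (step (f608 H) (step (f69 H) (step (f15 H) (step (f12 H) (step (f30 H) (step (f154 H) rfl)))))))) (step (H.back (i := 0) (by decide) (f14 H)) (step (H.back (i := 0) (by decide) (f14 H)) (step (H.back (i := 1) (by decide) (f71 H)) rfl)))

theorem f650 : g 3 • path g [8] p = path g [3, 2, 8] p :=
  (congrArg (g 3 • ·) (f647 H).symm).trans (f167 H)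

theorem f651 : path g [] p = path g [3, 2, 8] p :=
  (f11 H).symm.trans (f650 H)

theorem f652 : path g [3, 2, 8] p = path g [] p :=
  (f651 H).symm

theorem f653 : g 3 • path g [] p = path g [3, 2] p :=
  (congrArg (g 3 • ·) (f652 H).symm).trans (f165 H)

theorem f654 : path g [3] p = path g [3, 2] p :=
  (f6 H).symm.trans (f653 H)

theorem f658 : path g [3, 2] p = path g [3] p :=
  (f654 H).symm

theorem f666 : g 2 • path g [3] p = path g [3] p :=
  (f30 H).trans (f658 H)

theorem f675 : g 6 • path g [3] p = path g [3, 2, 6] p :=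
  (congrArg (g 6 • ·) (f658 H).symm).trans (f160 H)

theorem f676 : path g [3, 6] p = path g [3, 2, 6] p :=
  (f38 H).symm.trans (f675 H)

theorem f695 : path g [3, 2, 6] p = path g [3, 6] p :=
  (f676 H).symm

theorem f699 : g 6 • path g [3, 6] p = path g [3, 2, 1] p :=
  (congrArg (g 6 • ·) (f695 H).symm).trans (f162 H)

theorem f700 : path g [3, 1] p = path g [3, 2, 1] p :=
  (f40 H).symm.trans (f699 H)

theorem f701 : path g [3, 2, 1] p = path g [3, 1] p :=
  (f700 H).symm

theorem f705 : g 2 • path g [3, 1] p = path g [3, 6] p :=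
  (congrArg (g 2 • ·) (f701 H).symm).trans (f150 H)

theorem f706 : path g [3, 0, 6] p = path g [3, 6] p :=
  (f117 H).symm.trans (f705 H)

theorem f712 : g 6 • path g [3, 6] p = path g [3, 0, 1] p :=
  (congrArg (g 6 • ·) (f706 H).symm).trans (f114 H)

theorem f713 : path g [3, 1] p = path g [3, 0, 1] p :=
  (f40 H).symm.trans (f712 H)

theorem f715 : g 7 • path g [3, 6] p = path g [3, 1] p :=
  (f151 H).trans (f701 H)

theorem f717 : path g [3, 0, 1] p = path g [3, 1] p :=
  (f713 H).symm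

theorem f718 : g 6 • path g [3, 1] p = path g [3, 0] p :=
  (congrArg (g 6 • ·) (f717 H).symm).trans (f107 H)

theorem f719 : path g [3] p = path g [3, 0] p :=
  (f29 H).symm.trans (f718 H)

theorem f723 : g 3 • path g [3, 1] p = path g [8, 6, 0] p :=
  (congrArg (g 3 • ·) (f717 H).symm).trans (f644 H)

theorem f724 : path g [3, 1, 3] p = path g [8, 6, 0] p :=
  (f130 H).symm.trans (f723 H)

theorem f725 : g 7 • path g [3, 1] p = path g [8, 1, 8] p :=
  (congrArg (g 7 • ·) (f717 H).symm).trans (f646 H)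

theorem f726 : path g [3, 1, 7] p = path g [8, 1, 8] p :=
  (f136 H).symm.trans (f725 H)

theorem f727 : path g [8, 1, 8] p = path g [3, 1, 7] p :=
  (f726 H).symm

theorem f728 : g 3 • path g [3, 1, 7] p = path g [8, 1] p :=
  (congrArg (g 3 • ·) (f727 H).symm).trans (f618 H)

theorem f730 : g 8 • path g [8, 1] p = path g [3, 1, 7] p :=
  H.back (i := 3) (by decide) (f728 H)

theorem f731 : g 8 • path g [3, 1, 7] p = path g [8, 1, 3] p :=
  (congrArg (g 8 • ·) (f727 H).symm).trans (f619 H)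

theorem f733 : g 3 • path g [8, 1, 3] p = path g [3, 1, 7] p :=
  H.back (i := 8) (by decide) (f731 H)

theorem f737 : path g [8, 6, 0] p = path g [3, 1, 3] p :=
  (f724 H).symm

theorem f738 : g 5 • path g [3, 1, 3] p = path g [8, 6] p :=
  (congrArg (g 5 • ·) (f737 H).symm).trans (f626 H)

theorem f740 : g 0 • path g [8, 6] p = path g [3, 1, 3] p :=
  H.back (i := 5) (by decide) (f738 H)

theorem f741 : g 6 • path g [3, 1, 3] p = path g [8, 1, 0] p :=
  (congrArg (g 6 • ·) (f737 H).symm).trans (f627 H)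

theorem f743 : g 1 • path g [8, 1, 0] p = path g [3, 1, 3] p :=
  H.back (i := 6) (by decide) (f741 H)

theorem f744 : g 0 • path g [3, 1, 3] p = path g [8, 6] p :=
  (congrArg (g 0 • ·) (f737 H).symm).trans (f630 H)

theorem f746 : g 5 • path g [8, 6] p = path g [3, 1, 3] p :=
  H.back (i := 0) (by decide) (f744 H)

theorem f747 : g 7 • path g [3, 1, 3] p = path g [8, 1, 0] p :=
  (congrArg (g 7 • ·) (f737 H).symm).trans (f641 H)

theorem f753 : path g [3, 0] p = path g [3] p :=
  (f719 H).symm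

theorem f758 : g 0 • path g [3] p = path g [3, 0, 0] p :=
  (congrArg (g 0 • ·) (f753 H).symm).trans (f102 H)

theorem f759 : g 0 • path g [3] p = path g [3] p :=
  (f24 H).trans (f753 H)

theorem f760 : path g [3] p = path g [3, 0, 0] p :=
  (f759 H).symm.trans (f758 H)

theorem f772 : g 7 • path g [3] p = path g [3] p :=
  (f27 H).trans (f753 H)

theorem f808 : path g [3, 0, 0] p = path g [3] p :=
  (f760 H).symm

theorem f812 : g 2 • path g [3] p = path g [3, 5] p :=
  (congrArg (g 2 • ·) (f808 H).symm).trans (f104 H)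

theorem f813 : path g [3] p = path g [3, 5] p :=
  (f666 H).symm.trans (f812 H)

theorem f814 : path g [3, 5] p = path g [3] p :=
  (f813 H).symm

theorem f829 : g 5 • path g [3] p = path g [3] p :=
  (f36 H).trans (f814 H)

theorem f898 : g 2 • path g [3, 1] p = path g [3, 6] p :=
  (f117 H).trans (f706 H)

theorem f899 : path g [3, 6, 3] p = path g [8, 1] p :=
  close (u := [5, 8, 2, 3]) (w := [5, 5, 6, 5, 7, 5, 6]) (r6_0_7 H) (step (f746 H) (step (f131 H) (step (f898 H) (step (f214 H) rfl)))) (step (H.back (i := 0) (by decide) (f633 H)) (step (H.back (i := 0) (by decide) (f607 H)) (step (H.back (i := 1) (by decide) (f68 H)) (step (H.back (i := 0) (by decide) (f14 H)) (step (H.back (i := 2) (by decide) (f16 H)) (step (H.back (i := 0) (by decide) (f14 H)) (step (H.back (i := 1) (by decide) (f71 H)) rfl)))))))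

theorem f902 : g 3 • path g [8, 1] p = path g [3, 6, 8] p :=
  (congrArg (g 3 • ·) (f899 H).symm).trans (f227 H)

theorem f903 : path g [8, 1, 3] p = path g [3, 6, 8] p :=
  (f609 H).symm.trans (f902 H)

theorem f905 : g 8 • path g [3, 6, 8] p = path g [8, 1] p :=
  (f226 H).trans (f899 H)

theorem f907 : g 3 • path g [3, 6, 8] p = path g [3, 1, 7] p :=
  (congrArg (g 3 • ·) (f903 H).symm).trans (f733 H)

theorem f908 : path g [3, 6] p = path g [3, 1, 7] p :=
  (f225 H).symm.trans (f907 H)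

theorem f909 : path g [3, 1, 7] p = path g [3, 6] p :=
  (f908 H).symm

theorem f912 : g 6 • path g [3, 6] p = path g [3, 6, 2] p :=
  (congrArg (g 6 • ·) (f909 H).symm).trans (f213 H)

theorem f913 : path g [3, 1] p = path g [3, 6, 2] p :=
  (f40 H).symm.trans (f912 H)

theorem f915 : g 3 • path g [3, 6] p = path g [8, 1] p :=
  (f214 H).trans (f899 H)

theorem f920 : path g [3, 6, 2] p = path g [3, 1] p :=
  (f913 H).symm

theorem f922 : g 7 • path g [3, 1] p = path g [3, 6] p :=
  (f136 H).trans (f909 H)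

theorem f927 : g 2 • path g [3, 1, 3] p = path g [8, 1, 0] p :=
  scan (u := [0, 0]) (w := [0, 0, 2]) (i := 2) (r2_0_1 H) (step (f744 H) (step (f740 H) rfl)) (step (H.back (i := 5) (by decide) (f635 H)) (step (H.back (i := 5) (by decide) (f608 H)) (step (H.back (i := 7) (by decide) (f747 H)) rfl)))

theorem f928 : g 7 • path g [8, 1, 0] p = path g [3, 1, 3] p :=
  H.back (i := 2) (by decide) (f927 H)

theorem f929 : g 3 • path g [3, 1, 5] p = path g [8, 1, 0] p :=
  scan (u := [0, 2, 0, 1, 8, 5]) (w := [1]) (i := 3) (r7_1_4 H) (step (f744 H) (step (f638 H) (step (f607 H) (step (f743 H) (step (f131 H) (step (f134 H) rfl)))))) (step (H.back (i := 6) (by decide) (f741 H)) rfl)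

theorem f930 : g 8 • path g [8, 1, 0] p = path g [3, 1, 5] p :=
  H.back (i := 3) (by decide) (f929 H)

theorem f931 : g 8 • path g [8, 1] p = path g [3, 6] p :=
  (f730 H).trans (f909 H)

theorem f932 : g 8 • path g [8, 6] p = path g [3, 6, 0] p :=
  scan (u := [2, 0, 1]) (w := [5, 3, 1, 0]) (i := 8) (r7_1_5 H) (step (f927 H) (step (f633 H) (step (f73 H) rfl))) (step (H.back (i := 0) (by decide) (f208 H)) (step (H.back (i := 8) (by decide) (f931 H)) (step (H.back (i := 6) (by decide) (f72 H)) (step (H.back (i := 5) (by decide) (f738 H)) rfl))))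

theorem f933 : g 3 • path g [3, 6, 0] p = path g [8, 6] p :=
  H.back (i := 8) (by decide) (f932 H)

theorem f934 : g 3 • path g [8, 1] p = path g [3, 6, 8] p :=
  (f609 H).trans (f903 H)

theorem f935 : g 7 • path g [3, 6, 0] p = path g [3, 1, 5] p :=
  scan (u := [2, 0, 1, 0, 0, 8]) (w := [3, 0, 1, 0]) (i := 7) (r6_1_6 H) (step (f927 H) (step (f633 H) (step (f73 H) (step (f740 H) (step (f744 H) (step (f932 H) rfl)))))) (step (H.back (i := 8) (by decide) (f930 H)) (step (H.back (i := 5) (by decide) (f635 H)) (step (H.back (i := 6) (by decide) (f72 H)) (step (H.back (i := 5) (by decide) (f738 H)) rfl))))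

theorem f937 : path g [3, 6, 0] p = path g [3, 6, 5] p :=
  close (u := [8]) (w := [0, 3, 6, 5, 7, 5, 6]) (r7_0_5 H) (step (f932 H) rfl) (step (H.back (i := 5) (by decide) (f218 H)) (step (H.back (i := 8) (by decide) (f931 H)) (step (H.back (i := 1) (by decide) (f68 H)) (step (H.back (i := 0) (by decide) (f14 H)) (step (H.back (i := 2) (by decide) (f16 H)) (step (H.back (i := 0) (by decide) (f14 H)) (step (H.back (i := 1) (by decide) (f71 H)) rfl)))))))

theorem f938 : path g [3, 6, 5] p = path g [3, 6, 0] p :=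
  (f937 H).symm

theorem f939 : g 0 • path g [3, 6, 0] p = path g [3, 6] p :=
  (congrArg (g 0 • ·) (f938 H).symm).trans (f219 H)

theorem f941 : g 5 • path g [3, 6] p = path g [3, 6, 0] p :=
  H.back (i := 0) (by decide) (f939 H)

theorem f942 : g 7 • path g [3, 6, 0] p = path g [3, 1, 0] p :=
  (congrArg (g 7 • ·) (f938 H).symm).trans (f220 H)

theorem f943 : path g [3, 1, 5] p = path g [3, 1, 0] p :=
  (f935 H).symm.trans (f942 H)

theorem f944 : g 0 • path g [3, 1, 0] p = path g [3, 1] p :=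
  (congrArg (g 0 • ·) (f943 H).symm).trans (f135 H)

theorem f946 : g 5 • path g [3, 1] p = path g [3, 1, 0] p :=
  H.back (i := 0) (by decide) (f944 H)

theorem f947 : g 7 • path g [3, 1, 0] p = path g [3, 6, 0] p :=
  (congrArg (g 7 • ·) (f943 H).symm).trans (f223 H)

theorem f954 : g 2 • path g [3, 1, 0] p = path g [3, 6, 0] p :=
  (f221 H).trans (f938 H)

theorem f956 : g 7 • path g [3, 6, 0] p = path g [3, 1, 0] p :=
  (f935 H).trans (f943 H)

theorem f957 : g 2 • path g [3, 6, 9] p = path g [3, 1, 9] p :=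
  scan (u := [7, 5, 9]) (w := [4, 5, 5, 5]) (i := 2) (r10_0_3 H) (step (f947 H) (step (f209 H) (step (f230 H) rfl))) (step (H.back (i := 9) (by decide) (f142 H)) (step (H.back (i := 0) (by decide) (f944 H)) (step (H.back (i := 0) (by decide) (f128 H)) (step (H.back (i := 0) (by decide) (f944 H)) rfl))))

theorem f958 : g 7 • path g [3, 1, 9] p = path g [3, 6, 9] p :=
  H.back (i := 2) (by decide) (f957 H)

theorem f959 : g 2 • path g [3, 6] p = path g [3, 1] p :=
  (f210 H).trans (f920 H)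

theorem f960 : g 6 • path g [3, 6, 0] p = path g [3, 1, 0] p :=
  scan (u := [0, 6, 5, 6, 5]) (w := []) (i := 6) (r3_1_4 H) (step (f944 H) (step (f29 H) (step (f829 H) (step (f38 H) (step (f941 H) rfl))))) rfl

theorem f961 : g 1 • path g [3, 1, 0] p = path g [3, 6, 0] p :=
  H.back (i := 6) (by decide) (f960 H)

theorem f962 : g 7 • path g [3, 6, 9] p = path g [3, 1, 9] p :=
  scan (u := [0, 0, 0, 9]) (w := [4, 0, 2]) (i := 7) (r10_1_5 H) (step (f939 H) (step (f208 H) (step (f939 H) (step (f230 H) rfl)))) (step (H.back (i := 9) (by decide) (f142 H)) (step (H.back (i := 5) (by decide) (f129 H)) (step (H.back (i := 7) (by decide) (f956 H)) rfl)))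

theorem f963 : g 2 • path g [3, 1, 9] p = path g [3, 6, 9] p :=
  H.back (i := 7) (by decide) (f962 H)

theorem f964 : g 7 • path g [3, 9, 5] p = path g [3, 9, 0] p :=
  scan (u := [0, 1, 0, 9, 5]) (w := [5, 4, 2, 1, 0, 2]) (i := 7) (r11_1_9 H) (step (f939 H) (step (f39 H) (step (f759 H) (step (f42 H) (step (f240 H) rfl))))) (step (H.back (i := 0) (by decide) (f234 H)) (step (H.back (i := 9) (by decide) (f42 H)) (step (H.back (i := 7) (by decide) (f772 H)) (step (H.back (i := 6) (by decide) (f29 H)) (step (H.back (i := 5) (by decide) (f129 H)) (step (H.back (i := 7) (by decide) (f956 H)) rfl))))))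

theorem f965 : g 2 • path g [3, 9, 0] p = path g [3, 9, 5] p :=
  H.back (i := 7) (by decide) (f964 H)

theorem f967 : g 3 • path g [8, 6] p = path g [8, 6, 3] p :=
  rfl

theorem f968 : g 8 • path g [8, 6, 3] p = path g [8, 6] p :=
  H.back (i := 3) (by decide) (f967 H)

theorem f969 : g 3 • path g [8, 6, 3] p = path g [3, 6, 0] p :=
  scan (u := [3]) (w := [3]) (i := 3) (r9_0_0 H) (step (f967 H) rfl) (step (H.back (i := 8) (by decide) (f932 H)) rfl)

theorem f970 : g 8 • path g [3, 6, 0] p = path g [8, 6, 3] p :=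
  H.back (i := 3) (by decide) (f969 H)

theorem f971 : g 2 • path g [3, 1, 8] p = path g [8, 6, 3] p :=
  scan (u := [3, 5, 5, 6, 5, 7, 5, 6, 5, 8]) (w := []) (i := 2) (r6_0_10 H) (step (f969 H) (step (f209 H) (step (f941 H) (step (f960 H) (step (f129 H) (step (f922 H) (step (f941 H) (step (f960 H) (step (f129 H) (step (f138 H) rfl)))))))))) rfl

theorem f975 : g 0 • path g [3, 6, 8] p = path g [3, 1, 8] p :=
  scan (u := [2, 8, 6, 5, 7, 5, 6, 3]) (w := []) (i := 0) (r8_1_8 H) (step (f971 H) (step (f968 H) (step (f72 H) (step (f635 H) (step (f928 H) (step (f738 H) (step (f72 H) (step (f934 H) rfl)))))))) rfl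

theorem f977 : g 1 • path g [3, 1, 8] p = path g [8, 6, 3] p :=
  scan (u := [0]) (w := [3, 0, 1, 3, 0, 1, 3]) (i := 1) (r17_0_0 H) (step (f975 H) rfl) (step (H.back (i := 8) (by decide) (f970 H)) (step (H.back (i := 5) (by decide) (f941 H)) (step (H.back (i := 6) (by decide) (f38 H)) (step (H.back (i := 8) (by decide) (f12 H)) (step (H.back (i := 5) (by decide) (f15 H)) (step (H.back (i := 6) (by decide) (f69 H)) (step (H.back (i := 8) (by decide) (f905 H)) rfl)))))))

theorem f978 : g 6 • path g [8, 6, 3] p = path g [3, 1, 8] p :=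
  H.back (i := 1) (by decide) (f977 H)

theorem f979 : g 4 • path g [8, 6] p = path g [8, 6, 4] p :=
  rfl

theorem f980 : g 9 • path g [8, 6, 4] p = path g [8, 6] p :=
  H.back (i := 4) (by decide) (f979 H)

theorem f981 : g 9 • path g [8, 6] p = path g [8, 6, 9] p :=
  rfl

theorem f982 : g 4 • path g [8, 6, 9] p = path g [8, 6] p :=
  H.back (i := 9) (by decide) (f981 H)

theorem f983 : g 9 • path g [8, 6, 9] p = path g [8, 6, 4] p :=
  scan (u := [9]) (w := [9]) (i := 9) (r13_1_0 H) (step (f981 H) rfl) (step (H.back (i := 4) (by decide) (f979 H)) rfl)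

theorem f984 : g 4 • path g [8, 6, 4] p = path g [8, 6, 9] p :=
  H.back (i := 9) (by decide) (f983 H)

theorem f985 : g 2 • path g [8, 6, 9] p = path g [8, 1, 9] p :=
  scan (u := [9]) (w := [4, 5, 5, 5, 7, 5]) (i := 2) (r10_0_5 H) (step (f981 H) rfl) (step (H.back (i := 9) (by decide) (f621 H)) (step (H.back (i := 0) (by decide) (f633 H)) (step (H.back (i := 0) (by decide) (f607 H)) (step (H.back (i := 0) (by decide) (f633 H)) (step (H.back (i := 2) (by decide) (f927 H)) (step (H.back (i := 0) (by decide) (f740 H)) rfl))))))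

theorem f986 : g 7 • path g [8, 1, 9] p = path g [8, 6, 9] p :=
  H.back (i := 2) (by decide) (f985 H)

theorem f987 : g 7 • path g [8, 6, 9] p = path g [8, 1, 9] p :=
  scan (u := [9]) (w := [4, 0, 2, 0, 0, 0]) (i := 7) (r10_1_0 H) (step (f981 H) rfl) (step (H.back (i := 9) (by decide) (f621 H)) (step (H.back (i := 5) (by decide) (f608 H)) (step (H.back (i := 7) (by decide) (f747 H)) (step (H.back (i := 5) (by decide) (f746 H)) (step (H.back (i := 5) (by decide) (f738 H)) (step (H.back (i := 5) (by decide) (f746 H)) rfl))))))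

theorem f988 : g 2 • path g [8, 1, 9] p = path g [8, 6, 9] p :=
  H.back (i := 7) (by decide) (f987 H)

theorem f989 : g 0 • path g [8, 9] p = path g [8, 9, 0] p :=
  rfl

theorem f990 : g 5 • path g [8, 9, 0] p = path g [8, 9] p :=
  H.back (i := 0) (by decide) (f989 H)

theorem f991 : g 1 • path g [8, 9] p = path g [8, 9, 1] p :=
  rfl

theorem f992 : g 6 • path g [8, 9, 1] p = path g [8, 9] p :=
  H.back (i := 1) (by decide) (f991 H)

theorem f993 : g 5 • path g [8, 9] p = path g [8, 9, 5] p :=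
  rfl

theorem f994 : g 0 • path g [8, 9, 5] p = path g [8, 9] p :=
  H.back (i := 5) (by decide) (f993 H)

theorem f995 : g 7 • path g [8, 9, 5] p = path g [8, 9, 0] p :=
  scan (u := [5]) (w := [5, 4, 2, 1, 0, 2, 0, 1, 0, 9]) (i := 7) (r11_1_1 H) (step (f993 H) rfl) (step (H.back (i := 0) (by decide) (f989 H)) (step (H.back (i := 9) (by decide) (f76 H)) (step (H.back (i := 7) (by decide) (f17 H)) (step (H.back (i := 6) (by decide) (f69 H)) (step (H.back (i := 5) (by decide) (f608 H)) (step (H.back (i := 7) (by decide) (f747 H)) (step (H.back (i := 5) (by decide) (f746 H)) (step (H.back (i := 6) (by decide) (f70 H)) (step (H.back (i := 5) (by decide) (f15 H)) (step (H.back (i := 4) (by decide) (f77 H)) rfl))))))))))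

theorem f997 : path g [8, 9, 0] p = path g [8, 9, 5] p :=
  close (u := [0, 0]) (w := [0, 9, 7, 4, 0, 2]) (r10_1_5 H) (step (f994 H) (step (f989 H) rfl)) (step (H.back (i := 5) (by decide) (f993 H)) (step (H.back (i := 4) (by decide) (f79 H)) (step (H.back (i := 2) (by decide) (f580 H)) (step (H.back (i := 9) (by decide) (f78 H)) (step (H.back (i := 5) (by decide) (f990 H)) (step (H.back (i := 7) (by decide) (f995 H)) rfl))))))

theorem f998 : path g [8, 9, 5] p = path g [8, 9, 0] p :=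
  (f997 H).symm

theorem f999 : g 0 • path g [8, 9, 0] p = path g [8, 9] p :=
  (congrArg (g 0 • ·) (f998 H).symm).trans (f994 H)

theorem f1001 : g 5 • path g [8, 9] p = path g [8, 9, 0] p :=
  H.back (i := 0) (by decide) (f999 H)

theorem f1005 : g 6 • path g [8, 9] p = path g [8, 9, 6] p :=
  rfl

theorem f1006 : g 1 • path g [8, 9, 6] p = path g [8, 9] p :=
  H.back (i := 6) (by decide) (f1005 H)

theorem f1007 : g 6 • path g [8, 9, 6] p = path g [8, 9, 1] p :=
  scan (u := [6]) (w := [6]) (i := 6) (r0_1_0 H) (step (f1005 H) rfl) (step (H.back (i := 1) (by decide) (f991 H)) rfl)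

theorem f1008 : g 1 • path g [8, 9, 1] p = path g [8, 9, 6] p :=
  H.back (i := 6) (by decide) (f1007 H)

theorem f1009 : g 7 • path g [8, 9, 6] p = path g [8, 9, 1] p :=
  scan (u := [6]) (w := [6, 7]) (i := 7) (r1_1_0 H) (step (f1005 H) rfl) (step (H.back (i := 1) (by decide) (f991 H)) (step (H.back (i := 2) (by decide) (f84 H)) rfl))

theorem f1010 : g 2 • path g [8, 9, 1] p = path g [8, 9, 6] p :=
  H.back (i := 7) (by decide) (f1009 H)

theorem f1011 : g 1 • path g [9, 0] p = path g [9, 0, 1] p :=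
  rfl

theorem f1012 : g 6 • path g [9, 0, 1] p = path g [9, 0] p :=
  H.back (i := 1) (by decide) (f1011 H)

theorem f1013 : g 5 • path g [9, 0, 1] p = path g [9, 1] p :=
  scan (u := [1]) (w := [1, 0, 1, 0]) (i := 5) (r3_0_0 H) (step (f1011 H) rfl) (step (H.back (i := 6) (by decide) (f96 H)) (step (H.back (i := 5) (by decide) (f100 H)) (step (H.back (i := 6) (by decide) (f94 H)) (step (H.back (i := 5) (by decide) (f87 H)) rfl))))

theorem f1014 : g 0 • path g [9, 1] p = path g [9, 0, 1] p :=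
  H.back (i := 5) (by decide) (f1013 H)

theorem f1015 : g 0 • path g [9, 0, 1] p = path g [9, 1] p :=
  scan (u := [1]) (w := [1, 0, 1, 5]) (i := 0) (r3_0_2 H) (step (f1011 H) rfl) (step (H.back (i := 6) (by decide) (f96 H)) (step (H.back (i := 5) (by decide) (f100 H)) (step (H.back (i := 6) (by decide) (f94 H)) (step (H.back (i := 0) (by decide) (f419 H)) rfl))))

theorem f1016 : g 5 • path g [9, 1] p = path g [9, 0, 1] p :=
  H.back (i := 0) (by decide) (f1015 H)

theorem f1017 : g 3 • path g [8, 9, 0] p = path g [9, 0] p :=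
  scan (u := [1, 0, 2, 0, 1, 8, 5]) (w := []) (i := 3) (r7_1_3 H) (step (f1011 H) (step (f1015 H) (step (f99 H) (step (f101 H) (step (f95 H) (step (f83 H) (step (f1001 H) rfl))))))) rfl

theorem f1018 : g 8 • path g [9, 0] p = path g [8, 9, 0] p :=
  H.back (i := 3) (by decide) (f1017 H)

theorem f1019 : g 4 • path g [4, 0, 1] p = path g [9, 6] p :=
  scan (u := [1, 0, 9, 6, 5, 6, 6]) (w := [1, 0, 2]) (i := 4) (r12_1_9 H) (step (f1011 H) (step (f1015 H) (step (f461 H) (step (f51 H) (step (f548 H) (step (f258 H) (step (f260 H) rfl))))))) (step (H.back (i := 6) (by decide) (f94 H)) (step (H.back (i := 5) (by decide) (f87 H)) (step (H.back (i := 7) (by decide) (f421 H)) rfl)))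

theorem f1020 : g 9 • path g [9, 6] p = path g [4, 0, 1] p :=
  H.back (i := 4) (by decide) (f1019 H)

theorem f1021 : g 9 • path g [9, 0, 1] p = path g [4, 0, 6] p :=
  scan (u := [4, 5, 5, 5, 7, 5]) (w := [2]) (i := 9) (r10_0_7 H) (step (f1019 H) (step (f100 H) (step (f100 H) (step (f100 H) (step (f98 H) (step (f1016 H) rfl)))))) (step (H.back (i := 7) (by decide) (f509 H)) rfl)

theorem f1022 : g 4 • path g [4, 0, 6] p = path g [9, 0, 1] p :=
  H.back (i := 9) (by decide) (f1021 H)

theorem f1023 : g 2 • path g [9, 6] p = path g [9, 1] p :=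
  scan (u := [4, 0]) (w := [0, 0, 0, 9, 7]) (i := 2) (r10_1_2 H) (step (f1019 H) (step (f101 H) rfl)) (step (H.back (i := 5) (by decide) (f1013 H)) (step (H.back (i := 5) (by decide) (f1016 H)) (step (H.back (i := 5) (by decide) (f1013 H)) (step (H.back (i := 4) (by decide) (f1022 H)) (step (H.back (i := 2) (by decide) (f500 H)) rfl)))))

theorem f1024 : g 7 • path g [9, 1] p = path g [9, 6] p :=
  H.back (i := 2) (by decide) (f1023 H)

theorem f1025 : g 1 • path g [4, 6, 4] p = path g [9, 0] p :=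
  scan (u := [9, 6, 5, 6, 6, 4]) (w := [0, 2, 1, 0]) (i := 1) (r12_1_0 H) (step (f1021 H) (step (f260 H) (step (f476 H) (step (f51 H) (step (f56 H) (step (f583 H) rfl)))))) (step (H.back (i := 5) (by decide) (f467 H)) (step (H.back (i := 7) (by decide) (f23 H)) (step (H.back (i := 6) (by decide) (f89 H)) (step (H.back (i := 5) (by decide) (f1013 H)) rfl))))

theorem f1026 : g 6 • path g [9, 0] p = path g [4, 6, 4] p :=
  H.back (i := 1) (by decide) (f1025 H)

theorem f1027 : g 7 • path g [4, 6, 4] p = path g [9, 0, 1] p :=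
  scan (u := [9, 0, 2, 0, 4, 5, 6, 5, 7, 5, 6]) (w := []) (i := 7) (r11_0_7 H) (step (f1021 H) (step (f503 H) (step (f507 H) (step (f486 H) (step (f466 H) (step (f1016 H) (step (f1012 H) (step (f87 H) (step (f23 H) (step (f467 H) (step (f1026 H) rfl))))))))))) rfl

theorem f1028 : g 2 • path g [9, 0, 1] p = path g [4, 6, 4] p :=
  H.back (i := 7) (by decide) (f1027 H)

theorem f1029 : g 5 • path g [4, 6, 4] p = path g [4, 6, 4] p :=
  scan (u := [7, 5, 6, 8, 0, 3, 6]) (w := []) (i := 5) (r7_0_2 H) (step (f1027 H) (step (f1013 H) (step (f89 H) (step (f83 H) (step (f989 H) (step (f1017 H) (step (f1026 H) rfl))))))) rfl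

theorem f1030 : g 0 • path g [4, 6, 4] p = path g [4, 6, 4] p :=
  H.back (i := 5) (by decide) (f1029 H)

theorem f1031 : g 8 • path g [3, 9, 5] p = path g [9, 0] p :=
  scan (u := [7, 5, 6, 3, 0, 2]) (w := [6, 5]) (i := 8) (r8_1_3 H) (step (f1027 H) (step (f1013 H) (step (f89 H) (step (f47 H) (step (f234 H) (step (f965 H) rfl)))))) (step (H.back (i := 1) (by decide) (f1025 H)) (step (H.back (i := 0) (by decide) (f1030 H)) rfl))

theorem f1033 : g 2 • path g [4, 6, 4] p = path g [9, 0, 1] p :=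
  scan (u := [2, 0, 0]) (w := [0, 0]) (i := 2) (r2_0_0 H) (step (f1028 H) (step (f1030 H) (step (f1030 H) rfl))) (step (H.back (i := 5) (by decide) (f1016 H)) (step (H.back (i := 5) (by decide) (f1013 H)) rfl))

theorem f1034 : g 7 • path g [9, 0, 1] p = path g [4, 6, 4] p :=
  H.back (i := 2) (by decide) (f1033 H)

theorem f1035 : g 1 • path g [9, 0, 1] p = path g [4, 6, 4] p :=
  scan (u := [2]) (w := [0, 2, 0, 1, 0, 9, 5, 7, 5, 4]) (i := 1) (r11_1_5 H) (step (f1033 H) rfl) (step (H.back (i := 5) (by decide) (f1029 H)) (step (H.back (i := 7) (by decide) (f1034 H)) (step (H.back (i := 5) (by decide) (f1016 H)) (step (H.back (i := 6) (by decide) (f96 H)) (step (H.back (i := 5) (by decide) (f100 H)) (step (H.back (i := 4) (by decide) (f1019 H)) (step (H.back (i := 0) (by decide) (f478 H)) (step (H.back (i := 2) (by decide) (f566 H)) (step (H.back (i := 0) (by decide) (f472 H)) (step (H.back (i := 9) (by decide) (f584 H)) rfl))))))))))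

theorem f1036 : g 6 • path g [4, 6, 4] p = path g [9, 0, 1] p :=
  H.back (i := 1) (by decide) (f1035 H)

theorem f1037 : g 8 • path g [8, 9, 0] p = path g [3, 9, 5] p :=
  scan (u := [8, 8]) (w := []) (i := 8) (r9_1_0 H) (step (f1031 H) (step (f1018 H) rfl)) rfl

theorem f1039 : path g [3, 9, 7] p = path g [3, 9] p :=
  close (u := [8, 1, 0, 2, 0, 1, 3, 7]) (w := [5]) (r8_0_2 H) (step (f1031 H) (step (f1011 H) (step (f1015 H) (step (f99 H) (step (f101 H) (step (f95 H) (step (f47 H) (step (f246 H) rfl)))))))) (step (H.back (i := 0) (by decide) (f241 H)) rfl)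

theorem f1040 : g 2 • path g [3, 9] p = path g [3, 9] p :=
  (congrArg (g 2 • ·) (f1039 H).symm).trans (f247 H)

theorem f1041 : path g [3, 9, 2] p = path g [3, 9] p :=
  (f238 H).symm.trans (f1040 H)

theorem f1043 : g 7 • path g [3, 9] p = path g [3, 9] p :=
  (f246 H).trans (f1039 H)

theorem f1045 : g 2 • path g [3, 9] p = path g [3, 9] p :=
  (f238 H).trans (f1041 H)

theorem f1054 : g 3 • path g [9, 1] p = path g [9, 1, 3] p :=
  rfl

theorem f1055 : g 8 • path g [9, 1, 3] p = path g [9, 1] p :=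
  H.back (i := 3) (by decide) (f1054 H)

theorem f1058 : g 8 • path g [9, 1] p = path g [9, 1, 8] p :=
  rfl

theorem f1060 : g 8 • path g [9, 1, 8] p = path g [9, 1, 3] p :=
  scan (u := [8]) (w := [8]) (i := 8) (r9_1_0 H) (step (f1058 H) rfl) (step (H.back (i := 3) (by decide) (f1054 H)) rfl)

theorem f1061 : g 3 • path g [9, 1, 3] p = path g [9, 1, 8] p :=
  H.back (i := 8) (by decide) (f1060 H)

theorem f1064 : g 3 • path g [9, 6] p = path g [9, 6, 3] p :=
  rfl

theorem f1066 : g 4 • path g [9, 6] p = path g [9, 6, 4] p :=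
  rfl

theorem f1067 : g 9 • path g [9, 6, 4] p = path g [9, 6] p :=
  H.back (i := 4) (by decide) (f1066 H)

theorem f1068 : g 4 • path g [9, 6, 4] p = path g [4, 0, 1] p :=
  scan (u := [4]) (w := [4]) (i := 4) (r13_0_0 H) (step (f1066 H) rfl) (step (H.back (i := 9) (by decide) (f1020 H)) rfl)

theorem f1069 : g 9 • path g [4, 0, 1] p = path g [9, 6, 4] p :=
  H.back (i := 4) (by decide) (f1068 H)

theorem f1072 : g 7 • path g [4, 6, 9] p = path g [9, 6, 4] p :=
  scan (u := [4, 0, 2, 0, 0, 0, 9]) (w := []) (i := 7) (r10_1_2 H) (step (f1068 H) (step (f486 H) (step (f471 H) (step (f472 H) (step (f472 H) (step (f472 H) (step (f595 H) rfl))))))) rfl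

theorem f1073 : g 2 • path g [9, 6, 4] p = path g [4, 6, 9] p :=
  H.back (i := 7) (by decide) (f1072 H)

theorem f1074 : g 6 • path g [4, 0, 9] p = path g [4, 6, 9] p :=
  scan (u := [7, 9, 6, 7, 9, 6, 7, 9]) (w := []) (i := 6) (r18_1_2 H) (step (f1072 H) (step (f1067 H) (step (f96 H) (step (f1024 H) (step (f1020 H) (step (f251 H) (step (f534 H) (step (f268 H) rfl)))))))) rfl

theorem f1075 : g 1 • path g [4, 6, 9] p = path g [4, 0, 9] p :=
  H.back (i := 6) (by decide) (f1074 H)

theorem f1076 : path g [9, 6, 4] p = path g [4, 1] p :=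
  close (u := [6, 9, 6, 9, 6, 9]) (w := [6, 9, 6, 9, 6, 9, 6, 9]) (r16_1_1 H) (step (f1074 H) (step (f597 H) (step (f1036 H) (step (f1021 H) (step (f260 H) (step (f1069 H) rfl)))))) (step (H.back (i := 1) (by decide) (f50 H)) (step (H.back (i := 4) (by decide) (f8 H)) (step (H.back (i := 1) (by decide) (f2 H)) (step (H.back (i := 4) (by decide) (f19 H)) (step (H.back (i := 1) (by decide) (f95 H)) (step (H.back (i := 4) (by decide) (f1019 H)) (step (H.back (i := 1) (by decide) (f250 H)) (step (H.back (i := 4) (by decide) (f269 H)) rfl))))))))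

theorem f1083 : g 2 • path g [4, 1] p = path g [4, 6, 9] p :=
  (congrArg (g 2 • ·) (f1076 H).symm).trans (f1073 H)

theorem f1084 : path g [4, 6] p = path g [4, 6, 9] p :=
  (f471 H).symm.trans (f1083 H)

theorem f1085 : path g [4, 6, 9] p = path g [4, 6] p :=
  (f1084 H).symm

theorem f1097 : g 1 • path g [4, 6] p = path g [4, 0, 9] p :=
  (congrArg (g 1 • ·) (f1085 H).symm).trans (f1075 H)

theorem f1098 : path g [4] p = path g [4, 0, 9] p :=
  (f57 H).symm.trans (f1097 H)

theorem f1099 : path g [4, 0, 9] p = path g [4] p :=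
  (f1098 H).symm

theorem f1102 : g 9 • path g [4] p = path g [4, 0, 4] p :=
  (congrArg (g 9 • ·) (f1099 H).symm).trans (f270 H)

theorem f1103 : path g [] p = path g [4, 0, 4] p :=
  (f9 H).symm.trans (f1102 H)

theorem f1107 : path g [4, 0, 4] p = path g [] p :=
  (f1103 H).symm

theorem f1108 : g 9 • path g [] p = path g [4, 0] p :=
  (congrArg (g 9 • ·) (f1107 H).symm).trans (f257 H)

theorem f1109 : path g [9] p = path g [4, 0] p :=
  (f18 H).symm.trans (f1108 H)

theorem f1113 : path g [4, 0] p = path g [9] p :=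
  (f1109 H).symm

theorem f1133 : g 8 • path g [9] p = path g [4, 0, 8] p :=
  (congrArg (g 8 • ·) (f1113 H).symm).trans (f264 H)

theorem f1134 : path g [8, 9] p = path g [4, 0, 8] p :=
  (f83 H).symm.trans (f1133 H)

theorem f1138 : path g [4, 0, 8] p = path g [8, 9] p :=
  (f1134 H).symm

theorem f1152 : g 0 • path g [8, 9] p = path g [4, 8] p :=
  (congrArg (g 0 • ·) (f1138 H).symm).trans (f576 H)

theorem f1153 : path g [8, 9, 0] p = path g [4, 8] p :=
  (f989 H).symm.trans (f1152 H)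

theorem f1155 : g 5 • path g [4, 8] p = path g [8, 9] p :=
  (f575 H).trans (f1138 H)

theorem f1161 : g 0 • path g [4, 8] p = path g [8, 9] p :=
  (f570 H).trans (f1138 H)

theorem f1168 : g 8 • path g [4, 8] p = path g [3, 9, 5] p :=
  (congrArg (g 8 • ·) (f1153 H).symm).trans (f1037 H)

theorem f1169 : path g [3, 4] p = path g [3, 9, 5] p :=
  (f64 H).symm.trans (f1168 H)

theorem f1170 : path g [3, 9, 5] p = path g [3, 4] p :=
  (f1169 H).symm

theorem f1173 : g 7 • path g [3, 4] p = path g [3, 9, 0] p :=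
  (congrArg (g 7 • ·) (f1170 H).symm).trans (f964 H)

theorem f1174 : path g [3, 4, 7] p = path g [3, 9, 0] p :=
  (f184 H).symm.trans (f1173 H)

theorem f1175 : g 8 • path g [3, 4] p = path g [9, 0] p :=
  (congrArg (g 8 • ·) (f1170 H).symm).trans (f1031 H)

theorem f1176 : path g [4] p = path g [9, 0] p :=
  (f34 H).symm.trans (f1175 H)

theorem f1180 : path g [9, 0] p = path g [4] p :=
  (f1176 H).symm

theorem f1182 : g 5 • path g [4] p = path g [9] p :=
  (f548 H).trans (f1113 H)

theorem f1188 : g 0 • path g [4] p = path g [9] p :=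
  (f48 H).trans (f1113 H)

theorem f1198 : g 6 • path g [4] p = path g [4, 6, 4] p :=
  (congrArg (g 6 • ·) (f1180 H).symm).trans (f1026 H)

theorem f1199 : path g [4, 6] p = path g [4, 6, 4] p :=
  (f56 H).symm.trans (f1198 H)

theorem f1226 : path g [4, 6, 4] p = path g [4, 6] p :=
  (f1199 H).symm

theorem f1246 : g 6 • path g [4, 6] p = path g [9, 0, 1] p :=
  (congrArg (g 6 • ·) (f1226 H).symm).trans (f1036 H)

theorem f1247 : path g [4, 1] p = path g [9, 0, 1] p :=
  (f58 H).symm.trans (f1246 H)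

theorem f1248 : path g [9, 0, 1] p = path g [4, 1] p :=
  (f1247 H).symm

theorem f1254 : g 0 • path g [4, 1] p = path g [9, 1] p :=
  (congrArg (g 0 • ·) (f1248 H).symm).trans (f1015 H)

theorem f1255 : path g [4, 0, 1] p = path g [9, 1] p :=
  (f478 H).symm.trans (f1254 H)

theorem f1256 : g 9 • path g [4, 1] p = path g [4, 0, 6] p :=
  (congrArg (g 9 • ·) (f1248 H).symm).trans (f1021 H)

theorem f1257 : path g [4, 1, 9] p = path g [4, 0, 6] p :=
  (f290 H).symm.trans (f1256 H)

theorem f1270 : g 9 • path g [4, 0, 6] p = path g [9, 1] p :=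
  (congrArg (g 9 • ·) (f1257 H).symm).trans (f465 H)

theorem f1272 : g 4 • path g [9, 1] p = path g [4, 0, 6] p :=
  H.back (i := 9) (by decide) (f1270 H)

theorem f1279 : g 5 • path g [9, 1] p = path g [4, 1] p :=
  (f1016 H).trans (f1248 H)

theorem f1284 : g 0 • path g [9, 1] p = path g [4, 1] p :=
  (f1014 H).trans (f1248 H)

theorem f1288 : g 4 • path g [9, 1] p = path g [9, 6] p :=
  (congrArg (g 4 • ·) (f1255 H).symm).trans (f1019 H)

theorem f1289 : path g [4, 0, 6] p = path g [9, 6] p :=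
  (f1272 H).symm.trans (f1288 H)

theorem f1315 : g 9 • path g [9, 6] p = path g [9, 1] p :=
  (f1020 H).trans (f1255 H)

theorem f1317 : path g [3, 9, 0] p = path g [3, 4, 7] p :=
  (f1174 H).symm

theorem f1318 : g 5 • path g [3, 4, 7] p = path g [3, 9] p :=
  (congrArg (g 5 • ·) (f1317 H).symm).trans (f235 H)

theorem f1319 : path g [4, 0, 3] p = path g [3, 9] p :=
  (f577 H).symm.trans (f1318 H)

theorem f1329 : g 7 • path g [3, 9] p = path g [3, 4, 0] p :=
  (congrArg (g 7 • ·) (f1319 H).symm).trans (f561 H)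

theorem f1330 : path g [3, 9] p = path g [3, 4, 0] p :=
  (f1043 H).symm.trans (f1329 H)

theorem f1332 : g 0 • path g [3, 9] p = path g [3, 4, 7] p :=
  (f234 H).trans (f1317 H)

theorem f1334 : path g [3, 4, 0] p = path g [3, 9] p :=
  (f1330 H).symm

theorem f1336 : g 5 • path g [3, 9] p = path g [3, 4] p :=
  (f240 H).trans (f1170 H)

theorem f1341 : path g [4, 1, 9] p = path g [9, 6] p :=
  (f1257 H).trans (f1289 H)

theorem f1342 : g 8 • path g [9, 6] p = path g [9, 6, 8] p :=
  rfl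

theorem f1344 : g 8 • path g [9, 6, 8] p = path g [9, 6, 3] p :=
  scan (u := [8]) (w := [8]) (i := 8) (r9_1_0 H) (step (f1342 H) rfl) (step (H.back (i := 3) (by decide) (f1064 H)) rfl)

theorem f1350 : g 0 • path g [9] p = path g [4] p :=
  (f86 H).trans (f1180 H)

theorem f1351 : g 0 • path g [9, 6, 8] p = path g [9, 1, 8] p :=
  scan (u := [8]) (w := [3, 6, 5, 7, 5, 6]) (i := 0) (r7_0_5 H) (step (f1342 H) rfl) (step (H.back (i := 8) (by decide) (f1058 H)) (step (H.back (i := 1) (by decide) (f88 H)) (step (H.back (i := 0) (by decide) (f1188 H)) (step (H.back (i := 2) (by decide) (f388 H)) (step (H.back (i := 0) (by decide) (f1350 H)) (step (H.back (i := 1) (by decide) (f95 H)) rfl))))))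

theorem f1352 : g 5 • path g [9, 1, 8] p = path g [9, 6, 8] p :=
  H.back (i := 0) (by decide) (f1351 H)

theorem f1353 : g 5 • path g [9, 6, 8] p = path g [4, 1, 8] p :=
  scan (u := [8]) (w := [3, 1, 0, 2, 0, 1]) (i := 5) (r7_1_0 H) (step (f1342 H) rfl) (step (H.back (i := 8) (by decide) (f286 H)) (step (H.back (i := 6) (by decide) (f58 H)) (step (H.back (i := 5) (by decide) (f473 H)) (step (H.back (i := 7) (by decide) (f568 H)) (step (H.back (i := 5) (by decide) (f1279 H)) (step (H.back (i := 6) (by decide) (f96 H)) rfl))))))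

theorem f1354 : g 0 • path g [4, 1, 8] p = path g [9, 6, 8] p :=
  H.back (i := 5) (by decide) (f1353 H)

theorem f1355 : g 0 • path g [4, 1] p = path g [9, 1] p :=
  (f478 H).trans (f1255 H)

theorem f1356 : g 2 • path g [9, 6, 8] p = path g [9, 1, 8] p :=
  scan (u := [8]) (w := [3, 5, 5, 6, 5, 7, 5, 6, 5]) (i := 2) (r6_0_8 H) (step (f1342 H) rfl) (step (H.back (i := 8) (by decide) (f1058 H)) (step (H.back (i := 0) (by decide) (f1355 H)) (step (H.back (i := 0) (by decide) (f1284 H)) (step (H.back (i := 1) (by decide) (f88 H)) (step (H.back (i := 0) (by decide) (f1188 H)) (step (H.back (i := 2) (by decide) (f388 H)) (step (H.back (i := 0) (by decide) (f1350 H)) (step (H.back (i := 1) (by decide) (f95 H)) (step (H.back (i := 0) (by decide) (f101 H)) rfl)))))))))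

theorem f1358 : g 5 • path g [4, 1] p = path g [9, 1] p :=
  (f488 H).trans (f1255 H)

theorem f1359 : g 7 • path g [9, 6, 8] p = path g [9, 1, 8] p :=
  scan (u := [8]) (w := [3, 0, 1, 0, 2, 0, 1, 0, 0]) (i := 7) (r6_1_0 H) (step (f1342 H) rfl) (step (H.back (i := 8) (by decide) (f1058 H)) (step (H.back (i := 5) (by decide) (f1358 H)) (step (H.back (i := 6) (by decide) (f58 H)) (step (H.back (i := 5) (by decide) (f473 H)) (step (H.back (i := 7) (by decide) (f568 H)) (step (H.back (i := 5) (by decide) (f1279 H)) (step (H.back (i := 6) (by decide) (f96 H)) (step (H.back (i := 5) (by decide) (f100 H)) (step (H.back (i := 5) (by decide) (f100 H)) rfl)))))))))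

theorem f1361 : g 5 • path g [4, 6, 8] p = path g [9, 1, 8] p :=
  scan (u := [7, 5, 5, 7]) (w := [5]) (i := 5) (r2_1_2 H) (step (f1359 H) (step (f1352 H) (step (f1353 H) (step (f592 H) rfl)))) (step (H.back (i := 0) (by decide) (f1351 H)) rfl)

theorem f1362 : g 0 • path g [9, 1, 8] p = path g [4, 6, 8] p :=
  H.back (i := 5) (by decide) (f1361 H)

theorem f1367 : g 5 • path g [9] p = path g [4] p :=
  (f467 H).trans (f1180 H)

theorem f1373 : g 9 • path g [4, 1] p = path g [9, 6] p :=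
  (f290 H).trans (f1341 H)

theorem f1376 : g 6 • path g [3, 1, 0] p = path g [3, 1, 0, 6] p :=
  rfl

theorem f1378 : g 6 • path g [3, 1, 0, 6] p = path g [3, 6, 0] p :=
  scan (u := [6]) (w := [6]) (i := 6) (r0_1_0 H) (step (f1376 H) rfl) (step (H.back (i := 1) (by decide) (f961 H)) rfl)

theorem f1379 : g 1 • path g [3, 6, 0] p = path g [3, 1, 0, 6] p :=
  H.back (i := 6) (by decide) (f1378 H)

theorem f1380 : g 7 • path g [3, 1, 0, 6] p = path g [3, 1, 0, 6] p :=
  scan (u := [6]) (w := [6, 7]) (i := 7) (r1_1_0 H) (step (f1376 H) rfl) (step (H.back (i := 1) (by decide) (f1379 H)) (step (H.back (i := 2) (by decide) (f954 H)) rfl))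

theorem f1382 : g 5 • path g [3, 1, 0, 6] p = path g [3, 1, 0, 6] p :=
  scan (u := [6]) (w := [6, 0, 6, 5]) (i := 5) (r3_1_1 H) (step (f1376 H) rfl) (step (H.back (i := 1) (by decide) (f1379 H)) (step (H.back (i := 5) (by decide) (f941 H)) (step (H.back (i := 1) (by decide) (f41 H)) (step (H.back (i := 0) (by decide) (f944 H)) rfl))))

theorem f1384 : g 8 • path g [3, 1, 0] p = path g [3, 1, 0, 8] p :=
  rfl

theorem f1390 : g 5 • path g [3, 1, 0, 8] p = path g [8, 6, 3] p :=
  scan (u := [8]) (w := [3, 1, 0, 2, 0, 1]) (i := 5) (r7_1_0 H) (step (f1384 H) rfl) (step (H.back (i := 8) (by decide) (f970 H)) (step (H.back (i := 6) (by decide) (f1378 H)) (step (H.back (i := 5) (by decide) (f1382 H)) (step (H.back (i := 7) (by decide) (f1380 H)) (step (H.back (i := 5) (by decide) (f1382 H)) (step (H.back (i := 6) (by decide) (f1376 H)) rfl))))))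

theorem f1392 : g 6 • path g [3, 1, 0, 8] p = path g [3, 6, 8] p :=
  scan (u := [8]) (w := [5, 8, 6, 5, 8, 6, 5]) (i := 6) (r17_1_0 H) (step (f1384 H) rfl) (step (H.back (i := 0) (by decide) (f229 H)) (step (H.back (i := 3) (by decide) (f141 H)) (step (H.back (i := 1) (by decide) (f743 H)) (step (H.back (i := 0) (by decide) (f607 H)) (step (H.back (i := 3) (by decide) (f915 H)) (step (H.back (i := 1) (by decide) (f41 H)) (step (H.back (i := 0) (by decide) (f944 H)) rfl)))))))

theorem f1396 : g 7 • path g [3, 1, 0, 8] p = path g [3, 6, 8] p :=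
  scan (u := [8]) (w := [3, 0, 1, 0, 2, 0, 1, 0, 0]) (i := 7) (r6_1_0 H) (step (f1384 H) rfl) (step (H.back (i := 8) (by decide) (f224 H)) (step (H.back (i := 5) (by decide) (f209 H)) (step (H.back (i := 6) (by decide) (f1378 H)) (step (H.back (i := 5) (by decide) (f1382 H)) (step (H.back (i := 7) (by decide) (f1380 H)) (step (H.back (i := 5) (by decide) (f1382 H)) (step (H.back (i := 6) (by decide) (f1376 H)) (step (H.back (i := 5) (by decide) (f946 H)) (step (H.back (i := 5) (by decide) (f129 H)) rfl)))))))))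

theorem f1397 : g 2 • path g [3, 6, 8] p = path g [3, 1, 0, 8] p :=
  H.back (i := 7) (by decide) (f1396 H)

theorem f1398 : path g [3, 6, 8] p = path g [3, 1] p :=
  close (u := [8, 6, 8, 6, 8, 6, 8]) (w := [6, 8, 6, 8, 6, 8, 6]) (r15_1_0 H) (step (f1384 H) (step (f1392 H) (step (f905 H) (step (f69 H) (step (f12 H) (step (f38 H) (step (f224 H) rfl))))))) (step (H.back (i := 1) (by decide) (f28 H)) (step (H.back (i := 3) (by decide) (f6 H)) (step (H.back (i := 1) (by decide) (f2 H)) (step (H.back (i := 3) (by decide) (f11 H)) (step (H.back (i := 1) (by decide) (f71 H)) (step (H.back (i := 3) (by decide) (f933 H)) (step (H.back (i := 1) (by decide) (f961 H)) rfl)))))))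

theorem f1411 : g 2 • path g [3, 1] p = path g [3, 1, 0, 8] p :=
  (congrArg (g 2 • ·) (f1398 H).symm).trans (f1397 H)

theorem f1412 : path g [3, 6] p = path g [3, 1, 0, 8] p :=
  (f898 H).symm.trans (f1411 H)

theorem f1413 : path g [3, 1, 0, 8] p = path g [3, 6] p :=
  (f1412 H).symm

theorem f1421 : g 5 • path g [3, 6] p = path g [8, 6, 3] p :=
  (congrArg (g 5 • ·) (f1413 H).symm).trans (f1390 H)

theorem f1422 : path g [3, 6, 0] p = path g [8, 6, 3] p :=
  (f941 H).symm.trans (f1421 H)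

theorem f1432 : path g [8, 6, 3] p = path g [3, 6, 0] p :=
  (f1422 H).symm

theorem f1442 : g 6 • path g [3, 6, 0] p = path g [3, 1, 8] p :=
  (congrArg (g 6 • ·) (f1432 H).symm).trans (f978 H)

theorem f1443 : path g [3, 1, 0] p = path g [3, 1, 8] p :=
  (f960 H).symm.trans (f1442 H)

theorem f1450 : path g [3, 1, 8] p = path g [3, 1, 0] p :=
  (f1443 H).symm

theorem f1453 : g 8 • path g [3, 1, 0] p = path g [3, 1, 3] p :=
  (congrArg (g 8 • ·) (f1450 H).symm).trans (f140 H)

theorem f1454 : g 8 • path g [3, 1, 0] p = path g [3, 6] p :=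
  (f1384 H).trans (f1413 H)

theorem f1455 : path g [3, 6] p = path g [3, 1, 3] p :=
  (f1454 H).symm.trans (f1453 H)

theorem f1471 : path g [3, 1, 3] p = path g [3, 6] p :=
  (f1455 H).symm

theorem f1485 : g 2 • path g [3, 6] p = path g [8, 1, 0] p :=
  (congrArg (g 2 • ·) (f1471 H).symm).trans (f927 H)

theorem f1486 : path g [3, 1] p = path g [8, 1, 0] p :=
  (f959 H).symm.trans (f1485 H)

theorem f1487 : path g [8, 1, 0] p = path g [3, 1] p :=
  (f1486 H).symm

theorem f1493 : g 0 • path g [3, 1] p = path g [8, 1] p :=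
  (congrArg (g 0 • ·) (f1487 H).symm).trans (f633 H)

theorem f1494 : path g [3, 1, 0] p = path g [8, 1] p :=
  (f128 H).symm.trans (f1493 H)

theorem f1502 : g 8 • path g [3, 1] p = path g [3, 1, 0] p :=
  (f138 H).trans (f1450 H)

theorem f1506 : g 3 • path g [3, 1] p = path g [3, 6] p :=
  (f130 H).trans (f1471 H)

theorem f1509 : g 5 • path g [8, 1] p = path g [3, 1] p :=
  (f635 H).trans (f1487 H)

theorem f1514 : g 0 • path g [8, 1] p = path g [3, 1] p :=
  (f607 H).trans (f1487 H)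

theorem f1526 : g 6 • path g [8, 1] p = path g [3, 1, 0, 6] p :=
  (congrArg (g 6 • ·) (f1494 H).symm).trans (f1376 H)

theorem f1527 : path g [8] p = path g [3, 1, 0, 6] p :=
  (f69 H).symm.trans (f1526 H)

theorem f1530 : path g [3, 1, 0, 6] p = path g [8] p :=
  (f1527 H).symm

theorem f1534 : g 6 • path g [8] p = path g [3, 6, 0] p :=
  (congrArg (g 6 • ·) (f1530 H).symm).trans (f1378 H)

theorem f1535 : path g [8, 6] p = path g [3, 6, 0] p :=
  (f70 H).symm.trans (f1534 H)

theorem f1548 : path g [3, 6, 0] p = path g [8, 6] p :=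
  (f1535 H).symm

theorem f1550 : g 5 • path g [8, 6] p = path g [3, 6] p :=
  (f746 H).trans (f1471 H)

theorem f1556 : path g [8, 6, 3] p = path g [8, 6] p :=
  (f1432 H).trans (f1548 H)

theorem f1557 : g 3 • path g [8, 6] p = path g [8, 6] p :=
  (f967 H).trans (f1556 H)

theorem f1563 : g 0 • path g [8, 6] p = path g [3, 6] p :=
  (f740 H).trans (f1471 H)

theorem f1582 : g 1 • path g [3, 1, 4] p = path g [3, 1, 4, 1] p :=
  rfl

theorem f1583 : g 6 • path g [3, 1, 4, 1] p = path g [3, 1, 4] p :=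
  H.back (i := 1) (by decide) (f1582 H)

theorem f1584 : g 2 • path g [3, 1, 4] p = path g [3, 1, 4, 2] p :=
  rfl

theorem f1585 : g 7 • path g [3, 1, 4, 2] p = path g [3, 1, 4] p :=
  H.back (i := 2) (by decide) (f1584 H)

theorem f1586 : g 0 • path g [3, 1] p = path g [8, 1] p :=
  (f128 H).trans (f1494 H)

theorem f1587 : g 3 • path g [3, 1, 4] p = path g [3, 1, 4, 3] p :=
  rfl

theorem f1588 : g 8 • path g [3, 1, 4, 3] p = path g [3, 1, 4] p :=
  H.back (i := 3) (by decide) (f1587 H)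

theorem f1589 : path g [3, 1, 4, 3] p = path g [3, 6, 4] p :=
  close (u := [3]) (w := [9, 8, 4]) (r14_0_3 H) (step (f1587 H) rfl) (step (H.back (i := 4) (by decide) (f216 H)) (step (H.back (i := 3) (by decide) (f1506 H)) (step (H.back (i := 9) (by decide) (f133 H)) rfl)))

theorem f1590 : g 8 • path g [3, 6, 4] p = path g [3, 1, 4] p :=
  (congrArg (g 8 • ·) (f1589 H).symm).trans (f1588 H)

theorem f1592 : g 3 • path g [3, 1, 4] p = path g [3, 6, 4] p :=
  H.back (i := 8) (by decide) (f1590 H)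

theorem f1593 : g 8 • path g [3, 6, 9] p = path g [3, 1, 9] p :=
  scan (u := [3, 4]) (w := [9]) (i := 8) (r14_1_2 H) (step (f1592 H) (step (f233 H) rfl)) (step (H.back (i := 4) (by decide) (f145 H)) rfl)

theorem f1594 : g 3 • path g [3, 1, 9] p = path g [3, 6, 9] p :=
  H.back (i := 8) (by decide) (f1593 H)

theorem f1595 : g 5 • path g [3, 1, 4] p = path g [3, 1, 4, 5] p :=
  rfl

theorem f1596 : g 0 • path g [3, 1, 4, 5] p = path g [3, 1, 4] p :=
  H.back (i := 5) (by decide) (f1595 H)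

theorem f1598 : g 6 • path g [3, 1, 4] p = path g [3, 1, 4, 6] p :=
  rfl

theorem f1602 : g 7 • path g [3, 1, 4] p = path g [3, 1, 4, 7] p :=
  rfl

theorem f1604 : g 8 • path g [3, 1, 4] p = path g [3, 1, 4, 8] p :=
  rfl

theorem f1605 : g 3 • path g [3, 1, 4, 8] p = path g [3, 1, 4] p :=
  H.back (i := 8) (by decide) (f1604 H)

theorem f1608 : g 8 • path g [3, 1] p = path g [8, 1] p :=
  (f1502 H).trans (f1494 H)

theorem f1609 : path g [3, 1, 4, 8] p = path g [8, 1, 4] p :=
  close (u := [8]) (w := [9, 3, 4]) (r14_1_0 H) (step (f1604 H) rfl) (step (H.back (i := 4) (by decide) (f611 H)) (step (H.back (i := 8) (by decide) (f1608 H)) (step (H.back (i := 9) (by decide) (f133 H)) rfl)))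

theorem f1610 : g 3 • path g [8, 1, 4] p = path g [3, 1, 4] p :=
  (congrArg (g 3 • ·) (f1609 H).symm).trans (f1605 H)

theorem f1612 : g 8 • path g [3, 1, 4] p = path g [8, 1, 4] p :=
  H.back (i := 3) (by decide) (f1610 H)

theorem f1616 : g 8 • path g [3, 1, 9] p = path g [8, 1, 9] p :=
  scan (u := [3, 4]) (w := [9]) (i := 8) (r14_1_2 H) (step (f1610 H) (step (f145 H) rfl)) (step (H.back (i := 4) (by decide) (f624 H)) rfl)

theorem f1618 : g 8 • path g [8, 1, 9] p = path g [3, 6, 9] p :=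
  scan (u := [8]) (w := [8]) (i := 8) (r9_1_0 H) (step (f1616 H) rfl) (step (H.back (i := 3) (by decide) (f1594 H)) rfl)

theorem f1621 : g 0 • path g [3, 1, 9] p = path g [3, 1, 9, 0] p :=
  rfl

theorem f1622 : g 5 • path g [3, 1, 9, 0] p = path g [3, 1, 9] p :=
  H.back (i := 0) (by decide) (f1621 H)

theorem f1623 : g 1 • path g [3, 1, 9] p = path g [3, 1, 9, 1] p :=
  rfl

theorem f1625 : g 0 • path g [3, 6] p = path g [8, 6] p :=
  (f208 H).trans (f1548 H)

theorem f1626 : g 5 • path g [3, 1, 9] p = path g [3, 1, 9, 5] p :=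
  rfl

theorem f1627 : g 0 • path g [3, 1, 9, 5] p = path g [3, 1, 9] p :=
  H.back (i := 5) (by decide) (f1626 H)

theorem f1628 : g 6 • path g [3, 1, 9] p = path g [3, 1, 9, 6] p :=
  rfl

theorem f1629 : g 1 • path g [3, 1, 9, 6] p = path g [3, 1, 9] p :=
  H.back (i := 6) (by decide) (f1628 H)

theorem f1630 : g 6 • path g [3, 1, 9, 6] p = path g [3, 1, 9, 1] p :=
  scan (u := [6]) (w := [6]) (i := 6) (r0_1_0 H) (step (f1628 H) rfl) (step (H.back (i := 1) (by decide) (f1623 H)) rfl)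

theorem f1631 : g 1 • path g [3, 1, 9, 1] p = path g [3, 1, 9, 6] p :=
  H.back (i := 6) (by decide) (f1630 H)

theorem f1632 : g 0 • path g [3, 4, 1] p = path g [3, 4, 1, 0] p :=
  rfl

theorem f1633 : g 5 • path g [3, 4, 1, 0] p = path g [3, 4, 1] p :=
  H.back (i := 0) (by decide) (f1632 H)

theorem f1634 : g 0 • path g [3, 4] p = path g [3, 9] p :=
  (f172 H).trans (f1334 H)

theorem f1635 : path g [3, 4, 1, 0] p = path g [8, 9, 1] p :=
  close (u := [0]) (w := [2, 1, 0, 9, 6, 5, 6, 6, 4, 1]) (r12_1_7 H) (step (f1632 H) rfl) (step (H.back (i := 7) (by decide) (f1009 H)) (step (H.back (i := 6) (by decide) (f1005 H)) (step (H.back (i := 5) (by decide) (f1155 H)) (step (H.back (i := 4) (by decide) (f67 H)) (step (H.back (i := 1) (by decide) (f71 H)) (step (H.back (i := 0) (by decide) (f1625 H)) (step (H.back (i := 1) (by decide) (f41 H)) (step (H.back (i := 1) (by decide) (f28 H)) (step (H.back (i := 9) (by decide) (f33 H)) (step (H.back (i := 6) (by decide) (f175 H))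 rfl))))))))))

theorem f1636 : g 5 • path g [8, 9, 1] p = path g [3, 4, 1] p :=
  (congrArg (g 5 • ·) (f1635 H).symm).trans (f1633 H)

theorem f1638 : g 0 • path g [3, 4, 1] p = path g [8, 9, 1] p :=
  H.back (i := 5) (by decide) (f1636 H)

theorem f1639 : g 5 • path g [3, 4, 7] p = path g [3, 9] p :=
  (f577 H).trans (f1319 H)

theorem f1640 : g 0 • path g [8, 9] p = path g [4, 8] p :=
  (f989 H).trans (f1153 H)

theorem f1641 : g 5 • path g [8, 9] p = path g [4, 8] p :=
  (f1001 H).trans (f1153 H)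

theorem f1642 : g 5 • path g [4, 8, 1] p = path g [3, 9, 1] p :=
  scan (u := [0, 2, 1, 5, 6, 7]) (w := [6, 7, 0, 2, 1]) (i := 5) (r5_0_9 H) (step (f1638 H) (step (f1010 H) (step (f1006 H) (step (f1641 H) (step (f601 H) (step (f605 H) rfl)))))) (step (H.back (i := 1) (by decide) (f236 H)) (step (H.back (i := 2) (by decide) (f1045 H)) (step (H.back (i := 5) (by decide) (f1639 H)) (step (H.back (i := 7) (by decide) (f184 H)) (step (H.back (i := 6) (by decide) (f175 H)) rfl)))))

theorem f1643 : g 0 • path g [3, 9, 1] p = path g [4, 8, 1] p :=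
  H.back (i := 5) (by decide) (f1642 H)

theorem f1644 : path g [3, 4, 2] p = path g [3, 4] p :=
  close (u := [0, 2, 1, 0, 6, 7, 5, 6, 7, 5, 2]) (w := [1]) (r5_1_8 H) (step (f1638 H) (step (f1010 H) (step (f1006 H) (step (f1640 H) (step (f601 H) (step (f605 H) (step (f1642 H) (step (f237 H) (step (f1043 H) (step (f1336 H) (step (f176 H) rfl))))))))))) (step (H.back (i := 6) (by decide) (f175 H)) rfl)

theorem f1645 : g 7 • path g [3, 4] p = path g [3, 4] p :=
  (congrArg (g 7 • ·) (f1644 H).symm).trans (f177 H)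

theorem f1646 : path g [3, 4, 7] p = path g [3, 4] p :=
  (f184 H).symm.trans (f1645 H)

theorem f1648 : g 2 • path g [3, 4] p = path g [3, 4] p :=
  (f176 H).trans (f1644 H)

theorem f1650 : g 5 • path g [3, 4] p = path g [3, 9] p :=
  (congrArg (g 5 • ·) (f1646 H).symm).trans (f1639 H)

theorem f1651 : path g [3, 4, 5] p = path g [3, 9] p :=
  (f178 H).symm.trans (f1650 H)

theorem f1653 : g 0 • path g [3, 9] p = path g [3, 4] p :=
  (f1332 H).trans (f1646 H)

theorem f1655 : g 7 • path g [3, 4] p = path g [3, 4] p :=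
  (f184 H).trans (f1646 H)

theorem f1656 : g 5 • path g [3, 4] p = path g [3, 9] p :=
  (f178 H).trans (f1651 H)

theorem f1657 : g 2 • path g [3, 9, 1] p = path g [3, 9, 6] p :=
  scan (u := [0, 6, 7, 5, 6, 7, 5]) (w := [1, 0, 2, 1]) (i := 2) (r5_1_11 H) (step (f1638 H) (step (f992 H) (step (f85 H) (step (f1641 H) (step (f601 H) (step (f605 H) (step (f1642 H) rfl))))))) (step (H.back (i := 6) (by decide) (f242 H)) (step (H.back (i := 5) (by decide) (f1656 H)) (step (H.back (i := 7) (by decide) (f1655 H)) (step (H.back (i := 6) (by decide) (f175 H)) rfl))))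

theorem f1658 : g 7 • path g [3, 9, 6] p = path g [3, 9, 1] p :=
  H.back (i := 2) (by decide) (f1657 H)

theorem f1659 : g 0 • path g [8, 9, 6] p = path g [3, 9, 6] p :=
  scan (u := [0, 2]) (w := [1, 0, 9, 5, 7, 5, 4, 2, 1]) (i := 0) (r11_1_7 H) (step (f1638 H) (step (f1010 H) rfl)) (step (H.back (i := 6) (by decide) (f242 H)) (step (H.back (i := 5) (by decide) (f1656 H)) (step (H.back (i := 4) (by decide) (f32 H)) (step (H.back (i := 0) (by decide) (f759 H)) (step (H.back (i := 2) (by decide) (f666 H)) (step (H.back (i := 0) (by decide) (f759 H)) (step (H.back (i := 9) (by decide) (f33 H)) (step (H.back (i := 7) (by decide) (f1655 H)) (step (H.back (i := 6) (by decide) (f175 H)) rfl)))))))))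

theorem f1660 : g 5 • path g [3, 9, 6] p = path g [8, 9, 6] p :=
  H.back (i := 0) (by decide) (f1659 H)

theorem f1661 : g 0 • path g [3, 4, 6] p = path g [4, 8, 6] p :=
  scan (u := [5, 1]) (w := [1, 0, 1]) (i := 0) (r3_0_1 H) (step (f1636 H) (step (f183 H) rfl)) (step (H.back (i := 6) (by decide) (f601 H)) (step (H.back (i := 5) (by decide) (f1641 H)) (step (H.back (i := 6) (by decide) (f992 H)) rfl)))

theorem f1662 : g 5 • path g [4, 8, 6] p = path g [3, 4, 6] p :=
  H.back (i := 0) (by decide) (f1661 H)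

theorem f1663 : g 0 • path g [3, 9, 6] p = path g [8, 9, 6] p :=
  scan (u := [5, 6, 5, 6]) (w := [6]) (i := 0) (r3_1_0 H) (step (f1636 H) (step (f175 H) (step (f1656 H) (step (f242 H) rfl)))) (step (H.back (i := 1) (by decide) (f1008 H)) rfl)

theorem f1664 : g 5 • path g [8, 9, 6] p = path g [3, 9, 6] p :=
  H.back (i := 0) (by decide) (f1663 H)

theorem f1665 : g 2 • path g [3, 4, 1] p = path g [3, 4, 6] p :=
  scan (u := [5]) (w := [1, 0, 2, 1, 0, 6, 7, 5, 6, 7]) (i := 2) (r5_1_5 H) (step (f1636 H) rfl) (step (H.back (i := 6) (by decide) (f180 H)) (step (H.back (i := 5) (by decide) (f1336 H)) (step (H.back (i := 7) (by decide) (f1043 H)) (step (H.back (i := 6) (by decide) (f237 H)) (step (H.back (i := 5) (by decide) (f1642 H)) (step (H.back (i := 1) (by decide) (f599 H)) (step (H.back (i := 2) (by decide) (f580 H)) (step (H.back (i := 0) (by decide) (f1640 H)) (step (H.back (i := 1) (by decide) (f1006 H)) (step (H.back (i := 2) (by decide) (f1010 H)) rfl))))))))))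

theorem f1666 : g 7 • path g [3, 4, 6] p = path g [3, 4, 1] p :=
  H.back (i := 2) (by decide) (f1665 H)

theorem f1667 : g 0 • path g [8, 9, 1] p = path g [3, 4, 1] p :=
  scan (u := [2, 0, 1, 8, 5, 3, 1]) (w := []) (i := 0) (r7_1_5 H) (step (f1665 H) (step (f1661 H) (step (f602 H) (step (f64 H) (step (f1656 H) (step (f81 H) (step (f991 H) rfl))))))) rfl

theorem f1668 : g 5 • path g [3, 4, 1] p = path g [8, 9, 1] p :=
  H.back (i := 0) (by decide) (f1667 H)

theorem f1669 : g 5 • path g [3, 4, 6] p = path g [4, 8, 6] p :=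
  scan (u := [2, 1, 0, 9, 6]) (w := [6, 6, 4, 1, 0]) (i := 5) (r12_1_8 H) (step (f1665 H) (step (f181 H) (step (f1634 H) (step (f44 H) (step (f180 H) rfl))))) (step (H.back (i := 1) (by decide) (f604 H)) (step (H.back (i := 1) (by decide) (f599 H)) (step (H.back (i := 9) (by decide) (f78 H)) (step (H.back (i := 6) (by decide) (f992 H)) (step (H.back (i := 5) (by decide) (f1668 H)) rfl)))))

theorem f1670 : g 0 • path g [4, 8, 6] p = path g [3, 4, 6] p :=
  H.back (i := 5) (by decide) (f1669 H)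

theorem f1671 : g 5 • path g [3, 9, 1] p = path g [4, 8, 1] p :=
  scan (u := [2, 1, 0, 2, 1]) (w := [6, 7, 5, 6, 7, 0]) (i := 5) (r5_0_7 H) (step (f1665 H) (step (f181 H) (step (f1634 H) (step (f1045 H) (step (f236 H) rfl))))) (step (H.back (i := 1) (by decide) (f599 H)) (step (H.back (i := 2) (by decide) (f580 H)) (step (H.back (i := 0) (by decide) (f1640 H)) (step (H.back (i := 1) (by decide) (f1006 H)) (step (H.back (i := 2) (by decide) (f1010 H)) (step (H.back (i := 5) (by decide) (f1668 H)) rfl))))))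

theorem f1672 : g 0 • path g [4, 8, 1] p = path g [3, 9, 1] p :=
  H.back (i := 5) (by decide) (f1671 H)

theorem f1673 : g 7 • path g [3, 4, 1] p = path g [3, 4, 6] p :=
  scan (u := [7, 5, 5]) (w := [5, 5]) (i := 7) (r2_1_2 H) (step (f1666 H) (step (f1668 H) (step (f1636 H) rfl))) (step (H.back (i := 0) (by decide) (f1670 H)) (step (H.back (i := 0) (by decide) (f1661 H)) rfl))

theorem f1675 : g 7 • path g [3, 9, 1] p = path g [3, 9, 6] p :=
  scan (u := [7, 5, 7, 5]) (w := [5, 7, 5]) (i := 7) (r4_1_1 H) (step (f1673 H) (step (f1669 H) (step (f605 H) (step (f1642 H) rfl)))) (step (H.back (i := 0) (by decide) (f1659 H)) (step (H.back (i := 2) (by decide) (f1010 H)) (step (H.back (i := 0) (by decide) (f1638 H)) rfl)))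

theorem f1676 : g 2 • path g [3, 9, 6] p = path g [3, 9, 1] p :=
  H.back (i := 7) (by decide) (f1675 H)

theorem f1677 : g 7 • path g [4, 8, 1] p = path g [4, 8, 6] p :=
  scan (u := [5]) (w := [5, 5, 7, 5]) (i := 7) (r2_1_1 H) (step (f1671 H) rfl) (step (H.back (i := 0) (by decide) (f1661 H)) (step (H.back (i := 0) (by decide) (f1670 H)) (step (H.back (i := 2) (by decide) (f606 H)) (step (H.back (i := 0) (by decide) (f1643 H)) rfl))))

theorem f1679 : g 7 • path g [8, 9, 1] p = path g [8, 9, 6] p :=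
  scan (u := [5, 7, 5, 7, 5]) (w := [5, 7]) (i := 7) (r4_1_0 H) (step (f1671 H) (step (f1677 H) (step (f1662 H) (step (f1666 H) (step (f1668 H) rfl))))) (step (H.back (i := 0) (by decide) (f1663 H)) (step (H.back (i := 2) (by decide) (f1657 H)) rfl))

theorem f1680 : g 2 • path g [8, 9, 6] p = path g [8, 9, 1] p :=
  H.back (i := 7) (by decide) (f1679 H)

theorem f1681 : g 5 • path g [3, 6] p = path g [8, 6] p :=
  (f941 H).trans (f1548 H)

theorem f1682 : g 3 • path g [3, 4, 1] p = path g [3, 4, 1, 3] p :=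
  rfl

theorem f1683 : g 8 • path g [3, 4, 1, 3] p = path g [3, 4, 1] p :=
  H.back (i := 3) (by decide) (f1682 H)

theorem f1684 : g 4 • path g [3, 4, 1] p = path g [3, 4, 1, 4] p :=
  rfl

theorem f1685 : g 9 • path g [3, 4, 1, 4] p = path g [3, 4, 1] p :=
  H.back (i := 4) (by decide) (f1684 H)

theorem f1686 : g 2 • path g [3, 4, 1, 4] p = path g [3, 1, 9, 6] p :=
  scan (u := [4]) (w := [1, 4, 2, 1, 4, 2, 1]) (i := 2) (r18_0_2 H) (step (f1684 H) rfl) (step (H.back (i := 6) (by decide) (f1628 H)) (step (H.back (i := 9) (by decide) (f142 H)) (step (H.back (i := 7) (by decide) (f715 H)) (step (H.back (i := 6) (by decide) (f38 H)) (step (H.back (i := 9) (by decide) (f33 H)) (step (H.back (i := 7) (by decide) (f1655 H)) (step (H.back (i := 6) (by decide) (f175 H)) rfl)))))))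

theorem f1687 : g 7 • path g [3, 1, 9, 6] p = path g [3, 4, 1, 4] p :=
  H.back (i := 2) (by decide) (f1686 H)

theorem f1688 : g 1 • path g [3, 6, 9] p = path g [3, 4, 1, 4] p :=
  scan (u := [2, 1, 2]) (w := []) (i := 1) (r1_0_0 H) (step (f1686 H) (step (f1629 H) (step (f963 H) rfl))) rfl

theorem f1689 : g 6 • path g [3, 4, 1, 4] p = path g [3, 6, 9] p :=
  H.back (i := 1) (by decide) (f1688 H)

theorem f1690 : g 8 • path g [3, 4, 1] p = path g [3, 4, 1, 8] p :=
  rfl

theorem f1692 : g 8 • path g [3, 4, 1, 8] p = path g [3, 4, 1, 3] p :=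
  scan (u := [8]) (w := [8]) (i := 8) (r9_1_0 H) (step (f1690 H) rfl) (step (H.back (i := 3) (by decide) (f1682 H)) rfl)

theorem f1694 : g 9 • path g [3, 4, 1] p = path g [3, 4, 1, 9] p :=
  rfl

theorem f1696 : g 9 • path g [3, 4, 1, 9] p = path g [3, 4, 1, 4] p :=
  scan (u := [9]) (w := [9]) (i := 9) (r13_1_0 H) (step (f1694 H) rfl) (step (H.back (i := 4) (by decide) (f1684 H)) rfl)

theorem f1698 : g 3 • path g [3, 4, 6] p = path g [3, 4, 6, 3] p :=
  rfl

theorem f1702 : g 8 • path g [3, 4, 6] p = path g [3, 4, 6, 8] p :=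
  rfl

theorem f1703 : g 3 • path g [3, 4, 6, 8] p = path g [3, 4, 6] p :=
  H.back (i := 8) (by decide) (f1702 H)

theorem f1704 : g 8 • path g [3, 4, 6, 8] p = path g [3, 4, 6, 3] p :=
  scan (u := [8]) (w := [8]) (i := 8) (r9_1_0 H) (step (f1702 H) rfl) (step (H.back (i := 3) (by decide) (f1698 H)) rfl)

theorem f1705 : g 3 • path g [3, 4, 6, 3] p = path g [3, 4, 6, 8] p :=
  H.back (i := 8) (by decide) (f1704 H)

theorem f1706 : g 0 • path g [3, 4, 6, 8] p = path g [3, 4, 1, 8] p :=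
  scan (u := [8]) (w := [3, 6, 5, 7, 5, 6]) (i := 0) (r7_0_5 H) (step (f1702 H) rfl) (step (H.back (i := 8) (by decide) (f1690 H)) (step (H.back (i := 1) (by decide) (f174 H)) (step (H.back (i := 0) (by decide) (f1653 H)) (step (H.back (i := 2) (by decide) (f1045 H)) (step (H.back (i := 0) (by decide) (f1634 H)) (step (H.back (i := 1) (by decide) (f181 H)) rfl))))))

theorem f1707 : g 5 • path g [3, 4, 1, 8] p = path g [3, 4, 6, 8] p :=
  H.back (i := 0) (by decide) (f1706 H)

theorem f1708 : g 9 • path g [3, 4, 6] p = path g [3, 4, 6, 9] p :=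
  rfl

theorem f1714 : g 1 • path g [3, 6, 4] p = path g [3, 6, 4, 1] p :=
  rfl

theorem f1716 : g 2 • path g [3, 6, 4] p = path g [3, 6, 4, 2] p :=
  rfl

theorem f1717 : g 7 • path g [3, 6, 4, 2] p = path g [3, 6, 4] p :=
  H.back (i := 2) (by decide) (f1716 H)

theorem f1718 : g 5 • path g [3, 6, 4] p = path g [3, 6, 4, 5] p :=
  rfl

theorem f1724 : g 7 • path g [3, 6, 4] p = path g [3, 6, 4, 7] p :=
  rfl

theorem f1727 : g 0 • path g [3, 6, 9] p = path g [3, 6, 9, 0] p :=
  rfl

theorem f1728 : g 5 • path g [3, 6, 9, 0] p = path g [3, 6, 9] p :=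
  H.back (i := 0) (by decide) (f1727 H)

theorem f1729 : g 5 • path g [3, 6, 9] p = path g [3, 6, 9, 5] p :=
  rfl

theorem f1730 : g 0 • path g [3, 6, 9, 5] p = path g [3, 6, 9] p :=
  H.back (i := 5) (by decide) (f1729 H)

theorem f1731 : g 6 • path g [3, 6, 9] p = path g [3, 6, 9, 6] p :=
  rfl

theorem f1732 : g 1 • path g [3, 6, 9, 6] p = path g [3, 6, 9] p :=
  H.back (i := 6) (by decide) (f1731 H)

theorem f1733 : g 6 • path g [3, 6, 9, 6] p = path g [3, 4, 1, 4] p :=
  scan (u := [6]) (w := [6]) (i := 6) (r0_1_0 H) (step (f1731 H) rfl) (step (H.back (i := 1) (by decide) (f1688 H)) rfl)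

theorem f1734 : g 1 • path g [3, 4, 1, 4] p = path g [3, 6, 9, 6] p :=
  H.back (i := 6) (by decide) (f1733 H)

theorem f1735 : g 7 • path g [3, 6, 9, 6] p = path g [3, 1, 9, 1] p :=
  scan (u := [6]) (w := [6, 7]) (i := 7) (r1_1_0 H) (step (f1731 H) rfl) (step (H.back (i := 1) (by decide) (f1623 H)) (step (H.back (i := 2) (by decide) (f957 H)) rfl))

theorem f1736 : g 2 • path g [3, 1, 9, 1] p = path g [3, 6, 9, 6] p :=
  H.back (i := 7) (by decide) (f1735 H)

theorem f1737 : g 5 • path g [3, 6, 9, 6] p = path g [3, 1, 9, 6] p :=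
  scan (u := [6]) (w := [6, 6, 4, 1, 0, 2, 1, 0, 9]) (i := 5) (r12_1_1 H) (step (f1731 H) rfl) (step (H.back (i := 1) (by decide) (f1631 H)) (step (H.back (i := 1) (by decide) (f1623 H)) (step (H.back (i := 9) (by decide) (f142 H)) (step (H.back (i := 6) (by decide) (f40 H)) (step (H.back (i := 5) (by decide) (f1550 H)) (step (H.back (i := 7) (by decide) (f640 H)) (step (H.back (i := 6) (by decide) (f72 H)) (step (H.back (i := 5) (by decide) (f1681 H)) (step (H.back (i := 4) (by decide) (f231 H)) rfl)))))))))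

theorem f1740 : g 3 • path g [3, 9, 1] p = path g [3, 9, 1, 3] p :=
  rfl

theorem f1741 : g 8 • path g [3, 9, 1, 3] p = path g [3, 9, 1] p :=
  H.back (i := 3) (by decide) (f1740 H)

theorem f1742 : g 4 • path g [3, 9, 1] p = path g [3, 9, 1, 4] p :=
  rfl

theorem f1743 : g 9 • path g [3, 9, 1, 4] p = path g [3, 9, 1] p :=
  H.back (i := 4) (by decide) (f1742 H)

theorem f1744 : g 8 • path g [3, 9, 1] p = path g [3, 9, 1, 8] p :=
  rfl

theorem f1745 : g 3 • path g [3, 9, 1, 8] p = path g [3, 9, 1] p :=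
  H.back (i := 8) (by decide) (f1744 H)

theorem f1746 : g 8 • path g [3, 9, 1, 8] p = path g [3, 9, 1, 3] p :=
  scan (u := [8]) (w := [8]) (i := 8) (r9_1_0 H) (step (f1744 H) rfl) (step (H.back (i := 3) (by decide) (f1740 H)) rfl)

theorem f1747 : g 3 • path g [3, 9, 1, 3] p = path g [3, 9, 1, 8] p :=
  H.back (i := 8) (by decide) (f1746 H)

theorem f1748 : g 0 • path g [3, 9, 1, 8] p = path g [3, 4, 6, 8] p :=
  scan (u := [8]) (w := [3, 6, 5, 7, 5, 6]) (i := 0) (r7_0_5 H) (step (f1744 H) rfl) (step (H.back (i := 8) (by decide) (f1702 H)) (step (H.back (i := 1) (by decide) (f183 H)) (step (H.back (i := 0) (by decide) (f1667 H)) (step (H.back (i := 2) (by decide) (f1680 H)) (step (H.back (i := 0) (by decide) (f1663 H)) (step (H.back (i := 1) (by decide) (f245 H)) rfl))))))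

theorem f1749 : g 5 • path g [3, 4, 6, 8] p = path g [3, 9, 1, 8] p :=
  H.back (i := 0) (by decide) (f1748 H)

theorem f1750 : g 9 • path g [3, 9, 1] p = path g [3, 9, 1, 9] p :=
  rfl

theorem f1752 : g 9 • path g [3, 9, 1, 9] p = path g [3, 9, 1, 4] p :=
  scan (u := [9]) (w := [9]) (i := 9) (r13_1_0 H) (step (f1750 H) rfl) (step (H.back (i := 4) (by decide) (f1742 H)) rfl)

theorem f1753 : g 4 • path g [3, 9, 1, 4] p = path g [3, 9, 1, 9] p :=
  H.back (i := 9) (by decide) (f1752 H)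

theorem f1754 : g 2 • path g [3, 9, 1, 9] p = path g [3, 4, 6, 9] p :=
  scan (u := [9]) (w := [4, 5, 5, 5, 7, 5]) (i := 2) (r10_0_5 H) (step (f1750 H) rfl) (step (H.back (i := 9) (by decide) (f1708 H)) (step (H.back (i := 0) (by decide) (f1670 H)) (step (H.back (i := 0) (by decide) (f1661 H)) (step (H.back (i := 0) (by decide) (f1670 H)) (step (H.back (i := 2) (by decide) (f606 H)) (step (H.back (i := 0) (by decide) (f1643 H)) rfl))))))

theorem f1755 : g 7 • path g [3, 4, 6, 9] p = path g [3, 9, 1, 9] p :=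
  H.back (i := 2) (by decide) (f1754 H)

theorem f1758 : g 6 • path g [3, 9, 1, 9] p = path g [3, 1, 4, 2] p :=
  scan (u := [9]) (w := [7, 9, 6, 7, 9, 6, 7]) (i := 6) (r18_1_0 H) (step (f1750 H) rfl) (step (H.back (i := 2) (by decide) (f1584 H)) (step (H.back (i := 4) (by decide) (f132 H)) (step (H.back (i := 1) (by decide) (f28 H)) (step (H.back (i := 2) (by decide) (f666 H)) (step (H.back (i := 4) (by decide) (f43 H)) (step (H.back (i := 1) (by decide) (f243 H)) (step (H.back (i := 2) (by decide) (f1657 H)) rfl)))))))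

theorem f1759 : g 1 • path g [3, 1, 4, 2] p = path g [3, 9, 1, 9] p :=
  H.back (i := 6) (by decide) (f1758 H)

theorem f1760 : path g [3, 1, 4, 6] p = path g [3, 4, 6, 9] p :=
  close (u := [6, 7, 6]) (w := [7]) (r1_1_0 H) (step (f1758 H) (step (f1585 H) (step (f1598 H) rfl))) (step (H.back (i := 2) (by decide) (f1754 H)) rfl)

theorem f1761 : path g [3, 4, 6, 9] p = path g [3, 1, 4, 6] p :=
  (f1760 H).symm

theorem f1768 : g 7 • path g [3, 1, 4, 6] p = path g [3, 9, 1, 9] p :=
  (congrArg (g 7 • ·) (f1761 H).symm).trans (f1755 H)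

theorem f1774 : g 3 • path g [3, 9, 6] p = path g [3, 9, 6, 3] p :=
  rfl

theorem f1775 : g 8 • path g [3, 9, 6, 3] p = path g [3, 9, 6] p :=
  H.back (i := 3) (by decide) (f1774 H)

theorem f1776 : g 4 • path g [3, 9, 6] p = path g [3, 9, 6, 4] p :=
  rfl

theorem f1777 : g 9 • path g [3, 9, 6, 4] p = path g [3, 9, 6] p :=
  H.back (i := 4) (by decide) (f1776 H)

theorem f1778 : g 8 • path g [3, 9, 6] p = path g [3, 9, 6, 8] p :=
  rfl

theorem f1779 : g 3 • path g [3, 9, 6, 8] p = path g [3, 9, 6] p :=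
  H.back (i := 8) (by decide) (f1778 H)

theorem f1780 : g 8 • path g [3, 9, 6, 8] p = path g [3, 9, 6, 3] p :=
  scan (u := [8]) (w := [8]) (i := 8) (r9_1_0 H) (step (f1778 H) rfl) (step (H.back (i := 3) (by decide) (f1774 H)) rfl)

theorem f1782 : g 0 • path g [3, 9, 6, 8] p = path g [3, 9, 1, 8] p :=
  scan (u := [8]) (w := [3, 6, 5, 7, 5, 6]) (i := 0) (r7_0_5 H) (step (f1778 H) rfl) (step (H.back (i := 8) (by decide) (f1744 H)) (step (H.back (i := 1) (by decide) (f236 H)) (step (H.back (i := 0) (by decide) (f1634 H)) (step (H.back (i := 2) (by decide) (f1648 H)) (step (H.back (i := 0) (by decide) (f1653 H)) (step (H.back (i := 1) (by decide) (f243 H)) rfl))))))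

theorem f1783 : g 5 • path g [3, 9, 1, 8] p = path g [3, 9, 6, 8] p :=
  H.back (i := 0) (by decide) (f1782 H)

theorem f1786 : g 9 • path g [3, 9, 6] p = path g [3, 9, 6, 9] p :=
  rfl

theorem f1787 : g 4 • path g [3, 9, 6, 9] p = path g [3, 9, 6] p :=
  H.back (i := 9) (by decide) (f1786 H)

theorem f1788 : g 9 • path g [3, 9, 6, 9] p = path g [3, 9, 6, 4] p :=
  scan (u := [9]) (w := [9]) (i := 9) (r13_1_0 H) (step (f1786 H) rfl) (step (H.back (i := 4) (by decide) (f1776 H)) rfl)

theorem f1790 : g 2 • path g [3, 9, 6, 9] p = path g [3, 4, 1, 9] p :=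
  scan (u := [9]) (w := [4, 5, 5, 5, 7, 5]) (i := 2) (r10_0_5 H) (step (f1786 H) rfl) (step (H.back (i := 9) (by decide) (f1694 H)) (step (H.back (i := 0) (by decide) (f1667 H)) (step (H.back (i := 0) (by decide) (f1638 H)) (step (H.back (i := 0) (by decide) (f1667 H)) (step (H.back (i := 2) (by decide) (f1680 H)) (step (H.back (i := 0) (by decide) (f1663 H)) rfl))))))

theorem f1792 : g 7 • path g [3, 9, 6, 9] p = path g [3, 4, 1, 9] p :=
  scan (u := [9]) (w := [4, 0, 2, 0, 0, 0]) (i := 7) (r10_1_0 H) (step (f1786 H) rfl) (step (H.back (i := 9) (by decide) (f1694 H)) (step (H.back (i := 5) (by decide) (f1636 H)) (step (H.back (i := 7) (by decide) (f1009 H)) (step (H.back (i := 5) (by decide) (f1660 H)) (step (H.back (i := 5) (by decide) (f1664 H)) (step (H.back (i := 5) (by decide) (f1660 H)) rfl))))))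

theorem f1794 : g 6 • path g [3, 9, 1, 4] p = path g [3, 9, 6, 9] p :=
  scan (u := [7, 9, 6, 7, 9, 6, 7, 9]) (w := []) (i := 6) (r18_1_2 H) (step (f1792 H) (step (f1696 H) (step (f1689 H) (step (f962 H) (step (f144 H) (step (f1598 H) (step (f1768 H) (step (f1752 H) rfl)))))))) rfl

theorem f1799 : g 0 • path g [4, 1, 3] p = path g [4, 1, 3, 0] p :=
  rfl

theorem f1803 : g 1 • path g [4, 1, 3, 0] p = path g [3, 9, 6, 8] p :=
  scan (u := [0]) (w := [3, 0, 1, 3, 0, 1, 3]) (i := 1) (r17_0_0 H) (step (f1799 H) rfl) (step (H.back (i := 8) (by decide) (f1778 H)) (step (H.back (i := 5) (by decide) (f1664 H)) (step (H.back (i := 6) (by decide) (f1005 H)) (step (H.back (i := 8) (by decide) (f83 H)) (step (H.back (i := 5) (by decide) (f1182 H)) (step (H.back (i := 6) (by decide) (f51 H)) (step (H.back (i := 8) (by decide) (f279 H)) rfl)))))))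

theorem f1805 : g 1 • path g [4, 1, 3] p = path g [4, 1, 3, 1] p :=
  rfl

theorem f1806 : g 6 • path g [4, 1, 3, 1] p = path g [4, 1, 3] p :=
  H.back (i := 1) (by decide) (f1805 H)

theorem f1811 : g 6 • path g [4, 1, 3] p = path g [4, 1, 3, 6] p :=
  rfl

theorem f1813 : g 6 • path g [4, 1, 3, 6] p = path g [4, 1, 3, 1] p :=
  scan (u := [6]) (w := [6]) (i := 6) (r0_1_0 H) (step (f1811 H) rfl) (step (H.back (i := 1) (by decide) (f1805 H)) rfl)

theorem f1815 : g 7 • path g [4, 1, 3] p = path g [4, 1, 3, 7] p :=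
  rfl

theorem f1816 : g 2 • path g [4, 1, 3, 7] p = path g [4, 1, 3] p :=
  H.back (i := 7) (by decide) (f1815 H)

theorem f1817 : g 5 • path g [4, 1, 3, 7] p = path g [4, 6, 3] p :=
  scan (u := [7]) (w := [8, 1, 0, 2, 0, 1, 3]) (i := 5) (r8_0_0 H) (step (f1815 H) rfl) (step (H.back (i := 3) (by decide) (f581 H)) (step (H.back (i := 6) (by decide) (f56 H)) (step (H.back (i := 5) (by decide) (f1367 H)) (step (H.back (i := 7) (by decide) (f23 H)) (step (H.back (i := 5) (by decide) (f1182 H)) (step (H.back (i := 6) (by decide) (f51 H)) (step (H.back (i := 8) (by decide) (f279 H)) rfl)))))))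

theorem f1818 : g 0 • path g [4, 6, 3] p = path g [4, 1, 3, 7] p :=
  H.back (i := 5) (by decide) (f1817 H)

theorem f1820 : g 1 • path g [4, 1, 8] p = path g [4, 1, 8, 1] p :=
  rfl

theorem f1821 : g 6 • path g [4, 1, 8, 1] p = path g [4, 1, 8] p :=
  H.back (i := 1) (by decide) (f1820 H)

theorem f1822 : g 6 • path g [4, 1, 8] p = path g [4, 1, 8, 6] p :=
  rfl

theorem f1823 : g 1 • path g [4, 1, 8, 6] p = path g [4, 1, 8] p :=
  H.back (i := 6) (by decide) (f1822 H)

theorem f1824 : g 6 • path g [4, 1, 8, 6] p = path g [4, 1, 8, 1] p :=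
  scan (u := [6]) (w := [6]) (i := 6) (r0_1_0 H) (step (f1822 H) rfl) (step (H.back (i := 1) (by decide) (f1820 H)) rfl)

theorem f1825 : g 1 • path g [4, 1, 8, 1] p = path g [4, 1, 8, 6] p :=
  H.back (i := 6) (by decide) (f1824 H)

theorem f1834 : g 1 • path g [4, 6, 3] p = path g [4, 6, 3, 1] p :=
  rfl

theorem f1836 : g 2 • path g [4, 6, 3] p = path g [4, 6, 3, 2] p :=
  rfl

theorem f1838 : g 5 • path g [4, 6, 3] p = path g [4, 6, 3, 5] p :=
  rfl

theorem f1840 : g 6 • path g [4, 6, 3] p = path g [4, 6, 3, 6] p :=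
  rfl

theorem f1841 : g 1 • path g [4, 6, 3, 6] p = path g [4, 6, 3] p :=
  H.back (i := 6) (by decide) (f1840 H)

theorem f1842 : g 6 • path g [4, 6, 3, 6] p = path g [4, 6, 3, 1] p :=
  scan (u := [6]) (w := [6]) (i := 6) (r0_1_0 H) (step (f1840 H) rfl) (step (H.back (i := 1) (by decide) (f1834 H)) rfl)

theorem f1843 : g 1 • path g [4, 6, 3, 1] p = path g [4, 6, 3, 6] p :=
  H.back (i := 6) (by decide) (f1842 H)

theorem f1844 : g 3 • path g [4, 6, 3, 6] p = path g [4, 8, 1] p :=
  scan (u := [6]) (w := [0, 2, 8, 6, 5, 7, 5]) (i := 3) (r8_1_5 H) (step (f1840 H) rfl) (step (H.back (i := 5) (by decide) (f1671 H)) (step (H.back (i := 7) (by decide) (f1658 H)) (step (H.back (i := 3) (by decide) (f1779 H)) (step (H.back (i := 1) (by decide) (f1803 H)) (step (H.back (i := 0) (by decide) (f1799 H)) (step (H.back (i := 2) (by decide) (f1816 H)) (step (H.back (i := 0) (by decide) (f1818 H)) rfl)))))))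

theorem f1845 : g 8 • path g [4, 8, 1] p = path g [4, 6, 3, 6] p :=
  H.back (i := 3) (by decide) (f1844 H)

theorem f1846 : g 2 • path g [3, 4, 6, 8] p = path g [4, 6, 3, 6] p :=
  scan (u := [3, 5, 5, 6, 5, 7, 5, 6, 5, 8]) (w := []) (i := 2) (r6_0_10 H) (step (f1844 H) (step (f1642 H) (step (f1671 H) (step (f600 H) (step (f1155 H) (step (f85 H) (step (f1641 H) (step (f601 H) (step (f1662 H) (step (f1702 H) rfl)))))))))) rfl

theorem f1848 : g 7 • path g [3, 4, 6, 8] p = path g [4, 6, 3, 6] p :=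
  scan (u := [3, 0, 1, 0, 2, 0, 1, 0, 0, 8]) (w := []) (i := 7) (r6_1_2 H) (step (f1844 H) (step (f1672 H) (step (f245 H) (step (f1663 H) (step (f1680 H) (step (f1667 H) (step (f183 H) (step (f1661 H) (step (f1670 H) (step (f1702 H) rfl)))))))))) rfl

theorem f1849 : g 2 • path g [4, 6, 3, 6] p = path g [3, 4, 6, 8] p :=
  H.back (i := 7) (by decide) (f1848 H)

theorem f1850 : g 1 • path g [4, 6, 3, 2] p = path g [3, 4, 6, 8] p :=
  scan (u := [2, 1, 2]) (w := []) (i := 1) (r1_0_0 H) (step (f1846 H) (step (f1841 H) (step (f1836 H) rfl))) rfl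

theorem f1851 : g 6 • path g [3, 4, 6, 8] p = path g [4, 6, 3, 2] p :=
  H.back (i := 1) (by decide) (f1850 H)

theorem f1852 : g 0 • path g [9, 1, 3] p = path g [4, 6, 3, 2] p :=
  scan (u := [1, 3, 0, 1, 3, 0, 1, 3]) (w := []) (i := 0) (r17_0_1 H) (step (f1850 H) (step (f1703 H) (step (f1661 H) (step (f602 H) (step (f63 H) (step (f1188 H) (step (f88 H) (step (f1054 H) rfl)))))))) rfl

theorem f1853 : g 5 • path g [4, 6, 3, 2] p = path g [9, 1, 3] p :=
  H.back (i := 0) (by decide) (f1852 H)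

theorem f1856 : g 1 • path g [4, 6, 8] p = path g [4, 6, 8, 1] p :=
  rfl

theorem f1857 : g 6 • path g [4, 6, 8, 1] p = path g [4, 6, 8] p :=
  H.back (i := 1) (by decide) (f1856 H)

theorem f1858 : g 2 • path g [4, 6, 8, 1] p = path g [4, 1, 8, 6] p :=
  scan (u := [1]) (w := [1, 2]) (i := 2) (r1_0_1 H) (step (f1856 H) rfl) (step (H.back (i := 6) (by decide) (f1822 H)) (step (H.back (i := 7) (by decide) (f593 H)) rfl))

theorem f1860 : g 6 • path g [4, 6, 8] p = path g [4, 6, 8, 6] p :=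
  rfl

theorem f1861 : g 1 • path g [4, 6, 8, 6] p = path g [4, 6, 8] p :=
  H.back (i := 6) (by decide) (f1860 H)

theorem f1862 : g 6 • path g [4, 6, 8, 6] p = path g [4, 6, 8, 1] p :=
  scan (u := [6]) (w := [6]) (i := 6) (r0_1_0 H) (step (f1860 H) rfl) (step (H.back (i := 1) (by decide) (f1856 H)) rfl)

theorem f1863 : g 1 • path g [4, 6, 8, 1] p = path g [4, 6, 8, 6] p :=
  H.back (i := 6) (by decide) (f1862 H)

theorem f1866 : g 5 • path g [4, 6, 8, 6] p = path g [3, 9, 1, 3] p :=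
  scan (u := [6]) (w := [8, 6, 5, 8, 6, 5, 8]) (i := 5) (r17_1_1 H) (step (f1860 H) rfl) (step (H.back (i := 3) (by decide) (f1740 H)) (step (H.back (i := 1) (by decide) (f236 H)) (step (H.back (i := 0) (by decide) (f1634 H)) (step (H.back (i := 3) (by decide) (f35 H)) (step (H.back (i := 1) (by decide) (f57 H)) (step (H.back (i := 0) (by decide) (f472 H)) (step (H.back (i := 3) (by decide) (f586 H)) rfl)))))))

theorem f1867 : g 0 • path g [3, 9, 1, 3] p = path g [4, 6, 8, 6] p :=
  H.back (i := 5) (by decide) (f1866 H)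

theorem f1868 : g 7 • path g [3, 4, 6, 3] p = path g [4, 6, 8, 6] p :=
  scan (u := [5, 8, 1, 0, 2, 0, 1, 3]) (w := []) (i := 7) (r8_0_1 H) (step (f1866 H) (step (f1741 H) (step (f245 H) (step (f1663 H) (step (f1680 H) (step (f1667 H) (step (f183 H) (step (f1698 H) rfl)))))))) rfl

theorem f1870 : g 3 • path g [4, 8, 1] p = path g [4, 8, 1, 3] p :=
  rfl

theorem f1872 : g 3 • path g [4, 8, 1, 3] p = path g [4, 6, 3, 6] p :=
  scan (u := [3]) (w := [3]) (i := 3) (r9_0_0 H) (step (f1870 H) rfl) (step (H.back (i := 8) (by decide) (f1845 H)) rfl)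

theorem f1874 : g 5 • path g [3, 9, 6, 3] p = path g [4, 8, 1, 3] p :=
  scan (u := [3, 1, 0, 2, 0, 1, 8]) (w := []) (i := 5) (r7_1_2 H) (step (f1872 H) (step (f1841 H) (step (f1818 H) (step (f1816 H) (step (f1799 H) (step (f1803 H) (step (f1780 H) rfl))))))) rfl

theorem f1875 : g 0 • path g [4, 8, 1, 3] p = path g [3, 9, 6, 3] p :=
  H.back (i := 5) (by decide) (f1874 H)

theorem f1876 : g 5 • path g [4, 8, 1, 3] p = path g [4, 1, 8, 1] p :=
  scan (u := [5]) (w := [6, 5, 7, 5, 6, 5, 8, 2, 3]) (i := 5) (r6_0_0 H) (step (f1874 H) rfl) (step (H.back (i := 1) (by decide) (f1820 H)) (step (H.back (i := 0) (by decide) (f589 H)) (step (H.back (i := 2) (by decide) (f594 H)) (step (H.back (i := 0) (by decide) (f589 H)) (step (H.back (i := 1) (by decide) (f1861 H)) (step (H.back (i := 0) (by decide) (f1867 H)) (step (H.back (i := 3) (by decide) (f1740 H)) (step (H.back (i := 7) (by decide) (f1658 H)) (step (H.back (i := 8) (by decide) (f1775 H)) rfl)))))))))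

theorem f1877 : g 0 • path g [4, 1, 8, 1] p = path g [4, 8, 1, 3] p :=
  H.back (i := 5) (by decide) (f1876 H)

theorem f1878 : g 4 • path g [4, 8, 1] p = path g [4, 8, 1, 4] p :=
  rfl

theorem f1879 : g 9 • path g [4, 8, 1, 4] p = path g [4, 8, 1] p :=
  H.back (i := 4) (by decide) (f1878 H)

theorem f1880 : g 9 • path g [4, 8, 1] p = path g [4, 8, 1, 9] p :=
  rfl

theorem f1884 : g 3 • path g [4, 8, 6] p = path g [4, 8, 6, 3] p :=
  rfl

theorem f1885 : g 8 • path g [4, 8, 6, 3] p = path g [4, 8, 6] p :=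
  H.back (i := 3) (by decide) (f1884 H)

theorem f1888 : g 8 • path g [4, 8, 6] p = path g [4, 8, 6, 8] p :=
  rfl

theorem f1889 : g 3 • path g [4, 8, 6, 8] p = path g [4, 8, 6] p :=
  H.back (i := 8) (by decide) (f1888 H)

theorem f1890 : g 8 • path g [4, 8, 6, 8] p = path g [4, 8, 6, 3] p :=
  scan (u := [8]) (w := [8]) (i := 8) (r9_1_0 H) (step (f1888 H) rfl) (step (H.back (i := 3) (by decide) (f1884 H)) rfl)

theorem f1891 : g 3 • path g [4, 8, 6, 3] p = path g [4, 8, 6, 8] p :=
  H.back (i := 8) (by decide) (f1890 H)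

theorem f1892 : g 0 • path g [4, 8, 6, 8] p = path g [4, 6, 3, 6] p :=
  scan (u := [8]) (w := [3, 6, 5, 7, 5, 6]) (i := 0) (r7_0_5 H) (step (f1888 H) rfl) (step (H.back (i := 8) (by decide) (f1845 H)) (step (H.back (i := 1) (by decide) (f599 H)) (step (H.back (i := 0) (by decide) (f1640 H)) (step (H.back (i := 2) (by decide) (f84 H)) (step (H.back (i := 0) (by decide) (f1161 H)) (step (H.back (i := 1) (by decide) (f602 H)) rfl))))))

theorem f1893 : g 5 • path g [4, 6, 3, 6] p = path g [4, 8, 6, 8] p :=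
  H.back (i := 0) (by decide) (f1892 H)

theorem f1894 : g 2 • path g [4, 8, 6, 8] p = path g [3, 4, 1, 8] p :=
  scan (u := [8]) (w := [3, 5, 5, 6, 5, 7, 5, 6, 5]) (i := 2) (r6_0_8 H) (step (f1888 H) rfl) (step (H.back (i := 8) (by decide) (f1690 H)) (step (H.back (i := 0) (by decide) (f1667 H)) (step (H.back (i := 0) (by decide) (f1638 H)) (step (H.back (i := 1) (by decide) (f174 H)) (step (H.back (i := 0) (by decide) (f1653 H)) (step (H.back (i := 2) (by decide) (f1045 H)) (step (H.back (i := 0) (by decide) (f1634 H)) (step (H.back (i := 1) (by decide) (f181 H)) (step (H.back (i := 0) (by decide) (f1670 H)) rfl)))))))))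

theorem f1896 : g 7 • path g [4, 8, 6, 8] p = path g [3, 4, 1, 8] p :=
  scan (u := [8]) (w := [3, 0, 1, 0, 2, 0, 1, 0, 0]) (i := 7) (r6_1_0 H) (step (f1888 H) rfl) (step (H.back (i := 8) (by decide) (f1690 H)) (step (H.back (i := 5) (by decide) (f1636 H)) (step (H.back (i := 6) (by decide) (f1007 H)) (step (H.back (i := 5) (by decide) (f1660 H)) (step (H.back (i := 7) (by decide) (f1675 H)) (step (H.back (i := 5) (by decide) (f1642 H)) (step (H.back (i := 6) (by decide) (f603 H)) (step (H.back (i := 5) (by decide) (f1669 H)) (step (H.back (i := 5) (by decide) (f1662 H)) rfl)))))))))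

theorem f1897 : g 2 • path g [3, 4, 1, 8] p = path g [4, 8, 6, 8] p :=
  H.back (i := 7) (by decide) (f1896 H)

theorem f1898 : path g [4, 6, 3, 2] p = path g [4, 6, 3] p :=
  close (u := [7, 5, 6]) (w := [8, 0, 3, 6, 5]) (r7_0_2 H) (step (f1896 H) (step (f1707 H) (step (f1851 H) rfl))) (step (H.back (i := 3) (by decide) (f581 H)) (step (H.back (i := 5) (by decide) (f473 H)) (step (H.back (i := 8) (by decide) (f582 H)) (step (H.back (i := 1) (by decide) (f1841 H)) (step (H.back (i := 0) (by decide) (f1892 H)) rfl)))))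

theorem f1902 : g 1 • path g [4, 6, 3] p = path g [3, 4, 6, 8] p :=
  (congrArg (g 1 • ·) (f1898 H).symm).trans (f1850 H)

theorem f1903 : path g [4, 6, 3, 1] p = path g [3, 4, 6, 8] p :=
  (f1834 H).symm.trans (f1902 H)

theorem f1904 : g 5 • path g [4, 6, 3] p = path g [9, 1, 3] p :=
  (congrArg (g 5 • ·) (f1898 H).symm).trans (f1853 H)

theorem f1905 : path g [4, 6, 3, 5] p = path g [9, 1, 3] p :=
  (f1838 H).symm.trans (f1904 H)

theorem f1913 : g 6 • path g [3, 4, 6, 8] p = path g [4, 6, 3] p :=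
  (f1851 H).trans (f1898 H)

theorem f1915 : g 1 • path g [3, 4, 6, 8] p = path g [4, 6, 3, 6] p :=
  (congrArg (g 1 • ·) (f1903 H).symm).trans (f1843 H)

theorem f1917 : g 6 • path g [4, 6, 3, 6] p = path g [3, 4, 6, 8] p :=
  H.back (i := 1) (by decide) (f1915 H)

theorem f1918 : g 5 • path g [4, 6, 3] p = path g [9, 1, 3] p :=
  (f1838 H).trans (f1905 H)

theorem f1919 : g 5 • path g [9, 6, 3] p = path g [4, 1, 3, 7] p :=
  scan (u := [7, 5, 6, 5, 8, 2, 3]) (w := [5, 6, 5]) (i := 5) (r6_0_4 H) (step (f1896 H) (step (f1707 H) (step (f1913 H) (step (f1918 H) (step (f1055 H) (step (f99 H) (step (f1064 H) rfl))))))) (step (H.back (i := 0) (by decide) (f1818 H)) (step (H.back (i := 1) (by decide) (f1841 H)) (step (H.back (i := 0) (by decide) (f1892 H)) rfl)))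

theorem f1924 : path g [4, 6, 8, 6] p = path g [4, 8, 6, 3] p :=
  close (u := [0, 1, 0, 2, 0, 1, 0, 0, 8, 7]) (w := [3]) (r6_1_3 H) (step (f1892 H) (step (f1841 H) (step (f1818 H) (step (f1816 H) (step (f1799 H) (step (f1803 H) (step (f1782 H) (step (f1748 H) (step (f1704 H) (step (f1868 H) rfl)))))))))) (step (H.back (i := 8) (by decide) (f1890 H)) rfl)

theorem f1925 : path g [4, 8, 6, 3] p = path g [4, 6, 8, 6] p :=
  (f1924 H).symm

theorem f1926 : g 8 • path g [4, 6, 8, 6] p = path g [4, 8, 6] p :=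
  (congrArg (g 8 • ·) (f1925 H).symm).trans (f1885 H)

theorem f1928 : g 3 • path g [4, 8, 6] p = path g [4, 6, 8, 6] p :=
  H.back (i := 8) (by decide) (f1926 H)

theorem f1929 : g 3 • path g [4, 6, 8, 6] p = path g [4, 8, 6, 8] p :=
  (congrArg (g 3 • ·) (f1925 H).symm).trans (f1891 H)

theorem f1931 : g 8 • path g [4, 8, 6, 8] p = path g [4, 6, 8, 6] p :=
  H.back (i := 3) (by decide) (f1929 H)

theorem f1932 : path g [4, 1, 8, 1] p = path g [3, 4, 6, 3] p :=
  close (u := [5, 8, 1, 0, 2, 0, 1]) (w := [3, 7]) (r8_0_1 H) (step (f1893 H) (step (f1931 H) (step (f1861 H) (step (f589 H) (step (f594 H) (step (f589 H) (step (f1820 H) rfl))))))) (step (H.back (i := 8) (by decide) (f1704 H)) (step (H.back (i := 2) (by decide) (f1849 H)) rfl))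

theorem f1933 : g 6 • path g [3, 4, 6, 3] p = path g [4, 1, 8] p :=
  (congrArg (g 6 • ·) (f1932 H).symm).trans (f1821 H)

theorem f1935 : g 1 • path g [4, 1, 8] p = path g [3, 4, 6, 3] p :=
  H.back (i := 6) (by decide) (f1933 H)

theorem f1936 : g 1 • path g [3, 4, 6, 3] p = path g [4, 1, 8, 6] p :=
  (congrArg (g 1 • ·) (f1932 H).symm).trans (f1825 H)

theorem f1938 : g 6 • path g [4, 1, 8, 6] p = path g [3, 4, 6, 3] p :=
  H.back (i := 1) (by decide) (f1936 H)

theorem f1942 : g 0 • path g [3, 4, 6, 3] p = path g [4, 8, 1, 3] p :=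
  (congrArg (g 0 • ·) (f1932 H).symm).trans (f1877 H)

theorem f1944 : g 5 • path g [4, 8, 1, 3] p = path g [3, 4, 6, 3] p :=
  H.back (i := 0) (by decide) (f1942 H)

theorem f1945 : path g [4, 6, 8, 1] p = path g [3, 4, 1, 8] p :=
  close (u := [5, 8, 6]) (w := [5, 8, 6, 5, 8, 6]) (r17_1_2 H) (step (f1893 H) (step (f1931 H) (step (f1862 H) rfl))) (step (H.back (i := 0) (by decide) (f1706 H)) (step (H.back (i := 3) (by decide) (f1705 H)) (step (H.back (i := 1) (by decide) (f1935 H)) (step (H.back (i := 0) (by decide) (f589 H)) (step (H.back (i := 3) (by decide) (f588 H)) (step (H.back (i := 1) (by decide) (f1841 H)) rfl))))))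

theorem f1946 : g 6 • path g [3, 4, 1, 8] p = path g [4, 6, 8] p :=
  (congrArg (g 6 • ·) (f1945 H).symm).trans (f1857 H)

theorem f1948 : g 1 • path g [4, 6, 8] p = path g [3, 4, 1, 8] p :=
  H.back (i := 6) (by decide) (f1946 H)

theorem f1949 : g 2 • path g [3, 4, 1, 8] p = path g [4, 1, 8, 6] p :=
  (congrArg (g 2 • ·) (f1945 H).symm).trans (f1858 H)

theorem f1950 : path g [4, 8, 6, 8] p = path g [4, 1, 8, 6] p :=
  (f1897 H).symm.trans (f1949 H)

theorem f1951 : g 1 • path g [3, 4, 1, 8] p = path g [4, 6, 8, 6] p :=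
  (congrArg (g 1 • ·) (f1945 H).symm).trans (f1863 H)

theorem f1953 : g 6 • path g [4, 6, 8, 6] p = path g [3, 4, 1, 8] p :=
  H.back (i := 1) (by decide) (f1951 H)

theorem f1954 : g 3 • path g [4, 1, 8, 6] p = path g [4, 8, 6] p :=
  (congrArg (g 3 • ·) (f1950 H).symm).trans (f1889 H)

theorem f1956 : g 8 • path g [4, 8, 6] p = path g [4, 1, 8, 6] p :=
  H.back (i := 3) (by decide) (f1954 H)

theorem f1957 : g 8 • path g [4, 1, 8, 6] p = path g [4, 6, 8, 6] p :=
  (congrArg (g 8 • ·) (f1950 H).symm).trans (f1931 H)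

theorem f1959 : g 3 • path g [4, 6, 8, 6] p = path g [4, 1, 8, 6] p :=
  H.back (i := 8) (by decide) (f1957 H)

theorem f1960 : g 0 • path g [4, 1, 8, 6] p = path g [4, 6, 3, 6] p :=
  (congrArg (g 0 • ·) (f1950 H).symm).trans (f1892 H)

theorem f1963 : g 2 • path g [4, 1, 8, 6] p = path g [3, 4, 1, 8] p :=
  (congrArg (g 2 • ·) (f1950 H).symm).trans (f1894 H)

theorem f1969 : g 1 • path g [4, 1, 3, 7] p = path g [4, 8, 1, 3] p :=
  scan (u := [0, 1, 0]) (w := [5, 1]) (i := 1) (r3_0_3 H) (step (f1960 H) (step (f1841 H) (step (f1818 H) rfl))) (step (H.back (i := 0) (by decide) (f1942 H)) (step (H.back (i := 6) (by decide) (f1938 H)) rfl))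

theorem f1970 : g 6 • path g [4, 8, 1, 3] p = path g [4, 1, 3, 7] p :=
  H.back (i := 1) (by decide) (f1969 H)

theorem f1971 : g 6 • path g [3, 9, 1, 8] p = path g [9, 6, 8] p :=
  scan (u := [0, 6, 5]) (w := [5, 6]) (i := 6) (r3_1_4 H) (step (f1960 H) (step (f1917 H) (step (f1749 H) rfl))) (step (H.back (i := 0) (by decide) (f1354 H)) (step (H.back (i := 1) (by decide) (f1823 H)) rfl))

theorem f1974 : g 5 • path g [4, 1, 3, 6] p = path g [4, 6, 8, 6] p :=
  scan (u := [6, 5, 8, 6]) (w := [8, 6, 5, 8]) (i := 5) (r17_1_1 H) (step (f1971 H) (step (f1353 H) (step (f288 H) (step (f1811 H) rfl)))) (step (H.back (i := 3) (by decide) (f1928 H)) (step (H.back (i := 1) (by decide) (f604 H)) (step (H.back (i := 0) (by decide) (f1643 H)) (step (H.back (i := 3) (by decide) (f1745 H)) rfl))))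

theorem f1976 : path g [4, 8, 1, 3] p = path g [4, 1, 3, 1] p :=
  close (u := [5, 1, 0, 1, 0]) (w := [1]) (r3_0_1 H) (step (f1974 H) (step (f1861 H) (step (f589 H) (step (f1935 H) (step (f1942 H) rfl))))) (step (H.back (i := 6) (by decide) (f1813 H)) rfl)

theorem f1980 : g 3 • path g [4, 1, 3, 1] p = path g [4, 6, 3, 6] p :=
  (congrArg (g 3 • ·) (f1976 H).symm).trans (f1872 H)

theorem f1982 : g 8 • path g [4, 6, 3, 6] p = path g [4, 1, 3, 1] p :=
  H.back (i := 3) (by decide) (f1980 H)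

theorem f1983 : g 0 • path g [4, 1, 3, 1] p = path g [3, 9, 6, 3] p :=
  (congrArg (g 0 • ·) (f1976 H).symm).trans (f1875 H)

theorem f1986 : g 5 • path g [4, 1, 3, 1] p = path g [3, 4, 6, 3] p :=
  (congrArg (g 5 • ·) (f1976 H).symm).trans (f1944 H)

theorem f1989 : g 6 • path g [4, 1, 3, 1] p = path g [4, 1, 3, 7] p :=
  (congrArg (g 6 • ·) (f1976 H).symm).trans (f1970 H)

theorem f1990 : path g [4, 1, 3] p = path g [4, 1, 3, 7] p :=
  (f1806 H).symm.trans (f1989 H)

theorem f1991 : path g [4, 1, 3, 7] p = path g [4, 1, 3] p :=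
  (f1990 H).symm

theorem f2005 : g 5 • path g [9, 6, 3] p = path g [4, 1, 3] p :=
  (f1919 H).trans (f1991 H)

theorem f2022 : path g [3, 4, 1, 3] p = path g [4, 1, 3, 6] p :=
  close (u := [5, 3, 1, 0, 2, 0, 1, 8]) (w := []) (r7_1_1 H) (step (f1974 H) (step (f1959 H) (step (f1823 H) (step (f1354 H) (step (f1356 H) (step (f1362 H) (step (f1948 H) (step (f1692 H) rfl)))))))) rfl

theorem f2023 : path g [4, 1, 3, 6] p = path g [3, 4, 1, 3] p :=
  (f2022 H).symm

theorem f2030 : g 5 • path g [3, 4, 1, 3] p = path g [4, 6, 8, 6] p :=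
  (congrArg (g 5 • ·) (f2023 H).symm).trans (f1974 H)

theorem f2065 : g 7 • path g [8, 1, 4] p = path g [8, 1, 4, 7] p :=
  rfl

theorem f2068 : g 0 • path g [8, 1, 9] p = path g [8, 1, 9, 0] p :=
  rfl

theorem f2070 : g 2 • path g [8, 1, 9, 0] p = path g [3, 1, 9, 5] p :=
  scan (u := [0]) (w := [0, 4, 5, 6, 5, 7, 5, 6, 7, 9]) (i := 2) (r11_0_8 H) (step (f2068 H) rfl) (step (H.back (i := 5) (by decide) (f1626 H)) (step (H.back (i := 9) (by decide) (f142 H)) (step (H.back (i := 0) (by decide) (f1514 H)) (step (H.back (i := 1) (by decide) (f68 H)) (step (H.back (i := 0) (by decide) (f14 H)) (step (H.back (i := 2) (by decide) (f16 H)) (step (H.back (i := 0) (by decide) (f14 H)) (step (H.back (i := 1) (by decide) (f71 H)) (step (H.back (i := 2) (by decide) (f75 H)) (step (H.back (i := 4) (by decide) (f622 H)) rfl))))))))))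

theorem f2072 : g 1 • path g [8, 1, 9] p = path g [8, 1, 9, 1] p :=
  rfl

theorem f2073 : g 6 • path g [8, 1, 9, 1] p = path g [8, 1, 9] p :=
  H.back (i := 1) (by decide) (f2072 H)

theorem f2074 : g 5 • path g [8, 1, 9] p = path g [8, 1, 9, 5] p :=
  rfl

theorem f2076 : g 7 • path g [8, 1, 9, 5] p = path g [3, 1, 9, 0] p :=
  scan (u := [5]) (w := [5, 5, 7, 5]) (i := 7) (r2_1_1 H) (step (f2074 H) rfl) (step (H.back (i := 0) (by decide) (f1621 H)) (step (H.back (i := 0) (by decide) (f1627 H)) (step (H.back (i := 2) (by decide) (f2070 H)) (step (H.back (i := 0) (by decide) (f2068 H)) rfl))))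

theorem f2078 : g 5 • path g [3, 9, 6, 4] p = path g [8, 1, 9, 1] p :=
  scan (u := [5, 7, 5, 6, 7, 9, 0, 2, 0, 4]) (w := [6]) (i := 5) (r11_0_2 H) (step (f2074 H) (step (f2076 H) (step (f1622 H) (step (f1628 H) (step (f1687 H) (step (f1685 H) (step (f1638 H) (step (f1010 H) (step (f1659 H) (step (f1776 H) rfl)))))))))) (step (H.back (i := 1) (by decide) (f2072 H)) rfl)

theorem f2079 : g 0 • path g [8, 1, 9, 1] p = path g [3, 9, 6, 4] p :=
  H.back (i := 5) (by decide) (f2078 H)

theorem f2080 : g 6 • path g [8, 1, 9] p = path g [8, 1, 9, 6] p :=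
  rfl

theorem f2081 : g 1 • path g [8, 1, 9, 6] p = path g [8, 1, 9] p :=
  H.back (i := 6) (by decide) (f2080 H)

theorem f2082 : g 6 • path g [8, 1, 9, 6] p = path g [8, 1, 9, 1] p :=
  scan (u := [6]) (w := [6]) (i := 6) (r0_1_0 H) (step (f2080 H) rfl) (step (H.back (i := 1) (by decide) (f2072 H)) rfl)

theorem f2083 : g 1 • path g [8, 1, 9, 1] p = path g [8, 1, 9, 6] p :=
  H.back (i := 6) (by decide) (f2082 H)

theorem f2084 : g 7 • path g [8, 1, 9, 6] p = path g [4, 8, 1, 4] p :=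
  scan (u := [6]) (w := [9, 6, 7, 9, 6, 7, 9]) (i := 7) (r18_1_1 H) (step (f2080 H) rfl) (step (H.back (i := 4) (by decide) (f1878 H)) (step (H.back (i := 1) (by decide) (f599 H)) (step (H.back (i := 2) (by decide) (f580 H)) (step (H.back (i := 4) (by decide) (f67 H)) (step (H.back (i := 1) (by decide) (f71 H)) (step (H.back (i := 2) (by decide) (f75 H)) (step (H.back (i := 4) (by decide) (f622 H)) rfl)))))))

theorem f2085 : g 2 • path g [4, 8, 1, 4] p = path g [8, 1, 9, 6] p :=
  H.back (i := 7) (by decide) (f2084 H)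

theorem f2086 : g 5 • path g [8, 1, 9, 6] p = path g [3, 6, 9, 6] p :=
  scan (u := [6]) (w := [6, 6, 4, 1, 0, 2, 1, 0, 9]) (i := 5) (r12_1_1 H) (step (f2080 H) rfl) (step (H.back (i := 1) (by decide) (f1734 H)) (step (H.back (i := 1) (by decide) (f1688 H)) (step (H.back (i := 9) (by decide) (f230 H)) (step (H.back (i := 6) (by decide) (f38 H)) (step (H.back (i := 5) (by decide) (f829 H)) (step (H.back (i := 7) (by decide) (f772 H)) (step (H.back (i := 6) (by decide) (f29 H)) (step (H.back (i := 5) (by decide) (f1509 H)) (step (H.back (i := 4) (by decide) (f622 H)) rfl)))))))))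

theorem f2087 : g 0 • path g [3, 6, 9, 6] p = path g [8, 1, 9, 6] p :=
  H.back (i := 5) (by decide) (f2086 H)

theorem f2088 : g 1 • path g [8, 6, 9] p = path g [4, 8, 1, 4] p :=
  scan (u := [1, 2]) (w := [2]) (i := 1) (r1_0_1 H) (step (f2081 H) (step (f988 H) rfl)) (step (H.back (i := 7) (by decide) (f2084 H)) rfl)

theorem f2089 : g 6 • path g [4, 8, 1, 4] p = path g [8, 6, 9] p :=
  H.back (i := 1) (by decide) (f2088 H)

theorem f2097 : g 3 • path g [8, 6, 4] p = path g [8, 6, 4, 3] p :=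
  rfl

theorem f2098 : g 8 • path g [8, 6, 4, 3] p = path g [8, 6, 4] p :=
  H.back (i := 3) (by decide) (f2097 H)

theorem f2099 : path g [8, 6, 4, 3] p = path g [8, 6, 4] p :=
  close (u := [3]) (w := [9, 8, 4]) (r14_0_3 H) (step (f2097 H) rfl) (step (H.back (i := 4) (by decide) (f979 H)) (step (H.back (i := 3) (by decide) (f1557 H)) (step (H.back (i := 9) (by decide) (f980 H)) rfl)))

theorem f2100 : g 8 • path g [8, 6, 4] p = path g [8, 6, 4] p :=
  (congrArg (g 8 • ·) (f2099 H).symm).trans (f2098 H)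

theorem f2102 : g 3 • path g [8, 6, 4] p = path g [8, 6, 4] p :=
  H.back (i := 8) (by decide) (f2100 H)

theorem f2103 : g 8 • path g [8, 6, 9] p = path g [8, 6, 9] p :=
  scan (u := [3, 4]) (w := [9]) (i := 8) (r14_1_2 H) (step (f2102 H) (step (f984 H) rfl)) (step (H.back (i := 4) (by decide) (f984 H)) rfl)

theorem f2104 : g 3 • path g [8, 6, 9] p = path g [8, 6, 9] p :=
  H.back (i := 8) (by decide) (f2103 H)

theorem f2113 : g 0 • path g [8, 6, 9] p = path g [8, 6, 9, 0] p :=
  rfl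

theorem f2114 : g 5 • path g [8, 6, 9, 0] p = path g [8, 6, 9] p :=
  H.back (i := 0) (by decide) (f2113 H)

theorem f2115 : g 2 • path g [8, 6, 9, 0] p = path g [3, 6, 9, 5] p :=
  scan (u := [0]) (w := [0, 2, 0, 2, 0, 2]) (i := 2) (r4_0_1 H) (step (f2113 H) rfl) (step (H.back (i := 5) (by decide) (f1729 H)) (step (H.back (i := 7) (by decide) (f958 H)) (step (H.back (i := 5) (by decide) (f1622 H)) (step (H.back (i := 7) (by decide) (f2076 H)) (step (H.back (i := 5) (by decide) (f2074 H)) (step (H.back (i := 7) (by decide) (f987 H)) rfl))))))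

theorem f2117 : g 5 • path g [8, 6, 9] p = path g [8, 6, 9, 5] p :=
  rfl

theorem f2119 : g 7 • path g [8, 6, 9, 5] p = path g [3, 6, 9, 0] p :=
  scan (u := [5]) (w := [5, 5, 7, 5]) (i := 7) (r2_1_1 H) (step (f2117 H) rfl) (step (H.back (i := 0) (by decide) (f1727 H)) (step (H.back (i := 0) (by decide) (f1730 H)) (step (H.back (i := 2) (by decide) (f2115 H)) (step (H.back (i := 0) (by decide) (f2113 H)) rfl))))

theorem f2123 : g 6 • path g [8, 6, 9] p = path g [8, 6, 9, 6] p :=
  rfl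

theorem f2124 : g 1 • path g [8, 6, 9, 6] p = path g [8, 6, 9] p :=
  H.back (i := 6) (by decide) (f2123 H)

theorem f2125 : g 6 • path g [8, 6, 9, 6] p = path g [4, 8, 1, 4] p :=
  scan (u := [6]) (w := [6]) (i := 6) (r0_1_0 H) (step (f2123 H) rfl) (step (H.back (i := 1) (by decide) (f2088 H)) rfl)

theorem f2126 : g 1 • path g [4, 8, 1, 4] p = path g [8, 6, 9, 6] p :=
  H.back (i := 6) (by decide) (f2125 H)

theorem f2129 : g 5 • path g [8, 6, 9, 6] p = path g [8, 1, 9, 6] p :=
  scan (u := [6]) (w := [6, 6, 4, 1, 0, 2, 1, 0, 9]) (i := 5) (r12_1_1 H) (step (f2123 H) rfl) (step (H.back (i := 1) (by decide) (f2083 H)) (step (H.back (i := 1) (by decide) (f2072 H)) (step (H.back (i := 9) (by decide) (f621 H)) (step (H.back (i := 6) (by decide) (f72 H)) (step (H.back (i := 5) (by decide) (f1681 H)) (step (H.back (i := 7) (by decide) (f922 H)) (step (H.back (i := 6) (by decide) (f40 H)) (step (H.back (i := 5) (by decide) (f1550 H)) (step (H.back (i := 4) (by decide) (f982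 H)) rfl)))))))))

theorem f2131 : g 1 • path g [8, 6, 9, 0] p = path g [3, 9, 6, 4] p :=
  scan (u := [1, 0]) (w := [5, 1, 0]) (i := 1) (r3_0_4 H) (step (f2124 H) (step (f2113 H) rfl)) (step (H.back (i := 0) (by decide) (f2079 H)) (step (H.back (i := 6) (by decide) (f2082 H)) (step (H.back (i := 5) (by decide) (f2129 H)) rfl)))

theorem f2133 : g 5 • path g [3, 1, 9, 6] p = path g [8, 6, 9, 6] p :=
  scan (u := [6, 6, 4, 1, 0, 2, 1, 0, 9, 6]) (w := []) (i := 5) (r12_1_3 H) (step (f2125 H) (step (f2089 H) (step (f982 H) (step (f71 H) (step (f14 H) (step (f16 H) (step (f68 H) (step (f1514 H) (step (f142 H) (step (f1628 H) rfl)))))))))) rfl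

theorem f2134 : g 0 • path g [8, 6, 9, 6] p = path g [3, 1, 9, 6] p :=
  H.back (i := 5) (by decide) (f2133 H)

theorem f2135 : g 0 • path g [3, 9, 6, 4] p = path g [3, 1, 9, 1] p :=
  scan (u := [5, 1, 0, 1]) (w := [1]) (i := 0) (r3_0_1 H) (step (f2133 H) (step (f2124 H) (step (f2113 H) (step (f2131 H) rfl)))) (step (H.back (i := 6) (by decide) (f1630 H)) rfl)

theorem f2136 : g 5 • path g [3, 1, 9, 1] p = path g [3, 9, 6, 4] p :=
  H.back (i := 0) (by decide) (f2135 H)

theorem f2137 : path g [3, 9, 1, 4] p = path g [3, 1, 9, 6] p :=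
  close (u := [5, 5, 5, 7, 5, 9, 2, 4]) (w := []) (r10_0_0 H) (step (f2133 H) (step (f2129 H) (step (f2086 H) (step (f1735 H) (step (f2136 H) (step (f1777 H) (step (f1676 H) (step (f1742 H) rfl)))))))) rfl

theorem f2138 : g 9 • path g [3, 1, 9, 6] p = path g [3, 9, 1] p :=
  (congrArg (g 9 • ·) (f2137 H).symm).trans (f1743 H)

theorem f2141 : g 4 • path g [3, 1, 9, 6] p = path g [3, 9, 1, 9] p :=
  (congrArg (g 4 • ·) (f2137 H).symm).trans (f1753 H)

theorem f2144 : g 6 • path g [3, 1, 9, 6] p = path g [3, 9, 6, 9] p :=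
  (congrArg (g 6 • ·) (f2137 H).symm).trans (f1794 H)

theorem f2145 : path g [3, 1, 9, 1] p = path g [3, 9, 6, 9] p :=
  (f1630 H).symm.trans (f2144 H)

theorem f2146 : path g [3, 9, 6, 9] p = path g [3, 1, 9, 1] p :=
  (f2145 H).symm

theorem f2147 : g 4 • path g [3, 1, 9, 1] p = path g [3, 9, 6] p :=
  (congrArg (g 4 • ·) (f2146 H).symm).trans (f1787 H)

theorem f2149 : g 9 • path g [3, 9, 6] p = path g [3, 1, 9, 1] p :=
  H.back (i := 4) (by decide) (f2147 H)

theorem f2150 : g 9 • path g [3, 1, 9, 1] p = path g [3, 9, 6, 4] p :=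
  (congrArg (g 9 • ·) (f2146 H).symm).trans (f1788 H)

theorem f2152 : g 4 • path g [3, 9, 6, 4] p = path g [3, 1, 9, 1] p :=
  H.back (i := 9) (by decide) (f2150 H)

theorem f2153 : g 2 • path g [3, 1, 9, 1] p = path g [3, 4, 1, 9] p :=
  (congrArg (g 2 • ·) (f2146 H).symm).trans (f1790 H)

theorem f2154 : path g [3, 6, 9, 6] p = path g [3, 4, 1, 9] p :=
  (f1736 H).symm.trans (f2153 H)

theorem f2155 : g 7 • path g [3, 1, 9, 1] p = path g [3, 4, 1, 9] p :=
  (congrArg (g 7 • ·) (f2146 H).symm).trans (f1792 H)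

theorem f2161 : g 1 • path g [3, 4, 1, 9] p = path g [3, 6, 9] p :=
  (congrArg (g 1 • ·) (f2154 H).symm).trans (f1732 H)

theorem f2163 : g 6 • path g [3, 6, 9] p = path g [3, 4, 1, 9] p :=
  H.back (i := 1) (by decide) (f2161 H)

theorem f2164 : g 6 • path g [3, 4, 1, 9] p = path g [3, 4, 1, 4] p :=
  (congrArg (g 6 • ·) (f2154 H).symm).trans (f1733 H)

theorem f2166 : g 1 • path g [3, 4, 1, 4] p = path g [3, 4, 1, 9] p :=
  H.back (i := 6) (by decide) (f2164 H)

theorem f2170 : g 5 • path g [3, 4, 1, 9] p = path g [3, 1, 9, 6] p :=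
  (congrArg (g 5 • ·) (f2154 H).symm).trans (f1737 H)

theorem f2172 : g 0 • path g [3, 1, 9, 6] p = path g [3, 4, 1, 9] p :=
  H.back (i := 5) (by decide) (f2170 H)

theorem f2173 : g 0 • path g [3, 4, 1, 9] p = path g [8, 1, 9, 6] p :=
  (congrArg (g 0 • ·) (f2154 H).symm).trans (f2087 H)

theorem f2175 : g 5 • path g [8, 1, 9, 6] p = path g [3, 4, 1, 9] p :=
  H.back (i := 0) (by decide) (f2173 H)

theorem f2176 : g 7 • path g [4, 8, 1, 4] p = path g [8, 1, 9, 6] p :=
  scan (u := [5, 6]) (w := [5, 6, 9, 1, 1, 0, 1, 4]) (i := 7) (r12_0_0 H) (step (f2133 H) (step (f2125 H) rfl)) (step (H.back (i := 0) (by decide) (f2173 H)) (step (H.back (i := 1) (by decide) (f2166 H)) (step (H.back (i := 4) (by decide) (f1684 H)) (step (H.back (i := 6) (by decide) (f182 H)) (step (H.back (i := 6) (by decide) (f180 H)) (step (H.back (i := 5) (by decide) (f1336 H)) (step (H.back (i := 6) (by decide) (f237 H)) (step (H.back (i := 9) (by decide) (f2138 H)) rfl))))))))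

theorem f2177 : g 2 • path g [8, 1, 9, 6] p = path g [4, 8, 1, 4] p :=
  H.back (i := 7) (by decide) (f2176 H)

theorem f2178 : g 7 • path g [3, 4, 1, 4] p = path g [3, 1, 9, 6] p :=
  scan (u := [5, 6, 7, 5, 6]) (w := [0, 2, 1, 0, 2, 1]) (i := 7) (r5_0_0 H) (step (f2133 H) (step (f2125 H) (step (f2176 H) (step (f2175 H) (step (f2164 H) rfl))))) (step (H.back (i := 5) (by decide) (f2170 H)) (step (H.back (i := 7) (by decide) (f2155 H)) (step (H.back (i := 6) (by decide) (f1630 H)) (step (H.back (i := 5) (by decide) (f2170 H)) (step (H.back (i := 7) (by decide) (f2155 H)) (step (H.back (i := 6) (by decide) (f1630 H)) rfl))))))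

theorem f2179 : g 2 • path g [3, 1, 9, 6] p = path g [3, 4, 1, 4] p :=
  H.back (i := 7) (by decide) (f2178 H)

theorem f2180 : g 0 • path g [3, 9, 1, 9] p = path g [4, 8, 1, 4] p :=
  scan (u := [0, 0, 9, 7, 4]) (w := [2, 0]) (i := 0) (r10_1_6 H) (step (f2134 H) (step (f2172 H) (step (f1696 H) (step (f2178 H) (step (f2141 H) rfl))))) (step (H.back (i := 7) (by decide) (f2084 H)) (step (H.back (i := 5) (by decide) (f2129 H)) rfl))

theorem f2181 : g 5 • path g [4, 8, 1, 4] p = path g [3, 9, 1, 9] p :=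
  H.back (i := 0) (by decide) (f2180 H)

theorem f2182 : g 2 • path g [3, 1, 9, 1] p = path g [3, 4, 1, 9] p :=
  (f1736 H).trans (f2154 H)

theorem f2183 : g 9 • path g [8, 1, 9, 6] p = path g [8, 9, 1] p :=
  scan (u := [0, 2, 1, 0]) (w := [6, 5, 6, 6, 4, 1]) (i := 9) (r12_1_7 H) (step (f2134 H) (step (f2179 H) (step (f2166 H) (step (f2173 H) rfl)))) (step (H.back (i := 1) (by decide) (f991 H)) (step (H.back (i := 0) (by decide) (f1161 H)) (step (H.back (i := 1) (by decide) (f602 H)) (step (H.back (i := 1) (by decide) (f604 H)) (step (H.back (i := 9) (by decide) (f1879 H)) (step (H.back (i := 6) (by decide) (f2125 H)) rfl))))))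

theorem f2185 : path g [4, 8, 1, 9] p = path g [8, 6, 9, 6] p :=
  close (u := [9, 6, 7, 9, 6, 7, 9]) (w := [6, 7]) (r18_1_0 H) (step (f2183 H) (step (f992 H) (step (f85 H) (step (f78 H) (step (f601 H) (step (f605 H) (step (f1880 H) rfl))))))) (step (H.back (i := 1) (by decide) (f2126 H)) (step (H.back (i := 2) (by decide) (f2177 H)) rfl))

theorem f2186 : path g [8, 6, 9, 6] p = path g [4, 8, 1, 9] p :=
  (f2185 H).symm

theorem f2187 : g 1 • path g [4, 8, 1, 9] p = path g [8, 6, 9] p :=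
  (congrArg (g 1 • ·) (f2186 H).symm).trans (f2124 H)

theorem f2189 : g 6 • path g [8, 6, 9] p = path g [4, 8, 1, 9] p :=
  H.back (i := 1) (by decide) (f2187 H)

theorem f2196 : g 5 • path g [4, 8, 1, 9] p = path g [8, 1, 9, 6] p :=
  (congrArg (g 5 • ·) (f2186 H).symm).trans (f2129 H)

theorem f2198 : g 0 • path g [8, 1, 9, 6] p = path g [4, 8, 1, 9] p :=
  H.back (i := 5) (by decide) (f2196 H)

theorem f2199 : g 0 • path g [4, 8, 1, 9] p = path g [3, 1, 9, 6] p :=
  (congrArg (g 0 • ·) (f2186 H).symm).trans (f2134 H)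

theorem f2202 : path g [3, 1, 4, 5] p = path g [8, 1, 9] p :=
  close (u := [9, 1, 1, 0, 1, 4, 5, 6, 7, 5]) (w := [6]) (r12_0_5 H) (step (f2183 H) (step (f1008 H) (step (f1006 H) (step (f1640 H) (step (f599 H) (step (f1878 H) (step (f2181 H) (step (f1758 H) (step (f1585 H) (step (f1595 H) rfl)))))))))) (step (H.back (i := 1) (by decide) (f2081 H)) rfl)

theorem f2203 : g 0 • path g [8, 1, 9] p = path g [3, 1, 4] p :=
  (congrArg (g 0 • ·) (f2202 H).symm).trans (f1596 H)

theorem f2204 : path g [8, 1, 9, 0] p = path g [3, 1, 4] p :=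
  (f2068 H).symm.trans (f2203 H)

theorem f2206 : g 5 • path g [3, 1, 4] p = path g [8, 1, 9] p :=
  (f1595 H).trans (f2202 H)

theorem f2208 : g 2 • path g [3, 1, 4] p = path g [3, 1, 9, 5] p :=
  (congrArg (g 2 • ·) (f2204 H).symm).trans (f2070 H)

theorem f2209 : path g [3, 1, 4, 2] p = path g [3, 1, 9, 5] p :=
  (f1584 H).symm.trans (f2208 H)

theorem f2210 : path g [3, 1, 9, 5] p = path g [3, 1, 4, 2] p :=
  (f2209 H).symm

theorem f2211 : g 0 • path g [3, 1, 4, 2] p = path g [3, 1, 9] p :=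
  (congrArg (g 0 • ·) (f2210 H).symm).trans (f1627 H)

theorem f2213 : g 5 • path g [3, 1, 9] p = path g [3, 1, 4, 2] p :=
  H.back (i := 0) (by decide) (f2211 H)

theorem f2217 : g 0 • path g [8, 1, 9] p = path g [3, 1, 4] p :=
  (f2068 H).trans (f2204 H)

theorem f2218 : path g [3, 1, 4] p = path g [3, 1, 4, 2] p :=
  close (u := [0, 8, 7, 3, 0, 1, 0, 2, 0, 1, 0]) (w := []) (r6_1_10 H) (step (f2211 H) (step (f1616 H) (step (f986 H) (step (f2104 H) (step (f2113 H) (step (f2131 H) (step (f2135 H) (step (f2182 H) (step (f2173 H) (step (f2081 H) (step (f2217 H) rfl))))))))))) rfl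

theorem f2219 : path g [3, 1, 4, 2] p = path g [3, 1, 4] p :=
  (f2218 H).symm

theorem f2220 : g 7 • path g [3, 1, 4] p = path g [3, 1, 4] p :=
  (congrArg (g 7 • ·) (f2219 H).symm).trans (f1585 H)

theorem f2221 : path g [3, 1, 4, 7] p = path g [3, 1, 4] p :=
  (f1602 H).symm.trans (f2220 H)

theorem f2222 : g 1 • path g [3, 1, 4] p = path g [3, 9, 1, 9] p :=
  (congrArg (g 1 • ·) (f2219 H).symm).trans (f1759 H)

theorem f2223 : path g [3, 1, 4, 1] p = path g [3, 9, 1, 9] p :=
  (f1582 H).symm.trans (f2222 H)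

theorem f2227 : g 5 • path g [3, 1, 9] p = path g [3, 1, 4] p :=
  (f2213 H).trans (f2219 H)

theorem f2229 : path g [3, 9, 1, 9] p = path g [3, 1, 4, 1] p :=
  (f2223 H).symm

theorem f2245 : g 0 • path g [3, 1, 4, 1] p = path g [4, 8, 1, 4] p :=
  (congrArg (g 0 • ·) (f2229 H).symm).trans (f2180 H)

theorem f2251 : g 0 • path g [3, 4, 1, 4] p = path g [3, 1, 4, 1] p :=
  scan (u := [0, 2, 0, 0, 2]) (w := []) (i := 0) (r2_0_2 H) (step (f2245 H) (step (f2085 H) (step (f2198 H) (step (f2199 H) (step (f2179 H) rfl))))) rfl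

theorem f2255 : path g [8, 6, 9, 5] p = path g [8, 1, 4] p :=
  close (u := [0, 2, 0, 1, 8, 5]) (w := [3, 1]) (r7_1_4 H) (step (f2245 H) (step (f2085 H) (step (f2198 H) (step (f2187 H) (step (f2103 H) (step (f2117 H) rfl)))))) (step (H.back (i := 8) (by decide) (f1612 H)) (step (H.back (i := 6) (by decide) (f1583 H)) rfl))

theorem f2258 : g 7 • path g [8, 1, 4] p = path g [3, 6, 9, 0] p :=
  (congrArg (g 7 • ·) (f2255 H).symm).trans (f2119 H)

theorem f2259 : path g [8, 1, 4, 7] p = path g [3, 6, 9, 0] p :=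
  (f2065 H).symm.trans (f2258 H)

theorem f2274 : path g [8, 1, 9, 5] p = path g [3, 6, 4] p :=
  close (u := [0, 2, 0, 1, 3, 7, 5]) (w := [8, 1]) (r8_0_4 H) (step (f2245 H) (step (f2085 H) (step (f2198 H) (step (f2187 H) (step (f2104 H) (step (f987 H) (step (f2074 H) rfl))))))) (step (H.back (i := 3) (by decide) (f1592 H)) (step (H.back (i := 6) (by decide) (f1583 H)) rfl))

theorem f2277 : g 7 • path g [3, 6, 4] p = path g [3, 1, 9, 0] p :=
  (congrArg (g 7 • ·) (f2274 H).symm).trans (f2076 H)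

theorem f2278 : path g [3, 6, 4, 7] p = path g [3, 1, 9, 0] p :=
  (f1724 H).symm.trans (f2277 H)

theorem f2283 : g 5 • path g [8, 1, 9] p = path g [3, 6, 4] p :=
  (f2074 H).trans (f2274 H)

theorem f2285 : path g [8, 6, 9, 0] p = path g [3, 6, 9, 5] p :=
  close (u := [0, 2, 0, 1, 0]) (w := [0, 8, 7, 3, 0, 1]) (r6_1_5 H) (step (f2245 H) (step (f2085 H) (step (f2198 H) (step (f2187 H) (step (f2113 H) rfl))))) (step (H.back (i := 5) (by decide) (f1729 H)) (step (H.back (i := 3) (by decide) (f1594 H)) (step (H.back (i := 2) (by decide) (f957 H)) (step (H.back (i := 8) (by decide) (f1618 H)) (step (H.back (i := 5) (by decide) (f2206 H)) (step (H.back (i := 6) (by decide) (f1583 H)) rfl))))))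

theorem f2286 : g 5 • path g [3, 6, 9, 5] p = path g [8, 6, 9] p :=
  (congrArg (g 5 • ·) (f2285 H).symm).trans (f2114 H)

theorem f2288 : g 0 • path g [8, 6, 9] p = path g [3, 6, 9, 5] p :=
  H.back (i := 5) (by decide) (f2286 H)

theorem f2289 : g 2 • path g [3, 6, 9, 5] p = path g [3, 6, 9, 5] p :=
  (congrArg (g 2 • ·) (f2285 H).symm).trans (f2115 H)

theorem f2292 : g 1 • path g [3, 6, 9, 5] p = path g [3, 9, 6, 4] p :=
  (congrArg (g 1 • ·) (f2285 H).symm).trans (f2131 H)

theorem f2296 : g 7 • path g [3, 1, 4] p = path g [3, 1, 4] p :=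
  (f1602 H).trans (f2221 H)

theorem f2297 : path g [3, 6, 9, 5] p = path g [3, 6, 4] p :=
  close (u := [0, 2, 0, 1, 0]) (w := [9, 5, 7, 5, 4, 2, 1]) (r11_1_7 H) (step (f2245 H) (step (f2085 H) (step (f2198 H) (step (f2187 H) (step (f2288 H) rfl))))) (step (H.back (i := 4) (by decide) (f216 H)) (step (H.back (i := 0) (by decide) (f1563 H)) (step (H.back (i := 2) (by decide) (f75 H)) (step (H.back (i := 0) (by decide) (f1586 H)) (step (H.back (i := 9) (by decide) (f133 H)) (step (H.back (i := 7) (by decide) (f2296 H)) (step (H.back (i := 6) (by decide) (f1583 H)) rfl)))))))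

theorem f2303 : g 7 • path g [3, 6, 4] p = path g [3, 1, 9, 0] p :=
  (f1724 H).trans (f2278 H)

theorem f2305 : g 5 • path g [3, 6, 4] p = path g [8, 6, 9] p :=
  (congrArg (g 5 • ·) (f2297 H).symm).trans (f2286 H)

theorem f2306 : path g [3, 6, 4, 5] p = path g [8, 6, 9] p :=
  (f1718 H).symm.trans (f2305 H)

theorem f2307 : g 2 • path g [3, 6, 9, 5] p = path g [3, 6, 4] p :=
  (f2289 H).trans (f2297 H)

theorem f2308 : g 2 • path g [3, 6, 4] p = path g [3, 6, 4] p :=
  (congrArg (g 2 • ·) (f2297 H).symm).trans (f2307 H)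

theorem f2309 : path g [3, 6, 4, 2] p = path g [3, 6, 4] p :=
  (f1716 H).symm.trans (f2308 H)

theorem f2310 : g 1 • path g [3, 6, 4] p = path g [3, 9, 6, 4] p :=
  (congrArg (g 1 • ·) (f2297 H).symm).trans (f2292 H)

theorem f2311 : path g [3, 6, 4, 1] p = path g [3, 9, 6, 4] p :=
  (f1714 H).symm.trans (f2310 H)

theorem f2312 : path g [3, 9, 6, 4] p = path g [3, 6, 4, 1] p :=
  (f2311 H).symm

theorem f2316 : g 4 • path g [3, 6, 4, 1] p = path g [3, 1, 9, 1] p :=
  (congrArg (g 4 • ·) (f2312 H).symm).trans (f2152 H)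

theorem f2318 : g 9 • path g [3, 1, 9, 1] p = path g [3, 6, 4, 1] p :=
  H.back (i := 4) (by decide) (f2316 H)

theorem f2319 : g 5 • path g [3, 6, 4, 1] p = path g [8, 1, 9, 1] p :=
  (congrArg (g 5 • ·) (f2312 H).symm).trans (f2078 H)

theorem f2328 : g 7 • path g [3, 6, 4] p = path g [3, 6, 4] p :=
  (congrArg (g 7 • ·) (f2309 H).symm).trans (f1717 H)

theorem f2329 : path g [3, 1, 9, 0] p = path g [3, 6, 4] p :=
  (f2303 H).symm.trans (f2328 H)

theorem f2330 : g 5 • path g [3, 6, 4] p = path g [3, 1, 9] p :=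
  (congrArg (g 5 • ·) (f2329 H).symm).trans (f1622 H)

theorem f2331 : path g [3, 6, 4, 5] p = path g [3, 1, 9] p :=
  (f1718 H).symm.trans (f2330 H)

theorem f2338 : path g [3, 1, 9] p = path g [8, 6, 9] p :=
  (f2331 H).symm.trans (f2306 H)

theorem f2339 : path g [8, 6, 9] p = path g [3, 1, 9] p :=
  (f2338 H).symm

theorem f2361 : g 6 • path g [3, 1, 9] p = path g [4, 8, 1, 9] p :=
  (congrArg (g 6 • ·) (f2339 H).symm).trans (f2189 H)

theorem f2362 : path g [3, 1, 9, 6] p = path g [4, 8, 1, 9] p :=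
  (f1628 H).symm.trans (f2361 H)

theorem f2363 : path g [4, 8, 1, 9] p = path g [3, 1, 9, 6] p :=
  (f2362 H).symm

theorem f2378 : g 0 • path g [3, 1, 9, 6] p = path g [3, 1, 9, 6] p :=
  (congrArg (g 0 • ·) (f2363 H).symm).trans (f2199 H)

theorem f2379 : path g [3, 4, 1, 9] p = path g [3, 1, 9, 6] p :=
  (f2172 H).symm.trans (f2378 H)

theorem f2394 : g 0 • path g [3, 1, 9, 6] p = path g [8, 1, 9, 6] p :=
  (congrArg (g 0 • ·) (f2379 H).symm).trans (f2173 H)

theorem f2395 : g 0 • path g [3, 1, 9, 6] p = path g [3, 1, 9, 6] p :=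
  (f2172 H).trans (f2379 H)

theorem f2396 : path g [3, 1, 9, 6] p = path g [8, 1, 9, 6] p :=
  (f2395 H).symm.trans (f2394 H)

theorem f2397 : path g [8, 1, 9, 6] p = path g [3, 1, 9, 6] p :=
  (f2396 H).symm

theorem f2412 : g 9 • path g [3, 1, 9, 6] p = path g [8, 9, 1] p :=
  (congrArg (g 9 • ·) (f2397 H).symm).trans (f2183 H)

theorem f2413 : path g [3, 9, 1] p = path g [8, 9, 1] p :=
  (f2138 H).symm.trans (f2412 H)

theorem f2414 : path g [8, 9, 1] p = path g [3, 9, 1] p :=
  (f2413 H).symm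

theorem f2425 : g 7 • path g [3, 9, 1] p = path g [8, 9, 6] p :=
  (congrArg (g 7 • ·) (f2414 H).symm).trans (f1679 H)

theorem f2426 : path g [3, 9, 6] p = path g [8, 9, 6] p :=
  (f1675 H).symm.trans (f2425 H)

theorem f2430 : path g [8, 9, 6] p = path g [3, 9, 6] p :=
  (f2426 H).symm

theorem f2431 : g 1 • path g [3, 9, 6] p = path g [8, 9] p :=
  (congrArg (g 1 • ·) (f2430 H).symm).trans (f1006 H)

theorem f2432 : path g [3, 9] p = path g [8, 9] p :=
  (f243 H).symm.trans (f2431 H)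

theorem f2448 : path g [8, 9] p = path g [3, 9] p :=
  (f2432 H).symm

theorem f2469 : g 5 • path g [3, 9] p = path g [4, 8] p :=
  (congrArg (g 5 • ·) (f2448 H).symm).trans (f1641 H)

theorem f2470 : path g [3, 4] p = path g [4, 8] p :=
  (f1336 H).symm.trans (f2469 H)

theorem f2474 : path g [4, 8] p = path g [3, 4] p :=
  (f2470 H).symm

theorem f2499 : g 6 • path g [3, 4] p = path g [4, 8, 6] p :=
  (congrArg (g 6 • ·) (f2474 H).symm).trans (f601 H)

theorem f2500 : path g [3, 4, 6] p = path g [4, 8, 6] p :=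
  (f180 H).symm.trans (f2499 H)

theorem f2501 : path g [4, 8, 6] p = path g [3, 4, 6] p :=
  (f2500 H).symm

theorem f2521 : g 8 • path g [3, 4, 6] p = path g [4, 1, 8, 6] p :=
  (congrArg (g 8 • ·) (f2501 H).symm).trans (f1956 H)

theorem f2522 : path g [3, 4, 6, 8] p = path g [4, 1, 8, 6] p :=
  (f1702 H).symm.trans (f2521 H)

theorem f2547 : path g [4, 1, 8, 6] p = path g [3, 4, 6, 8] p :=
  (f2522 H).symm

theorem f2561 : g 2 • path g [3, 4, 6, 8] p = path g [3, 4, 1, 8] p :=
  (congrArg (g 2 • ·) (f2547 H).symm).trans (f1963 H)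

theorem f2562 : path g [4, 6, 3, 6] p = path g [3, 4, 1, 8] p :=
  (f1846 H).symm.trans (f2561 H)

theorem f2575 : g 8 • path g [3, 4, 1, 8] p = path g [4, 1, 3, 1] p :=
  (congrArg (g 8 • ·) (f2562 H).symm).trans (f1982 H)

theorem f2576 : path g [3, 4, 1, 3] p = path g [4, 1, 3, 1] p :=
  (f1692 H).symm.trans (f2575 H)

theorem f2580 : path g [4, 1, 3, 1] p = path g [3, 4, 1, 3] p :=
  (f2576 H).symm

theorem f2591 : g 0 • path g [3, 4, 1, 3] p = path g [3, 9, 6, 3] p :=
  (congrArg (g 0 • ·) (f2580 H).symm).trans (f1983 H)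

theorem f2593 : g 5 • path g [3, 9, 6, 3] p = path g [3, 4, 1, 3] p :=
  H.back (i := 0) (by decide) (f2591 H)

theorem f2594 : g 5 • path g [3, 4, 1, 3] p = path g [3, 4, 6, 3] p :=
  (congrArg (g 5 • ·) (f2580 H).symm).trans (f1986 H)

theorem f2595 : path g [4, 6, 8, 6] p = path g [3, 4, 6, 3] p :=
  (f2030 H).symm.trans (f2594 H)

theorem f2605 : g 6 • path g [3, 4, 6, 3] p = path g [3, 4, 1, 8] p :=
  (congrArg (g 6 • ·) (f2595 H).symm).trans (f1953 H)

theorem f2606 : path g [4, 1, 8] p = path g [3, 4, 1, 8] p :=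
  (f1933 H).symm.trans (f2605 H)

theorem f2610 : g 5 • path g [3, 4, 6, 3] p = path g [3, 9, 1, 3] p :=
  (congrArg (g 5 • ·) (f2595 H).symm).trans (f1866 H)

theorem f2625 : path g [3, 4, 1, 8] p = path g [4, 1, 8] p :=
  (f2606 H).symm

theorem f2638 : g 6 • path g [4, 1, 8] p = path g [4, 6, 8] p :=
  (congrArg (g 6 • ·) (f2625 H).symm).trans (f1946 H)

theorem f2639 : g 6 • path g [4, 1, 8] p = path g [3, 4, 6, 8] p :=
  (f1822 H).trans (f2547 H)

theorem f2640 : path g [3, 4, 6, 8] p = path g [4, 6, 8] p :=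
  (f2639 H).symm.trans (f2638 H)

theorem f2660 : g 6 • path g [4, 6, 8] p = path g [4, 6, 3] p :=
  (congrArg (g 6 • ·) (f2640 H).symm).trans (f1913 H)

theorem f2661 : g 6 • path g [4, 6, 8] p = path g [3, 4, 6, 3] p :=
  (f1860 H).trans (f2595 H)

theorem f2662 : path g [3, 4, 6, 3] p = path g [4, 6, 3] p :=
  (f2661 H).symm.trans (f2660 H)

theorem f2687 : g 5 • path g [4, 6, 3] p = path g [3, 9, 1, 3] p :=
  (congrArg (g 5 • ·) (f2662 H).symm).trans (f2610 H)

theorem f2688 : path g [9, 1, 3] p = path g [3, 9, 1, 3] p :=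
  (f1918 H).symm.trans (f2687 H)

theorem f2689 : path g [3, 9, 1, 3] p = path g [9, 1, 3] p :=
  (f2688 H).symm

theorem f2692 : g 3 • path g [9, 1, 3] p = path g [3, 9, 1, 8] p :=
  (congrArg (g 3 • ·) (f2689 H).symm).trans (f1747 H)

theorem f2693 : path g [9, 1, 8] p = path g [3, 9, 1, 8] p :=
  (f1061 H).symm.trans (f2692 H)

theorem f2700 : path g [3, 9, 1, 8] p = path g [9, 1, 8] p :=
  (f2693 H).symm

theorem f2709 : g 5 • path g [9, 1, 8] p = path g [3, 9, 6, 8] p :=
  (congrArg (g 5 • ·) (f2700 H).symm).trans (f1783 H)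

theorem f2710 : path g [9, 6, 8] p = path g [3, 9, 6, 8] p :=
  (f1352 H).symm.trans (f2709 H)

theorem f2714 : path g [3, 9, 6, 8] p = path g [9, 6, 8] p :=
  (f2710 H).symm

theorem f2717 : g 8 • path g [9, 6, 8] p = path g [3, 9, 6, 3] p :=
  (congrArg (g 8 • ·) (f2714 H).symm).trans (f1780 H)

theorem f2718 : path g [9, 6, 3] p = path g [3, 9, 6, 3] p :=
  (f1344 H).symm.trans (f2717 H)

theorem f2728 : path g [3, 9, 6, 3] p = path g [9, 6, 3] p :=
  (f2718 H).symm

theorem f2734 : g 5 • path g [9, 6, 3] p = path g [3, 4, 1, 3] p :=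
  (congrArg (g 5 • ·) (f2728 H).symm).trans (f2593 H)

theorem f2735 : path g [4, 1, 3] p = path g [3, 4, 1, 3] p :=
  (f2005 H).symm.trans (f2734 H)

theorem f2739 : path g [3, 4, 1, 3] p = path g [4, 1, 3] p :=
  (f2735 H).symm

theorem f2740 : g 8 • path g [4, 1, 3] p = path g [3, 4, 1] p :=
  (congrArg (g 8 • ·) (f2739 H).symm).trans (f1683 H)

theorem f2741 : path g [4, 1] p = path g [3, 4, 1] p :=
  (f279 H).symm.trans (f2740 H)

theorem f2766 : path g [3, 4, 1] p = path g [4, 1] p :=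
  (f2741 H).symm

theorem f2789 : g 9 • path g [3, 4, 1] p = path g [3, 1, 9, 6] p :=
  (f1694 H).trans (f2379 H)

theorem f2790 : g 9 • path g [4, 1] p = path g [3, 1, 9, 6] p :=
  (congrArg (g 9 • ·) (f2766 H).symm).trans (f2789 H)

theorem f2791 : path g [9, 6] p = path g [3, 1, 9, 6] p :=
  (f1373 H).symm.trans (f2790 H)

theorem f2792 : path g [3, 1, 9, 6] p = path g [9, 6] p :=
  (f2791 H).symm

theorem f2809 : g 2 • path g [9, 6] p = path g [3, 4, 1, 4] p :=
  (congrArg (g 2 • ·) (f2792 H).symm).trans (f2179 H)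

theorem f2810 : path g [9, 1] p = path g [3, 4, 1, 4] p :=
  (f1023 H).symm.trans (f2809 H)

theorem f2811 : path g [3, 4, 1, 4] p = path g [9, 1] p :=
  (f2810 H).symm

theorem f2820 : path g [3, 4, 1, 9] p = path g [9, 6] p :=
  (f2379 H).trans (f2792 H)

theorem f2830 : g 0 • path g [9, 1] p = path g [3, 1, 4, 1] p :=
  (congrArg (g 0 • ·) (f2811 H).symm).trans (f2251 H)

theorem f2831 : path g [4, 1] p = path g [3, 1, 4, 1] p :=
  (f1284 H).symm.trans (f2830 H)

theorem f2832 : path g [3, 1, 4, 1] p = path g [4, 1] p :=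
  (f2831 H).symm

theorem f2846 : g 0 • path g [4, 1] p = path g [4, 8, 1, 4] p :=
  (congrArg (g 0 • ·) (f2832 H).symm).trans (f2245 H)

theorem f2847 : path g [9, 1] p = path g [4, 8, 1, 4] p :=
  (f1355 H).symm.trans (f2846 H)

theorem f2851 : path g [4, 8, 1, 4] p = path g [9, 1] p :=
  (f2847 H).symm

theorem f2862 : g 6 • path g [4, 8, 1, 4] p = path g [3, 1, 9] p :=
  (f2089 H).trans (f2339 H)

theorem f2863 : g 6 • path g [9, 1] p = path g [3, 1, 9] p :=
  (congrArg (g 6 • ·) (f2851 H).symm).trans (f2862 H)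

theorem f2864 : path g [9] p = path g [3, 1, 9] p :=
  (f89 H).symm.trans (f2863 H)

theorem f2874 : path g [3, 1, 9] p = path g [9] p :=
  (f2864 H).symm

theorem f2892 : g 5 • path g [9] p = path g [3, 1, 4] p :=
  (congrArg (g 5 • ·) (f2874 H).symm).trans (f2227 H)

theorem f2893 : path g [4] p = path g [3, 1, 4] p :=
  (f1367 H).symm.trans (f2892 H)

theorem f2897 : path g [3, 1, 4] p = path g [4] p :=
  (f2893 H).symm

theorem f2922 : g 8 • path g [4] p = path g [8, 1, 4] p :=
  (congrArg (g 8 • ·) (f2897 H).symm).trans (f1612 H)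

theorem f2923 : g 8 • path g [4] p = path g [3, 4] p :=
  (f62 H).trans (f2474 H)

theorem f2924 : path g [3, 4] p = path g [8, 1, 4] p :=
  (f2923 H).symm.trans (f2922 H)

theorem f2925 : path g [8, 1, 4] p = path g [3, 4] p :=
  (f2924 H).symm

theorem f2949 : g 7 • path g [8, 1, 4] p = path g [3, 6, 9, 0] p :=
  (f2065 H).trans (f2259 H)

theorem f2950 : g 7 • path g [3, 4] p = path g [3, 6, 9, 0] p :=
  (congrArg (g 7 • ·) (f2925 H).symm).trans (f2949 H)

theorem f2951 : path g [3, 4] p = path g [3, 6, 9, 0] p :=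
  (f1655 H).symm.trans (f2950 H)

theorem f2952 : path g [3, 6, 9, 0] p = path g [3, 4] p :=
  (f2951 H).symm

theorem f2953 : g 5 • path g [3, 4] p = path g [3, 6, 9] p :=
  (congrArg (g 5 • ·) (f2952 H).symm).trans (f1728 H)

theorem f2954 : path g [3, 9] p = path g [3, 6, 9] p :=
  (f1656 H).symm.trans (f2953 H)

theorem f2958 : path g [3, 6, 9] p = path g [3, 9] p :=
  (f2954 H).symm

theorem f2983 : g 6 • path g [3, 6, 9] p = path g [9, 6] p :=
  (f2163 H).trans (f2820 H)

theorem f2984 : g 6 • path g [3, 9] p = path g [9, 6] p :=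
  (congrArg (g 6 • ·) (f2958 H).symm).trans (f2983 H)

theorem f2985 : path g [3, 9, 6] p = path g [9, 6] p :=
  (f242 H).symm.trans (f2984 H)

theorem f3008 : g 9 • path g [9, 6] p = path g [3, 1, 9, 1] p :=
  (congrArg (g 9 • ·) (f2985 H).symm).trans (f2149 H)

theorem f3009 : path g [9, 1] p = path g [3, 1, 9, 1] p :=
  (f1315 H).symm.trans (f3008 H)

theorem f3010 : path g [3, 1, 9, 1] p = path g [9, 1] p :=
  (f3009 H).symm

theorem f3025 : g 9 • path g [9, 1] p = path g [3, 6, 4, 1] p :=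
  (congrArg (g 9 • ·) (f3010 H).symm).trans (f2318 H)

theorem f3026 : path g [4, 1] p = path g [3, 6, 4, 1] p :=
  (f461 H).symm.trans (f3025 H)

theorem f3030 : path g [3, 6, 4, 1] p = path g [4, 1] p :=
  (f3026 H).symm

theorem f3041 : g 5 • path g [4, 1] p = path g [8, 1, 9, 1] p :=
  (congrArg (g 5 • ·) (f3030 H).symm).trans (f2319 H)

theorem f3042 : path g [9, 1] p = path g [8, 1, 9, 1] p :=
  (f1358 H).symm.trans (f3041 H)

theorem f3046 : path g [8, 1, 9, 1] p = path g [9, 1] p :=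
  (f3042 H).symm

theorem f3047 : g 6 • path g [9, 1] p = path g [8, 1, 9] p :=
  (congrArg (g 6 • ·) (f3046 H).symm).trans (f2073 H)

theorem f3048 : path g [9] p = path g [8, 1, 9] p :=
  (f89 H).symm.trans (f3047 H)

theorem f3058 : path g [8, 1, 9] p = path g [9] p :=
  (f3048 H).symm

theorem f3082 : g 5 • path g [9] p = path g [3, 6, 4] p :=
  (congrArg (g 5 • ·) (f3058 H).symm).trans (f2283 H)

theorem f3083 : path g [4] p = path g [3, 6, 4] p :=
  (f1367 H).symm.trans (f3082 H)

theorem f3087 : path g [3, 6, 4] p = path g [4] p :=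
  (f3083 H).symm

theorem f3093 : g 8 • path g [3, 6, 4] p = path g [4] p :=
  (f1590 H).trans (f2897 H)

theorem f3094 : g 8 • path g [4] p = path g [4] p :=
  (congrArg (g 8 • ·) (f3087 H).symm).trans (f3093 H)

theorem f3095 : path g [3, 4] p = path g [4] p :=
  (f2923 H).symm.trans (f3094 H)

theorem f3143 : g 5 • path g [4] p = path g [3, 9] p :=
  (congrArg (g 5 • ·) (f3095 H).symm).trans (f1656 H)

theorem f3144 : path g [9] p = path g [3, 9] p :=
  (f1182 H).symm.trans (f3143 H)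

theorem f3222 : path g [3, 9] p = path g [9] p :=
  (f3144 H).symm

theorem f3223 : g 4 • path g [9] p = path g [3] p :=
  (congrArg (g 4 • ·) (f3222 H).symm).trans (f43 H)

theorem f3224 : path g [] p = path g [3] p :=
  (f19 H).symm.trans (f3223 H)

theorem f3314 : path g [3] p = path g [] p :=
  (f3224 H).symm

theorem f3318 : g 3 • path g [] p = path g [] p :=
  (f6 H).trans (f3314 H)

theorem collapse : g 3 • p = p :=
  (f3318 H)

end CfsgQS3.Cert000
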