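import Cfsg.Agent.Lib.QS3.Coset
import Cfsg.Agent.Lib.QS3.RelData

/-!
Groups with an involution centraliser `Q.S₃`: a certificate of coset enumeration, case 001.
-/

set_option autoImplicit false
set_option maxRecDepth 10000

namespace CfsgQS3.Cert001

/-- The representatives of the cosets. -/
def reps : List (List ℕ) := [
  [],
  [3],
  [4],
  [8],
  [9],
  [3, 1],
  [3, 4],
  [3, 6],
  [3, 9],
  [4, 1],
  [4, 6],
  [4, 8],
  [8, 1],
  [8, 6],
  [8, 9],
  [9, 1],
  [9, 6],
  [3, 1, 4],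
  [3, 1, 9],
  [3, 4, 1],
  [3, 4, 6],
  [3, 6, 4],
  [3, 6, 9],
  [3, 9, 1],
  [3, 9, 6],
  [4, 1, 3],
  [4, 1, 8],
  [4, 6, 3],
  [4, 6, 8],
  [4, 8, 1],
  [4, 8, 6],
  [8, 1, 4],
  [8, 1, 9],
  [8, 6, 4],
  [8, 6, 9],
  [8, 9, 1],
  [8, 9, 6],
  [9, 1, 3],
  [9, 1, 8],
  [9, 6, 3],
  [9, 6, 8],
  [3, 1, 4, 1],
  [3, 1, 4, 6],
  [3, 1, 9, 1],
  [3, 1, 9, 6],
  [3, 4, 1, 3],
  [3, 4, 1, 4],
  [3, 4, 1, 8],
  [3, 4, 1, 9],
  [3, 4, 6, 3],
  [3, 4, 6, 4],
  [3, 4, 6, 8],
  [3, 4, 6, 9],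
  [3, 6, 4, 1],
  [3, 6, 9, 1],
  [3, 9, 1, 3],
  [3, 9, 1, 4],
  [3, 9, 1, 8],
  [3, 9, 1, 9],
  [3, 9, 6, 3],
  [3, 9, 6, 8],
  [4, 1, 3, 1],
  [4, 1, 8, 6],
  [4, 6, 3, 6],
  [4, 6, 8, 6],
  [4, 8, 1, 9],
  [4, 8, 6, 4],
  [8, 1, 9, 1],
  [8, 6, 4, 1],
  [8, 9, 1, 3],
  [8, 9, 1, 8],
  [8, 9, 6, 3],
  [8, 9, 6, 8],
  [3, 1, 4, 1, 3],
  [3, 1, 4, 1, 8],
  [3, 1, 4, 6, 3],
  [3, 1, 4, 6, 8],
  [3, 1, 9, 1, 3],
  [3, 1, 9, 1, 8],
  [3, 1, 9, 6, 3],
  [3, 1, 9, 6, 8],
  [3, 4, 1, 3, 4],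
  [3, 4, 1, 3, 9],
  [3, 4, 1, 4, 8],
  [3, 4, 1, 8, 9],
  [3, 4, 6, 3, 4],
  [3, 4, 6, 3, 9],
  [3, 4, 6, 4, 8],
  [3, 4, 6, 8, 9],
  [3, 6, 4, 1, 3],
  [3, 6, 4, 1, 8],
  [3, 6, 9, 1, 3],
  [3, 6, 9, 1, 8],
  [3, 9, 1, 3, 4],
  [3, 9, 1, 3, 9],
  [3, 9, 1, 4, 8],
  [3, 9, 1, 8, 9],
  [4, 1, 3, 1, 9],
  [4, 1, 8, 6, 4],
  [4, 6, 3, 6, 9],
  [4, 6, 8, 6, 4],
  [8, 1, 9, 1, 3],
  [8, 1, 9, 1, 8],
  [8, 6, 4, 1, 3],
  [8, 6, 4, 1, 8]]

variable {M α : Type*} [Group M] [MulAction M α] {g : ℕ → M} {p : α} (H : CosetData rels001 3 g p)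
include H

theorem r0_0_0 : ∀ x : α, path g [1, 1, 1] x = x :=
  trivial_rot 0 (H.trivial_rev (i := 0) (by decide)) (by decide)

theorem r0_1_0 : ∀ x : α, path g [6, 6, 6] x = x :=
  trivial_rot 0 (H.trivial_inv (i := 0) (by decide) (by decide)) (by decide)

theorem r1_0_0 : ∀ x : α, path g [2, 1, 2, 1] x = x :=
  trivial_rot 0 (H.trivial_rev (i := 1) (by decide)) (by decide)

theorem r1_0_1 : ∀ x : α, path g [1, 2, 1, 2] x = x :=
  trivial_rot 1 (H.trivial_rev (i := 1) (by decide)) (by decide)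

theorem r1_1_0 : ∀ x : α, path g [6, 7, 6, 7] x = x :=
  trivial_rot 0 (H.trivial_inv (i := 1) (by decide) (by decide)) (by decide)

theorem r1_1_1 : ∀ x : α, path g [7, 6, 7, 6] x = x :=
  trivial_rot 1 (H.trivial_inv (i := 1) (by decide) (by decide)) (by decide)

theorem r2_0_0 : ∀ x : α, path g [2, 0, 0, 2, 0, 0] x = x :=
  trivial_rot 0 (H.trivial_rev (i := 2) (by decide)) (by decide)

theorem r2_0_1 : ∀ x : α, path g [0, 0, 2, 0, 0, 2] x = x :=
  trivial_rot 1 (H.trivial_rev (i := 2) (by decide)) (by decide)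

theorem r2_0_2 : ∀ x : α, path g [0, 2, 0, 0, 2, 0] x = x :=
  trivial_rot 2 (H.trivial_rev (i := 2) (by decide)) (by decide)

theorem r2_1_0 : ∀ x : α, path g [5, 5, 7, 5, 5, 7] x = x :=
  trivial_rot 0 (H.trivial_inv (i := 2) (by decide) (by decide)) (by decide)

theorem r2_1_1 : ∀ x : α, path g [5, 7, 5, 5, 7, 5] x = x :=
  trivial_rot 1 (H.trivial_inv (i := 2) (by decide) (by decide)) (by decide)

theorem r2_1_2 : ∀ x : α, path g [7, 5, 5, 7, 5, 5] x = x :=
  trivial_rot 2 (H.trivial_inv (i := 2) (by decide) (by decide)) (by decide)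

theorem r3_0_0 : ∀ x : α, path g [1, 5, 1, 0, 1, 0] x = x :=
  trivial_rot 0 (H.trivial_rev (i := 3) (by decide)) (by decide)

theorem r3_0_1 : ∀ x : α, path g [5, 1, 0, 1, 0, 1] x = x :=
  trivial_rot 1 (H.trivial_rev (i := 3) (by decide)) (by decide)

theorem r3_0_2 : ∀ x : α, path g [1, 0, 1, 0, 1, 5] x = x :=
  trivial_rot 2 (H.trivial_rev (i := 3) (by decide)) (by decide)

theorem r3_0_3 : ∀ x : α, path g [0, 1, 0, 1, 5, 1] x = x :=
  trivial_rot 3 (H.trivial_rev (i := 3) (by decide)) (by decide)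

theorem r3_0_4 : ∀ x : α, path g [1, 0, 1, 5, 1, 0] x = x :=
  trivial_rot 4 (H.trivial_rev (i := 3) (by decide)) (by decide)

theorem r3_0_5 : ∀ x : α, path g [0, 1, 5, 1, 0, 1] x = x :=
  trivial_rot 5 (H.trivial_rev (i := 3) (by decide)) (by decide)

theorem r3_1_0 : ∀ x : α, path g [5, 6, 5, 6, 0, 6] x = x :=
  trivial_rot 0 (H.trivial_inv (i := 3) (by decide) (by decide)) (by decide)

theorem r3_1_1 : ∀ x : α, path g [6, 5, 6, 0, 6, 5] x = x :=
  trivial_rot 1 (H.trivial_inv (i := 3) (by decide) (by decide)) (by decide)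

theorem r3_1_2 : ∀ x : α, path g [5, 6, 0, 6, 5, 6] x = x :=
  trivial_rot 2 (H.trivial_inv (i := 3) (by decide) (by decide)) (by decide)

theorem r3_1_3 : ∀ x : α, path g [6, 0, 6, 5, 6, 5] x = x :=
  trivial_rot 3 (H.trivial_inv (i := 3) (by decide) (by decide)) (by decide)

theorem r3_1_4 : ∀ x : α, path g [0, 6, 5, 6, 5, 6] x = x :=
  trivial_rot 4 (H.trivial_inv (i := 3) (by decide) (by decide)) (by decide)

theorem r4_0_0 : ∀ x : α, path g [2, 0, 2, 0, 2, 0, 2, 0] x = x :=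
  trivial_rot 0 (H.trivial_rev (i := 4) (by decide)) (by decide)

theorem r4_0_1 : ∀ x : α, path g [0, 2, 0, 2, 0, 2, 0, 2] x = x :=
  trivial_rot 1 (H.trivial_rev (i := 4) (by decide)) (by decide)

theorem r4_1_0 : ∀ x : α, path g [5, 7, 5, 7, 5, 7, 5, 7] x = x :=
  trivial_rot 0 (H.trivial_inv (i := 4) (by decide) (by decide)) (by decide)

theorem r4_1_1 : ∀ x : α, path g [7, 5, 7, 5, 7, 5, 7, 5] x = x :=
  trivial_rot 1 (H.trivial_inv (i := 4) (by decide) (by decide)) (by decide)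

theorem r5_0_0 : ∀ x : α, path g [5, 6, 7, 5, 6, 7, 0, 2, 1, 0, 2, 1] x = x :=
  trivial_rot 0 (H.trivial_rev (i := 5) (by decide)) (by decide)

theorem r5_0_3 : ∀ x : α, path g [5, 6, 7, 0, 2, 1, 0, 2, 1, 5, 6, 7] x = x :=
  trivial_rot 3 (H.trivial_rev (i := 5) (by decide)) (by decide)

theorem r5_0_6 : ∀ x : α, path g [0, 2, 1, 0, 2, 1, 5, 6, 7, 5, 6, 7] x = x :=
  trivial_rot 6 (H.trivial_rev (i := 5) (by decide)) (by decide)

theorem r5_0_7 : ∀ x : α, path g [2, 1, 0, 2, 1, 5, 6, 7, 5, 6, 7, 0] x = x :=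
  trivial_rot 7 (H.trivial_rev (i := 5) (by decide)) (by decide)

theorem r5_0_9 : ∀ x : α, path g [0, 2, 1, 5, 6, 7, 5, 6, 7, 0, 2, 1] x = x :=
  trivial_rot 9 (H.trivial_rev (i := 5) (by decide)) (by decide)

theorem r5_1_5 : ∀ x : α, path g [5, 2, 1, 0, 2, 1, 0, 6, 7, 5, 6, 7] x = x :=
  trivial_rot 5 (H.trivial_inv (i := 5) (by decide) (by decide)) (by decide)

theorem r5_1_7 : ∀ x : α, path g [1, 0, 2, 1, 0, 6, 7, 5, 6, 7, 5, 2] x = x :=
  trivial_rot 7 (H.trivial_inv (i := 5) (by decide) (by decide)) (by decide)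

theorem r5_1_8 : ∀ x : α, path g [0, 2, 1, 0, 6, 7, 5, 6, 7, 5, 2, 1] x = x :=
  trivial_rot 8 (H.trivial_inv (i := 5) (by decide) (by decide)) (by decide)

theorem r5_1_11 : ∀ x : α, path g [0, 6, 7, 5, 6, 7, 5, 2, 1, 0, 2, 1] x = x :=
  trivial_rot 11 (H.trivial_inv (i := 5) (by decide) (by decide)) (by decide)

theorem r6_0_0 : ∀ x : α, path g [5, 5, 6, 5, 7, 5, 6, 5, 8, 2, 3] x = x :=
  trivial_rot 0 (H.trivial_rev (i := 6) (by decide)) (by decide)

theorem r6_0_1 : ∀ x : α, path g [5, 6, 5, 7, 5, 6, 5, 8, 2, 3, 5] x = x :=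
  trivial_rot 1 (H.trivial_rev (i := 6) (by decide)) (by decide)

theorem r6_0_3 : ∀ x : α, path g [5, 7, 5, 6, 5, 8, 2, 3, 5, 5, 6] x = x :=
  trivial_rot 3 (H.trivial_rev (i := 6) (by decide)) (by decide)

theorem r6_0_4 : ∀ x : α, path g [7, 5, 6, 5, 8, 2, 3, 5, 5, 6, 5] x = x :=
  trivial_rot 4 (H.trivial_rev (i := 6) (by decide)) (by decide)

theorem r6_0_7 : ∀ x : α, path g [5, 8, 2, 3, 5, 5, 6, 5, 7, 5, 6] x = x :=
  trivial_rot 7 (H.trivial_rev (i := 6) (by decide)) (by decide)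

theorem r6_0_8 : ∀ x : α, path g [8, 2, 3, 5, 5, 6, 5, 7, 5, 6, 5] x = x :=
  trivial_rot 8 (H.trivial_rev (i := 6) (by decide)) (by decide)

theorem r6_0_10 : ∀ x : α, path g [3, 5, 5, 6, 5, 7, 5, 6, 5, 8, 2] x = x :=
  trivial_rot 10 (H.trivial_rev (i := 6) (by decide)) (by decide)

theorem r6_1_0 : ∀ x : α, path g [8, 7, 3, 0, 1, 0, 2, 0, 1, 0, 0] x = x :=
  trivial_rot 0 (H.trivial_inv (i := 6) (by decide) (by decide)) (by decide)

theorem r6_1_2 : ∀ x : α, path g [3, 0, 1, 0, 2, 0, 1, 0, 0, 8, 7] x = x :=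
  trivial_rot 2 (H.trivial_inv (i := 6) (by decide) (by decide)) (by decide)

theorem r6_1_3 : ∀ x : α, path g [0, 1, 0, 2, 0, 1, 0, 0, 8, 7, 3] x = x :=
  trivial_rot 3 (H.trivial_inv (i := 6) (by decide) (by decide)) (by decide)

theorem r6_1_5 : ∀ x : α, path g [0, 2, 0, 1, 0, 0, 8, 7, 3, 0, 1] x = x :=
  trivial_rot 5 (H.trivial_inv (i := 6) (by decide) (by decide)) (by decide)

theorem r6_1_6 : ∀ x : α, path g [2, 0, 1, 0, 0, 8, 7, 3, 0, 1, 0] x = x :=
  trivial_rot 6 (H.trivial_inv (i := 6) (by decide) (by decide)) (by decide)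

theorem r7_0_1 : ∀ x : α, path g [5, 7, 5, 6, 8, 0, 3, 6] x = x :=
  trivial_rot 1 (H.trivial_rev (i := 7) (by decide)) (by decide)

theorem r7_0_2 : ∀ x : α, path g [7, 5, 6, 8, 0, 3, 6, 5] x = x :=
  trivial_rot 2 (H.trivial_rev (i := 7) (by decide)) (by decide)

theorem r7_0_5 : ∀ x : α, path g [8, 0, 3, 6, 5, 7, 5, 6] x = x :=
  trivial_rot 5 (H.trivial_rev (i := 7) (by decide)) (by decide)

theorem r7_0_7 : ∀ x : α, path g [3, 6, 5, 7, 5, 6, 8, 0] x = x :=
  trivial_rot 7 (H.trivial_rev (i := 7) (by decide)) (by decide)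

theorem r7_1_0 : ∀ x : α, path g [8, 5, 3, 1, 0, 2, 0, 1] x = x :=
  trivial_rot 0 (H.trivial_inv (i := 7) (by decide) (by decide)) (by decide)

theorem r7_1_1 : ∀ x : α, path g [5, 3, 1, 0, 2, 0, 1, 8] x = x :=
  trivial_rot 1 (H.trivial_inv (i := 7) (by decide) (by decide)) (by decide)

theorem r7_1_2 : ∀ x : α, path g [3, 1, 0, 2, 0, 1, 8, 5] x = x :=
  trivial_rot 2 (H.trivial_inv (i := 7) (by decide) (by decide)) (by decide)

theorem r7_1_3 : ∀ x : α, path g [1, 0, 2, 0, 1, 8, 5, 3] x = x :=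
  trivial_rot 3 (H.trivial_inv (i := 7) (by decide) (by decide)) (by decide)

theorem r7_1_4 : ∀ x : α, path g [0, 2, 0, 1, 8, 5, 3, 1] x = x :=
  trivial_rot 4 (H.trivial_inv (i := 7) (by decide) (by decide)) (by decide)

theorem r7_1_5 : ∀ x : α, path g [2, 0, 1, 8, 5, 3, 1, 0] x = x :=
  trivial_rot 5 (H.trivial_inv (i := 7) (by decide) (by decide)) (by decide)

theorem r7_1_6 : ∀ x : α, path g [0, 1, 8, 5, 3, 1, 0, 2] x = x :=
  trivial_rot 6 (H.trivial_inv (i := 7) (by decide) (by decide)) (by decide)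

theorem r8_0_0 : ∀ x : α, path g [7, 5, 8, 1, 0, 2, 0, 1, 3] x = x :=
  trivial_rot 0 (H.trivial_rev (i := 8) (by decide)) (by decide)

theorem r8_0_1 : ∀ x : α, path g [5, 8, 1, 0, 2, 0, 1, 3, 7] x = x :=
  trivial_rot 1 (H.trivial_rev (i := 8) (by decide)) (by decide)

theorem r8_0_2 : ∀ x : α, path g [8, 1, 0, 2, 0, 1, 3, 7, 5] x = x :=
  trivial_rot 2 (H.trivial_rev (i := 8) (by decide)) (by decide)

theorem r8_0_4 : ∀ x : α, path g [0, 2, 0, 1, 3, 7, 5, 8, 1] x = x :=
  trivial_rot 4 (H.trivial_rev (i := 8) (by decide)) (by decide)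

theorem r8_0_7 : ∀ x : α, path g [1, 3, 7, 5, 8, 1, 0, 2, 0] x = x :=
  trivial_rot 7 (H.trivial_rev (i := 8) (by decide)) (by decide)

theorem r8_0_8 : ∀ x : α, path g [3, 7, 5, 8, 1, 0, 2, 0, 1] x = x :=
  trivial_rot 8 (H.trivial_rev (i := 8) (by decide)) (by decide)

theorem r8_1_0 : ∀ x : α, path g [8, 6, 5, 7, 5, 6, 3, 0, 2] x = x :=
  trivial_rot 0 (H.trivial_inv (i := 8) (by decide) (by decide)) (by decide)

theorem r8_1_2 : ∀ x : α, path g [5, 7, 5, 6, 3, 0, 2, 8, 6] x = x :=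
  trivial_rot 2 (H.trivial_inv (i := 8) (by decide) (by decide)) (by decide)

theorem r8_1_3 : ∀ x : α, path g [7, 5, 6, 3, 0, 2, 8, 6, 5] x = x :=
  trivial_rot 3 (H.trivial_inv (i := 8) (by decide) (by decide)) (by decide)

theorem r8_1_5 : ∀ x : α, path g [6, 3, 0, 2, 8, 6, 5, 7, 5] x = x :=
  trivial_rot 5 (H.trivial_inv (i := 8) (by decide) (by decide)) (by decide)

theorem r8_1_6 : ∀ x : α, path g [3, 0, 2, 8, 6, 5, 7, 5, 6] x = x :=
  trivial_rot 6 (H.trivial_inv (i := 8) (by decide) (by decide)) (by decide)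

theorem r8_1_7 : ∀ x : α, path g [0, 2, 8, 6, 5, 7, 5, 6, 3] x = x :=
  trivial_rot 7 (H.trivial_inv (i := 8) (by decide) (by decide)) (by decide)

theorem r8_1_8 : ∀ x : α, path g [2, 8, 6, 5, 7, 5, 6, 3, 0] x = x :=
  trivial_rot 8 (H.trivial_inv (i := 8) (by decide) (by decide)) (by decide)

theorem r9_0_0 : ∀ x : α, path g [3, 3, 3] x = x :=
  trivial_rot 0 (H.trivial_rev (i := 9) (by decide)) (by decide)

theorem r9_1_0 : ∀ x : α, path g [8, 8, 8] x = x :=
  trivial_rot 0 (H.trivial_inv (i := 9) (by decide) (by decide)) (by decide)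

theorem r10_0_0 : ∀ x : α, path g [5, 5, 5, 7, 5, 9, 2, 4] x = x :=
  trivial_rot 0 (H.trivial_rev (i := 10) (by decide)) (by decide)

theorem r10_0_1 : ∀ x : α, path g [5, 5, 7, 5, 9, 2, 4, 5] x = x :=
  trivial_rot 1 (H.trivial_rev (i := 10) (by decide)) (by decide)

theorem r10_0_2 : ∀ x : α, path g [5, 7, 5, 9, 2, 4, 5, 5] x = x :=
  trivial_rot 2 (H.trivial_rev (i := 10) (by decide)) (by decide)

theorem r10_0_3 : ∀ x : α, path g [7, 5, 9, 2, 4, 5, 5, 5] x = x :=
  trivial_rot 3 (H.trivial_rev (i := 10) (by decide)) (by decide)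

theorem r10_0_4 : ∀ x : α, path g [5, 9, 2, 4, 5, 5, 5, 7] x = x :=
  trivial_rot 4 (H.trivial_rev (i := 10) (by decide)) (by decide)

theorem r10_0_5 : ∀ x : α, path g [9, 2, 4, 5, 5, 5, 7, 5] x = x :=
  trivial_rot 5 (H.trivial_rev (i := 10) (by decide)) (by decide)

theorem r10_0_7 : ∀ x : α, path g [4, 5, 5, 5, 7, 5, 9, 2] x = x :=
  trivial_rot 7 (H.trivial_rev (i := 10) (by decide)) (by decide)

theorem r10_1_0 : ∀ x : α, path g [9, 7, 4, 0, 2, 0, 0, 0] x = x :=
  trivial_rot 0 (H.trivial_inv (i := 10) (by decide) (by decide)) (by decide)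

theorem r10_1_2 : ∀ x : α, path g [4, 0, 2, 0, 0, 0, 9, 7] x = x :=
  trivial_rot 2 (H.trivial_inv (i := 10) (by decide) (by decide)) (by decide)

theorem r10_1_5 : ∀ x : α, path g [0, 0, 0, 9, 7, 4, 0, 2] x = x :=
  trivial_rot 5 (H.trivial_inv (i := 10) (by decide) (by decide)) (by decide)

theorem r10_1_6 : ∀ x : α, path g [0, 0, 9, 7, 4, 0, 2, 0] x = x :=
  trivial_rot 6 (H.trivial_inv (i := 10) (by decide) (by decide)) (by decide)

theorem r10_1_7 : ∀ x : α, path g [0, 9, 7, 4, 0, 2, 0, 0] x = x :=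
  trivial_rot 7 (H.trivial_inv (i := 10) (by decide) (by decide)) (by decide)

theorem r11_0_2 : ∀ x : α, path g [5, 7, 5, 6, 7, 9, 0, 2, 0, 4, 5, 6] x = x :=
  trivial_rot 2 (H.trivial_rev (i := 11) (by decide)) (by decide)

theorem r11_0_3 : ∀ x : α, path g [7, 5, 6, 7, 9, 0, 2, 0, 4, 5, 6, 5] x = x :=
  trivial_rot 3 (H.trivial_rev (i := 11) (by decide)) (by decide)

theorem r11_0_6 : ∀ x : α, path g [7, 9, 0, 2, 0, 4, 5, 6, 5, 7, 5, 6] x = x :=
  trivial_rot 6 (H.trivial_rev (i := 11) (by decide)) (by decide)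

theorem r11_0_7 : ∀ x : α, path g [9, 0, 2, 0, 4, 5, 6, 5, 7, 5, 6, 7] x = x :=
  trivial_rot 7 (H.trivial_rev (i := 11) (by decide)) (by decide)

theorem r11_0_8 : ∀ x : α, path g [0, 2, 0, 4, 5, 6, 5, 7, 5, 6, 7, 9] x = x :=
  trivial_rot 8 (H.trivial_rev (i := 11) (by decide)) (by decide)

theorem r11_0_9 : ∀ x : α, path g [2, 0, 4, 5, 6, 5, 7, 5, 6, 7, 9, 0] x = x :=
  trivial_rot 9 (H.trivial_rev (i := 11) (by decide)) (by decide)

theorem r11_1_0 : ∀ x : α, path g [9, 5, 7, 5, 4, 2, 1, 0, 2, 0, 1, 0] x = x :=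
  trivial_rot 0 (H.trivial_inv (i := 11) (by decide) (by decide)) (by decide)

theorem r11_1_1 : ∀ x : α, path g [5, 7, 5, 4, 2, 1, 0, 2, 0, 1, 0, 9] x = x :=
  trivial_rot 1 (H.trivial_inv (i := 11) (by decide) (by decide)) (by decide)

theorem r11_1_4 : ∀ x : α, path g [4, 2, 1, 0, 2, 0, 1, 0, 9, 5, 7, 5] x = x :=
  trivial_rot 4 (H.trivial_inv (i := 11) (by decide) (by decide)) (by decide)

theorem r11_1_5 : ∀ x : α, path g [2, 1, 0, 2, 0, 1, 0, 9, 5, 7, 5, 4] x = x :=
  trivial_rot 5 (H.trivial_inv (i := 11) (by decide) (by decide)) (by decide)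

theorem r11_1_6 : ∀ x : α, path g [1, 0, 2, 0, 1, 0, 9, 5, 7, 5, 4, 2] x = x :=
  trivial_rot 6 (H.trivial_inv (i := 11) (by decide) (by decide)) (by decide)

theorem r11_1_7 : ∀ x : α, path g [0, 2, 0, 1, 0, 9, 5, 7, 5, 4, 2, 1] x = x :=
  trivial_rot 7 (H.trivial_inv (i := 11) (by decide) (by decide)) (by decide)

theorem r11_1_9 : ∀ x : α, path g [0, 1, 0, 9, 5, 7, 5, 4, 2, 1, 0, 2] x = x :=
  trivial_rot 9 (H.trivial_inv (i := 11) (by decide) (by decide)) (by decide)

theorem r11_1_10 : ∀ x : α, path g [1, 0, 9, 5, 7, 5, 4, 2, 1, 0, 2, 0] x = x :=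
  trivial_rot 10 (H.trivial_inv (i := 11) (by decide) (by decide)) (by decide)

theorem r12_0_1 : ∀ x : α, path g [6, 7, 5, 6, 9, 1, 1, 0, 1, 4, 5] x = x :=
  trivial_rot 1 (H.trivial_rev (i := 12) (by decide)) (by decide)

theorem r12_0_2 : ∀ x : α, path g [7, 5, 6, 9, 1, 1, 0, 1, 4, 5, 6] x = x :=
  trivial_rot 2 (H.trivial_rev (i := 12) (by decide)) (by decide)

theorem r12_0_3 : ∀ x : α, path g [5, 6, 9, 1, 1, 0, 1, 4, 5, 6, 7] x = x :=
  trivial_rot 3 (H.trivial_rev (i := 12) (by decide)) (by decide)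

theorem r12_0_5 : ∀ x : α, path g [9, 1, 1, 0, 1, 4, 5, 6, 7, 5, 6] x = x :=
  trivial_rot 5 (H.trivial_rev (i := 12) (by decide)) (by decide)

theorem r12_1_0 : ∀ x : α, path g [9, 6, 5, 6, 6, 4, 1, 0, 2, 1, 0] x = x :=
  trivial_rot 0 (H.trivial_inv (i := 12) (by decide) (by decide)) (by decide)

theorem r12_1_1 : ∀ x : α, path g [6, 5, 6, 6, 4, 1, 0, 2, 1, 0, 9] x = x :=
  trivial_rot 1 (H.trivial_inv (i := 12) (by decide) (by decide)) (by decide)

theorem r12_1_2 : ∀ x : α, path g [5, 6, 6, 4, 1, 0, 2, 1, 0, 9, 6] x = x :=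
  trivial_rot 2 (H.trivial_inv (i := 12) (by decide) (by decide)) (by decide)

theorem r12_1_3 : ∀ x : α, path g [6, 6, 4, 1, 0, 2, 1, 0, 9, 6, 5] x = x :=
  trivial_rot 3 (H.trivial_inv (i := 12) (by decide) (by decide)) (by decide)

theorem r12_1_5 : ∀ x : α, path g [4, 1, 0, 2, 1, 0, 9, 6, 5, 6, 6] x = x :=
  trivial_rot 5 (H.trivial_inv (i := 12) (by decide) (by decide)) (by decide)

theorem r12_1_7 : ∀ x : α, path g [0, 2, 1, 0, 9, 6, 5, 6, 6, 4, 1] x = x :=
  trivial_rot 7 (H.trivial_inv (i := 12) (by decide) (by decide)) (by decide)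

theorem r12_1_8 : ∀ x : α, path g [2, 1, 0, 9, 6, 5, 6, 6, 4, 1, 0] x = x :=
  trivial_rot 8 (H.trivial_inv (i := 12) (by decide) (by decide)) (by decide)

theorem r12_1_9 : ∀ x : α, path g [1, 0, 9, 6, 5, 6, 6, 4, 1, 0, 2] x = x :=
  trivial_rot 9 (H.trivial_inv (i := 12) (by decide) (by decide)) (by decide)

theorem r12_1_10 : ∀ x : α, path g [0, 9, 6, 5, 6, 6, 4, 1, 0, 2, 1] x = x :=
  trivial_rot 10 (H.trivial_inv (i := 12) (by decide) (by decide)) (by decide)

theorem r13_0_0 : ∀ x : α, path g [4, 4, 4] x = x :=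
  trivial_rot 0 (H.trivial_rev (i := 13) (by decide)) (by decide)

theorem r13_1_0 : ∀ x : α, path g [9, 9, 9] x = x :=
  trivial_rot 0 (H.trivial_inv (i := 13) (by decide) (by decide)) (by decide)

theorem r14_0_0 : ∀ x : α, path g [9, 8, 4, 3] x = x :=
  trivial_rot 0 (H.trivial_rev (i := 14) (by decide)) (by decide)

theorem r14_0_1 : ∀ x : α, path g [8, 4, 3, 9] x = x :=
  trivial_rot 1 (H.trivial_rev (i := 14) (by decide)) (by decide)

theorem r14_0_2 : ∀ x : α, path g [4, 3, 9, 8] x = x :=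
  trivial_rot 2 (H.trivial_rev (i := 14) (by decide)) (by decide)

theorem r14_0_3 : ∀ x : α, path g [3, 9, 8, 4] x = x :=
  trivial_rot 3 (H.trivial_rev (i := 14) (by decide)) (by decide)

theorem r14_1_0 : ∀ x : α, path g [8, 9, 3, 4] x = x :=
  trivial_rot 0 (H.trivial_inv (i := 14) (by decide) (by decide)) (by decide)

theorem r14_1_1 : ∀ x : α, path g [9, 3, 4, 8] x = x :=
  trivial_rot 1 (H.trivial_inv (i := 14) (by decide) (by decide)) (by decide)

theorem r14_1_2 : ∀ x : α, path g [3, 4, 8, 9] x = x :=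
  trivial_rot 2 (H.trivial_inv (i := 14) (by decide) (by decide)) (by decide)

theorem r14_1_3 : ∀ x : α, path g [4, 8, 9, 3] x = x :=
  trivial_rot 3 (H.trivial_inv (i := 14) (by decide) (by decide)) (by decide)

theorem r15_0_1 : ∀ x : α, path g [3, 1, 3, 1, 3, 1, 3, 1, 3, 1, 3, 1, 3, 1] x = x :=
  trivial_rot 1 (H.trivial_rev (i := 15) (by decide)) (by decide)

theorem r15_1_0 : ∀ x : α, path g [8, 6, 8, 6, 8, 6, 8, 6, 8, 6, 8, 6, 8, 6] x = x :=
  trivial_rot 0 (H.trivial_inv (i := 15) (by decide) (by decide)) (by decide)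

theorem r16_0_1 : ∀ x : α, path g [4, 1, 4, 1, 4, 1, 4, 1, 4, 1, 4, 1, 4, 1] x = x :=
  trivial_rot 1 (H.trivial_rev (i := 16) (by decide)) (by decide)

theorem r16_1_0 : ∀ x : α, path g [9, 6, 9, 6, 9, 6, 9, 6, 9, 6, 9, 6, 9, 6] x = x :=
  trivial_rot 0 (H.trivial_inv (i := 16) (by decide) (by decide)) (by decide)

theorem r16_1_1 : ∀ x : α, path g [6, 9, 6, 9, 6, 9, 6, 9, 6, 9, 6, 9, 6, 9] x = x :=
  trivial_rot 1 (H.trivial_inv (i := 16) (by decide) (by decide)) (by decide)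

theorem r17_0_0 : ∀ x : α, path g [0, 1, 3, 0, 1, 3, 0, 1, 3] x = x :=
  trivial_rot 0 (H.trivial_rev (i := 17) (by decide)) (by decide)

theorem r17_0_1 : ∀ x : α, path g [1, 3, 0, 1, 3, 0, 1, 3, 0] x = x :=
  trivial_rot 1 (H.trivial_rev (i := 17) (by decide)) (by decide)

theorem r17_0_2 : ∀ x : α, path g [3, 0, 1, 3, 0, 1, 3, 0, 1] x = x :=
  trivial_rot 2 (H.trivial_rev (i := 17) (by decide)) (by decide)

theorem r17_1_0 : ∀ x : α, path g [8, 6, 5, 8, 6, 5, 8, 6, 5] x = x :=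
  trivial_rot 0 (H.trivial_inv (i := 17) (by decide) (by decide)) (by decide)

theorem r17_1_1 : ∀ x : α, path g [6, 5, 8, 6, 5, 8, 6, 5, 8] x = x :=
  trivial_rot 1 (H.trivial_inv (i := 17) (by decide) (by decide)) (by decide)

theorem r17_1_2 : ∀ x : α, path g [5, 8, 6, 5, 8, 6, 5, 8, 6] x = x :=
  trivial_rot 2 (H.trivial_inv (i := 17) (by decide) (by decide)) (by decide)

theorem r18_0_2 : ∀ x : α, path g [5, 6, 7, 5, 6, 7, 2, 1, 4, 2, 1, 4, 2, 1, 4, 5, 5] x = x :=
  trivial_rot 2 (H.trivial_rev (i := 18) (by decide)) (by decide)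

theorem r18_0_8 : ∀ x : α, path g [2, 1, 4, 2, 1, 4, 2, 1, 4, 5, 5, 5, 6, 7, 5, 6, 7] x = x :=
  trivial_rot 8 (H.trivial_rev (i := 18) (by decide)) (by decide)

theorem r18_0_10 : ∀ x : α, path g [4, 2, 1, 4, 2, 1, 4, 5, 5, 5, 6, 7, 5, 6, 7, 2, 1] x = x :=
  trivial_rot 10 (H.trivial_rev (i := 18) (by decide)) (by decide)

theorem r18_0_11 : ∀ x : α, path g [2, 1, 4, 2, 1, 4, 5, 5, 5, 6, 7, 5, 6, 7, 2, 1, 4] x = x :=
  trivial_rot 11 (H.trivial_rev (i := 18) (by decide)) (by decide)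

theorem r18_0_12 : ∀ x : α, path g [1, 4, 2, 1, 4, 5, 5, 5, 6, 7, 5, 6, 7, 2, 1, 4, 2] x = x :=
  trivial_rot 12 (H.trivial_rev (i := 18) (by decide)) (by decide)

theorem r18_1_1 : ∀ x : α, path g [6, 7, 9, 6, 7, 9, 6, 7, 2, 1, 0, 2, 1, 0, 0, 0, 9] x = x :=
  trivial_rot 1 (H.trivial_inv (i := 18) (by decide) (by decide)) (by decide)

theorem r18_1_2 : ∀ x : α, path g [7, 9, 6, 7, 9, 6, 7, 2, 1, 0, 2, 1, 0, 0, 0, 9, 6] x = x :=
  trivial_rot 2 (H.trivial_inv (i := 18) (by decide) (by decide)) (by decide)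

theorem r18_1_11 : ∀ x : α, path g [0, 2, 1, 0, 0, 0, 9, 6, 7, 9, 6, 7, 9, 6, 7, 2, 1] x = x :=
  trivial_rot 11 (H.trivial_inv (i := 18) (by decide) (by decide)) (by decide)

theorem r18_1_13 : ∀ x : α, path g [1, 0, 0, 0, 9, 6, 7, 9, 6, 7, 9, 6, 7, 2, 1, 0, 2] x = x :=
  trivial_rot 13 (H.trivial_inv (i := 18) (by decide) (by decide)) (by decide)

theorem r18_1_14 : ∀ x : α, path g [0, 0, 0, 9, 6, 7, 9, 6, 7, 9, 6, 7, 2, 1, 0, 2, 1] x = x :=
  trivial_rot 14 (H.trivial_inv (i := 18) (by decide) (by decide)) (by decide)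

theorem f0 : g 0 • path g [] p = path g [] p :=
  H.base (i := 0) (by decide)

theorem f1 : g 5 • path g [] p = path g [] p :=
  H.back (i := 0) (by decide) (f0 H)

theorem f2 : g 1 • path g [] p = path g [] p :=
  H.base (i := 1) (by decide)

theorem f3 : g 6 • path g [] p = path g [] p :=
  H.back (i := 1) (by decide) (f2 H)

theorem f4 : g 2 • path g [] p = path g [] p :=
  H.base (i := 2) (by decide)

theorem f5 : g 7 • path g [] p = path g [] p :=
  H.back (i := 2) (by decide) (f4 H)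

theorem f6 : g 3 • path g [] p = path g [3] p :=
  rfl

theorem f7 : g 8 • path g [3] p = path g [] p :=
  H.back (i := 3) (by decide) (f6 H)

theorem f8 : g 4 • path g [] p = path g [4] p :=
  rfl

theorem f9 : g 9 • path g [4] p = path g [] p :=
  H.back (i := 4) (by decide) (f8 H)

theorem f10 : g 8 • path g [] p = path g [8] p :=
  rfl

theorem f11 : g 3 • path g [8] p = path g [] p :=
  H.back (i := 8) (by decide) (f10 H)

theorem f12 : g 8 • path g [8] p = path g [3] p :=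
  scan (u := [8]) (w := [8]) (i := 8) (r9_1_0 H) (step (f10 H) rfl) (step (H.back (i := 3) (by decide) (f6 H)) rfl)

theorem f13 : g 3 • path g [3] p = path g [8] p :=
  H.back (i := 8) (by decide) (f12 H)

theorem f14 : g 0 • path g [8] p = path g [8] p :=
  scan (u := [8]) (w := [3, 6, 5, 7, 5, 6]) (i := 0) (r7_0_5 H) (step (f10 H) rfl) (step (H.back (i := 8) (by decide) (f10 H)) (step (H.back (i := 1) (by decide) (f2 H)) (step (H.back (i := 0) (by decide) (f0 H)) (step (H.back (i := 2) (by decide) (f4 H)) (step (H.back (i := 0) (by decide) (f0 H)) (step (H.back (i := 1) (by decide) (f2 H)) rfl))))))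

theorem f15 : g 5 • path g [8] p = path g [8] p :=
  H.back (i := 0) (by decide) (f14 H)

theorem f16 : g 2 • path g [8] p = path g [8] p :=
  scan (u := [8]) (w := [3, 5, 5, 6, 5, 7, 5, 6, 5]) (i := 2) (r6_0_8 H) (step (f10 H) rfl) (step (H.back (i := 8) (by decide) (f10 H)) (step (H.back (i := 0) (by decide) (f0 H)) (step (H.back (i := 0) (by decide) (f0 H)) (step (H.back (i := 1) (by decide) (f2 H)) (step (H.back (i := 0) (by decide) (f0 H)) (step (H.back (i := 2) (by decide) (f4 H)) (step (H.back (i := 0) (by decide) (f0 H)) (step (H.back (i := 1) (by decide) (f2 H)) (step (H.back (i := 0) (by decide) (f0 H)) rfl)))))))))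

theorem f17 : g 7 • path g [8] p = path g [8] p :=
  H.back (i := 2) (by decide) (f16 H)

theorem f18 : g 9 • path g [] p = path g [9] p :=
  rfl

theorem f19 : g 4 • path g [9] p = path g [] p :=
  H.back (i := 9) (by decide) (f18 H)

theorem f20 : g 9 • path g [9] p = path g [4] p :=
  scan (u := [9]) (w := [9]) (i := 9) (r13_1_0 H) (step (f18 H) rfl) (step (H.back (i := 4) (by decide) (f8 H)) rfl)

theorem f21 : g 4 • path g [4] p = path g [9] p :=
  H.back (i := 9) (by decide) (f20 H)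

theorem f22 : g 2 • path g [9] p = path g [9] p :=
  scan (u := [9]) (w := [4, 5, 5, 5, 7, 5]) (i := 2) (r10_0_5 H) (step (f18 H) rfl) (step (H.back (i := 9) (by decide) (f18 H)) (step (H.back (i := 0) (by decide) (f0 H)) (step (H.back (i := 0) (by decide) (f0 H)) (step (H.back (i := 0) (by decide) (f0 H)) (step (H.back (i := 2) (by decide) (f4 H)) (step (H.back (i := 0) (by decide) (f0 H)) rfl))))))

theorem f23 : g 7 • path g [9] p = path g [9] p :=
  H.back (i := 2) (by decide) (f22 H)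

theorem f24 : g 0 • path g [3] p = path g [3, 0] p :=
  rfl

theorem f25 : g 5 • path g [3, 0] p = path g [3] p :=
  H.back (i := 0) (by decide) (f24 H)

theorem f26 : g 2 • path g [3, 0] p = path g [3] p :=
  scan (u := [0]) (w := [8, 6, 5, 7, 5, 6, 3]) (i := 2) (r8_1_7 H) (step (f24 H) rfl) (step (H.back (i := 3) (by decide) (f6 H)) (step (H.back (i := 1) (by decide) (f2 H)) (step (H.back (i := 0) (by decide) (f0 H)) (step (H.back (i := 2) (by decide) (f4 H)) (step (H.back (i := 0) (by decide) (f0 H)) (step (H.back (i := 1) (by decide) (f2 H)) (step (H.back (i := 8) (by decide) (f7 H)) rfl)))))))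

theorem f27 : g 7 • path g [3] p = path g [3, 0] p :=
  H.back (i := 2) (by decide) (f26 H)

theorem f28 : g 1 • path g [3] p = path g [3, 1] p :=
  rfl

theorem f29 : g 6 • path g [3, 1] p = path g [3] p :=
  H.back (i := 1) (by decide) (f28 H)

theorem f30 : g 2 • path g [3] p = path g [3, 2] p :=
  rfl

theorem f31 : g 7 • path g [3, 2] p = path g [3] p :=
  H.back (i := 2) (by decide) (f30 H)

theorem f32 : g 4 • path g [3] p = path g [3, 4] p :=
  rfl

theorem f33 : g 9 • path g [3, 4] p = path g [3] p :=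
  H.back (i := 4) (by decide) (f32 H)

theorem f34 : g 8 • path g [3, 4] p = path g [4] p :=
  scan (u := [4]) (w := [9, 3]) (i := 8) (r14_1_3 H) (step (f32 H) rfl) (step (H.back (i := 4) (by decide) (f8 H)) (step (H.back (i := 8) (by decide) (f7 H)) rfl))

theorem f35 : g 3 • path g [4] p = path g [3, 4] p :=
  H.back (i := 8) (by decide) (f34 H)

theorem f36 : g 5 • path g [3] p = path g [3, 5] p :=
  rfl

theorem f38 : g 6 • path g [3] p = path g [3, 6] p :=
  rfl

theorem f39 : g 1 • path g [3, 6] p = path g [3] p :=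
  H.back (i := 6) (by decide) (f38 H)

theorem f40 : g 6 • path g [3, 6] p = path g [3, 1] p :=
  scan (u := [6]) (w := [6]) (i := 6) (r0_1_0 H) (step (f38 H) rfl) (step (H.back (i := 1) (by decide) (f28 H)) rfl)

theorem f41 : g 1 • path g [3, 1] p = path g [3, 6] p :=
  H.back (i := 6) (by decide) (f40 H)

theorem f42 : g 9 • path g [3] p = path g [3, 9] p :=
  rfl

theorem f43 : g 4 • path g [3, 9] p = path g [3] p :=
  H.back (i := 9) (by decide) (f42 H)

theorem f44 : g 9 • path g [3, 9] p = path g [3, 4] p :=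
  scan (u := [9]) (w := [9]) (i := 9) (r13_1_0 H) (step (f42 H) rfl) (step (H.back (i := 4) (by decide) (f32 H)) rfl)

theorem f45 : g 4 • path g [3, 4] p = path g [3, 9] p :=
  H.back (i := 9) (by decide) (f44 H)

theorem f46 : g 8 • path g [3, 9] p = path g [9] p :=
  scan (u := [9]) (w := [4, 3]) (i := 8) (r14_0_0 H) (step (f42 H) rfl) (step (H.back (i := 9) (by decide) (f18 H)) (step (H.back (i := 8) (by decide) (f7 H)) rfl))

theorem f47 : g 3 • path g [9] p = path g [3, 9] p :=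
  H.back (i := 8) (by decide) (f46 H)

theorem f48 : g 0 • path g [4] p = path g [4, 0] p :=
  rfl

theorem f49 : g 5 • path g [4, 0] p = path g [4] p :=
  H.back (i := 0) (by decide) (f48 H)

theorem f50 : g 1 • path g [4] p = path g [4, 1] p :=
  rfl

theorem f51 : g 6 • path g [4, 1] p = path g [4] p :=
  H.back (i := 1) (by decide) (f50 H)

theorem f52 : g 2 • path g [4] p = path g [4, 2] p :=
  rfl

theorem f53 : g 7 • path g [4, 2] p = path g [4] p :=
  H.back (i := 2) (by decide) (f52 H)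

theorem f54 : g 5 • path g [4] p = path g [4, 5] p :=
  rfl

theorem f55 : g 0 • path g [4, 5] p = path g [4] p :=
  H.back (i := 5) (by decide) (f54 H)

theorem f56 : g 6 • path g [4] p = path g [4, 6] p :=
  rfl

theorem f57 : g 1 • path g [4, 6] p = path g [4] p :=
  H.back (i := 6) (by decide) (f56 H)

theorem f58 : g 6 • path g [4, 6] p = path g [4, 1] p :=
  scan (u := [6]) (w := [6]) (i := 6) (r0_1_0 H) (step (f56 H) rfl) (step (H.back (i := 1) (by decide) (f50 H)) rfl)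

theorem f59 : g 1 • path g [4, 1] p = path g [4, 6] p :=
  H.back (i := 6) (by decide) (f58 H)

theorem f60 : g 7 • path g [4] p = path g [4, 7] p :=
  rfl

theorem f62 : g 8 • path g [4] p = path g [4, 8] p :=
  rfl

theorem f63 : g 3 • path g [4, 8] p = path g [4] p :=
  H.back (i := 8) (by decide) (f62 H)

theorem f64 : g 8 • path g [4, 8] p = path g [3, 4] p :=
  scan (u := [8]) (w := [8]) (i := 8) (r9_1_0 H) (step (f62 H) rfl) (step (H.back (i := 3) (by decide) (f35 H)) rfl)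

theorem f65 : g 3 • path g [3, 4] p = path g [4, 8] p :=
  H.back (i := 8) (by decide) (f64 H)

theorem f66 : g 9 • path g [4, 8] p = path g [8] p :=
  scan (u := [8]) (w := [3, 4]) (i := 9) (r14_1_0 H) (step (f62 H) rfl) (step (H.back (i := 8) (by decide) (f10 H)) (step (H.back (i := 9) (by decide) (f9 H)) rfl))

theorem f67 : g 4 • path g [8] p = path g [4, 8] p :=
  H.back (i := 9) (by decide) (f66 H)

theorem f68 : g 1 • path g [8] p = path g [8, 1] p :=
  rfl

theorem f69 : g 6 • path g [8, 1] p = path g [8] p :=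
  H.back (i := 1) (by decide) (f68 H)

theorem f70 : g 6 • path g [8] p = path g [8, 6] p :=
  rfl

theorem f71 : g 1 • path g [8, 6] p = path g [8] p :=
  H.back (i := 6) (by decide) (f70 H)

theorem f72 : g 6 • path g [8, 6] p = path g [8, 1] p :=
  scan (u := [6]) (w := [6]) (i := 6) (r0_1_0 H) (step (f70 H) rfl) (step (H.back (i := 1) (by decide) (f68 H)) rfl)

theorem f73 : g 1 • path g [8, 1] p = path g [8, 6] p :=
  H.back (i := 6) (by decide) (f72 H)

theorem f74 : g 7 • path g [8, 6] p = path g [8, 1] p :=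
  scan (u := [6]) (w := [6, 7]) (i := 7) (r1_1_0 H) (step (f70 H) rfl) (step (H.back (i := 1) (by decide) (f68 H)) (step (H.back (i := 2) (by decide) (f16 H)) rfl))

theorem f75 : g 2 • path g [8, 1] p = path g [8, 6] p :=
  H.back (i := 7) (by decide) (f74 H)

theorem f76 : g 9 • path g [8] p = path g [8, 9] p :=
  rfl

theorem f77 : g 4 • path g [8, 9] p = path g [8] p :=
  H.back (i := 9) (by decide) (f76 H)

theorem f78 : g 9 • path g [8, 9] p = path g [4, 8] p :=
  scan (u := [9]) (w := [9]) (i := 9) (r13_1_0 H) (step (f76 H) rfl) (step (H.back (i := 4) (by decide) (f67 H)) rfl)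

theorem f79 : g 4 • path g [4, 8] p = path g [8, 9] p :=
  H.back (i := 9) (by decide) (f78 H)

theorem f80 : g 8 • path g [8, 9] p = path g [3, 9] p :=
  scan (u := [9]) (w := [4, 3]) (i := 8) (r14_0_0 H) (step (f76 H) rfl) (step (H.back (i := 9) (by decide) (f42 H)) (step (H.back (i := 8) (by decide) (f12 H)) rfl))

theorem f81 : g 3 • path g [3, 9] p = path g [8, 9] p :=
  H.back (i := 8) (by decide) (f80 H)

theorem f82 : g 3 • path g [8, 9] p = path g [9] p :=
  scan (u := [9]) (w := [4, 8]) (i := 3) (r14_1_1 H) (step (f76 H) rfl) (step (H.back (i := 9) (by decide) (f18 H)) (step (H.back (i := 3) (by decide) (f11 H)) rfl))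

theorem f83 : g 8 • path g [9] p = path g [8, 9] p :=
  H.back (i := 3) (by decide) (f82 H)

theorem f84 : g 2 • path g [8, 9] p = path g [8, 9] p :=
  scan (u := [9]) (w := [4, 5, 5, 5, 7, 5]) (i := 2) (r10_0_5 H) (step (f76 H) rfl) (step (H.back (i := 9) (by decide) (f76 H)) (step (H.back (i := 0) (by decide) (f14 H)) (step (H.back (i := 0) (by decide) (f14 H)) (step (H.back (i := 0) (by decide) (f14 H)) (step (H.back (i := 2) (by decide) (f16 H)) (step (H.back (i := 0) (by decide) (f14 H)) rfl))))))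

theorem f85 : g 7 • path g [8, 9] p = path g [8, 9] p :=
  H.back (i := 2) (by decide) (f84 H)

theorem f86 : g 0 • path g [9] p = path g [9, 0] p :=
  rfl

theorem f87 : g 5 • path g [9, 0] p = path g [9] p :=
  H.back (i := 0) (by decide) (f86 H)

theorem f88 : g 1 • path g [9] p = path g [9, 1] p :=
  rfl

theorem f89 : g 6 • path g [9, 1] p = path g [9] p :=
  H.back (i := 1) (by decide) (f88 H)

theorem f90 : g 5 • path g [9] p = path g [9, 5] p :=
  rfl

theorem f91 : g 0 • path g [9, 5] p = path g [9] p :=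
  H.back (i := 5) (by decide) (f90 H)

theorem f92 : g 7 • path g [9, 5] p = path g [9, 0] p :=
  scan (u := [5]) (w := [5, 4, 2, 1, 0, 2, 0, 1, 0, 9]) (i := 7) (r11_1_1 H) (step (f90 H) rfl) (step (H.back (i := 0) (by decide) (f86 H)) (step (H.back (i := 9) (by decide) (f18 H)) (step (H.back (i := 7) (by decide) (f5 H)) (step (H.back (i := 6) (by decide) (f3 H)) (step (H.back (i := 5) (by decide) (f1 H)) (step (H.back (i := 7) (by decide) (f5 H)) (step (H.back (i := 5) (by decide) (f1 H)) (step (H.back (i := 6) (by decide) (f3 H)) (step (H.back (i := 5) (by decide) (f1 H)) (step (H.back (i := 4) (by decide) (f19 H)) rfl))))))))))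

theorem f93 : g 2 • path g [9, 0] p = path g [9, 5] p :=
  H.back (i := 7) (by decide) (f92 H)

theorem f94 : g 6 • path g [9] p = path g [9, 6] p :=
  rfl

theorem f95 : g 1 • path g [9, 6] p = path g [9] p :=
  H.back (i := 6) (by decide) (f94 H)

theorem f96 : g 6 • path g [9, 6] p = path g [9, 1] p :=
  scan (u := [6]) (w := [6]) (i := 6) (r0_1_0 H) (step (f94 H) rfl) (step (H.back (i := 1) (by decide) (f88 H)) rfl)

theorem f97 : g 1 • path g [9, 1] p = path g [9, 6] p :=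
  H.back (i := 6) (by decide) (f96 H)

theorem f98 : g 7 • path g [9, 6] p = path g [9, 1] p :=
  scan (u := [6]) (w := [6, 7]) (i := 7) (r1_1_0 H) (step (f94 H) rfl) (step (H.back (i := 1) (by decide) (f88 H)) (step (H.back (i := 2) (by decide) (f22 H)) rfl))

theorem f99 : g 2 • path g [9, 1] p = path g [9, 6] p :=
  H.back (i := 7) (by decide) (f98 H)

theorem f100 : g 5 • path g [9, 6] p = path g [9, 6] p :=
  scan (u := [6]) (w := [6, 6, 4, 1, 0, 2, 1, 0, 9]) (i := 5) (r12_1_1 H) (step (f94 H) rfl) (step (H.back (i := 1) (by decide) (f97 H)) (step (H.back (i := 1) (by decide) (f88 H)) (step (H.back (i := 9) (by decide) (f18 H)) (step (H.back (i := 6) (by decide) (f3 H)) (step (H.back (i := 5) (by decide) (f1 H)) (step (H.back (i := 7) (by decide) (f5 H)) (step (H.back (i := 6) (by decide) (f3 H)) (step (H.back (i := 5) (by decide) (f1 H)) (step (H.back (i := 4) (by decide) (f19 H)) rfl)))))))))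

theorem f101 : g 0 • path g [9, 6] p = path g [9, 6] p :=
  H.back (i := 5) (by decide) (f100 H)

theorem f102 : g 0 • path g [3, 0] p = path g [3, 0, 0] p :=
  rfl

theorem f104 : g 2 • path g [3, 0, 0] p = path g [3, 5] p :=
  scan (u := [0]) (w := [0, 0, 2, 0]) (i := 2) (r2_0_2 H) (step (f102 H) rfl) (step (H.back (i := 5) (by decide) (f36 H)) (step (H.back (i := 5) (by decide) (f25 H)) (step (H.back (i := 7) (by decide) (f27 H)) (step (H.back (i := 5) (by decide) (f25 H)) rfl))))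

theorem f106 : g 1 • path g [3, 0] p = path g [3, 0, 1] p :=
  rfl

theorem f107 : g 6 • path g [3, 0, 1] p = path g [3, 0] p :=
  H.back (i := 1) (by decide) (f106 H)

theorem f112 : g 6 • path g [3, 0] p = path g [3, 0, 6] p :=
  rfl

theorem f114 : g 6 • path g [3, 0, 6] p = path g [3, 0, 1] p :=
  scan (u := [6]) (w := [6]) (i := 6) (r0_1_0 H) (step (f112 H) rfl) (step (H.back (i := 1) (by decide) (f106 H)) rfl)

theorem f116 : g 7 • path g [3, 0, 6] p = path g [3, 1] p :=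
  scan (u := [6]) (w := [6, 7]) (i := 7) (r1_1_0 H) (step (f112 H) rfl) (step (H.back (i := 1) (by decide) (f28 H)) (step (H.back (i := 2) (by decide) (f26 H)) rfl))

theorem f117 : g 2 • path g [3, 1] p = path g [3, 0, 6] p :=
  H.back (i := 7) (by decide) (f116 H)

theorem f128 : g 0 • path g [3, 1] p = path g [3, 1, 0] p :=
  rfl

theorem f129 : g 5 • path g [3, 1, 0] p = path g [3, 1] p :=
  H.back (i := 0) (by decide) (f128 H)

theorem f130 : g 3 • path g [3, 1] p = path g [3, 1, 3] p :=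
  rfl

theorem f131 : g 8 • path g [3, 1, 3] p = path g [3, 1] p :=
  H.back (i := 3) (by decide) (f130 H)

theorem f132 : g 4 • path g [3, 1] p = path g [3, 1, 4] p :=
  rfl

theorem f133 : g 9 • path g [3, 1, 4] p = path g [3, 1] p :=
  H.back (i := 4) (by decide) (f132 H)

theorem f134 : g 5 • path g [3, 1] p = path g [3, 1, 5] p :=
  rfl

theorem f135 : g 0 • path g [3, 1, 5] p = path g [3, 1] p :=
  H.back (i := 5) (by decide) (f134 H)

theorem f136 : g 7 • path g [3, 1] p = path g [3, 1, 7] p :=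
  rfl

theorem f138 : g 8 • path g [3, 1] p = path g [3, 1, 8] p :=
  rfl

theorem f140 : g 8 • path g [3, 1, 8] p = path g [3, 1, 3] p :=
  scan (u := [8]) (w := [8]) (i := 8) (r9_1_0 H) (step (f138 H) rfl) (step (H.back (i := 3) (by decide) (f130 H)) rfl)

theorem f141 : g 3 • path g [3, 1, 3] p = path g [3, 1, 8] p :=
  H.back (i := 8) (by decide) (f140 H)

theorem f142 : g 9 • path g [3, 1] p = path g [3, 1, 9] p :=
  rfl

theorem f143 : g 4 • path g [3, 1, 9] p = path g [3, 1] p :=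
  H.back (i := 9) (by decide) (f142 H)

theorem f144 : g 9 • path g [3, 1, 9] p = path g [3, 1, 4] p :=
  scan (u := [9]) (w := [9]) (i := 9) (r13_1_0 H) (step (f142 H) rfl) (step (H.back (i := 4) (by decide) (f132 H)) rfl)

theorem f145 : g 4 • path g [3, 1, 4] p = path g [3, 1, 9] p :=
  H.back (i := 9) (by decide) (f144 H)

theorem f148 : g 1 • path g [3, 2] p = path g [3, 2, 1] p :=
  rfl

theorem f150 : g 2 • path g [3, 2, 1] p = path g [3, 6] p :=
  scan (u := [1]) (w := [1, 2]) (i := 2) (r1_0_1 H) (step (f148 H) rfl) (step (H.back (i := 6) (by decide) (f38 H)) (step (H.back (i := 7) (by decide) (f31 H)) rfl))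

theorem f151 : g 7 • path g [3, 6] p = path g [3, 2, 1] p :=
  H.back (i := 2) (by decide) (f150 H)

theorem f154 : g 3 • path g [3, 2] p = path g [3, 2, 3] p :=
  rfl

theorem f160 : g 6 • path g [3, 2] p = path g [3, 2, 6] p :=
  rfl

theorem f162 : g 6 • path g [3, 2, 6] p = path g [3, 2, 1] p :=
  scan (u := [6]) (w := [6]) (i := 6) (r0_1_0 H) (step (f160 H) rfl) (step (H.back (i := 1) (by decide) (f148 H)) rfl)

theorem f164 : g 8 • path g [3, 2] p = path g [3, 2, 8] p :=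
  rfl

theorem f165 : g 3 • path g [3, 2, 8] p = path g [3, 2] p :=
  H.back (i := 8) (by decide) (f164 H)

theorem f166 : g 8 • path g [3, 2, 8] p = path g [3, 2, 3] p :=
  scan (u := [8]) (w := [8]) (i := 8) (r9_1_0 H) (step (f164 H) rfl) (step (H.back (i := 3) (by decide) (f154 H)) rfl)

theorem f167 : g 3 • path g [3, 2, 3] p = path g [3, 2, 8] p :=
  H.back (i := 8) (by decide) (f166 H)

theorem f172 : g 0 • path g [3, 4] p = path g [3, 4, 0] p :=
  rfl

theorem f174 : g 1 • path g [3, 4] p = path g [3, 4, 1] p :=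
  rfl

theorem f175 : g 6 • path g [3, 4, 1] p = path g [3, 4] p :=
  H.back (i := 1) (by decide) (f174 H)

theorem f176 : g 2 • path g [3, 4] p = path g [3, 4, 2] p :=
  rfl

theorem f177 : g 7 • path g [3, 4, 2] p = path g [3, 4] p :=
  H.back (i := 2) (by decide) (f176 H)

theorem f178 : g 5 • path g [3, 4] p = path g [3, 4, 5] p :=
  rfl

theorem f180 : g 6 • path g [3, 4] p = path g [3, 4, 6] p :=
  rfl

theorem f181 : g 1 • path g [3, 4, 6] p = path g [3, 4] p :=
  H.back (i := 6) (by decide) (f180 H)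

theorem f182 : g 6 • path g [3, 4, 6] p = path g [3, 4, 1] p :=
  scan (u := [6]) (w := [6]) (i := 6) (r0_1_0 H) (step (f180 H) rfl) (step (H.back (i := 1) (by decide) (f174 H)) rfl)

theorem f183 : g 1 • path g [3, 4, 1] p = path g [3, 4, 6] p :=
  H.back (i := 6) (by decide) (f182 H)

theorem f184 : g 7 • path g [3, 4] p = path g [3, 4, 7] p :=
  rfl

theorem f208 : g 0 • path g [3, 6] p = path g [3, 6, 0] p :=
  rfl

theorem f209 : g 5 • path g [3, 6, 0] p = path g [3, 6] p :=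
  H.back (i := 0) (by decide) (f208 H)

theorem f210 : g 2 • path g [3, 6] p = path g [3, 6, 2] p :=
  rfl

theorem f212 : g 1 • path g [3, 6, 2] p = path g [3, 1, 7] p :=
  scan (u := [2]) (w := [2, 1]) (i := 1) (r1_0_0 H) (step (f210 H) rfl) (step (H.back (i := 7) (by decide) (f136 H)) (step (H.back (i := 6) (by decide) (f40 H)) rfl))

theorem f213 : g 6 • path g [3, 1, 7] p = path g [3, 6, 2] p :=
  H.back (i := 1) (by decide) (f212 H)

theorem f214 : g 3 • path g [3, 6] p = path g [3, 6, 3] p :=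
  rfl

theorem f216 : g 4 • path g [3, 6] p = path g [3, 6, 4] p :=
  rfl

theorem f217 : g 9 • path g [3, 6, 4] p = path g [3, 6] p :=
  H.back (i := 4) (by decide) (f216 H)

theorem f218 : g 5 • path g [3, 6] p = path g [3, 6, 5] p :=
  rfl

theorem f219 : g 0 • path g [3, 6, 5] p = path g [3, 6] p :=
  H.back (i := 5) (by decide) (f218 H)

theorem f220 : g 7 • path g [3, 6, 5] p = path g [3, 1, 0] p :=
  scan (u := [5]) (w := [5, 6, 8, 0, 3, 6]) (i := 7) (r7_0_1 H) (step (f218 H) rfl) (step (H.back (i := 0) (by decide) (f128 H)) (step (H.back (i := 1) (by decide) (f28 H)) (step (H.back (i := 3) (by decide) (f6 H)) (step (H.back (i := 5) (by decide) (f1 H)) (step (H.back (i := 8) (by decide) (f7 H)) (step (H.back (i := 1) (by decide) (f39 H)) rfl))))))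

theorem f221 : g 2 • path g [3, 1, 0] p = path g [3, 6, 5] p :=
  H.back (i := 7) (by decide) (f220 H)

theorem f222 : g 2 • path g [3, 6, 0] p = path g [3, 1, 5] p :=
  scan (u := [0, 0]) (w := [0, 0, 2]) (i := 2) (r2_0_1 H) (step (f219 H) (step (f208 H) rfl)) (step (H.back (i := 5) (by decide) (f134 H)) (step (H.back (i := 5) (by decide) (f129 H)) (step (H.back (i := 7) (by decide) (f220 H)) rfl)))

theorem f223 : g 7 • path g [3, 1, 5] p = path g [3, 6, 0] p :=
  H.back (i := 2) (by decide) (f222 H)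

theorem f224 : g 8 • path g [3, 6] p = path g [3, 6, 8] p :=
  rfl

theorem f225 : g 3 • path g [3, 6, 8] p = path g [3, 6] p :=
  H.back (i := 8) (by decide) (f224 H)

theorem f226 : g 8 • path g [3, 6, 8] p = path g [3, 6, 3] p :=
  scan (u := [8]) (w := [8]) (i := 8) (r9_1_0 H) (step (f224 H) rfl) (step (H.back (i := 3) (by decide) (f214 H)) rfl)

theorem f227 : g 3 • path g [3, 6, 3] p = path g [3, 6, 8] p :=
  H.back (i := 8) (by decide) (f226 H)

theorem f228 : g 5 • path g [3, 6, 8] p = path g [3, 1, 8] p :=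
  scan (u := [8]) (w := [3, 1, 0, 2, 0, 1]) (i := 5) (r7_1_0 H) (step (f224 H) rfl) (step (H.back (i := 8) (by decide) (f138 H)) (step (H.back (i := 6) (by decide) (f40 H)) (step (H.back (i := 5) (by decide) (f209 H)) (step (H.back (i := 7) (by decide) (f223 H)) (step (H.back (i := 5) (by decide) (f134 H)) (step (H.back (i := 6) (by decide) (f40 H)) rfl))))))

theorem f229 : g 0 • path g [3, 1, 8] p = path g [3, 6, 8] p :=
  H.back (i := 5) (by decide) (f228 H)

theorem f230 : g 9 • path g [3, 6] p = path g [3, 6, 9] p :=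
  rfl

theorem f231 : g 4 • path g [3, 6, 9] p = path g [3, 6] p :=
  H.back (i := 9) (by decide) (f230 H)

theorem f232 : g 9 • path g [3, 6, 9] p = path g [3, 6, 4] p :=
  scan (u := [9]) (w := [9]) (i := 9) (r13_1_0 H) (step (f230 H) rfl) (step (H.back (i := 4) (by decide) (f216 H)) rfl)

theorem f233 : g 4 • path g [3, 6, 4] p = path g [3, 6, 9] p :=
  H.back (i := 9) (by decide) (f232 H)

theorem f234 : g 0 • path g [3, 9] p = path g [3, 9, 0] p :=
  rfl

theorem f235 : g 5 • path g [3, 9, 0] p = path g [3, 9] p :=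
  H.back (i := 0) (by decide) (f234 H)

theorem f236 : g 1 • path g [3, 9] p = path g [3, 9, 1] p :=
  rfl

theorem f237 : g 6 • path g [3, 9, 1] p = path g [3, 9] p :=
  H.back (i := 1) (by decide) (f236 H)

theorem f238 : g 2 • path g [3, 9] p = path g [3, 9, 2] p :=
  rfl

theorem f240 : g 5 • path g [3, 9] p = path g [3, 9, 5] p :=
  rfl

theorem f241 : g 0 • path g [3, 9, 5] p = path g [3, 9] p :=
  H.back (i := 5) (by decide) (f240 H)

theorem f242 : g 6 • path g [3, 9] p = path g [3, 9, 6] p :=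
  rfl

theorem f243 : g 1 • path g [3, 9, 6] p = path g [3, 9] p :=
  H.back (i := 6) (by decide) (f242 H)

theorem f244 : g 6 • path g [3, 9, 6] p = path g [3, 9, 1] p :=
  scan (u := [6]) (w := [6]) (i := 6) (r0_1_0 H) (step (f242 H) rfl) (step (H.back (i := 1) (by decide) (f236 H)) rfl)

theorem f245 : g 1 • path g [3, 9, 1] p = path g [3, 9, 6] p :=
  H.back (i := 6) (by decide) (f244 H)

theorem f246 : g 7 • path g [3, 9] p = path g [3, 9, 7] p :=
  rfl

theorem f247 : g 2 • path g [3, 9, 7] p = path g [3, 9] p :=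
  H.back (i := 7) (by decide) (f246 H)

theorem f248 : g 0 • path g [4, 0] p = path g [4, 0, 0] p :=
  rfl

theorem f249 : g 5 • path g [4, 0, 0] p = path g [4, 0] p :=
  H.back (i := 0) (by decide) (f248 H)

theorem f250 : g 1 • path g [4, 0] p = path g [4, 0, 1] p :=
  rfl

theorem f251 : g 6 • path g [4, 0, 1] p = path g [4, 0] p :=
  H.back (i := 1) (by decide) (f250 H)

theorem f252 : g 2 • path g [4, 0] p = path g [4, 0, 2] p :=
  rfl

theorem f253 : g 7 • path g [4, 0, 2] p = path g [4, 0] p :=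
  H.back (i := 2) (by decide) (f252 H)

theorem f254 : g 3 • path g [4, 0] p = path g [4, 0, 3] p :=
  rfl

theorem f256 : g 4 • path g [4, 0] p = path g [4, 0, 4] p :=
  rfl

theorem f257 : g 9 • path g [4, 0, 4] p = path g [4, 0] p :=
  H.back (i := 4) (by decide) (f256 H)

theorem f258 : g 6 • path g [4, 0] p = path g [4, 0, 6] p :=
  rfl

theorem f259 : g 1 • path g [4, 0, 6] p = path g [4, 0] p :=
  H.back (i := 6) (by decide) (f258 H)

theorem f260 : g 6 • path g [4, 0, 6] p = path g [4, 0, 1] p :=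
  scan (u := [6]) (w := [6]) (i := 6) (r0_1_0 H) (step (f258 H) rfl) (step (H.back (i := 1) (by decide) (f250 H)) rfl)

theorem f262 : g 7 • path g [4, 0] p = path g [4, 0, 7] p :=
  rfl

theorem f263 : g 2 • path g [4, 0, 7] p = path g [4, 0] p :=
  H.back (i := 7) (by decide) (f262 H)

theorem f264 : g 8 • path g [4, 0] p = path g [4, 0, 8] p :=
  rfl

theorem f268 : g 9 • path g [4, 0] p = path g [4, 0, 9] p :=
  rfl

theorem f269 : g 4 • path g [4, 0, 9] p = path g [4, 0] p :=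
  H.back (i := 9) (by decide) (f268 H)

theorem f270 : g 9 • path g [4, 0, 9] p = path g [4, 0, 4] p :=
  scan (u := [9]) (w := [9]) (i := 9) (r13_1_0 H) (step (f268 H) rfl) (step (H.back (i := 4) (by decide) (f256 H)) rfl)

theorem f272 : g 0 • path g [4, 1] p = path g [4, 1, 0] p :=
  rfl

theorem f273 : g 5 • path g [4, 1, 0] p = path g [4, 1] p :=
  H.back (i := 0) (by decide) (f272 H)

theorem f274 : g 2 • path g [4, 1] p = path g [4, 1, 2] p :=
  rfl

theorem f276 : g 1 • path g [4, 1, 2] p = path g [4, 7] p :=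
  scan (u := [2]) (w := [2, 1]) (i := 1) (r1_0_0 H) (step (f274 H) rfl) (step (H.back (i := 7) (by decide) (f60 H)) (step (H.back (i := 6) (by decide) (f51 H)) rfl))

theorem f277 : g 6 • path g [4, 7] p = path g [4, 1, 2] p :=
  H.back (i := 1) (by decide) (f276 H)

theorem f278 : g 3 • path g [4, 1] p = path g [4, 1, 3] p :=
  rfl

theorem f279 : g 8 • path g [4, 1, 3] p = path g [4, 1] p :=
  H.back (i := 3) (by decide) (f278 H)

theorem f280 : g 4 • path g [4, 1] p = path g [4, 1, 4] p :=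
  rfl

theorem f282 : g 5 • path g [4, 1] p = path g [4, 1, 5] p :=
  rfl

theorem f283 : g 0 • path g [4, 1, 5] p = path g [4, 1] p :=
  H.back (i := 5) (by decide) (f282 H)

theorem f284 : g 7 • path g [4, 1] p = path g [4, 1, 7] p :=
  rfl

theorem f285 : g 2 • path g [4, 1, 7] p = path g [4, 1] p :=
  H.back (i := 7) (by decide) (f284 H)

theorem f286 : g 8 • path g [4, 1] p = path g [4, 1, 8] p :=
  rfl

theorem f287 : g 3 • path g [4, 1, 8] p = path g [4, 1] p :=
  H.back (i := 8) (by decide) (f286 H)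

theorem f288 : g 8 • path g [4, 1, 8] p = path g [4, 1, 3] p :=
  scan (u := [8]) (w := [8]) (i := 8) (r9_1_0 H) (step (f286 H) rfl) (step (H.back (i := 3) (by decide) (f278 H)) rfl)

theorem f289 : g 3 • path g [4, 1, 3] p = path g [4, 1, 8] p :=
  H.back (i := 8) (by decide) (f288 H)

theorem f290 : g 9 • path g [4, 1] p = path g [4, 1, 9] p :=
  rfl

theorem f292 : g 9 • path g [4, 1, 9] p = path g [4, 1, 4] p :=
  scan (u := [9]) (w := [9]) (i := 9) (r13_1_0 H) (step (f290 H) rfl) (step (H.back (i := 4) (by decide) (f280 H)) rfl)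

theorem f293 : g 4 • path g [4, 1, 4] p = path g [4, 1, 9] p :=
  H.back (i := 9) (by decide) (f292 H)

theorem f296 : g 1 • path g [4, 2] p = path g [4, 2, 1] p :=
  rfl

theorem f298 : g 2 • path g [4, 2, 1] p = path g [4, 6] p :=
  scan (u := [1]) (w := [1, 2]) (i := 2) (r1_0_1 H) (step (f296 H) rfl) (step (H.back (i := 6) (by decide) (f56 H)) (step (H.back (i := 7) (by decide) (f53 H)) rfl))

theorem f299 : g 7 • path g [4, 6] p = path g [4, 2, 1] p :=
  H.back (i := 2) (by decide) (f298 H)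

theorem f300 : g 4 • path g [4, 2, 1] p = path g [9, 1] p :=
  scan (u := [1]) (w := [2, 1, 4, 5, 5, 5, 6, 7, 5, 6, 7, 2, 1, 4, 2]) (i := 4) (r18_0_12 H) (step (f296 H) rfl) (step (H.back (i := 7) (by decide) (f98 H)) (step (H.back (i := 6) (by decide) (f94 H)) (step (H.back (i := 9) (by decide) (f18 H)) (step (H.back (i := 0) (by decide) (f0 H)) (step (H.back (i := 0) (by decide) (f0 H)) (step (H.back (i := 0) (by decide) (f0 H)) (step (H.back (i := 1) (by decide) (f2 H)) (step (H.back (i := 2) (by decide) (f4 H)) (step (H.back (i := 0) (by decide) (f0 H)) (step (H.back (i := 1) (by decide) (f2 H)) (step (H.back (i := 2) (by decide) (f4 H)) (step (H.back (i := 7) (by decide) (f5 H)) (step (H.back (i := 6) (by decide) (f3 H)) (step (H.back (i := 9) (by decide) (f9 H)) (step (H.back (i := 7) (by decide) (f53 H)) rfl)))))))))))))))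

theorem f301 : g 9 • path g [9, 1] p = path g [4, 2, 1] p :=
  H.back (i := 4) (by decide) (f300 H)

theorem f302 : g 2 • path g [4, 2] p = path g [4, 2, 2] p :=
  rfl

theorem f303 : g 7 • path g [4, 2, 2] p = path g [4, 2] p :=
  H.back (i := 2) (by decide) (f302 H)

theorem f306 : g 4 • path g [4, 2] p = path g [4, 2, 4] p :=
  rfl

theorem f308 : g 5 • path g [4, 2, 4] p = path g [9, 0] p :=
  scan (u := [4]) (w := [5, 5, 7, 5, 9, 2]) (i := 5) (r10_0_7 H) (step (f306 H) rfl) (step (H.back (i := 0) (by decide) (f86 H)) (step (H.back (i := 0) (by decide) (f91 H)) (step (H.back (i := 2) (by decide) (f93 H)) (step (H.back (i := 0) (by decide) (f86 H)) (step (H.back (i := 4) (by decide) (f21 H)) (step (H.back (i := 7) (by decide) (f53 H)) rfl))))))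

theorem f309 : g 0 • path g [9, 0] p = path g [4, 2, 4] p :=
  H.back (i := 5) (by decide) (f308 H)

theorem f312 : g 6 • path g [4, 2] p = path g [4, 2, 6] p :=
  rfl

theorem f313 : g 1 • path g [4, 2, 6] p = path g [4, 2] p :=
  H.back (i := 6) (by decide) (f312 H)

theorem f314 : g 6 • path g [4, 2, 6] p = path g [4, 2, 1] p :=
  scan (u := [6]) (w := [6]) (i := 6) (r0_1_0 H) (step (f312 H) rfl) (step (H.back (i := 1) (by decide) (f296 H)) rfl)

theorem f315 : g 1 • path g [4, 2, 1] p = path g [4, 2, 6] p :=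
  H.back (i := 6) (by decide) (f314 H)

theorem f320 : g 9 • path g [4, 2] p = path g [4, 2, 9] p :=
  rfl

theorem f322 : g 9 • path g [4, 2, 9] p = path g [4, 2, 4] p :=
  scan (u := [9]) (w := [9]) (i := 9) (r13_1_0 H) (step (f320 H) rfl) (step (H.back (i := 4) (by decide) (f306 H)) rfl)

theorem f324 : g 1 • path g [4, 5] p = path g [4, 5, 1] p :=
  rfl

theorem f326 : g 2 • path g [4, 5] p = path g [4, 5, 2] p :=
  rfl

theorem f327 : g 7 • path g [4, 5, 2] p = path g [4, 5] p :=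
  H.back (i := 2) (by decide) (f326 H)

theorem f328 : g 3 • path g [4, 5] p = path g [4, 5, 3] p :=
  rfl

theorem f332 : g 5 • path g [4, 5] p = path g [4, 5, 5] p :=
  rfl

theorem f333 : g 0 • path g [4, 5, 5] p = path g [4, 5] p :=
  H.back (i := 5) (by decide) (f332 H)

theorem f334 : g 5 • path g [4, 5, 5] p = path g [4, 0, 2] p :=
  scan (u := [5]) (w := [7, 5, 9, 2, 4, 5]) (i := 5) (r10_0_1 H) (step (f332 H) rfl) (step (H.back (i := 2) (by decide) (f252 H)) (step (H.back (i := 0) (by decide) (f48 H)) (step (H.back (i := 4) (by decide) (f8 H)) (step (H.back (i := 7) (by decide) (f5 H)) (step (H.back (i := 9) (by decide) (f9 H)) (step (H.back (i := 0) (by decide) (f55 H)) rfl))))))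

theorem f336 : path g [4, 5, 2] p = path g [4, 5] p :=
  close (u := [0, 2]) (w := [0, 0, 2, 0]) (r2_0_2 H) (step (f333 H) (step (f326 H) rfl)) (step (H.back (i := 5) (by decide) (f54 H)) (step (H.back (i := 5) (by decide) (f49 H)) (step (H.back (i := 7) (by decide) (f253 H)) (step (H.back (i := 5) (by decide) (f334 H)) rfl))))

theorem f337 : g 7 • path g [4, 5] p = path g [4, 5] p :=
  (congrArg (g 7 • ·) (f336 H).symm).trans (f327 H)

theorem f339 : g 2 • path g [4, 5] p = path g [4, 5] p :=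
  H.back (i := 7) (by decide) (f337 H)

theorem f340 : g 6 • path g [4, 5] p = path g [4, 5, 6] p :=
  rfl

theorem f341 : g 1 • path g [4, 5, 6] p = path g [4, 5] p :=
  H.back (i := 6) (by decide) (f340 H)

theorem f342 : g 6 • path g [4, 5, 6] p = path g [4, 5, 1] p :=
  scan (u := [6]) (w := [6]) (i := 6) (r0_1_0 H) (step (f340 H) rfl) (step (H.back (i := 1) (by decide) (f324 H)) rfl)

theorem f343 : g 1 • path g [4, 5, 1] p = path g [4, 5, 6] p :=
  H.back (i := 6) (by decide) (f342 H)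

theorem f344 : g 7 • path g [4, 5, 6] p = path g [4, 5, 1] p :=
  scan (u := [6]) (w := [6, 7]) (i := 7) (r1_1_0 H) (step (f340 H) rfl) (step (H.back (i := 1) (by decide) (f324 H)) (step (H.back (i := 2) (by decide) (f339 H)) rfl))

theorem f345 : g 2 • path g [4, 5, 1] p = path g [4, 5, 6] p :=
  H.back (i := 7) (by decide) (f344 H)

theorem f346 : path g [4, 5, 1] p = path g [4, 1, 0] p :=
  close (u := [6, 7]) (w := [5, 6, 9, 1, 1, 0, 1, 4, 5]) (r12_0_1 H) (step (f340 H) (step (f344 H) rfl)) (step (H.back (i := 0) (by decide) (f272 H)) (step (H.back (i := 1) (by decide) (f50 H)) (step (H.back (i := 4) (by decide) (f8 H)) (step (H.back (i := 6) (by decide) (f3 H)) (step (H.back (i := 6) (by decide) (f3 H)) (step (H.back (i := 5) (by decide) (f1 H)) (step (H.back (i := 6) (by decide) (f3 H)) (step (H.back (i := 9) (by decide) (f9 H)) (step (H.back (i := 0) (by decide) (f55 H)) rfl)))))))))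

theorem f350 : g 1 • path g [4, 1, 0] p = path g [4, 5, 6] p :=
  (congrArg (g 1 • ·) (f346 H).symm).trans (f343 H)

theorem f352 : g 6 • path g [4, 5, 6] p = path g [4, 1, 0] p :=
  H.back (i := 1) (by decide) (f350 H)

theorem f353 : g 2 • path g [4, 1, 0] p = path g [4, 5, 6] p :=
  (congrArg (g 2 • ·) (f346 H).symm).trans (f345 H)

theorem f355 : g 7 • path g [4, 5, 6] p = path g [4, 1, 0] p :=
  H.back (i := 2) (by decide) (f353 H)

theorem f356 : g 5 • path g [4, 5, 6] p = path g [4, 5, 6] p :=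
  scan (u := [1, 0, 1, 0, 1]) (w := []) (i := 5) (r3_0_2 H) (step (f341 H) (step (f55 H) (step (f50 H) (step (f272 H) (step (f350 H) rfl))))) rfl

theorem f358 : path g [4, 1, 5] p = path g [4, 1, 0] p :=
  close (u := [1, 0, 1, 5]) (w := [1, 0]) (r3_0_4 H) (step (f341 H) (step (f55 H) (step (f50 H) (step (f282 H) rfl)))) (step (H.back (i := 6) (by decide) (f352 H)) (step (H.back (i := 5) (by decide) (f356 H)) rfl))

theorem f359 : g 0 • path g [4, 1, 0] p = path g [4, 1] p :=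
  (congrArg (g 0 • ·) (f358 H).symm).trans (f283 H)

theorem f362 : g 7 • path g [4, 5, 3] p = path g [3, 4, 0] p :=
  scan (u := [1, 3]) (w := [5, 8, 1, 0, 2, 0]) (i := 7) (r8_0_7 H) (step (f341 H) (step (f328 H) rfl)) (step (H.back (i := 0) (by decide) (f172 H)) (step (H.back (i := 3) (by decide) (f35 H)) (step (H.back (i := 6) (by decide) (f51 H)) (step (H.back (i := 5) (by decide) (f273 H)) (step (H.back (i := 7) (by decide) (f355 H)) (step (H.back (i := 5) (by decide) (f356 H)) rfl))))))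

theorem f364 : path g [4, 2, 1] p = path g [4, 1] p :=
  close (u := [1, 0, 9, 5, 7, 5, 4, 2, 1]) (w := [0, 2, 0]) (r11_1_10 H) (step (f341 H) (step (f55 H) (step (f9 H) (step (f1 H) (step (f5 H) (step (f1 H) (step (f8 H) (step (f52 H) (step (f296 H) rfl))))))))) (step (H.back (i := 5) (by decide) (f273 H)) (step (H.back (i := 7) (by decide) (f355 H)) (step (H.back (i := 5) (by decide) (f356 H)) rfl)))

theorem f369 : g 4 • path g [4, 1] p = path g [9, 1] p :=
  (congrArg (g 4 • ·) (f364 H).symm).trans (f300 H)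

theorem f370 : path g [4, 1, 4] p = path g [9, 1] p :=
  (f280 H).symm.trans (f369 H)

theorem f371 : g 1 • path g [4, 1] p = path g [4, 2, 6] p :=
  (congrArg (g 1 • ·) (f364 H).symm).trans (f315 H)

theorem f372 : path g [4, 6] p = path g [4, 2, 6] p :=
  (f59 H).symm.trans (f371 H)

theorem f373 : path g [4, 2, 6] p = path g [4, 6] p :=
  (f372 H).symm

theorem f374 : g 1 • path g [4, 6] p = path g [4, 2] p :=
  (congrArg (g 1 • ·) (f373 H).symm).trans (f313 H)

theorem f375 : path g [4] p = path g [4, 2] p :=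
  (f57 H).symm.trans (f374 H)

theorem f379 : path g [4, 2] p = path g [4] p :=
  (f375 H).symm

theorem f387 : g 2 • path g [4] p = path g [4, 2, 2] p :=
  (congrArg (g 2 • ·) (f379 H).symm).trans (f302 H)

theorem f388 : g 2 • path g [4] p = path g [4] p :=
  (f52 H).trans (f379 H)

theorem f389 : path g [4] p = path g [4, 2, 2] p :=
  (f388 H).symm.trans (f387 H)

theorem f401 : g 9 • path g [4] p = path g [4, 2, 9] p :=
  (congrArg (g 9 • ·) (f379 H).symm).trans (f320 H)

theorem f402 : path g [] p = path g [4, 2, 9] p :=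
  (f9 H).symm.trans (f401 H)

theorem f403 : path g [4, 2, 9] p = path g [] p :=
  (f402 H).symm

theorem f407 : g 9 • path g [] p = path g [4, 2, 4] p :=
  (congrArg (g 9 • ·) (f403 H).symm).trans (f322 H)

theorem f408 : path g [9] p = path g [4, 2, 4] p :=
  (f18 H).symm.trans (f407 H)

theorem f409 : path g [4, 2, 4] p = path g [9] p :=
  (f408 H).symm

theorem f413 : g 5 • path g [9] p = path g [9, 0] p :=
  (congrArg (g 5 • ·) (f409 H).symm).trans (f308 H)

theorem f414 : path g [9, 5] p = path g [9, 0] p :=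
  (f90 H).symm.trans (f413 H)

theorem f419 : g 0 • path g [9, 0] p = path g [9] p :=
  (f309 H).trans (f409 H)

theorem f421 : g 7 • path g [9, 0] p = path g [9, 0] p :=
  (congrArg (g 7 • ·) (f414 H).symm).trans (f92 H)

theorem f441 : path g [4, 2, 2] p = path g [4] p :=
  (f389 H).symm

theorem f442 : g 7 • path g [4, 2, 2] p = path g [4] p :=
  (f303 H).trans (f379 H)

theorem f443 : g 7 • path g [4] p = path g [4] p :=
  (congrArg (g 7 • ·) (f441 H).symm).trans (f442 H)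

theorem f444 : path g [4, 7] p = path g [4] p :=
  (f60 H).symm.trans (f443 H)

theorem f447 : g 6 • path g [4] p = path g [4, 1, 2] p :=
  (congrArg (g 6 • ·) (f444 H).symm).trans (f277 H)

theorem f448 : path g [4, 6] p = path g [4, 1, 2] p :=
  (f56 H).symm.trans (f447 H)

theorem f449 : path g [4, 1, 2] p = path g [4, 6] p :=
  (f448 H).symm

theorem f451 : g 7 • path g [4, 6] p = path g [4, 1] p :=
  (f299 H).trans (f364 H)

theorem f461 : g 9 • path g [9, 1] p = path g [4, 1] p :=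
  (f301 H).trans (f364 H)

theorem f463 : g 4 • path g [9, 1] p = path g [4, 1, 9] p :=
  (congrArg (g 4 • ·) (f370 H).symm).trans (f293 H)

theorem f465 : g 9 • path g [4, 1, 9] p = path g [9, 1] p :=
  H.back (i := 4) (by decide) (f463 H)

theorem f466 : g 7 • path g [4] p = path g [4] p :=
  (f60 H).trans (f444 H)

theorem f467 : g 4 • path g [4, 1] p = path g [9, 1] p :=
  (f280 H).trans (f370 H)

theorem f468 : path g [4, 0, 0] p = path g [4] p :=
  close (u := [1, 0, 0, 0]) (w := [9, 6, 7, 9, 6, 7, 9, 6, 7, 2, 1, 0, 2]) (r18_1_13 H) (step (f341 H) (step (f55 H) (step (f48 H) (step (f248 H) rfl)))) (step (H.back (i := 4) (by decide) (f8 H)) (step (H.back (i := 1) (by decide) (f2 H)) (step (H.back (i := 2) (by decide) (f4 H)) (step (H.back (i := 4) (by decide) (f19 H)) (step (H.back (i := 1) (by decide) (f95 H)) (step (H.back (i := 2) (by decide) (f99 H)) (step (H.back (i := 4) (by decide) (f467 H)) (step (H.back (i := 1) (by decide) (f50 H)) (step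 (H.back (i := 2) (by decide) (f388 H)) (step (H.back (i := 7) (by decide) (f466 H)) (step (H.back (i := 6) (by decide) (f51 H)) (step (H.back (i := 5) (by decide) (f273 H)) (step (H.back (i := 7) (by decide) (f355 H)) rfl)))))))))))))

theorem f469 : g 5 • path g [4] p = path g [4, 0] p :=
  (congrArg (g 5 • ·) (f468 H).symm).trans (f249 H)

theorem f470 : path g [4, 5] p = path g [4, 0] p :=
  (f54 H).symm.trans (f469 H)

theorem f472 : g 0 • path g [4, 0] p = path g [4] p :=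
  (f248 H).trans (f468 H)

theorem f479 : g 3 • path g [4, 0] p = path g [4, 5, 3] p :=
  (congrArg (g 3 • ·) (f470 H).symm).trans (f328 H)

theorem f480 : path g [4, 0, 3] p = path g [4, 5, 3] p :=
  (f254 H).symm.trans (f479 H)

theorem f485 : g 7 • path g [4, 5] p = path g [4, 0] p :=
  (f337 H).trans (f470 H)

theorem f486 : g 7 • path g [4, 0] p = path g [4, 0] p :=
  (congrArg (g 7 • ·) (f470 H).symm).trans (f485 H)

theorem f487 : path g [4, 0, 7] p = path g [4, 0] p :=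
  (f262 H).symm.trans (f486 H)

theorem f488 : g 6 • path g [4, 0] p = path g [4, 5, 6] p :=
  (congrArg (g 6 • ·) (f470 H).symm).trans (f340 H)

theorem f489 : path g [4, 0, 6] p = path g [4, 5, 6] p :=
  (f258 H).symm.trans (f488 H)

theorem f490 : path g [4, 5, 6] p = path g [4, 0, 6] p :=
  (f489 H).symm

theorem f494 : g 6 • path g [4, 0, 6] p = path g [4, 1, 0] p :=
  (congrArg (g 6 • ·) (f490 H).symm).trans (f352 H)

theorem f495 : path g [4, 0, 1] p = path g [4, 1, 0] p :=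
  (f260 H).symm.trans (f494 H)

theorem f496 : g 7 • path g [4, 0, 6] p = path g [4, 1, 0] p :=
  (congrArg (g 7 • ·) (f490 H).symm).trans (f355 H)

theorem f498 : g 2 • path g [4, 1, 0] p = path g [4, 0, 6] p :=
  H.back (i := 7) (by decide) (f496 H)

theorem f499 : g 5 • path g [4, 5, 6] p = path g [4, 0, 6] p :=
  (f356 H).trans (f490 H)

theorem f500 : g 5 • path g [4, 0, 6] p = path g [4, 0, 6] p :=
  (congrArg (g 5 • ·) (f490 H).symm).trans (f499 H)

theorem f501 : g 0 • path g [4, 0, 6] p = path g [4, 0, 6] p :=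
  H.back (i := 5) (by decide) (f500 H)

theorem f505 : path g [4, 1, 0] p = path g [4, 0, 1] p :=
  (f495 H).symm

theorem f506 : g 5 • path g [4, 0, 1] p = path g [4, 1] p :=
  (congrArg (g 5 • ·) (f505 H).symm).trans (f273 H)

theorem f508 : g 0 • path g [4, 1] p = path g [4, 0, 1] p :=
  H.back (i := 5) (by decide) (f506 H)

theorem f515 : g 2 • path g [4, 0, 1] p = path g [4, 0, 6] p :=
  (congrArg (g 2 • ·) (f505 H).symm).trans (f498 H)

theorem f517 : g 7 • path g [4, 0, 6] p = path g [4, 0, 1] p :=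
  H.back (i := 2) (by decide) (f515 H)

theorem f518 : g 0 • path g [4, 0, 1] p = path g [4, 1] p :=
  (congrArg (g 0 • ·) (f505 H).symm).trans (f359 H)

theorem f520 : g 5 • path g [4, 1] p = path g [4, 0, 1] p :=
  H.back (i := 0) (by decide) (f518 H)

theorem f521 : g 2 • path g [4, 0] p = path g [4, 0] p :=
  (congrArg (g 2 • ·) (f487 H).symm).trans (f263 H)

theorem f522 : path g [4, 0, 2] p = path g [4, 0] p :=
  (f252 H).symm.trans (f521 H)

theorem f524 : g 7 • path g [4, 0] p = path g [4, 0] p :=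
  (f262 H).trans (f487 H)

theorem f534 : g 5 • path g [4] p = path g [4, 0] p :=
  (f54 H).trans (f470 H)

theorem f540 : path g [4, 5, 3] p = path g [4, 0, 3] p :=
  (f480 H).symm

theorem f544 : g 7 • path g [4, 0, 3] p = path g [3, 4, 0] p :=
  (congrArg (g 7 • ·) (f540 H).symm).trans (f362 H)

theorem f547 : g 2 • path g [4, 0, 6] p = path g [4, 0, 1] p :=
  scan (u := [0, 0, 2, 0, 0]) (w := []) (i := 2) (r2_0_1 H) (step (f518 H) (step (f508 H) (step (f515 H) (step (f501 H) (step (f501 H) rfl))))) rfl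

theorem f548 : g 7 • path g [4, 0, 1] p = path g [4, 0, 6] p :=
  H.back (i := 2) (by decide) (f547 H)

theorem f549 : g 2 • path g [4, 1] p = path g [4, 6] p :=
  (f274 H).trans (f449 H)

theorem f550 : g 0 • path g [4, 6] p = path g [4, 6] p :=
  scan (u := [0, 1]) (w := [1, 5, 1]) (i := 0) (r3_0_3 H) (step (f518 H) (step (f59 H) rfl)) (step (H.back (i := 6) (by decide) (f56 H)) (step (H.back (i := 0) (by decide) (f472 H)) (step (H.back (i := 6) (by decide) (f251 H)) rfl)))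

theorem f551 : g 5 • path g [4, 6] p = path g [4, 6] p :=
  H.back (i := 0) (by decide) (f550 H)

theorem f552 : path g [4, 6] p = path g [4, 1, 7] p :=
  close (u := [0, 2, 0]) (w := [2, 0, 2, 0, 2]) (r4_0_1 H) (step (f518 H) (step (f549 H) (step (f550 H) rfl))) (step (H.back (i := 7) (by decide) (f284 H)) (step (H.back (i := 5) (by decide) (f506 H)) (step (H.back (i := 7) (by decide) (f517 H)) (step (H.back (i := 5) (by decide) (f500 H)) (step (H.back (i := 7) (by decide) (f548 H)) rfl)))))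

theorem f553 : path g [4, 1, 7] p = path g [4, 6] p :=
  (f552 H).symm

theorem f554 : g 2 • path g [4, 6] p = path g [4, 1] p :=
  (congrArg (g 2 • ·) (f553 H).symm).trans (f285 H)

theorem f556 : g 7 • path g [4, 1] p = path g [4, 6] p :=
  H.back (i := 2) (by decide) (f554 H)

theorem f557 : g 5 • path g [4, 8] p = path g [4, 0, 8] p :=
  scan (u := [0, 2, 0, 1, 8]) (w := [3, 1]) (i := 5) (r7_1_4 H) (step (f518 H) (step (f549 H) (step (f550 H) (step (f57 H) (step (f62 H) rfl))))) (step (H.back (i := 8) (by decide) (f264 H)) (step (H.back (i := 6) (by decide) (f251 H)) rfl))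

theorem f559 : g 5 • path g [3, 4, 7] p = path g [4, 0, 3] p :=
  scan (u := [0, 2, 0, 1, 3, 7]) (w := [8, 1]) (i := 5) (r8_0_4 H) (step (f518 H) (step (f549 H) (step (f550 H) (step (f57 H) (step (f35 H) (step (f184 H) rfl)))))) (step (H.back (i := 3) (by decide) (f254 H)) (step (H.back (i := 6) (by decide) (f251 H)) rfl))

theorem f561 : g 7 • path g [4, 8] p = path g [4, 8] p :=
  scan (u := [0, 2, 0, 1, 0, 0, 8]) (w := [3, 0, 1]) (i := 7) (r6_1_5 H) (step (f518 H) (step (f549 H) (step (f550 H) (step (f57 H) (step (f48 H) (step (f472 H) (step (f62 H) rfl))))))) (step (H.back (i := 8) (by decide) (f62 H)) (step (H.back (i := 5) (by decide) (f49 H)) (step (H.back (i := 6) (by decide) (f251 H)) rfl)))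

theorem f562 : g 2 • path g [4, 8] p = path g [4, 8] p :=
  H.back (i := 7) (by decide) (f561 H)

theorem f563 : g 2 • path g [4, 0] p = path g [4, 0] p :=
  (f252 H).trans (f522 H)

theorem f564 : g 5 • path g [9] p = path g [9, 0] p :=
  (f90 H).trans (f414 H)

theorem f565 : g 5 • path g [4, 0, 8] p = path g [4, 8] p :=
  scan (u := [2, 0, 1, 8]) (w := [3, 1, 0]) (i := 5) (r7_1_5 H) (step (f515 H) (step (f501 H) (step (f259 H) (step (f264 H) rfl)))) (step (H.back (i := 8) (by decide) (f62 H)) (step (H.back (i := 6) (by decide) (f51 H)) (step (H.back (i := 5) (by decide) (f506 H)) rfl)))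

theorem f566 : g 0 • path g [4, 8] p = path g [4, 0, 8] p :=
  H.back (i := 5) (by decide) (f565 H)

theorem f569 : g 3 • path g [4, 6] p = path g [4, 6, 3] p :=
  rfl

theorem f570 : g 8 • path g [4, 6, 3] p = path g [4, 6] p :=
  H.back (i := 3) (by decide) (f569 H)

theorem f571 : g 4 • path g [4, 6] p = path g [4, 6, 4] p :=
  rfl

theorem f572 : g 9 • path g [4, 6, 4] p = path g [4, 6] p :=
  H.back (i := 4) (by decide) (f571 H)

theorem f573 : g 8 • path g [4, 6] p = path g [4, 6, 8] p :=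
  rfl

theorem f574 : g 3 • path g [4, 6, 8] p = path g [4, 6] p :=
  H.back (i := 8) (by decide) (f573 H)

theorem f575 : g 8 • path g [4, 6, 8] p = path g [4, 6, 3] p :=
  scan (u := [8]) (w := [8]) (i := 8) (r9_1_0 H) (step (f573 H) rfl) (step (H.back (i := 3) (by decide) (f569 H)) rfl)

theorem f576 : g 3 • path g [4, 6, 3] p = path g [4, 6, 8] p :=
  H.back (i := 8) (by decide) (f575 H)

theorem f577 : g 0 • path g [4, 6, 8] p = path g [4, 1, 8] p :=
  scan (u := [8]) (w := [3, 6, 5, 7, 5, 6]) (i := 0) (r7_0_5 H) (step (f573 H) rfl) (step (H.back (i := 8) (by decide) (f286 H)) (step (H.back (i := 1) (by decide) (f50 H)) (step (H.back (i := 0) (by decide) (f472 H)) (step (H.back (i := 2) (by decide) (f563 H)) (step (H.back (i := 0) (by decide) (f48 H)) (step (H.back (i := 1) (by decide) (f57 H)) rfl))))))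

theorem f578 : g 5 • path g [4, 1, 8] p = path g [4, 6, 8] p :=
  H.back (i := 0) (by decide) (f577 H)

theorem f579 : g 2 • path g [4, 6, 8] p = path g [4, 1, 8] p :=
  scan (u := [8]) (w := [3, 5, 5, 6, 5, 7, 5, 6, 5]) (i := 2) (r6_0_8 H) (step (f573 H) rfl) (step (H.back (i := 8) (by decide) (f286 H)) (step (H.back (i := 0) (by decide) (f518 H)) (step (H.back (i := 0) (by decide) (f508 H)) (step (H.back (i := 1) (by decide) (f50 H)) (step (H.back (i := 0) (by decide) (f472 H)) (step (H.back (i := 2) (by decide) (f563 H)) (step (H.back (i := 0) (by decide) (f48 H)) (step (H.back (i := 1) (by decide) (f57 H)) (step (H.back (i := 0) (by decide) (f550 H)) rfl)))))))))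

theorem f580 : g 7 • path g [4, 1, 8] p = path g [4, 6, 8] p :=
  H.back (i := 2) (by decide) (f579 H)

theorem f581 : g 7 • path g [4, 6, 8] p = path g [4, 1, 8] p :=
  scan (u := [8]) (w := [3, 0, 1, 0, 2, 0, 1, 0, 0]) (i := 7) (r6_1_0 H) (step (f573 H) rfl) (step (H.back (i := 8) (by decide) (f286 H)) (step (H.back (i := 5) (by decide) (f506 H)) (step (H.back (i := 6) (by decide) (f260 H)) (step (H.back (i := 5) (by decide) (f500 H)) (step (H.back (i := 7) (by decide) (f548 H)) (step (H.back (i := 5) (by decide) (f520 H)) (step (H.back (i := 6) (by decide) (f58 H)) (step (H.back (i := 5) (by decide) (f551 H)) (step (H.back (i := 5) (by decide) (f551 H)) rfl)))))))))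

theorem f582 : g 2 • path g [4, 1, 8] p = path g [4, 6, 8] p :=
  H.back (i := 7) (by decide) (f581 H)

theorem f583 : g 9 • path g [4, 6] p = path g [4, 6, 9] p :=
  rfl

theorem f585 : g 9 • path g [4, 6, 9] p = path g [4, 6, 4] p :=
  scan (u := [9]) (w := [9]) (i := 9) (r13_1_0 H) (step (f583 H) rfl) (step (H.back (i := 4) (by decide) (f571 H)) rfl)

theorem f587 : g 1 • path g [4, 8] p = path g [4, 8, 1] p :=
  rfl

theorem f588 : g 6 • path g [4, 8, 1] p = path g [4, 8] p :=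
  H.back (i := 1) (by decide) (f587 H)

theorem f589 : g 6 • path g [4, 8] p = path g [4, 8, 6] p :=
  rfl

theorem f590 : g 1 • path g [4, 8, 6] p = path g [4, 8] p :=
  H.back (i := 6) (by decide) (f589 H)

theorem f591 : g 6 • path g [4, 8, 6] p = path g [4, 8, 1] p :=
  scan (u := [6]) (w := [6]) (i := 6) (r0_1_0 H) (step (f589 H) rfl) (step (H.back (i := 1) (by decide) (f587 H)) rfl)

theorem f592 : g 1 • path g [4, 8, 1] p = path g [4, 8, 6] p :=
  H.back (i := 6) (by decide) (f591 H)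

theorem f593 : g 7 • path g [4, 8, 6] p = path g [4, 8, 1] p :=
  scan (u := [6]) (w := [6, 7]) (i := 7) (r1_1_0 H) (step (f589 H) rfl) (step (H.back (i := 1) (by decide) (f587 H)) (step (H.back (i := 2) (by decide) (f562 H)) rfl))

theorem f594 : g 2 • path g [4, 8, 1] p = path g [4, 8, 6] p :=
  H.back (i := 7) (by decide) (f593 H)

theorem f595 : g 0 • path g [8, 1] p = path g [8, 1, 0] p :=
  rfl

theorem f596 : g 5 • path g [8, 1, 0] p = path g [8, 1] p :=
  H.back (i := 0) (by decide) (f595 H)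

theorem f597 : g 3 • path g [8, 1] p = path g [8, 1, 3] p :=
  rfl

theorem f599 : g 4 • path g [8, 1] p = path g [8, 1, 4] p :=
  rfl

theorem f600 : g 9 • path g [8, 1, 4] p = path g [8, 1] p :=
  H.back (i := 4) (by decide) (f599 H)

theorem f601 : g 5 • path g [8, 1] p = path g [8, 1, 5] p :=
  rfl

theorem f602 : g 0 • path g [8, 1, 5] p = path g [8, 1] p :=
  H.back (i := 5) (by decide) (f601 H)

theorem f603 : g 7 • path g [8, 1] p = path g [8, 1, 7] p :=
  rfl

theorem f604 : g 2 • path g [8, 1, 7] p = path g [8, 1] p :=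
  H.back (i := 7) (by decide) (f603 H)

theorem f605 : g 8 • path g [8, 1] p = path g [8, 1, 8] p :=
  rfl

theorem f606 : g 3 • path g [8, 1, 8] p = path g [8, 1] p :=
  H.back (i := 8) (by decide) (f605 H)

theorem f607 : g 8 • path g [8, 1, 8] p = path g [8, 1, 3] p :=
  scan (u := [8]) (w := [8]) (i := 8) (r9_1_0 H) (step (f605 H) rfl) (step (H.back (i := 3) (by decide) (f597 H)) rfl)

theorem f609 : g 9 • path g [8, 1] p = path g [8, 1, 9] p :=
  rfl

theorem f610 : g 4 • path g [8, 1, 9] p = path g [8, 1] p :=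
  H.back (i := 9) (by decide) (f609 H)

theorem f611 : g 9 • path g [8, 1, 9] p = path g [8, 1, 4] p :=
  scan (u := [9]) (w := [9]) (i := 9) (r13_1_0 H) (step (f609 H) rfl) (step (H.back (i := 4) (by decide) (f599 H)) rfl)

theorem f612 : g 4 • path g [8, 1, 4] p = path g [8, 1, 9] p :=
  H.back (i := 9) (by decide) (f611 H)

theorem f613 : g 0 • path g [8, 6] p = path g [8, 6, 0] p :=
  rfl

theorem f614 : g 5 • path g [8, 6, 0] p = path g [8, 6] p :=
  H.back (i := 0) (by decide) (f613 H)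

theorem f615 : g 6 • path g [8, 6, 0] p = path g [8, 1, 0] p :=
  scan (u := [0]) (w := [5, 6, 5, 6]) (i := 6) (r3_1_4 H) (step (f613 H) rfl) (step (H.back (i := 0) (by decide) (f595 H)) (step (H.back (i := 1) (by decide) (f68 H)) (step (H.back (i := 0) (by decide) (f14 H)) (step (H.back (i := 1) (by decide) (f71 H)) rfl))))

theorem f617 : g 5 • path g [8, 6] p = path g [8, 6, 0] p :=
  scan (u := [6, 5, 6, 0, 6]) (w := []) (i := 5) (r3_1_1 H) (step (f615 H) (step (f596 H) (step (f69 H) (step (f14 H) (step (f70 H) rfl))))) rfl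

theorem f618 : g 0 • path g [8, 6, 0] p = path g [8, 6] p :=
  H.back (i := 5) (by decide) (f617 H)

theorem f619 : path g [8, 1, 0] p = path g [8, 1, 5] p :=
  close (u := [6]) (w := [0, 6, 5, 6, 5]) (r3_1_3 H) (step (f615 H) rfl) (step (H.back (i := 5) (by decide) (f601 H)) (step (H.back (i := 1) (by decide) (f68 H)) (step (H.back (i := 0) (by decide) (f14 H)) (step (H.back (i := 1) (by decide) (f71 H)) (step (H.back (i := 0) (by decide) (f618 H)) rfl)))))

theorem f620 : path g [8, 1, 5] p = path g [8, 1, 0] p :=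
  (f619 H).symm

theorem f621 : g 0 • path g [8, 1, 0] p = path g [8, 1] p :=
  (congrArg (g 0 • ·) (f620 H).symm).trans (f602 H)

theorem f623 : g 5 • path g [8, 1] p = path g [8, 1, 0] p :=
  H.back (i := 0) (by decide) (f621 H)

theorem f624 : path g [8, 6] p = path g [8, 1, 7] p :=
  close (u := [0, 2, 0, 0]) (w := [2, 0]) (r2_0_2 H) (step (f621 H) (step (f75 H) (step (f613 H) (step (f618 H) rfl)))) (step (H.back (i := 7) (by decide) (f603 H)) (step (H.back (i := 5) (by decide) (f596 H)) rfl))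

theorem f625 : path g [8, 1, 7] p = path g [8, 6] p :=
  (f624 H).symm

theorem f626 : g 2 • path g [8, 6] p = path g [8, 1] p :=
  (congrArg (g 2 • ·) (f625 H).symm).trans (f604 H)

theorem f628 : g 7 • path g [8, 1] p = path g [8, 6] p :=
  H.back (i := 2) (by decide) (f626 H)

theorem f629 : g 7 • path g [8, 6, 0] p = path g [8, 1, 0] p :=
  scan (u := [5]) (w := [5, 6, 3, 0, 2, 8, 6]) (i := 7) (r8_1_2 H) (step (f617 H) rfl) (step (H.back (i := 0) (by decide) (f595 H)) (step (H.back (i := 1) (by decide) (f68 H)) (step (H.back (i := 8) (by decide) (f10 H)) (step (H.back (i := 5) (by decide) (f1 H)) (step (H.back (i := 7) (by decide) (f5 H)) (step (H.back (i := 3) (by decide) (f11 H)) (step (H.back (i := 1) (by decide) (f71 H)) rfl)))))))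

theorem f631 : g 8 • path g [8, 6, 0] p = path g [3, 0, 1] p :=
  scan (u := [5]) (w := [6, 5, 8, 6, 5, 8, 6]) (i := 8) (r17_1_2 H) (step (f617 H) rfl) (step (H.back (i := 1) (by decide) (f106 H)) (step (H.back (i := 0) (by decide) (f24 H)) (step (H.back (i := 3) (by decide) (f6 H)) (step (H.back (i := 1) (by decide) (f2 H)) (step (H.back (i := 0) (by decide) (f0 H)) (step (H.back (i := 3) (by decide) (f11 H)) (step (H.back (i := 1) (by decide) (f71 H)) rfl)))))))

theorem f632 : g 3 • path g [3, 0, 1] p = path g [8, 6, 0] p :=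
  H.back (i := 8) (by decide) (f631 H)

theorem f633 : g 2 • path g [8, 1, 8] p = path g [3, 0, 1] p :=
  scan (u := [5, 6, 5, 7, 5, 6, 5, 8]) (w := [3, 5]) (i := 2) (r6_0_1 H) (step (f617 H) (step (f615 H) (step (f596 H) (step (f628 H) (step (f617 H) (step (f615 H) (step (f596 H) (step (f605 H) rfl)))))))) (step (H.back (i := 8) (by decide) (f631 H)) (step (H.back (i := 0) (by decide) (f613 H)) rfl))

theorem f634 : g 7 • path g [3, 0, 1] p = path g [8, 1, 8] p :=
  H.back (i := 2) (by decide) (f633 H)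

theorem f635 : path g [3, 2, 3] p = path g [8] p :=
  close (u := [5, 7, 5, 6, 5, 8, 2, 3]) (w := [5, 5, 6]) (r6_0_3 H) (step (f617 H) (step (f629 H) (step (f596 H) (step (f69 H) (step (f15 H) (step (f12 H) (step (f30 H) (step (f154 H) rfl)))))))) (step (H.back (i := 0) (by decide) (f14 H)) (step (H.back (i := 0) (by decide) (f14 H)) (step (H.back (i := 1) (by decide) (f71 H)) rfl)))

theorem f638 : g 3 • path g [8] p = path g [3, 2, 8] p :=
  (congrArg (g 3 • ·) (f635 H).symm).trans (f167 H)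

theorem f639 : path g [] p = path g [3, 2, 8] p :=
  (f11 H).symm.trans (f638 H)

theorem f640 : path g [3, 2, 8] p = path g [] p :=
  (f639 H).symm

theorem f641 : g 3 • path g [] p = path g [3, 2] p :=
  (congrArg (g 3 • ·) (f640 H).symm).trans (f165 H)

theorem f642 : path g [3] p = path g [3, 2] p :=
  (f6 H).symm.trans (f641 H)

theorem f646 : path g [3, 2] p = path g [3] p :=
  (f642 H).symm

theorem f654 : g 2 • path g [3] p = path g [3] p :=
  (f30 H).trans (f646 H)

theorem f663 : g 6 • path g [3] p = path g [3, 2, 6] p :=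
  (congrArg (g 6 • ·) (f646 H).symm).trans (f160 H)

theorem f664 : path g [3, 6] p = path g [3, 2, 6] p :=
  (f38 H).symm.trans (f663 H)

theorem f683 : path g [3, 2, 6] p = path g [3, 6] p :=
  (f664 H).symm

theorem f687 : g 6 • path g [3, 6] p = path g [3, 2, 1] p :=
  (congrArg (g 6 • ·) (f683 H).symm).trans (f162 H)

theorem f688 : path g [3, 1] p = path g [3, 2, 1] p :=
  (f40 H).symm.trans (f687 H)

theorem f689 : path g [3, 2, 1] p = path g [3, 1] p :=
  (f688 H).symm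

theorem f693 : g 2 • path g [3, 1] p = path g [3, 6] p :=
  (congrArg (g 2 • ·) (f689 H).symm).trans (f150 H)

theorem f694 : path g [3, 0, 6] p = path g [3, 6] p :=
  (f117 H).symm.trans (f693 H)

theorem f700 : g 6 • path g [3, 6] p = path g [3, 0, 1] p :=
  (congrArg (g 6 • ·) (f694 H).symm).trans (f114 H)

theorem f701 : path g [3, 1] p = path g [3, 0, 1] p :=
  (f40 H).symm.trans (f700 H)

theorem f703 : g 7 • path g [3, 6] p = path g [3, 1] p :=
  (f151 H).trans (f689 H)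

theorem f705 : path g [3, 0, 1] p = path g [3, 1] p :=
  (f701 H).symm

theorem f706 : g 6 • path g [3, 1] p = path g [3, 0] p :=
  (congrArg (g 6 • ·) (f705 H).symm).trans (f107 H)

theorem f707 : path g [3] p = path g [3, 0] p :=
  (f29 H).symm.trans (f706 H)

theorem f711 : g 3 • path g [3, 1] p = path g [8, 6, 0] p :=
  (congrArg (g 3 • ·) (f705 H).symm).trans (f632 H)

theorem f712 : path g [3, 1, 3] p = path g [8, 6, 0] p :=
  (f130 H).symm.trans (f711 H)

theorem f713 : g 7 • path g [3, 1] p = path g [8, 1, 8] p :=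
  (congrArg (g 7 • ·) (f705 H).symm).trans (f634 H)

theorem f714 : path g [3, 1, 7] p = path g [8, 1, 8] p :=
  (f136 H).symm.trans (f713 H)

theorem f715 : path g [8, 1, 8] p = path g [3, 1, 7] p :=
  (f714 H).symm

theorem f716 : g 3 • path g [3, 1, 7] p = path g [8, 1] p :=
  (congrArg (g 3 • ·) (f715 H).symm).trans (f606 H)

theorem f718 : g 8 • path g [8, 1] p = path g [3, 1, 7] p :=
  H.back (i := 3) (by decide) (f716 H)

theorem f719 : g 8 • path g [3, 1, 7] p = path g [8, 1, 3] p :=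
  (congrArg (g 8 • ·) (f715 H).symm).trans (f607 H)

theorem f721 : g 3 • path g [8, 1, 3] p = path g [3, 1, 7] p :=
  H.back (i := 8) (by decide) (f719 H)

theorem f725 : path g [8, 6, 0] p = path g [3, 1, 3] p :=
  (f712 H).symm

theorem f726 : g 5 • path g [3, 1, 3] p = path g [8, 6] p :=
  (congrArg (g 5 • ·) (f725 H).symm).trans (f614 H)

theorem f728 : g 0 • path g [8, 6] p = path g [3, 1, 3] p :=
  H.back (i := 5) (by decide) (f726 H)

theorem f729 : g 6 • path g [3, 1, 3] p = path g [8, 1, 0] p :=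
  (congrArg (g 6 • ·) (f725 H).symm).trans (f615 H)

theorem f731 : g 1 • path g [8, 1, 0] p = path g [3, 1, 3] p :=
  H.back (i := 6) (by decide) (f729 H)

theorem f732 : g 0 • path g [3, 1, 3] p = path g [8, 6] p :=
  (congrArg (g 0 • ·) (f725 H).symm).trans (f618 H)

theorem f734 : g 5 • path g [8, 6] p = path g [3, 1, 3] p :=
  H.back (i := 0) (by decide) (f732 H)

theorem f735 : g 7 • path g [3, 1, 3] p = path g [8, 1, 0] p :=
  (congrArg (g 7 • ·) (f725 H).symm).trans (f629 H)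

theorem f741 : path g [3, 0] p = path g [3] p :=
  (f707 H).symm

theorem f746 : g 0 • path g [3] p = path g [3, 0, 0] p :=
  (congrArg (g 0 • ·) (f741 H).symm).trans (f102 H)

theorem f747 : g 0 • path g [3] p = path g [3] p :=
  (f24 H).trans (f741 H)

theorem f748 : path g [3] p = path g [3, 0, 0] p :=
  (f747 H).symm.trans (f746 H)

theorem f760 : g 7 • path g [3] p = path g [3] p :=
  (f27 H).trans (f741 H)

theorem f796 : path g [3, 0, 0] p = path g [3] p :=
  (f748 H).symm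

theorem f800 : g 2 • path g [3] p = path g [3, 5] p :=
  (congrArg (g 2 • ·) (f796 H).symm).trans (f104 H)

theorem f801 : path g [3] p = path g [3, 5] p :=
  (f654 H).symm.trans (f800 H)

theorem f802 : path g [3, 5] p = path g [3] p :=
  (f801 H).symm

theorem f817 : g 5 • path g [3] p = path g [3] p :=
  (f36 H).trans (f802 H)

theorem f886 : g 2 • path g [3, 1] p = path g [3, 6] p :=
  (f117 H).trans (f694 H)

theorem f887 : path g [3, 6, 3] p = path g [8, 1] p :=
  close (u := [5, 8, 2, 3]) (w := [5, 5, 6, 5, 7, 5, 6]) (r6_0_7 H) (step (f734 H) (step (f131 H) (step (f886 H) (step (f214 H) rfl)))) (step (H.back (i := 0) (by decide) (f621 H)) (step (H.back (i := 0) (by decide) (f595 H)) (step (H.back (i := 1) (by decide) (f68 H)) (step (H.back (i := 0) (by decide) (f14 H)) (step (H.back (i := 2) (by decide) (f16 H)) (step (H.back (i := 0) (by decide) (f14 H)) (step (H.back (i := 1) (by decide) (f71 H)) rfl)))))))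

theorem f890 : g 3 • path g [8, 1] p = path g [3, 6, 8] p :=
  (congrArg (g 3 • ·) (f887 H).symm).trans (f227 H)

theorem f891 : path g [8, 1, 3] p = path g [3, 6, 8] p :=
  (f597 H).symm.trans (f890 H)

theorem f893 : g 8 • path g [3, 6, 8] p = path g [8, 1] p :=
  (f226 H).trans (f887 H)

theorem f895 : g 3 • path g [3, 6, 8] p = path g [3, 1, 7] p :=
  (congrArg (g 3 • ·) (f891 H).symm).trans (f721 H)

theorem f896 : path g [3, 6] p = path g [3, 1, 7] p :=
  (f225 H).symm.trans (f895 H)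

theorem f897 : path g [3, 1, 7] p = path g [3, 6] p :=
  (f896 H).symm

theorem f900 : g 6 • path g [3, 6] p = path g [3, 6, 2] p :=
  (congrArg (g 6 • ·) (f897 H).symm).trans (f213 H)

theorem f901 : path g [3, 1] p = path g [3, 6, 2] p :=
  (f40 H).symm.trans (f900 H)

theorem f903 : g 3 • path g [3, 6] p = path g [8, 1] p :=
  (f214 H).trans (f887 H)

theorem f908 : path g [3, 6, 2] p = path g [3, 1] p :=
  (f901 H).symm

theorem f910 : g 7 • path g [3, 1] p = path g [3, 6] p :=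
  (f136 H).trans (f897 H)

theorem f915 : g 2 • path g [3, 1, 3] p = path g [8, 1, 0] p :=
  scan (u := [0, 0]) (w := [0, 0, 2]) (i := 2) (r2_0_1 H) (step (f732 H) (step (f728 H) rfl)) (step (H.back (i := 5) (by decide) (f623 H)) (step (H.back (i := 5) (by decide) (f596 H)) (step (H.back (i := 7) (by decide) (f735 H)) rfl)))

theorem f916 : g 7 • path g [8, 1, 0] p = path g [3, 1, 3] p :=
  H.back (i := 2) (by decide) (f915 H)

theorem f917 : g 3 • path g [3, 1, 5] p = path g [8, 1, 0] p :=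
  scan (u := [0, 2, 0, 1, 8, 5]) (w := [1]) (i := 3) (r7_1_4 H) (step (f732 H) (step (f626 H) (step (f595 H) (step (f731 H) (step (f131 H) (step (f134 H) rfl)))))) (step (H.back (i := 6) (by decide) (f729 H)) rfl)

theorem f918 : g 8 • path g [8, 1, 0] p = path g [3, 1, 5] p :=
  H.back (i := 3) (by decide) (f917 H)

theorem f919 : g 8 • path g [8, 1] p = path g [3, 6] p :=
  (f718 H).trans (f897 H)

theorem f920 : g 8 • path g [8, 6] p = path g [3, 6, 0] p :=
  scan (u := [2, 0, 1]) (w := [5, 3, 1, 0]) (i := 8) (r7_1_5 H) (step (f915 H) (step (f621 H) (step (f73 H) rfl))) (step (H.back (i := 0) (by decide) (f208 H)) (step (H.back (i := 8) (by decide) (f919 H)) (step (H.back (i := 6) (by decide) (f72 H)) (step (H.back (i := 5) (by decide) (f726 H)) rfl))))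

theorem f921 : g 3 • path g [3, 6, 0] p = path g [8, 6] p :=
  H.back (i := 8) (by decide) (f920 H)

theorem f922 : g 3 • path g [8, 1] p = path g [3, 6, 8] p :=
  (f597 H).trans (f891 H)

theorem f923 : g 7 • path g [3, 6, 0] p = path g [3, 1, 5] p :=
  scan (u := [2, 0, 1, 0, 0, 8]) (w := [3, 0, 1, 0]) (i := 7) (r6_1_6 H) (step (f915 H) (step (f621 H) (step (f73 H) (step (f728 H) (step (f732 H) (step (f920 H) rfl)))))) (step (H.back (i := 8) (by decide) (f918 H)) (step (H.back (i := 5) (by decide) (f623 H)) (step (H.back (i := 6) (by decide) (f72 H)) (step (H.back (i := 5) (by decide) (f726 H)) rfl))))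

theorem f925 : path g [3, 6, 0] p = path g [3, 6, 5] p :=
  close (u := [8]) (w := [0, 3, 6, 5, 7, 5, 6]) (r7_0_5 H) (step (f920 H) rfl) (step (H.back (i := 5) (by decide) (f218 H)) (step (H.back (i := 8) (by decide) (f919 H)) (step (H.back (i := 1) (by decide) (f68 H)) (step (H.back (i := 0) (by decide) (f14 H)) (step (H.back (i := 2) (by decide) (f16 H)) (step (H.back (i := 0) (by decide) (f14 H)) (step (H.back (i := 1) (by decide) (f71 H)) rfl)))))))

theorem f926 : path g [3, 6, 5] p = path g [3, 6, 0] p :=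
  (f925 H).symm

theorem f927 : g 0 • path g [3, 6, 0] p = path g [3, 6] p :=
  (congrArg (g 0 • ·) (f926 H).symm).trans (f219 H)

theorem f929 : g 5 • path g [3, 6] p = path g [3, 6, 0] p :=
  H.back (i := 0) (by decide) (f927 H)

theorem f930 : g 7 • path g [3, 6, 0] p = path g [3, 1, 0] p :=
  (congrArg (g 7 • ·) (f926 H).symm).trans (f220 H)

theorem f931 : path g [3, 1, 5] p = path g [3, 1, 0] p :=
  (f923 H).symm.trans (f930 H)

theorem f932 : g 0 • path g [3, 1, 0] p = path g [3, 1] p :=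
  (congrArg (g 0 • ·) (f931 H).symm).trans (f135 H)

theorem f934 : g 5 • path g [3, 1] p = path g [3, 1, 0] p :=
  H.back (i := 0) (by decide) (f932 H)

theorem f935 : g 7 • path g [3, 1, 0] p = path g [3, 6, 0] p :=
  (congrArg (g 7 • ·) (f931 H).symm).trans (f223 H)

theorem f942 : g 2 • path g [3, 1, 0] p = path g [3, 6, 0] p :=
  (f221 H).trans (f926 H)

theorem f944 : g 7 • path g [3, 6, 0] p = path g [3, 1, 0] p :=
  (f923 H).trans (f931 H)

theorem f945 : g 2 • path g [3, 6, 9] p = path g [3, 1, 9] p :=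
  scan (u := [7, 5, 9]) (w := [4, 5, 5, 5]) (i := 2) (r10_0_3 H) (step (f935 H) (step (f209 H) (step (f230 H) rfl))) (step (H.back (i := 9) (by decide) (f142 H)) (step (H.back (i := 0) (by decide) (f932 H)) (step (H.back (i := 0) (by decide) (f128 H)) (step (H.back (i := 0) (by decide) (f932 H)) rfl))))

theorem f946 : g 7 • path g [3, 1, 9] p = path g [3, 6, 9] p :=
  H.back (i := 2) (by decide) (f945 H)

theorem f947 : g 2 • path g [3, 6] p = path g [3, 1] p :=
  (f210 H).trans (f908 H)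

theorem f948 : g 6 • path g [3, 6, 0] p = path g [3, 1, 0] p :=
  scan (u := [0, 6, 5, 6, 5]) (w := []) (i := 6) (r3_1_4 H) (step (f932 H) (step (f29 H) (step (f817 H) (step (f38 H) (step (f929 H) rfl))))) rfl

theorem f949 : g 1 • path g [3, 1, 0] p = path g [3, 6, 0] p :=
  H.back (i := 6) (by decide) (f948 H)

theorem f950 : g 7 • path g [3, 6, 9] p = path g [3, 1, 9] p :=
  scan (u := [0, 0, 0, 9]) (w := [4, 0, 2]) (i := 7) (r10_1_5 H) (step (f927 H) (step (f208 H) (step (f927 H) (step (f230 H) rfl)))) (step (H.back (i := 9) (by decide) (f142 H)) (step (H.back (i := 5) (by decide) (f129 H)) (step (H.back (i := 7) (by decide) (f944 H)) rfl)))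

theorem f951 : g 2 • path g [3, 1, 9] p = path g [3, 6, 9] p :=
  H.back (i := 7) (by decide) (f950 H)

theorem f952 : g 7 • path g [3, 9, 5] p = path g [3, 9, 0] p :=
  scan (u := [0, 1, 0, 9, 5]) (w := [5, 4, 2, 1, 0, 2]) (i := 7) (r11_1_9 H) (step (f927 H) (step (f39 H) (step (f747 H) (step (f42 H) (step (f240 H) rfl))))) (step (H.back (i := 0) (by decide) (f234 H)) (step (H.back (i := 9) (by decide) (f42 H)) (step (H.back (i := 7) (by decide) (f760 H)) (step (H.back (i := 6) (by decide) (f29 H)) (step (H.back (i := 5) (by decide) (f129 H)) (step (H.back (i := 7) (by decide) (f944 H)) rfl))))))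

theorem f953 : g 2 • path g [3, 9, 0] p = path g [3, 9, 5] p :=
  H.back (i := 7) (by decide) (f952 H)

theorem f955 : g 3 • path g [8, 6] p = path g [8, 6, 3] p :=
  rfl

theorem f956 : g 8 • path g [8, 6, 3] p = path g [8, 6] p :=
  H.back (i := 3) (by decide) (f955 H)

theorem f957 : g 3 • path g [8, 6, 3] p = path g [3, 6, 0] p :=
  scan (u := [3]) (w := [3]) (i := 3) (r9_0_0 H) (step (f955 H) rfl) (step (H.back (i := 8) (by decide) (f920 H)) rfl)

theorem f958 : g 8 • path g [3, 6, 0] p = path g [8, 6, 3] p :=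
  H.back (i := 3) (by decide) (f957 H)

theorem f959 : g 2 • path g [3, 1, 8] p = path g [8, 6, 3] p :=
  scan (u := [3, 5, 5, 6, 5, 7, 5, 6, 5, 8]) (w := []) (i := 2) (r6_0_10 H) (step (f957 H) (step (f209 H) (step (f929 H) (step (f948 H) (step (f129 H) (step (f910 H) (step (f929 H) (step (f948 H) (step (f129 H) (step (f138 H) rfl)))))))))) rfl

theorem f963 : g 0 • path g [3, 6, 8] p = path g [3, 1, 8] p :=
  scan (u := [2, 8, 6, 5, 7, 5, 6, 3]) (w := []) (i := 0) (r8_1_8 H) (step (f959 H) (step (f956 H) (step (f72 H) (step (f623 H) (step (f916 H) (step (f726 H) (step (f72 H) (step (f922 H) rfl)))))))) rfl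

theorem f965 : g 1 • path g [3, 1, 8] p = path g [8, 6, 3] p :=
  scan (u := [0]) (w := [3, 0, 1, 3, 0, 1, 3]) (i := 1) (r17_0_0 H) (step (f963 H) rfl) (step (H.back (i := 8) (by decide) (f958 H)) (step (H.back (i := 5) (by decide) (f929 H)) (step (H.back (i := 6) (by decide) (f38 H)) (step (H.back (i := 8) (by decide) (f12 H)) (step (H.back (i := 5) (by decide) (f15 H)) (step (H.back (i := 6) (by decide) (f69 H)) (step (H.back (i := 8) (by decide) (f893 H)) rfl)))))))

theorem f966 : g 6 • path g [8, 6, 3] p = path g [3, 1, 8] p :=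
  H.back (i := 1) (by decide) (f965 H)

theorem f967 : g 4 • path g [8, 6] p = path g [8, 6, 4] p :=
  rfl

theorem f968 : g 9 • path g [8, 6, 4] p = path g [8, 6] p :=
  H.back (i := 4) (by decide) (f967 H)

theorem f969 : g 9 • path g [8, 6] p = path g [8, 6, 9] p :=
  rfl

theorem f970 : g 4 • path g [8, 6, 9] p = path g [8, 6] p :=
  H.back (i := 9) (by decide) (f969 H)

theorem f971 : g 9 • path g [8, 6, 9] p = path g [8, 6, 4] p :=
  scan (u := [9]) (w := [9]) (i := 9) (r13_1_0 H) (step (f969 H) rfl) (step (H.back (i := 4) (by decide) (f967 H)) rfl)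

theorem f972 : g 4 • path g [8, 6, 4] p = path g [8, 6, 9] p :=
  H.back (i := 9) (by decide) (f971 H)

theorem f973 : g 2 • path g [8, 6, 9] p = path g [8, 1, 9] p :=
  scan (u := [9]) (w := [4, 5, 5, 5, 7, 5]) (i := 2) (r10_0_5 H) (step (f969 H) rfl) (step (H.back (i := 9) (by decide) (f609 H)) (step (H.back (i := 0) (by decide) (f621 H)) (step (H.back (i := 0) (by decide) (f595 H)) (step (H.back (i := 0) (by decide) (f621 H)) (step (H.back (i := 2) (by decide) (f915 H)) (step (H.back (i := 0) (by decide) (f728 H)) rfl))))))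

theorem f974 : g 7 • path g [8, 1, 9] p = path g [8, 6, 9] p :=
  H.back (i := 2) (by decide) (f973 H)

theorem f975 : g 7 • path g [8, 6, 9] p = path g [8, 1, 9] p :=
  scan (u := [9]) (w := [4, 0, 2, 0, 0, 0]) (i := 7) (r10_1_0 H) (step (f969 H) rfl) (step (H.back (i := 9) (by decide) (f609 H)) (step (H.back (i := 5) (by decide) (f596 H)) (step (H.back (i := 7) (by decide) (f735 H)) (step (H.back (i := 5) (by decide) (f734 H)) (step (H.back (i := 5) (by decide) (f726 H)) (step (H.back (i := 5) (by decide) (f734 H)) rfl))))))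

theorem f976 : g 2 • path g [8, 1, 9] p = path g [8, 6, 9] p :=
  H.back (i := 7) (by decide) (f975 H)

theorem f977 : g 0 • path g [8, 9] p = path g [8, 9, 0] p :=
  rfl

theorem f978 : g 5 • path g [8, 9, 0] p = path g [8, 9] p :=
  H.back (i := 0) (by decide) (f977 H)

theorem f979 : g 1 • path g [8, 9] p = path g [8, 9, 1] p :=
  rfl

theorem f980 : g 6 • path g [8, 9, 1] p = path g [8, 9] p :=
  H.back (i := 1) (by decide) (f979 H)

theorem f981 : g 5 • path g [8, 9] p = path g [8, 9, 5] p :=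
  rfl

theorem f982 : g 0 • path g [8, 9, 5] p = path g [8, 9] p :=
  H.back (i := 5) (by decide) (f981 H)

theorem f983 : g 7 • path g [8, 9, 5] p = path g [8, 9, 0] p :=
  scan (u := [5]) (w := [5, 4, 2, 1, 0, 2, 0, 1, 0, 9]) (i := 7) (r11_1_1 H) (step (f981 H) rfl) (step (H.back (i := 0) (by decide) (f977 H)) (step (H.back (i := 9) (by decide) (f76 H)) (step (H.back (i := 7) (by decide) (f17 H)) (step (H.back (i := 6) (by decide) (f69 H)) (step (H.back (i := 5) (by decide) (f596 H)) (step (H.back (i := 7) (by decide) (f735 H)) (step (H.back (i := 5) (by decide) (f734 H)) (step (H.back (i := 6) (by decide) (f70 H)) (step (H.back (i := 5) (by decide) (f15 H)) (step (H.back (i := 4) (by decide) (f77 H)) rfl))))))))))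

theorem f985 : path g [8, 9, 0] p = path g [8, 9, 5] p :=
  close (u := [0, 0]) (w := [0, 9, 7, 4, 0, 2]) (r10_1_5 H) (step (f982 H) (step (f977 H) rfl)) (step (H.back (i := 5) (by decide) (f981 H)) (step (H.back (i := 4) (by decide) (f79 H)) (step (H.back (i := 2) (by decide) (f562 H)) (step (H.back (i := 9) (by decide) (f78 H)) (step (H.back (i := 5) (by decide) (f978 H)) (step (H.back (i := 7) (by decide) (f983 H)) rfl))))))

theorem f986 : path g [8, 9, 5] p = path g [8, 9, 0] p :=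
  (f985 H).symm

theorem f987 : g 0 • path g [8, 9, 0] p = path g [8, 9] p :=
  (congrArg (g 0 • ·) (f986 H).symm).trans (f982 H)

theorem f989 : g 5 • path g [8, 9] p = path g [8, 9, 0] p :=
  H.back (i := 0) (by decide) (f987 H)

theorem f993 : g 6 • path g [8, 9] p = path g [8, 9, 6] p :=
  rfl

theorem f994 : g 1 • path g [8, 9, 6] p = path g [8, 9] p :=
  H.back (i := 6) (by decide) (f993 H)

theorem f995 : g 6 • path g [8, 9, 6] p = path g [8, 9, 1] p :=
  scan (u := [6]) (w := [6]) (i := 6) (r0_1_0 H) (step (f993 H) rfl) (step (H.back (i := 1) (by decide) (f979 H)) rfl)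

theorem f996 : g 1 • path g [8, 9, 1] p = path g [8, 9, 6] p :=
  H.back (i := 6) (by decide) (f995 H)

theorem f997 : g 7 • path g [8, 9, 6] p = path g [8, 9, 1] p :=
  scan (u := [6]) (w := [6, 7]) (i := 7) (r1_1_0 H) (step (f993 H) rfl) (step (H.back (i := 1) (by decide) (f979 H)) (step (H.back (i := 2) (by decide) (f84 H)) rfl))

theorem f998 : g 2 • path g [8, 9, 1] p = path g [8, 9, 6] p :=
  H.back (i := 7) (by decide) (f997 H)

theorem f999 : g 1 • path g [9, 0] p = path g [9, 0, 1] p :=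
  rfl

theorem f1000 : g 6 • path g [9, 0, 1] p = path g [9, 0] p :=
  H.back (i := 1) (by decide) (f999 H)

theorem f1001 : g 5 • path g [9, 0, 1] p = path g [9, 1] p :=
  scan (u := [1]) (w := [1, 0, 1, 0]) (i := 5) (r3_0_0 H) (step (f999 H) rfl) (step (H.back (i := 6) (by decide) (f96 H)) (step (H.back (i := 5) (by decide) (f100 H)) (step (H.back (i := 6) (by decide) (f94 H)) (step (H.back (i := 5) (by decide) (f87 H)) rfl))))

theorem f1002 : g 0 • path g [9, 1] p = path g [9, 0, 1] p :=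
  H.back (i := 5) (by decide) (f1001 H)

theorem f1003 : g 0 • path g [9, 0, 1] p = path g [9, 1] p :=
  scan (u := [1]) (w := [1, 0, 1, 5]) (i := 0) (r3_0_2 H) (step (f999 H) rfl) (step (H.back (i := 6) (by decide) (f96 H)) (step (H.back (i := 5) (by decide) (f100 H)) (step (H.back (i := 6) (by decide) (f94 H)) (step (H.back (i := 0) (by decide) (f419 H)) rfl))))

theorem f1004 : g 5 • path g [9, 1] p = path g [9, 0, 1] p :=
  H.back (i := 0) (by decide) (f1003 H)

theorem f1005 : g 3 • path g [8, 9, 0] p = path g [9, 0] p :=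
  scan (u := [1, 0, 2, 0, 1, 8, 5]) (w := []) (i := 3) (r7_1_3 H) (step (f999 H) (step (f1003 H) (step (f99 H) (step (f101 H) (step (f95 H) (step (f83 H) (step (f989 H) rfl))))))) rfl

theorem f1006 : g 8 • path g [9, 0] p = path g [8, 9, 0] p :=
  H.back (i := 3) (by decide) (f1005 H)

theorem f1007 : g 4 • path g [4, 0, 1] p = path g [9, 6] p :=
  scan (u := [1, 0, 9, 6, 5, 6, 6]) (w := [1, 0, 2]) (i := 4) (r12_1_9 H) (step (f999 H) (step (f1003 H) (step (f461 H) (step (f51 H) (step (f534 H) (step (f258 H) (step (f260 H) rfl))))))) (step (H.back (i := 6) (by decide) (f94 H)) (step (H.back (i := 5) (by decide) (f87 H)) (step (H.back (i := 7) (by decide) (f421 H)) rfl)))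

theorem f1008 : g 9 • path g [9, 6] p = path g [4, 0, 1] p :=
  H.back (i := 4) (by decide) (f1007 H)

theorem f1009 : g 9 • path g [9, 0, 1] p = path g [4, 0, 6] p :=
  scan (u := [4, 5, 5, 5, 7, 5]) (w := [2]) (i := 9) (r10_0_7 H) (step (f1007 H) (step (f100 H) (step (f100 H) (step (f100 H) (step (f98 H) (step (f1004 H) rfl)))))) (step (H.back (i := 7) (by decide) (f548 H)) rfl)

theorem f1010 : g 4 • path g [4, 0, 6] p = path g [9, 0, 1] p :=
  H.back (i := 9) (by decide) (f1009 H)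

theorem f1011 : g 2 • path g [9, 6] p = path g [9, 1] p :=
  scan (u := [4, 0]) (w := [0, 0, 0, 9, 7]) (i := 2) (r10_1_2 H) (step (f1007 H) (step (f101 H) rfl)) (step (H.back (i := 5) (by decide) (f1001 H)) (step (H.back (i := 5) (by decide) (f1004 H)) (step (H.back (i := 5) (by decide) (f1001 H)) (step (H.back (i := 4) (by decide) (f1010 H)) (step (H.back (i := 2) (by decide) (f515 H)) rfl)))))

theorem f1012 : g 7 • path g [9, 1] p = path g [9, 6] p :=
  H.back (i := 2) (by decide) (f1011 H)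

theorem f1013 : g 1 • path g [4, 6, 4] p = path g [9, 0] p :=
  scan (u := [9, 6, 5, 6, 6, 4]) (w := [0, 2, 1, 0]) (i := 1) (r12_1_0 H) (step (f1009 H) (step (f260 H) (step (f506 H) (step (f51 H) (step (f56 H) (step (f571 H) rfl)))))) (step (H.back (i := 5) (by decide) (f564 H)) (step (H.back (i := 7) (by decide) (f23 H)) (step (H.back (i := 6) (by decide) (f89 H)) (step (H.back (i := 5) (by decide) (f1001 H)) rfl))))

theorem f1014 : g 6 • path g [9, 0] p = path g [4, 6, 4] p :=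
  H.back (i := 1) (by decide) (f1013 H)

theorem f1015 : g 7 • path g [4, 6, 4] p = path g [9, 0, 1] p :=
  scan (u := [9, 0, 2, 0, 4, 5, 6, 5, 7, 5, 6]) (w := []) (i := 7) (r11_0_7 H) (step (f1009 H) (step (f501 H) (step (f547 H) (step (f518 H) (step (f467 H) (step (f1004 H) (step (f1000 H) (step (f87 H) (step (f23 H) (step (f564 H) (step (f1014 H) rfl))))))))))) rfl

theorem f1016 : g 2 • path g [9, 0, 1] p = path g [4, 6, 4] p :=
  H.back (i := 7) (by decide) (f1015 H)

theorem f1017 : g 5 • path g [4, 6, 4] p = path g [4, 6, 4] p :=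
  scan (u := [7, 5, 6, 8, 0, 3, 6]) (w := []) (i := 5) (r7_0_2 H) (step (f1015 H) (step (f1001 H) (step (f89 H) (step (f83 H) (step (f977 H) (step (f1005 H) (step (f1014 H) rfl))))))) rfl

theorem f1018 : g 0 • path g [4, 6, 4] p = path g [4, 6, 4] p :=
  H.back (i := 5) (by decide) (f1017 H)

theorem f1019 : g 8 • path g [3, 9, 5] p = path g [9, 0] p :=
  scan (u := [7, 5, 6, 3, 0, 2]) (w := [6, 5]) (i := 8) (r8_1_3 H) (step (f1015 H) (step (f1001 H) (step (f89 H) (step (f47 H) (step (f234 H) (step (f953 H) rfl)))))) (step (H.back (i := 1) (by decide) (f1013 H)) (step (H.back (i := 0) (by decide) (f1018 H)) rfl))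

theorem f1021 : g 2 • path g [4, 6, 4] p = path g [9, 0, 1] p :=
  scan (u := [2, 0, 0]) (w := [0, 0]) (i := 2) (r2_0_0 H) (step (f1016 H) (step (f1018 H) (step (f1018 H) rfl))) (step (H.back (i := 5) (by decide) (f1004 H)) (step (H.back (i := 5) (by decide) (f1001 H)) rfl))

theorem f1022 : g 7 • path g [9, 0, 1] p = path g [4, 6, 4] p :=
  H.back (i := 2) (by decide) (f1021 H)

theorem f1023 : g 1 • path g [9, 0, 1] p = path g [4, 6, 4] p :=
  scan (u := [2]) (w := [0, 2, 0, 1, 0, 9, 5, 7, 5, 4]) (i := 1) (r11_1_5 H) (step (f1021 H) rfl) (step (H.back (i := 5) (by decide) (f1017 H)) (step (H.back (i := 7) (by decide) (f1022 H)) (step (H.back (i := 5) (by decide) (f1004 H)) (step (H.back (i := 6) (by decide) (f96 H)) (step (H.back (i := 5) (by decide) (f100 H)) (step (H.back (i := 4) (by decide) (f1007 H)) (step (H.back (i := 0) (by decide) (f508 H)) (step (H.back (i := 2) (by decide) (f554 H)) (step (H.back (i := 0) (by decide) (f550 H)) (step (H.back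 (i := 9) (by decide) (f572 H)) rfl))))))))))

theorem f1024 : g 6 • path g [4, 6, 4] p = path g [9, 0, 1] p :=
  H.back (i := 1) (by decide) (f1023 H)

theorem f1025 : g 8 • path g [8, 9, 0] p = path g [3, 9, 5] p :=
  scan (u := [8, 8]) (w := []) (i := 8) (r9_1_0 H) (step (f1019 H) (step (f1006 H) rfl)) rfl

theorem f1027 : path g [3, 9, 7] p = path g [3, 9] p :=
  close (u := [8, 1, 0, 2, 0, 1, 3, 7]) (w := [5]) (r8_0_2 H) (step (f1019 H) (step (f999 H) (step (f1003 H) (step (f99 H) (step (f101 H) (step (f95 H) (step (f47 H) (step (f246 H) rfl)))))))) (step (H.back (i := 0) (by decide) (f241 H)) rfl)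

theorem f1028 : g 2 • path g [3, 9] p = path g [3, 9] p :=
  (congrArg (g 2 • ·) (f1027 H).symm).trans (f247 H)

theorem f1029 : path g [3, 9, 2] p = path g [3, 9] p :=
  (f238 H).symm.trans (f1028 H)

theorem f1031 : g 7 • path g [3, 9] p = path g [3, 9] p :=
  (f246 H).trans (f1027 H)

theorem f1033 : g 2 • path g [3, 9] p = path g [3, 9] p :=
  (f238 H).trans (f1029 H)

theorem f1042 : g 3 • path g [9, 1] p = path g [9, 1, 3] p :=
  rfl

theorem f1043 : g 8 • path g [9, 1, 3] p = path g [9, 1] p :=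
  H.back (i := 3) (by decide) (f1042 H)

theorem f1044 : g 9 • path g [9, 1, 3] p = path g [4, 1, 3] p :=
  scan (u := [3]) (w := [8, 4]) (i := 9) (r14_0_3 H) (step (f1042 H) rfl) (step (H.back (i := 3) (by decide) (f278 H)) (step (H.back (i := 9) (by decide) (f461 H)) rfl))

theorem f1045 : g 4 • path g [4, 1, 3] p = path g [9, 1, 3] p :=
  H.back (i := 9) (by decide) (f1044 H)

theorem f1046 : g 8 • path g [9, 1] p = path g [9, 1, 8] p :=
  rfl

theorem f1047 : g 3 • path g [9, 1, 8] p = path g [9, 1] p :=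
  H.back (i := 8) (by decide) (f1046 H)

theorem f1048 : g 8 • path g [9, 1, 8] p = path g [9, 1, 3] p :=
  scan (u := [8]) (w := [8]) (i := 8) (r9_1_0 H) (step (f1046 H) rfl) (step (H.back (i := 3) (by decide) (f1042 H)) rfl)

theorem f1049 : g 3 • path g [9, 1, 3] p = path g [9, 1, 8] p :=
  H.back (i := 8) (by decide) (f1048 H)

theorem f1050 : g 9 • path g [9, 1, 8] p = path g [4, 1, 8] p :=
  scan (u := [8]) (w := [3, 4]) (i := 9) (r14_1_0 H) (step (f1046 H) rfl) (step (H.back (i := 8) (by decide) (f286 H)) (step (H.back (i := 9) (by decide) (f461 H)) rfl))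

theorem f1051 : g 4 • path g [4, 1, 8] p = path g [9, 1, 8] p :=
  H.back (i := 9) (by decide) (f1050 H)

theorem f1052 : g 3 • path g [9, 6] p = path g [9, 6, 3] p :=
  rfl

theorem f1053 : g 8 • path g [9, 6, 3] p = path g [9, 6] p :=
  H.back (i := 3) (by decide) (f1052 H)

theorem f1054 : g 4 • path g [9, 6] p = path g [9, 6, 4] p :=
  rfl

theorem f1055 : g 9 • path g [9, 6, 4] p = path g [9, 6] p :=
  H.back (i := 4) (by decide) (f1054 H)

theorem f1056 : g 4 • path g [9, 6, 4] p = path g [4, 0, 1] p :=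
  scan (u := [4]) (w := [4]) (i := 4) (r13_0_0 H) (step (f1054 H) rfl) (step (H.back (i := 9) (by decide) (f1008 H)) rfl)

theorem f1057 : g 9 • path g [4, 0, 1] p = path g [9, 6, 4] p :=
  H.back (i := 4) (by decide) (f1056 H)

theorem f1060 : g 7 • path g [4, 6, 9] p = path g [9, 6, 4] p :=
  scan (u := [4, 0, 2, 0, 0, 0, 9]) (w := []) (i := 7) (r10_1_2 H) (step (f1056 H) (step (f518 H) (step (f549 H) (step (f550 H) (step (f550 H) (step (f550 H) (step (f583 H) rfl))))))) rfl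

theorem f1061 : g 2 • path g [9, 6, 4] p = path g [4, 6, 9] p :=
  H.back (i := 7) (by decide) (f1060 H)

theorem f1062 : g 6 • path g [4, 0, 9] p = path g [4, 6, 9] p :=
  scan (u := [7, 9, 6, 7, 9, 6, 7, 2, 1, 0, 2, 1, 0, 0, 0, 9]) (w := []) (i := 6) (r18_1_2 H) (step (f1060 H) (step (f1055 H) (step (f96 H) (step (f1012 H) (step (f1008 H) (step (f251 H) (step (f524 H) (step (f563 H) (step (f250 H) (step (f518 H) (step (f549 H) (step (f57 H) (step (f48 H) (step (f472 H) (step (f48 H) (step (f268 H) rfl)))))))))))))))) rfl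

theorem f1063 : g 1 • path g [4, 6, 9] p = path g [4, 0, 9] p :=
  H.back (i := 6) (by decide) (f1062 H)

theorem f1064 : path g [9, 6, 4] p = path g [4, 1] p :=
  close (u := [6, 9, 6, 9, 6, 9]) (w := [6, 9, 6, 9, 6, 9, 6, 9]) (r16_1_1 H) (step (f1062 H) (step (f585 H) (step (f1024 H) (step (f1009 H) (step (f260 H) (step (f1057 H) rfl)))))) (step (H.back (i := 1) (by decide) (f50 H)) (step (H.back (i := 4) (by decide) (f8 H)) (step (H.back (i := 1) (by decide) (f2 H)) (step (H.back (i := 4) (by decide) (f19 H)) (step (H.back (i := 1) (by decide) (f95 H)) (step (H.back (i := 4) (by decide) (f1007 H)) (step (H.back (i := 1) (by decide) (f250 H)) (step (H.back (i := 4) (by decide) (f269 H)) rfl))))))))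

theorem f1071 : g 2 • path g [4, 1] p = path g [4, 6, 9] p :=
  (congrArg (g 2 • ·) (f1064 H).symm).trans (f1061 H)

theorem f1072 : path g [4, 6] p = path g [4, 6, 9] p :=
  (f549 H).symm.trans (f1071 H)

theorem f1073 : path g [4, 6, 9] p = path g [4, 6] p :=
  (f1072 H).symm

theorem f1077 : g 9 • path g [4, 6] p = path g [4, 6] p :=
  (f583 H).trans (f1073 H)

theorem f1085 : g 1 • path g [4, 6] p = path g [4, 0, 9] p :=
  (congrArg (g 1 • ·) (f1073 H).symm).trans (f1063 H)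

theorem f1086 : path g [4] p = path g [4, 0, 9] p :=
  (f57 H).symm.trans (f1085 H)

theorem f1087 : path g [4, 0, 9] p = path g [4] p :=
  (f1086 H).symm

theorem f1090 : g 9 • path g [4] p = path g [4, 0, 4] p :=
  (congrArg (g 9 • ·) (f1087 H).symm).trans (f270 H)

theorem f1091 : path g [] p = path g [4, 0, 4] p :=
  (f9 H).symm.trans (f1090 H)

theorem f1095 : path g [4, 0, 4] p = path g [] p :=
  (f1091 H).symm

theorem f1096 : g 9 • path g [] p = path g [4, 0] p :=
  (congrArg (g 9 • ·) (f1095 H).symm).trans (f257 H)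

theorem f1097 : path g [9] p = path g [4, 0] p :=
  (f18 H).symm.trans (f1096 H)

theorem f1101 : path g [4, 0] p = path g [9] p :=
  (f1097 H).symm

theorem f1121 : g 8 • path g [9] p = path g [4, 0, 8] p :=
  (congrArg (g 8 • ·) (f1101 H).symm).trans (f264 H)

theorem f1122 : path g [8, 9] p = path g [4, 0, 8] p :=
  (f83 H).symm.trans (f1121 H)

theorem f1126 : path g [4, 0, 8] p = path g [8, 9] p :=
  (f1122 H).symm

theorem f1134 : g 5 • path g [8, 9] p = path g [4, 8] p :=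
  (congrArg (g 5 • ·) (f1126 H).symm).trans (f565 H)

theorem f1135 : path g [8, 9, 0] p = path g [4, 8] p :=
  (f989 H).symm.trans (f1134 H)

theorem f1143 : g 5 • path g [4, 8] p = path g [8, 9] p :=
  (f557 H).trans (f1126 H)

theorem f1149 : g 0 • path g [4, 8] p = path g [8, 9] p :=
  (f566 H).trans (f1126 H)

theorem f1156 : g 8 • path g [4, 8] p = path g [3, 9, 5] p :=
  (congrArg (g 8 • ·) (f1135 H).symm).trans (f1025 H)

theorem f1157 : path g [3, 4] p = path g [3, 9, 5] p :=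
  (f64 H).symm.trans (f1156 H)

theorem f1158 : path g [3, 9, 5] p = path g [3, 4] p :=
  (f1157 H).symm

theorem f1161 : g 7 • path g [3, 4] p = path g [3, 9, 0] p :=
  (congrArg (g 7 • ·) (f1158 H).symm).trans (f952 H)

theorem f1162 : path g [3, 4, 7] p = path g [3, 9, 0] p :=
  (f184 H).symm.trans (f1161 H)

theorem f1163 : g 8 • path g [3, 4] p = path g [9, 0] p :=
  (congrArg (g 8 • ·) (f1158 H).symm).trans (f1019 H)

theorem f1164 : path g [4] p = path g [9, 0] p :=
  (f34 H).symm.trans (f1163 H)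

theorem f1168 : path g [9, 0] p = path g [4] p :=
  (f1164 H).symm

theorem f1170 : g 5 • path g [4] p = path g [9] p :=
  (f534 H).trans (f1101 H)

theorem f1176 : g 0 • path g [4] p = path g [9] p :=
  (f48 H).trans (f1101 H)

theorem f1186 : g 6 • path g [4] p = path g [4, 6, 4] p :=
  (congrArg (g 6 • ·) (f1168 H).symm).trans (f1014 H)

theorem f1187 : path g [4, 6] p = path g [4, 6, 4] p :=
  (f56 H).symm.trans (f1186 H)

theorem f1214 : path g [4, 6, 4] p = path g [4, 6] p :=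
  (f1187 H).symm

theorem f1219 : g 4 • path g [4, 6] p = path g [4, 6] p :=
  (f571 H).trans (f1214 H)

theorem f1234 : g 6 • path g [4, 6] p = path g [9, 0, 1] p :=
  (congrArg (g 6 • ·) (f1214 H).symm).trans (f1024 H)

theorem f1235 : path g [4, 1] p = path g [9, 0, 1] p :=
  (f58 H).symm.trans (f1234 H)

theorem f1236 : path g [9, 0, 1] p = path g [4, 1] p :=
  (f1235 H).symm

theorem f1242 : g 0 • path g [4, 1] p = path g [9, 1] p :=
  (congrArg (g 0 • ·) (f1236 H).symm).trans (f1003 H)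

theorem f1243 : path g [4, 0, 1] p = path g [9, 1] p :=
  (f508 H).symm.trans (f1242 H)

theorem f1244 : g 9 • path g [4, 1] p = path g [4, 0, 6] p :=
  (congrArg (g 9 • ·) (f1236 H).symm).trans (f1009 H)

theorem f1245 : path g [4, 1, 9] p = path g [4, 0, 6] p :=
  (f290 H).symm.trans (f1244 H)

theorem f1258 : g 9 • path g [4, 0, 6] p = path g [9, 1] p :=
  (congrArg (g 9 • ·) (f1245 H).symm).trans (f465 H)

theorem f1260 : g 4 • path g [9, 1] p = path g [4, 0, 6] p :=
  H.back (i := 9) (by decide) (f1258 H)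

theorem f1267 : g 5 • path g [9, 1] p = path g [4, 1] p :=
  (f1004 H).trans (f1236 H)

theorem f1272 : g 0 • path g [9, 1] p = path g [4, 1] p :=
  (f1002 H).trans (f1236 H)

theorem f1276 : g 4 • path g [9, 1] p = path g [9, 6] p :=
  (congrArg (g 4 • ·) (f1243 H).symm).trans (f1007 H)

theorem f1277 : path g [4, 0, 6] p = path g [9, 6] p :=
  (f1260 H).symm.trans (f1276 H)

theorem f1300 : g 4 • path g [9, 6] p = path g [4, 1] p :=
  (f1054 H).trans (f1064 H)

theorem f1303 : g 9 • path g [9, 6] p = path g [9, 1] p :=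
  (f1008 H).trans (f1243 H)

theorem f1305 : path g [3, 9, 0] p = path g [3, 4, 7] p :=
  (f1162 H).symm

theorem f1306 : g 5 • path g [3, 4, 7] p = path g [3, 9] p :=
  (congrArg (g 5 • ·) (f1305 H).symm).trans (f235 H)

theorem f1307 : path g [4, 0, 3] p = path g [3, 9] p :=
  (f559 H).symm.trans (f1306 H)

theorem f1317 : g 7 • path g [3, 9] p = path g [3, 4, 0] p :=
  (congrArg (g 7 • ·) (f1307 H).symm).trans (f544 H)

theorem f1318 : path g [3, 9] p = path g [3, 4, 0] p :=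
  (f1031 H).symm.trans (f1317 H)

theorem f1320 : g 0 • path g [3, 9] p = path g [3, 4, 7] p :=
  (f234 H).trans (f1305 H)

theorem f1322 : path g [3, 4, 0] p = path g [3, 9] p :=
  (f1318 H).symm

theorem f1324 : g 5 • path g [3, 9] p = path g [3, 4] p :=
  (f240 H).trans (f1158 H)

theorem f1329 : path g [4, 1, 9] p = path g [9, 6] p :=
  (f1245 H).trans (f1277 H)

theorem f1330 : g 8 • path g [9, 6] p = path g [9, 6, 8] p :=
  rfl

theorem f1331 : g 3 • path g [9, 6, 8] p = path g [9, 6] p :=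
  H.back (i := 8) (by decide) (f1330 H)

theorem f1332 : g 8 • path g [9, 6, 8] p = path g [9, 6, 3] p :=
  scan (u := [8]) (w := [8]) (i := 8) (r9_1_0 H) (step (f1330 H) rfl) (step (H.back (i := 3) (by decide) (f1052 H)) rfl)

theorem f1333 : g 3 • path g [9, 6, 3] p = path g [9, 6, 8] p :=
  H.back (i := 8) (by decide) (f1332 H)

theorem f1334 : g 4 • path g [9, 6, 8] p = path g [4, 1, 8] p :=
  scan (u := [8]) (w := [3, 9]) (i := 4) (r14_0_1 H) (step (f1330 H) rfl) (step (H.back (i := 8) (by decide) (f286 H)) (step (H.back (i := 4) (by decide) (f1300 H)) rfl))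

theorem f1335 : g 9 • path g [4, 1, 8] p = path g [9, 6, 8] p :=
  H.back (i := 4) (by decide) (f1334 H)

theorem f1336 : g 9 • path g [9, 6, 8] p = path g [9, 1, 8] p :=
  scan (u := [8]) (w := [3, 4]) (i := 9) (r14_1_0 H) (step (f1330 H) rfl) (step (H.back (i := 8) (by decide) (f1046 H)) (step (H.back (i := 9) (by decide) (f1303 H)) rfl))

theorem f1337 : g 4 • path g [9, 1, 8] p = path g [9, 6, 8] p :=
  H.back (i := 9) (by decide) (f1336 H)

theorem f1338 : g 0 • path g [9] p = path g [4] p :=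
  (f86 H).trans (f1168 H)

theorem f1339 : g 0 • path g [9, 6, 8] p = path g [9, 1, 8] p :=
  scan (u := [8]) (w := [3, 6, 5, 7, 5, 6]) (i := 0) (r7_0_5 H) (step (f1330 H) rfl) (step (H.back (i := 8) (by decide) (f1046 H)) (step (H.back (i := 1) (by decide) (f88 H)) (step (H.back (i := 0) (by decide) (f1176 H)) (step (H.back (i := 2) (by decide) (f388 H)) (step (H.back (i := 0) (by decide) (f1338 H)) (step (H.back (i := 1) (by decide) (f95 H)) rfl))))))

theorem f1340 : g 5 • path g [9, 1, 8] p = path g [9, 6, 8] p :=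
  H.back (i := 0) (by decide) (f1339 H)

theorem f1341 : g 5 • path g [9, 6, 8] p = path g [4, 1, 8] p :=
  scan (u := [8]) (w := [3, 1, 0, 2, 0, 1]) (i := 5) (r7_1_0 H) (step (f1330 H) rfl) (step (H.back (i := 8) (by decide) (f286 H)) (step (H.back (i := 6) (by decide) (f58 H)) (step (H.back (i := 5) (by decide) (f551 H)) (step (H.back (i := 7) (by decide) (f556 H)) (step (H.back (i := 5) (by decide) (f1267 H)) (step (H.back (i := 6) (by decide) (f96 H)) rfl))))))

theorem f1342 : g 0 • path g [4, 1, 8] p = path g [9, 6, 8] p :=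
  H.back (i := 5) (by decide) (f1341 H)

theorem f1343 : g 0 • path g [4, 1] p = path g [9, 1] p :=
  (f508 H).trans (f1243 H)

theorem f1344 : g 2 • path g [9, 6, 8] p = path g [9, 1, 8] p :=
  scan (u := [8]) (w := [3, 5, 5, 6, 5, 7, 5, 6, 5]) (i := 2) (r6_0_8 H) (step (f1330 H) rfl) (step (H.back (i := 8) (by decide) (f1046 H)) (step (H.back (i := 0) (by decide) (f1343 H)) (step (H.back (i := 0) (by decide) (f1272 H)) (step (H.back (i := 1) (by decide) (f88 H)) (step (H.back (i := 0) (by decide) (f1176 H)) (step (H.back (i := 2) (by decide) (f388 H)) (step (H.back (i := 0) (by decide) (f1338 H)) (step (H.back (i := 1) (by decide) (f95 H)) (step (H.back (i := 0) (by decide) (f101 H)) rfl)))))))))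

theorem f1345 : g 7 • path g [9, 1, 8] p = path g [9, 6, 8] p :=
  H.back (i := 2) (by decide) (f1344 H)

theorem f1346 : g 5 • path g [4, 1] p = path g [9, 1] p :=
  (f520 H).trans (f1243 H)

theorem f1347 : g 7 • path g [9, 6, 8] p = path g [9, 1, 8] p :=
  scan (u := [8]) (w := [3, 0, 1, 0, 2, 0, 1, 0, 0]) (i := 7) (r6_1_0 H) (step (f1330 H) rfl) (step (H.back (i := 8) (by decide) (f1046 H)) (step (H.back (i := 5) (by decide) (f1346 H)) (step (H.back (i := 6) (by decide) (f58 H)) (step (H.back (i := 5) (by decide) (f551 H)) (step (H.back (i := 7) (by decide) (f556 H)) (step (H.back (i := 5) (by decide) (f1267 H)) (step (H.back (i := 6) (by decide) (f96 H)) (step (H.back (i := 5) (by decide) (f100 H)) (step (H.back (i := 5) (by decide) (f100 H)) rfl)))))))))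

theorem f1348 : g 2 • path g [9, 1, 8] p = path g [9, 6, 8] p :=
  H.back (i := 7) (by decide) (f1347 H)

theorem f1349 : g 5 • path g [4, 6, 8] p = path g [9, 1, 8] p :=
  scan (u := [7, 5, 5, 7]) (w := [5]) (i := 5) (r2_1_2 H) (step (f1347 H) (step (f1340 H) (step (f1341 H) (step (f580 H) rfl)))) (step (H.back (i := 0) (by decide) (f1339 H)) rfl)

theorem f1350 : g 0 • path g [9, 1, 8] p = path g [4, 6, 8] p :=
  H.back (i := 5) (by decide) (f1349 H)

theorem f1351 : g 4 • path g [4, 6, 8] p = path g [4, 6, 8] p :=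
  scan (u := [5, 5, 5, 7, 5, 9, 2]) (w := []) (i := 4) (r10_0_0 H) (step (f1349 H) (step (f1340 H) (step (f1341 H) (step (f580 H) (step (f1349 H) (step (f1050 H) (step (f582 H) rfl))))))) rfl

theorem f1352 : g 9 • path g [4, 6, 8] p = path g [4, 6, 8] p :=
  H.back (i := 4) (by decide) (f1351 H)

theorem f1353 : g 9 • path g [4, 6, 3] p = path g [4, 6, 3] p :=
  scan (u := [4, 8]) (w := [3]) (i := 9) (r14_1_3 H) (step (f1351 H) (step (f575 H) rfl)) (step (H.back (i := 8) (by decide) (f575 H)) rfl)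

theorem f1354 : g 4 • path g [4, 6, 3] p = path g [4, 6, 3] p :=
  H.back (i := 9) (by decide) (f1353 H)

theorem f1355 : g 5 • path g [9] p = path g [4] p :=
  (f564 H).trans (f1168 H)

theorem f1356 : g 4 • path g [9, 1, 3] p = path g [9, 6, 3] p :=
  scan (u := [9, 8]) (w := [3]) (i := 4) (r14_0_0 H) (step (f1336 H) (step (f1048 H) rfl)) (step (H.back (i := 8) (by decide) (f1332 H)) rfl)

theorem f1357 : g 9 • path g [9, 6, 3] p = path g [9, 1, 3] p :=
  H.back (i := 4) (by decide) (f1356 H)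

theorem f1358 : g 4 • path g [9, 1] p = path g [9, 6] p :=
  (f1260 H).trans (f1277 H)

theorem f1359 : g 4 • path g [9, 6, 3] p = path g [4, 1, 3] p :=
  scan (u := [4]) (w := [4]) (i := 4) (r13_0_0 H) (step (f1356 H) rfl) (step (H.back (i := 9) (by decide) (f1044 H)) rfl)

theorem f1360 : g 9 • path g [4, 1, 3] p = path g [9, 6, 3] p :=
  H.back (i := 4) (by decide) (f1359 H)

theorem f1361 : g 9 • path g [4, 1] p = path g [9, 6] p :=
  (f290 H).trans (f1329 H)

theorem f1364 : g 6 • path g [3, 1, 0] p = path g [3, 1, 0, 6] p :=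
  rfl

theorem f1366 : g 6 • path g [3, 1, 0, 6] p = path g [3, 6, 0] p :=
  scan (u := [6]) (w := [6]) (i := 6) (r0_1_0 H) (step (f1364 H) rfl) (step (H.back (i := 1) (by decide) (f949 H)) rfl)

theorem f1367 : g 1 • path g [3, 6, 0] p = path g [3, 1, 0, 6] p :=
  H.back (i := 6) (by decide) (f1366 H)

theorem f1368 : g 7 • path g [3, 1, 0, 6] p = path g [3, 1, 0, 6] p :=
  scan (u := [6]) (w := [6, 7]) (i := 7) (r1_1_0 H) (step (f1364 H) rfl) (step (H.back (i := 1) (by decide) (f1367 H)) (step (H.back (i := 2) (by decide) (f942 H)) rfl))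

theorem f1370 : g 5 • path g [3, 1, 0, 6] p = path g [3, 1, 0, 6] p :=
  scan (u := [6]) (w := [6, 0, 6, 5]) (i := 5) (r3_1_1 H) (step (f1364 H) rfl) (step (H.back (i := 1) (by decide) (f1367 H)) (step (H.back (i := 5) (by decide) (f929 H)) (step (H.back (i := 1) (by decide) (f41 H)) (step (H.back (i := 0) (by decide) (f932 H)) rfl))))

theorem f1372 : g 8 • path g [3, 1, 0] p = path g [3, 1, 0, 8] p :=
  rfl

theorem f1378 : g 5 • path g [3, 1, 0, 8] p = path g [8, 6, 3] p :=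
  scan (u := [8]) (w := [3, 1, 0, 2, 0, 1]) (i := 5) (r7_1_0 H) (step (f1372 H) rfl) (step (H.back (i := 8) (by decide) (f958 H)) (step (H.back (i := 6) (by decide) (f1366 H)) (step (H.back (i := 5) (by decide) (f1370 H)) (step (H.back (i := 7) (by decide) (f1368 H)) (step (H.back (i := 5) (by decide) (f1370 H)) (step (H.back (i := 6) (by decide) (f1364 H)) rfl))))))

theorem f1380 : g 6 • path g [3, 1, 0, 8] p = path g [3, 6, 8] p :=
  scan (u := [8]) (w := [5, 8, 6, 5, 8, 6, 5]) (i := 6) (r17_1_0 H) (step (f1372 H) rfl) (step (H.back (i := 0) (by decide) (f229 H)) (step (H.back (i := 3) (by decide) (f141 H)) (step (H.back (i := 1) (by decide) (f731 H)) (step (H.back (i := 0) (by decide) (f595 H)) (step (H.back (i := 3) (by decide) (f903 H)) (step (H.back (i := 1) (by decide) (f41 H)) (step (H.back (i := 0) (by decide) (f932 H)) rfl)))))))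

theorem f1384 : g 7 • path g [3, 1, 0, 8] p = path g [3, 6, 8] p :=
  scan (u := [8]) (w := [3, 0, 1, 0, 2, 0, 1, 0, 0]) (i := 7) (r6_1_0 H) (step (f1372 H) rfl) (step (H.back (i := 8) (by decide) (f224 H)) (step (H.back (i := 5) (by decide) (f209 H)) (step (H.back (i := 6) (by decide) (f1366 H)) (step (H.back (i := 5) (by decide) (f1370 H)) (step (H.back (i := 7) (by decide) (f1368 H)) (step (H.back (i := 5) (by decide) (f1370 H)) (step (H.back (i := 6) (by decide) (f1364 H)) (step (H.back (i := 5) (by decide) (f934 H)) (step (H.back (i := 5) (by decide) (f129 H)) rfl)))))))))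

theorem f1385 : g 2 • path g [3, 6, 8] p = path g [3, 1, 0, 8] p :=
  H.back (i := 7) (by decide) (f1384 H)

theorem f1386 : path g [3, 6, 8] p = path g [3, 1] p :=
  close (u := [8, 6, 8, 6, 8, 6, 8]) (w := [6, 8, 6, 8, 6, 8, 6]) (r15_1_0 H) (step (f1372 H) (step (f1380 H) (step (f893 H) (step (f69 H) (step (f12 H) (step (f38 H) (step (f224 H) rfl))))))) (step (H.back (i := 1) (by decide) (f28 H)) (step (H.back (i := 3) (by decide) (f6 H)) (step (H.back (i := 1) (by decide) (f2 H)) (step (H.back (i := 3) (by decide) (f11 H)) (step (H.back (i := 1) (by decide) (f71 H)) (step (H.back (i := 3) (by decide) (f921 H)) (step (H.back (i := 1) (by decide) (f949 H)) rfl)))))))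

theorem f1399 : g 2 • path g [3, 1] p = path g [3, 1, 0, 8] p :=
  (congrArg (g 2 • ·) (f1386 H).symm).trans (f1385 H)

theorem f1400 : path g [3, 6] p = path g [3, 1, 0, 8] p :=
  (f886 H).symm.trans (f1399 H)

theorem f1401 : path g [3, 1, 0, 8] p = path g [3, 6] p :=
  (f1400 H).symm

theorem f1405 : g 8 • path g [3, 6] p = path g [3, 1] p :=
  (f224 H).trans (f1386 H)

theorem f1409 : g 5 • path g [3, 6] p = path g [8, 6, 3] p :=
  (congrArg (g 5 • ·) (f1401 H).symm).trans (f1378 H)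

theorem f1410 : path g [3, 6, 0] p = path g [8, 6, 3] p :=
  (f929 H).symm.trans (f1409 H)

theorem f1420 : path g [8, 6, 3] p = path g [3, 6, 0] p :=
  (f1410 H).symm

theorem f1430 : g 6 • path g [3, 6, 0] p = path g [3, 1, 8] p :=
  (congrArg (g 6 • ·) (f1420 H).symm).trans (f966 H)

theorem f1431 : path g [3, 1, 0] p = path g [3, 1, 8] p :=
  (f948 H).symm.trans (f1430 H)

theorem f1438 : path g [3, 1, 8] p = path g [3, 1, 0] p :=
  (f1431 H).symm

theorem f1441 : g 8 • path g [3, 1, 0] p = path g [3, 1, 3] p :=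
  (congrArg (g 8 • ·) (f1438 H).symm).trans (f140 H)

theorem f1442 : g 8 • path g [3, 1, 0] p = path g [3, 6] p :=
  (f1372 H).trans (f1401 H)

theorem f1443 : path g [3, 6] p = path g [3, 1, 3] p :=
  (f1442 H).symm.trans (f1441 H)

theorem f1459 : path g [3, 1, 3] p = path g [3, 6] p :=
  (f1443 H).symm

theorem f1473 : g 2 • path g [3, 6] p = path g [8, 1, 0] p :=
  (congrArg (g 2 • ·) (f1459 H).symm).trans (f915 H)

theorem f1474 : path g [3, 1] p = path g [8, 1, 0] p :=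
  (f947 H).symm.trans (f1473 H)

theorem f1475 : path g [8, 1, 0] p = path g [3, 1] p :=
  (f1474 H).symm

theorem f1481 : g 0 • path g [3, 1] p = path g [8, 1] p :=
  (congrArg (g 0 • ·) (f1475 H).symm).trans (f621 H)

theorem f1482 : path g [3, 1, 0] p = path g [8, 1] p :=
  (f128 H).symm.trans (f1481 H)

theorem f1490 : g 8 • path g [3, 1] p = path g [3, 1, 0] p :=
  (f138 H).trans (f1438 H)

theorem f1494 : g 3 • path g [3, 1] p = path g [3, 6] p :=
  (f130 H).trans (f1459 H)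

theorem f1497 : g 5 • path g [8, 1] p = path g [3, 1] p :=
  (f623 H).trans (f1475 H)

theorem f1502 : g 0 • path g [8, 1] p = path g [3, 1] p :=
  (f595 H).trans (f1475 H)

theorem f1508 : g 3 • path g [8, 1] p = path g [3, 1] p :=
  (f922 H).trans (f1386 H)

theorem f1514 : g 6 • path g [8, 1] p = path g [3, 1, 0, 6] p :=
  (congrArg (g 6 • ·) (f1482 H).symm).trans (f1364 H)

theorem f1515 : path g [8] p = path g [3, 1, 0, 6] p :=
  (f69 H).symm.trans (f1514 H)

theorem f1518 : path g [3, 1, 0, 6] p = path g [8] p :=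
  (f1515 H).symm

theorem f1522 : g 6 • path g [8] p = path g [3, 6, 0] p :=
  (congrArg (g 6 • ·) (f1518 H).symm).trans (f1366 H)

theorem f1523 : path g [8, 6] p = path g [3, 6, 0] p :=
  (f70 H).symm.trans (f1522 H)

theorem f1536 : path g [3, 6, 0] p = path g [8, 6] p :=
  (f1523 H).symm

theorem f1538 : g 5 • path g [8, 6] p = path g [3, 6] p :=
  (f734 H).trans (f1459 H)

theorem f1544 : path g [8, 6, 3] p = path g [8, 6] p :=
  (f1420 H).trans (f1536 H)

theorem f1545 : g 3 • path g [8, 6] p = path g [8, 6] p :=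
  (f955 H).trans (f1544 H)

theorem f1551 : g 0 • path g [8, 6] p = path g [3, 6] p :=
  (f728 H).trans (f1459 H)

theorem f1558 : g 8 • path g [8, 6] p = path g [8, 6] p :=
  (f920 H).trans (f1536 H)

theorem f1568 : g 0 • path g [3, 1, 4] p = path g [3, 1, 4, 0] p :=
  rfl

theorem f1570 : g 1 • path g [3, 1, 4] p = path g [3, 1, 4, 1] p :=
  rfl

theorem f1571 : g 6 • path g [3, 1, 4, 1] p = path g [3, 1, 4] p :=
  H.back (i := 1) (by decide) (f1570 H)

theorem f1572 : g 2 • path g [3, 1, 4] p = path g [3, 1, 4, 2] p :=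
  rfl

theorem f1573 : g 7 • path g [3, 1, 4, 2] p = path g [3, 1, 4] p :=
  H.back (i := 2) (by decide) (f1572 H)

theorem f1574 : g 0 • path g [3, 1] p = path g [8, 1] p :=
  (f128 H).trans (f1482 H)

theorem f1575 : g 3 • path g [3, 1, 4] p = path g [3, 1, 4, 3] p :=
  rfl

theorem f1576 : g 8 • path g [3, 1, 4, 3] p = path g [3, 1, 4] p :=
  H.back (i := 3) (by decide) (f1575 H)

theorem f1577 : path g [3, 1, 4, 3] p = path g [3, 6, 4] p :=
  close (u := [3]) (w := [9, 8, 4]) (r14_0_3 H) (step (f1575 H) rfl) (step (H.back (i := 4) (by decide) (f216 H)) (step (H.back (i := 3) (by decide) (f1494 H)) (step (H.back (i := 9) (by decide) (f133 H)) rfl)))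

theorem f1578 : g 8 • path g [3, 6, 4] p = path g [3, 1, 4] p :=
  (congrArg (g 8 • ·) (f1577 H).symm).trans (f1576 H)

theorem f1580 : g 3 • path g [3, 1, 4] p = path g [3, 6, 4] p :=
  H.back (i := 8) (by decide) (f1578 H)

theorem f1581 : g 8 • path g [3, 6, 9] p = path g [3, 1, 9] p :=
  scan (u := [3, 4]) (w := [9]) (i := 8) (r14_1_2 H) (step (f1580 H) (step (f233 H) rfl)) (step (H.back (i := 4) (by decide) (f145 H)) rfl)

theorem f1582 : g 3 • path g [3, 1, 9] p = path g [3, 6, 9] p :=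
  H.back (i := 8) (by decide) (f1581 H)

theorem f1583 : g 5 • path g [3, 1, 4] p = path g [3, 1, 4, 5] p :=
  rfl

theorem f1585 : g 5 • path g [3, 1] p = path g [8, 1] p :=
  (f934 H).trans (f1482 H)

theorem f1586 : g 6 • path g [3, 1, 4] p = path g [3, 1, 4, 6] p :=
  rfl

theorem f1587 : g 1 • path g [3, 1, 4, 6] p = path g [3, 1, 4] p :=
  H.back (i := 6) (by decide) (f1586 H)

theorem f1588 : g 6 • path g [3, 1, 4, 6] p = path g [3, 1, 4, 1] p :=
  scan (u := [6]) (w := [6]) (i := 6) (r0_1_0 H) (step (f1586 H) rfl) (step (H.back (i := 1) (by decide) (f1570 H)) rfl)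

theorem f1589 : g 1 • path g [3, 1, 4, 1] p = path g [3, 1, 4, 6] p :=
  H.back (i := 6) (by decide) (f1588 H)

theorem f1590 : g 7 • path g [3, 1, 4] p = path g [3, 1, 4, 7] p :=
  rfl

theorem f1592 : g 8 • path g [3, 1, 4] p = path g [3, 1, 4, 8] p :=
  rfl

theorem f1593 : g 3 • path g [3, 1, 4, 8] p = path g [3, 1, 4] p :=
  H.back (i := 8) (by decide) (f1592 H)

theorem f1594 : g 8 • path g [3, 1, 4, 8] p = path g [3, 6, 4] p :=
  scan (u := [8]) (w := [8]) (i := 8) (r9_1_0 H) (step (f1592 H) rfl) (step (H.back (i := 3) (by decide) (f1580 H)) rfl)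

theorem f1596 : g 8 • path g [3, 1] p = path g [8, 1] p :=
  (f1490 H).trans (f1482 H)

theorem f1597 : path g [3, 1, 4, 8] p = path g [8, 1, 4] p :=
  close (u := [8]) (w := [9, 3, 4]) (r14_1_0 H) (step (f1592 H) rfl) (step (H.back (i := 4) (by decide) (f599 H)) (step (H.back (i := 8) (by decide) (f1596 H)) (step (H.back (i := 9) (by decide) (f133 H)) rfl)))

theorem f1598 : g 3 • path g [8, 1, 4] p = path g [3, 1, 4] p :=
  (congrArg (g 3 • ·) (f1597 H).symm).trans (f1593 H)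

theorem f1600 : g 8 • path g [3, 1, 4] p = path g [8, 1, 4] p :=
  H.back (i := 3) (by decide) (f1598 H)

theorem f1601 : g 8 • path g [8, 1, 4] p = path g [3, 6, 4] p :=
  (congrArg (g 8 • ·) (f1597 H).symm).trans (f1594 H)

theorem f1603 : g 3 • path g [3, 6, 4] p = path g [8, 1, 4] p :=
  H.back (i := 8) (by decide) (f1601 H)

theorem f1604 : g 8 • path g [3, 1, 9] p = path g [8, 1, 9] p :=
  scan (u := [3, 4]) (w := [9]) (i := 8) (r14_1_2 H) (step (f1598 H) (step (f145 H) rfl)) (step (H.back (i := 4) (by decide) (f612 H)) rfl)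

theorem f1605 : g 3 • path g [8, 1, 9] p = path g [3, 1, 9] p :=
  H.back (i := 8) (by decide) (f1604 H)

theorem f1606 : g 8 • path g [8, 1, 9] p = path g [3, 6, 9] p :=
  scan (u := [8]) (w := [8]) (i := 8) (r9_1_0 H) (step (f1604 H) rfl) (step (H.back (i := 3) (by decide) (f1582 H)) rfl)

theorem f1607 : g 3 • path g [3, 6, 9] p = path g [8, 1, 9] p :=
  H.back (i := 8) (by decide) (f1606 H)

theorem f1609 : g 0 • path g [3, 1, 9] p = path g [3, 1, 9, 0] p :=
  rfl

theorem f1610 : g 5 • path g [3, 1, 9, 0] p = path g [3, 1, 9] p :=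
  H.back (i := 0) (by decide) (f1609 H)

theorem f1611 : g 1 • path g [3, 1, 9] p = path g [3, 1, 9, 1] p :=
  rfl

theorem f1612 : g 6 • path g [3, 1, 9, 1] p = path g [3, 1, 9] p :=
  H.back (i := 1) (by decide) (f1611 H)

theorem f1613 : g 0 • path g [3, 6] p = path g [8, 6] p :=
  (f208 H).trans (f1536 H)

theorem f1614 : g 5 • path g [3, 1, 9] p = path g [3, 1, 9, 5] p :=
  rfl

theorem f1615 : g 0 • path g [3, 1, 9, 5] p = path g [3, 1, 9] p :=
  H.back (i := 5) (by decide) (f1614 H)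

theorem f1616 : g 6 • path g [3, 1, 9] p = path g [3, 1, 9, 6] p :=
  rfl

theorem f1617 : g 1 • path g [3, 1, 9, 6] p = path g [3, 1, 9] p :=
  H.back (i := 6) (by decide) (f1616 H)

theorem f1618 : g 6 • path g [3, 1, 9, 6] p = path g [3, 1, 9, 1] p :=
  scan (u := [6]) (w := [6]) (i := 6) (r0_1_0 H) (step (f1616 H) rfl) (step (H.back (i := 1) (by decide) (f1611 H)) rfl)

theorem f1619 : g 1 • path g [3, 1, 9, 1] p = path g [3, 1, 9, 6] p :=
  H.back (i := 6) (by decide) (f1618 H)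

theorem f1620 : g 0 • path g [3, 4, 1] p = path g [3, 4, 1, 0] p :=
  rfl

theorem f1621 : g 5 • path g [3, 4, 1, 0] p = path g [3, 4, 1] p :=
  H.back (i := 0) (by decide) (f1620 H)

theorem f1622 : g 0 • path g [3, 4] p = path g [3, 9] p :=
  (f172 H).trans (f1322 H)

theorem f1623 : path g [3, 4, 1, 0] p = path g [8, 9, 1] p :=
  close (u := [0]) (w := [2, 1, 0, 9, 6, 5, 6, 6, 4, 1]) (r12_1_7 H) (step (f1620 H) rfl) (step (H.back (i := 7) (by decide) (f997 H)) (step (H.back (i := 6) (by decide) (f993 H)) (step (H.back (i := 5) (by decide) (f1143 H)) (step (H.back (i := 4) (by decide) (f67 H)) (step (H.back (i := 1) (by decide) (f71 H)) (step (H.back (i := 0) (by decide) (f1613 H)) (step (H.back (i := 1) (by decide) (f41 H)) (step (H.back (i := 1) (by decide) (f28 H)) (step (H.back (i := 9) (by decide) (f33 H)) (step (H.back (i := 6) (by decide) (f175 H)) rfl))))))))))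

theorem f1624 : g 5 • path g [8, 9, 1] p = path g [3, 4, 1] p :=
  (congrArg (g 5 • ·) (f1623 H).symm).trans (f1621 H)

theorem f1626 : g 0 • path g [3, 4, 1] p = path g [8, 9, 1] p :=
  H.back (i := 5) (by decide) (f1624 H)

theorem f1627 : g 5 • path g [3, 4, 7] p = path g [3, 9] p :=
  (f559 H).trans (f1307 H)

theorem f1628 : g 0 • path g [8, 9] p = path g [4, 8] p :=
  (f977 H).trans (f1135 H)

theorem f1629 : g 5 • path g [8, 9] p = path g [4, 8] p :=
  (f989 H).trans (f1135 H)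

theorem f1630 : g 5 • path g [4, 8, 1] p = path g [3, 9, 1] p :=
  scan (u := [0, 2, 1, 5, 6, 7]) (w := [6, 7, 0, 2, 1]) (i := 5) (r5_0_9 H) (step (f1626 H) (step (f998 H) (step (f994 H) (step (f1629 H) (step (f589 H) (step (f593 H) rfl)))))) (step (H.back (i := 1) (by decide) (f236 H)) (step (H.back (i := 2) (by decide) (f1033 H)) (step (H.back (i := 5) (by decide) (f1627 H)) (step (H.back (i := 7) (by decide) (f184 H)) (step (H.back (i := 6) (by decide) (f175 H)) rfl)))))

theorem f1631 : g 0 • path g [3, 9, 1] p = path g [4, 8, 1] p :=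
  H.back (i := 5) (by decide) (f1630 H)

theorem f1632 : path g [3, 4, 2] p = path g [3, 4] p :=
  close (u := [0, 2, 1, 0, 6, 7, 5, 6, 7, 5, 2]) (w := [1]) (r5_1_8 H) (step (f1626 H) (step (f998 H) (step (f994 H) (step (f1628 H) (step (f589 H) (step (f593 H) (step (f1630 H) (step (f237 H) (step (f1031 H) (step (f1324 H) (step (f176 H) rfl))))))))))) (step (H.back (i := 6) (by decide) (f175 H)) rfl)

theorem f1633 : g 7 • path g [3, 4] p = path g [3, 4] p :=
  (congrArg (g 7 • ·) (f1632 H).symm).trans (f177 H)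

theorem f1634 : path g [3, 4, 7] p = path g [3, 4] p :=
  (f184 H).symm.trans (f1633 H)

theorem f1636 : g 2 • path g [3, 4] p = path g [3, 4] p :=
  (f176 H).trans (f1632 H)

theorem f1638 : g 5 • path g [3, 4] p = path g [3, 9] p :=
  (congrArg (g 5 • ·) (f1634 H).symm).trans (f1627 H)

theorem f1639 : path g [3, 4, 5] p = path g [3, 9] p :=
  (f178 H).symm.trans (f1638 H)

theorem f1641 : g 0 • path g [3, 9] p = path g [3, 4] p :=
  (f1320 H).trans (f1634 H)

theorem f1643 : g 7 • path g [3, 4] p = path g [3, 4] p :=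
  (f184 H).trans (f1634 H)

theorem f1644 : g 5 • path g [3, 4] p = path g [3, 9] p :=
  (f178 H).trans (f1639 H)

theorem f1645 : g 2 • path g [3, 9, 1] p = path g [3, 9, 6] p :=
  scan (u := [0, 6, 7, 5, 6, 7, 5]) (w := [1, 0, 2, 1]) (i := 2) (r5_1_11 H) (step (f1626 H) (step (f980 H) (step (f85 H) (step (f1629 H) (step (f589 H) (step (f593 H) (step (f1630 H) rfl))))))) (step (H.back (i := 6) (by decide) (f242 H)) (step (H.back (i := 5) (by decide) (f1644 H)) (step (H.back (i := 7) (by decide) (f1643 H)) (step (H.back (i := 6) (by decide) (f175 H)) rfl))))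

theorem f1646 : g 7 • path g [3, 9, 6] p = path g [3, 9, 1] p :=
  H.back (i := 2) (by decide) (f1645 H)

theorem f1647 : g 0 • path g [8, 9, 6] p = path g [3, 9, 6] p :=
  scan (u := [0, 2]) (w := [1, 0, 9, 5, 7, 5, 4, 2, 1]) (i := 0) (r11_1_7 H) (step (f1626 H) (step (f998 H) rfl)) (step (H.back (i := 6) (by decide) (f242 H)) (step (H.back (i := 5) (by decide) (f1644 H)) (step (H.back (i := 4) (by decide) (f32 H)) (step (H.back (i := 0) (by decide) (f747 H)) (step (H.back (i := 2) (by decide) (f654 H)) (step (H.back (i := 0) (by decide) (f747 H)) (step (H.back (i := 9) (by decide) (f33 H)) (step (H.back (i := 7) (by decide) (f1643 H)) (step (H.back (i := 6) (by decide) (f175 H)) rfl)))))))))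

theorem f1648 : g 5 • path g [3, 9, 6] p = path g [8, 9, 6] p :=
  H.back (i := 0) (by decide) (f1647 H)

theorem f1649 : g 0 • path g [3, 4, 6] p = path g [4, 8, 6] p :=
  scan (u := [5, 1]) (w := [1, 0, 1]) (i := 0) (r3_0_1 H) (step (f1624 H) (step (f183 H) rfl)) (step (H.back (i := 6) (by decide) (f589 H)) (step (H.back (i := 5) (by decide) (f1629 H)) (step (H.back (i := 6) (by decide) (f980 H)) rfl)))

theorem f1650 : g 5 • path g [4, 8, 6] p = path g [3, 4, 6] p :=
  H.back (i := 0) (by decide) (f1649 H)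

theorem f1651 : g 0 • path g [3, 9, 6] p = path g [8, 9, 6] p :=
  scan (u := [5, 6, 5, 6]) (w := [6]) (i := 0) (r3_1_0 H) (step (f1624 H) (step (f175 H) (step (f1644 H) (step (f242 H) rfl)))) (step (H.back (i := 1) (by decide) (f996 H)) rfl)

theorem f1652 : g 5 • path g [8, 9, 6] p = path g [3, 9, 6] p :=
  H.back (i := 0) (by decide) (f1651 H)

theorem f1653 : g 2 • path g [3, 4, 1] p = path g [3, 4, 6] p :=
  scan (u := [5]) (w := [1, 0, 2, 1, 0, 6, 7, 5, 6, 7]) (i := 2) (r5_1_5 H) (step (f1624 H) rfl) (step (H.back (i := 6) (by decide) (f180 H)) (step (H.back (i := 5) (by decide) (f1324 H)) (step (H.back (i := 7) (by decide) (f1031 H)) (step (H.back (i := 6) (by decide) (f237 H)) (step (H.back (i := 5) (by decide) (f1630 H)) (step (H.back (i := 1) (by decide) (f587 H)) (step (H.back (i := 2) (by decide) (f562 H)) (step (H.back (i := 0) (by decide) (f1628 H)) (step (H.back (i := 1) (by decide) (f994 H)) (step (H.back (i := 2) (by decide) (f998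 H)) rfl))))))))))

theorem f1654 : g 7 • path g [3, 4, 6] p = path g [3, 4, 1] p :=
  H.back (i := 2) (by decide) (f1653 H)

theorem f1655 : g 0 • path g [8, 9, 1] p = path g [3, 4, 1] p :=
  scan (u := [2, 0, 1, 8, 5, 3, 1]) (w := []) (i := 0) (r7_1_5 H) (step (f1653 H) (step (f1649 H) (step (f590 H) (step (f64 H) (step (f1644 H) (step (f81 H) (step (f979 H) rfl))))))) rfl

theorem f1656 : g 5 • path g [3, 4, 1] p = path g [8, 9, 1] p :=
  H.back (i := 0) (by decide) (f1655 H)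

theorem f1657 : g 5 • path g [3, 4, 6] p = path g [4, 8, 6] p :=
  scan (u := [2, 1, 0, 9, 6]) (w := [6, 6, 4, 1, 0]) (i := 5) (r12_1_8 H) (step (f1653 H) (step (f181 H) (step (f1622 H) (step (f44 H) (step (f180 H) rfl))))) (step (H.back (i := 1) (by decide) (f592 H)) (step (H.back (i := 1) (by decide) (f587 H)) (step (H.back (i := 9) (by decide) (f78 H)) (step (H.back (i := 6) (by decide) (f980 H)) (step (H.back (i := 5) (by decide) (f1656 H)) rfl)))))

theorem f1658 : g 0 • path g [4, 8, 6] p = path g [3, 4, 6] p :=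
  H.back (i := 5) (by decide) (f1657 H)

theorem f1659 : g 5 • path g [3, 9, 1] p = path g [4, 8, 1] p :=
  scan (u := [2, 1, 0, 2, 1]) (w := [6, 7, 5, 6, 7, 0]) (i := 5) (r5_0_7 H) (step (f1653 H) (step (f181 H) (step (f1622 H) (step (f1033 H) (step (f236 H) rfl))))) (step (H.back (i := 1) (by decide) (f587 H)) (step (H.back (i := 2) (by decide) (f562 H)) (step (H.back (i := 0) (by decide) (f1628 H)) (step (H.back (i := 1) (by decide) (f994 H)) (step (H.back (i := 2) (by decide) (f998 H)) (step (H.back (i := 5) (by decide) (f1656 H)) rfl))))))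

theorem f1660 : g 0 • path g [4, 8, 1] p = path g [3, 9, 1] p :=
  H.back (i := 5) (by decide) (f1659 H)

theorem f1661 : g 7 • path g [3, 4, 1] p = path g [3, 4, 6] p :=
  scan (u := [7, 5, 5]) (w := [5, 5]) (i := 7) (r2_1_2 H) (step (f1654 H) (step (f1656 H) (step (f1624 H) rfl))) (step (H.back (i := 0) (by decide) (f1658 H)) (step (H.back (i := 0) (by decide) (f1649 H)) rfl))

theorem f1662 : g 2 • path g [3, 4, 6] p = path g [3, 4, 1] p :=
  H.back (i := 7) (by decide) (f1661 H)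

theorem f1663 : g 7 • path g [3, 9, 1] p = path g [3, 9, 6] p :=
  scan (u := [7, 5, 7, 5]) (w := [5, 7, 5]) (i := 7) (r4_1_1 H) (step (f1661 H) (step (f1657 H) (step (f593 H) (step (f1630 H) rfl)))) (step (H.back (i := 0) (by decide) (f1647 H)) (step (H.back (i := 2) (by decide) (f998 H)) (step (H.back (i := 0) (by decide) (f1626 H)) rfl)))

theorem f1664 : g 2 • path g [3, 9, 6] p = path g [3, 9, 1] p :=
  H.back (i := 7) (by decide) (f1663 H)

theorem f1665 : g 7 • path g [4, 8, 1] p = path g [4, 8, 6] p :=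
  scan (u := [5]) (w := [5, 5, 7, 5]) (i := 7) (r2_1_1 H) (step (f1659 H) rfl) (step (H.back (i := 0) (by decide) (f1649 H)) (step (H.back (i := 0) (by decide) (f1658 H)) (step (H.back (i := 2) (by decide) (f594 H)) (step (H.back (i := 0) (by decide) (f1631 H)) rfl))))

theorem f1666 : g 2 • path g [4, 8, 6] p = path g [4, 8, 1] p :=
  H.back (i := 7) (by decide) (f1665 H)

theorem f1667 : g 7 • path g [8, 9, 1] p = path g [8, 9, 6] p :=
  scan (u := [5, 7, 5, 7, 5]) (w := [5, 7]) (i := 7) (r4_1_0 H) (step (f1659 H) (step (f1665 H) (step (f1650 H) (step (f1654 H) (step (f1656 H) rfl))))) (step (H.back (i := 0) (by decide) (f1651 H)) (step (H.back (i := 2) (by decide) (f1645 H)) rfl))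

theorem f1668 : g 2 • path g [8, 9, 6] p = path g [8, 9, 1] p :=
  H.back (i := 7) (by decide) (f1667 H)

theorem f1669 : g 5 • path g [3, 6] p = path g [8, 6] p :=
  (f929 H).trans (f1536 H)

theorem f1670 : g 3 • path g [3, 4, 1] p = path g [3, 4, 1, 3] p :=
  rfl

theorem f1671 : g 8 • path g [3, 4, 1, 3] p = path g [3, 4, 1] p :=
  H.back (i := 3) (by decide) (f1670 H)

theorem f1672 : g 4 • path g [3, 4, 1] p = path g [3, 4, 1, 4] p :=
  rfl

theorem f1673 : g 9 • path g [3, 4, 1, 4] p = path g [3, 4, 1] p :=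
  H.back (i := 4) (by decide) (f1672 H)

theorem f1674 : g 8 • path g [3, 4, 1] p = path g [3, 4, 1, 8] p :=
  rfl

theorem f1675 : g 3 • path g [3, 4, 1, 8] p = path g [3, 4, 1] p :=
  H.back (i := 8) (by decide) (f1674 H)

theorem f1676 : g 8 • path g [3, 4, 1, 8] p = path g [3, 4, 1, 3] p :=
  scan (u := [8]) (w := [8]) (i := 8) (r9_1_0 H) (step (f1674 H) rfl) (step (H.back (i := 3) (by decide) (f1670 H)) rfl)

theorem f1677 : g 3 • path g [3, 4, 1, 3] p = path g [3, 4, 1, 8] p :=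
  H.back (i := 8) (by decide) (f1676 H)

theorem f1678 : g 9 • path g [3, 4, 1] p = path g [3, 4, 1, 9] p :=
  rfl

theorem f1679 : g 4 • path g [3, 4, 1, 9] p = path g [3, 4, 1] p :=
  H.back (i := 9) (by decide) (f1678 H)

theorem f1680 : g 9 • path g [3, 4, 1, 9] p = path g [3, 4, 1, 4] p :=
  scan (u := [9]) (w := [9]) (i := 9) (r13_1_0 H) (step (f1678 H) rfl) (step (H.back (i := 4) (by decide) (f1672 H)) rfl)

theorem f1681 : g 4 • path g [3, 4, 1, 4] p = path g [3, 4, 1, 9] p :=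
  H.back (i := 9) (by decide) (f1680 H)

theorem f1682 : g 3 • path g [3, 4, 6] p = path g [3, 4, 6, 3] p :=
  rfl

theorem f1683 : g 8 • path g [3, 4, 6, 3] p = path g [3, 4, 6] p :=
  H.back (i := 3) (by decide) (f1682 H)

theorem f1684 : g 4 • path g [3, 4, 6] p = path g [3, 4, 6, 4] p :=
  rfl

theorem f1685 : g 9 • path g [3, 4, 6, 4] p = path g [3, 4, 6] p :=
  H.back (i := 4) (by decide) (f1684 H)

theorem f1686 : g 8 • path g [3, 4, 6] p = path g [3, 4, 6, 8] p :=
  rfl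

theorem f1687 : g 3 • path g [3, 4, 6, 8] p = path g [3, 4, 6] p :=
  H.back (i := 8) (by decide) (f1686 H)

theorem f1688 : g 8 • path g [3, 4, 6, 8] p = path g [3, 4, 6, 3] p :=
  scan (u := [8]) (w := [8]) (i := 8) (r9_1_0 H) (step (f1686 H) rfl) (step (H.back (i := 3) (by decide) (f1682 H)) rfl)

theorem f1689 : g 3 • path g [3, 4, 6, 3] p = path g [3, 4, 6, 8] p :=
  H.back (i := 8) (by decide) (f1688 H)

theorem f1690 : g 0 • path g [3, 4, 6, 8] p = path g [3, 4, 1, 8] p :=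
  scan (u := [8]) (w := [3, 6, 5, 7, 5, 6]) (i := 0) (r7_0_5 H) (step (f1686 H) rfl) (step (H.back (i := 8) (by decide) (f1674 H)) (step (H.back (i := 1) (by decide) (f174 H)) (step (H.back (i := 0) (by decide) (f1641 H)) (step (H.back (i := 2) (by decide) (f1033 H)) (step (H.back (i := 0) (by decide) (f1622 H)) (step (H.back (i := 1) (by decide) (f181 H)) rfl))))))

theorem f1691 : g 5 • path g [3, 4, 1, 8] p = path g [3, 4, 6, 8] p :=
  H.back (i := 0) (by decide) (f1690 H)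

theorem f1692 : g 9 • path g [3, 4, 6] p = path g [3, 4, 6, 9] p :=
  rfl

theorem f1693 : g 4 • path g [3, 4, 6, 9] p = path g [3, 4, 6] p :=
  H.back (i := 9) (by decide) (f1692 H)

theorem f1694 : g 9 • path g [3, 4, 6, 9] p = path g [3, 4, 6, 4] p :=
  scan (u := [9]) (w := [9]) (i := 9) (r13_1_0 H) (step (f1692 H) rfl) (step (H.back (i := 4) (by decide) (f1684 H)) rfl)

theorem f1695 : g 4 • path g [3, 4, 6, 4] p = path g [3, 4, 6, 9] p :=
  H.back (i := 9) (by decide) (f1694 H)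

theorem f1696 : g 0 • path g [3, 6, 4] p = path g [3, 6, 4, 0] p :=
  rfl

theorem f1698 : g 1 • path g [3, 6, 4] p = path g [3, 6, 4, 1] p :=
  rfl

theorem f1699 : g 6 • path g [3, 6, 4, 1] p = path g [3, 6, 4] p :=
  H.back (i := 1) (by decide) (f1698 H)

theorem f1700 : g 2 • path g [3, 6, 4] p = path g [3, 6, 4, 2] p :=
  rfl

theorem f1702 : g 5 • path g [3, 6, 4] p = path g [3, 6, 4, 5] p :=
  rfl

theorem f1704 : g 6 • path g [3, 6, 4] p = path g [3, 6, 4, 6] p :=
  rfl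

theorem f1705 : g 1 • path g [3, 6, 4, 6] p = path g [3, 6, 4] p :=
  H.back (i := 6) (by decide) (f1704 H)

theorem f1706 : g 6 • path g [3, 6, 4, 6] p = path g [3, 6, 4, 1] p :=
  scan (u := [6]) (w := [6]) (i := 6) (r0_1_0 H) (step (f1704 H) rfl) (step (H.back (i := 1) (by decide) (f1698 H)) rfl)

theorem f1707 : g 1 • path g [3, 6, 4, 1] p = path g [3, 6, 4, 6] p :=
  H.back (i := 6) (by decide) (f1706 H)

theorem f1708 : g 7 • path g [3, 6, 4] p = path g [3, 6, 4, 7] p :=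
  rfl

theorem f1709 : g 2 • path g [3, 6, 4, 7] p = path g [3, 6, 4] p :=
  H.back (i := 7) (by decide) (f1708 H)

theorem f1711 : g 0 • path g [3, 6, 9] p = path g [3, 6, 9, 0] p :=
  rfl

theorem f1712 : g 5 • path g [3, 6, 9, 0] p = path g [3, 6, 9] p :=
  H.back (i := 0) (by decide) (f1711 H)

theorem f1713 : g 1 • path g [3, 6, 9] p = path g [3, 6, 9, 1] p :=
  rfl

theorem f1714 : g 6 • path g [3, 6, 9, 1] p = path g [3, 6, 9] p :=
  H.back (i := 1) (by decide) (f1713 H)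

theorem f1715 : g 2 • path g [3, 6, 9, 1] p = path g [3, 1, 9, 6] p :=
  scan (u := [1]) (w := [1, 2]) (i := 2) (r1_0_1 H) (step (f1713 H) rfl) (step (H.back (i := 6) (by decide) (f1616 H)) (step (H.back (i := 7) (by decide) (f950 H)) rfl))

theorem f1716 : g 7 • path g [3, 1, 9, 6] p = path g [3, 6, 9, 1] p :=
  H.back (i := 2) (by decide) (f1715 H)

theorem f1717 : g 4 • path g [4, 8, 1] p = path g [3, 6, 9, 1] p :=
  scan (u := [2, 1, 4, 2, 1, 4, 5, 5, 5, 6, 7, 5, 6, 7, 2, 1]) (w := []) (i := 4) (r18_0_11 H) (step (f1715 H) (step (f1617 H) (step (f143 H) (step (f886 H) (step (f39 H) (step (f32 H) (step (f1644 H) (step (f1324 H) (step (f1644 H) (step (f242 H) (step (f1646 H) (step (f1659 H) (step (f588 H) (step (f561 H) (step (f562 H) (step (f587 H) rfl)))))))))))))))) rfl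

theorem f1718 : g 9 • path g [3, 6, 9, 1] p = path g [4, 8, 1] p :=
  H.back (i := 4) (by decide) (f1717 H)

theorem f1719 : g 5 • path g [3, 6, 9] p = path g [3, 6, 9, 5] p :=
  rfl

theorem f1720 : g 0 • path g [3, 6, 9, 5] p = path g [3, 6, 9] p :=
  H.back (i := 5) (by decide) (f1719 H)

theorem f1721 : g 6 • path g [3, 6, 9] p = path g [3, 6, 9, 6] p :=
  rfl

theorem f1722 : g 1 • path g [3, 6, 9, 6] p = path g [3, 6, 9] p :=
  H.back (i := 6) (by decide) (f1721 H)

theorem f1723 : g 6 • path g [3, 6, 9, 6] p = path g [3, 6, 9, 1] p :=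
  scan (u := [6]) (w := [6]) (i := 6) (r0_1_0 H) (step (f1721 H) rfl) (step (H.back (i := 1) (by decide) (f1713 H)) rfl)

theorem f1724 : g 1 • path g [3, 6, 9, 1] p = path g [3, 6, 9, 6] p :=
  H.back (i := 6) (by decide) (f1723 H)

theorem f1725 : g 7 • path g [3, 6, 9, 6] p = path g [3, 1, 9, 1] p :=
  scan (u := [6]) (w := [6, 7]) (i := 7) (r1_1_0 H) (step (f1721 H) rfl) (step (H.back (i := 1) (by decide) (f1611 H)) (step (H.back (i := 2) (by decide) (f945 H)) rfl))

theorem f1726 : g 2 • path g [3, 1, 9, 1] p = path g [3, 6, 9, 6] p :=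
  H.back (i := 7) (by decide) (f1725 H)

theorem f1727 : g 5 • path g [3, 6, 9, 6] p = path g [3, 1, 9, 6] p :=
  scan (u := [6]) (w := [6, 6, 4, 1, 0, 2, 1, 0, 9]) (i := 5) (r12_1_1 H) (step (f1721 H) rfl) (step (H.back (i := 1) (by decide) (f1619 H)) (step (H.back (i := 1) (by decide) (f1611 H)) (step (H.back (i := 9) (by decide) (f142 H)) (step (H.back (i := 6) (by decide) (f40 H)) (step (H.back (i := 5) (by decide) (f1538 H)) (step (H.back (i := 7) (by decide) (f628 H)) (step (H.back (i := 6) (by decide) (f72 H)) (step (H.back (i := 5) (by decide) (f1669 H)) (step (H.back (i := 4) (by decide) (f231 H)) rfl)))))))))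

theorem f1728 : g 0 • path g [3, 1, 9, 6] p = path g [3, 6, 9, 6] p :=
  H.back (i := 5) (by decide) (f1727 H)

theorem f1730 : g 3 • path g [3, 9, 1] p = path g [3, 9, 1, 3] p :=
  rfl

theorem f1731 : g 8 • path g [3, 9, 1, 3] p = path g [3, 9, 1] p :=
  H.back (i := 3) (by decide) (f1730 H)

theorem f1732 : g 4 • path g [3, 9, 1] p = path g [3, 9, 1, 4] p :=
  rfl

theorem f1733 : g 9 • path g [3, 9, 1, 4] p = path g [3, 9, 1] p :=
  H.back (i := 4) (by decide) (f1732 H)

theorem f1734 : g 8 • path g [3, 9, 1] p = path g [3, 9, 1, 8] p :=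
  rfl

theorem f1735 : g 3 • path g [3, 9, 1, 8] p = path g [3, 9, 1] p :=
  H.back (i := 8) (by decide) (f1734 H)

theorem f1736 : g 8 • path g [3, 9, 1, 8] p = path g [3, 9, 1, 3] p :=
  scan (u := [8]) (w := [8]) (i := 8) (r9_1_0 H) (step (f1734 H) rfl) (step (H.back (i := 3) (by decide) (f1730 H)) rfl)

theorem f1737 : g 3 • path g [3, 9, 1, 3] p = path g [3, 9, 1, 8] p :=
  H.back (i := 8) (by decide) (f1736 H)

theorem f1738 : g 0 • path g [3, 9, 1, 8] p = path g [3, 4, 6, 8] p :=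
  scan (u := [8]) (w := [3, 6, 5, 7, 5, 6]) (i := 0) (r7_0_5 H) (step (f1734 H) rfl) (step (H.back (i := 8) (by decide) (f1686 H)) (step (H.back (i := 1) (by decide) (f183 H)) (step (H.back (i := 0) (by decide) (f1655 H)) (step (H.back (i := 2) (by decide) (f1668 H)) (step (H.back (i := 0) (by decide) (f1651 H)) (step (H.back (i := 1) (by decide) (f245 H)) rfl))))))

theorem f1739 : g 5 • path g [3, 4, 6, 8] p = path g [3, 9, 1, 8] p :=
  H.back (i := 0) (by decide) (f1738 H)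

theorem f1740 : g 9 • path g [3, 9, 1] p = path g [3, 9, 1, 9] p :=
  rfl

theorem f1741 : g 4 • path g [3, 9, 1, 9] p = path g [3, 9, 1] p :=
  H.back (i := 9) (by decide) (f1740 H)

theorem f1742 : g 9 • path g [3, 9, 1, 9] p = path g [3, 9, 1, 4] p :=
  scan (u := [9]) (w := [9]) (i := 9) (r13_1_0 H) (step (f1740 H) rfl) (step (H.back (i := 4) (by decide) (f1732 H)) rfl)

theorem f1743 : g 4 • path g [3, 9, 1, 4] p = path g [3, 9, 1, 9] p :=
  H.back (i := 9) (by decide) (f1742 H)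

theorem f1744 : g 2 • path g [3, 9, 1, 9] p = path g [3, 4, 6, 9] p :=
  scan (u := [9]) (w := [4, 5, 5, 5, 7, 5]) (i := 2) (r10_0_5 H) (step (f1740 H) rfl) (step (H.back (i := 9) (by decide) (f1692 H)) (step (H.back (i := 0) (by decide) (f1658 H)) (step (H.back (i := 0) (by decide) (f1649 H)) (step (H.back (i := 0) (by decide) (f1658 H)) (step (H.back (i := 2) (by decide) (f594 H)) (step (H.back (i := 0) (by decide) (f1631 H)) rfl))))))

theorem f1745 : g 7 • path g [3, 4, 6, 9] p = path g [3, 9, 1, 9] p :=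
  H.back (i := 2) (by decide) (f1744 H)

theorem f1746 : g 7 • path g [3, 9, 1, 9] p = path g [3, 4, 6, 9] p :=
  scan (u := [9]) (w := [4, 0, 2, 0, 0, 0]) (i := 7) (r10_1_0 H) (step (f1740 H) rfl) (step (H.back (i := 9) (by decide) (f1692 H)) (step (H.back (i := 5) (by decide) (f1650 H)) (step (H.back (i := 7) (by decide) (f1665 H)) (step (H.back (i := 5) (by decide) (f1659 H)) (step (H.back (i := 5) (by decide) (f1630 H)) (step (H.back (i := 5) (by decide) (f1659 H)) rfl))))))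

theorem f1747 : g 2 • path g [3, 4, 6, 9] p = path g [3, 9, 1, 9] p :=
  H.back (i := 7) (by decide) (f1746 H)

theorem f1748 : g 3 • path g [3, 9, 6] p = path g [3, 9, 6, 3] p :=
  rfl

theorem f1749 : g 8 • path g [3, 9, 6, 3] p = path g [3, 9, 6] p :=
  H.back (i := 3) (by decide) (f1748 H)

theorem f1750 : g 4 • path g [3, 9, 6] p = path g [3, 9, 6, 4] p :=
  rfl

theorem f1751 : g 9 • path g [3, 9, 6, 4] p = path g [3, 9, 6] p :=
  H.back (i := 4) (by decide) (f1750 H)

theorem f1752 : g 8 • path g [3, 9, 6] p = path g [3, 9, 6, 8] p :=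
  rfl

theorem f1753 : g 3 • path g [3, 9, 6, 8] p = path g [3, 9, 6] p :=
  H.back (i := 8) (by decide) (f1752 H)

theorem f1754 : g 8 • path g [3, 9, 6, 8] p = path g [3, 9, 6, 3] p :=
  scan (u := [8]) (w := [8]) (i := 8) (r9_1_0 H) (step (f1752 H) rfl) (step (H.back (i := 3) (by decide) (f1748 H)) rfl)

theorem f1755 : g 3 • path g [3, 9, 6, 3] p = path g [3, 9, 6, 8] p :=
  H.back (i := 8) (by decide) (f1754 H)

theorem f1756 : g 0 • path g [3, 9, 6, 8] p = path g [3, 9, 1, 8] p :=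
  scan (u := [8]) (w := [3, 6, 5, 7, 5, 6]) (i := 0) (r7_0_5 H) (step (f1752 H) rfl) (step (H.back (i := 8) (by decide) (f1734 H)) (step (H.back (i := 1) (by decide) (f236 H)) (step (H.back (i := 0) (by decide) (f1622 H)) (step (H.back (i := 2) (by decide) (f1636 H)) (step (H.back (i := 0) (by decide) (f1641 H)) (step (H.back (i := 1) (by decide) (f243 H)) rfl))))))

theorem f1757 : g 5 • path g [3, 9, 1, 8] p = path g [3, 9, 6, 8] p :=
  H.back (i := 0) (by decide) (f1756 H)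

theorem f1758 : g 5 • path g [3, 9, 6, 8] p = path g [3, 4, 1, 8] p :=
  scan (u := [8]) (w := [3, 1, 0, 2, 0, 1]) (i := 5) (r7_1_0 H) (step (f1752 H) rfl) (step (H.back (i := 8) (by decide) (f1674 H)) (step (H.back (i := 6) (by decide) (f182 H)) (step (H.back (i := 5) (by decide) (f1650 H)) (step (H.back (i := 7) (by decide) (f1665 H)) (step (H.back (i := 5) (by decide) (f1659 H)) (step (H.back (i := 6) (by decide) (f244 H)) rfl))))))

theorem f1759 : g 0 • path g [3, 4, 1, 8] p = path g [3, 9, 6, 8] p :=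
  H.back (i := 5) (by decide) (f1758 H)

theorem f1760 : g 9 • path g [3, 9, 6] p = path g [3, 9, 6, 9] p :=
  rfl

theorem f1761 : g 4 • path g [3, 9, 6, 9] p = path g [3, 9, 6] p :=
  H.back (i := 9) (by decide) (f1760 H)

theorem f1762 : g 9 • path g [3, 9, 6, 9] p = path g [3, 9, 6, 4] p :=
  scan (u := [9]) (w := [9]) (i := 9) (r13_1_0 H) (step (f1760 H) rfl) (step (H.back (i := 4) (by decide) (f1750 H)) rfl)

theorem f1764 : g 2 • path g [3, 9, 6, 9] p = path g [3, 4, 1, 9] p :=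
  scan (u := [9]) (w := [4, 5, 5, 5, 7, 5]) (i := 2) (r10_0_5 H) (step (f1760 H) rfl) (step (H.back (i := 9) (by decide) (f1678 H)) (step (H.back (i := 0) (by decide) (f1655 H)) (step (H.back (i := 0) (by decide) (f1626 H)) (step (H.back (i := 0) (by decide) (f1655 H)) (step (H.back (i := 2) (by decide) (f1668 H)) (step (H.back (i := 0) (by decide) (f1651 H)) rfl))))))

theorem f1765 : g 7 • path g [3, 4, 1, 9] p = path g [3, 9, 6, 9] p :=
  H.back (i := 2) (by decide) (f1764 H)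

theorem f1766 : g 7 • path g [3, 9, 6, 9] p = path g [3, 4, 1, 9] p :=
  scan (u := [9]) (w := [4, 0, 2, 0, 0, 0]) (i := 7) (r10_1_0 H) (step (f1760 H) rfl) (step (H.back (i := 9) (by decide) (f1678 H)) (step (H.back (i := 5) (by decide) (f1624 H)) (step (H.back (i := 7) (by decide) (f997 H)) (step (H.back (i := 5) (by decide) (f1648 H)) (step (H.back (i := 5) (by decide) (f1652 H)) (step (H.back (i := 5) (by decide) (f1648 H)) rfl))))))

theorem f1767 : g 2 • path g [3, 4, 1, 9] p = path g [3, 9, 6, 9] p :=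
  H.back (i := 7) (by decide) (f1766 H)

theorem f1771 : g 0 • path g [4, 1, 3] p = path g [4, 1, 3, 0] p :=
  rfl

theorem f1773 : g 2 • path g [4, 1, 3, 0] p = path g [9, 6, 3] p :=
  scan (u := [0]) (w := [8, 6, 5, 7, 5, 6, 3]) (i := 2) (r8_1_7 H) (step (f1771 H) rfl) (step (H.back (i := 3) (by decide) (f1052 H)) (step (H.back (i := 1) (by decide) (f97 H)) (step (H.back (i := 0) (by decide) (f1343 H)) (step (H.back (i := 2) (by decide) (f554 H)) (step (H.back (i := 0) (by decide) (f550 H)) (step (H.back (i := 1) (by decide) (f59 H)) (step (H.back (i := 8) (by decide) (f279 H)) rfl)))))))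

theorem f1775 : g 1 • path g [4, 1, 3, 0] p = path g [3, 9, 6, 8] p :=
  scan (u := [0]) (w := [3, 0, 1, 3, 0, 1, 3]) (i := 1) (r17_0_0 H) (step (f1771 H) rfl) (step (H.back (i := 8) (by decide) (f1752 H)) (step (H.back (i := 5) (by decide) (f1652 H)) (step (H.back (i := 6) (by decide) (f993 H)) (step (H.back (i := 8) (by decide) (f83 H)) (step (H.back (i := 5) (by decide) (f1170 H)) (step (H.back (i := 6) (by decide) (f51 H)) (step (H.back (i := 8) (by decide) (f279 H)) rfl)))))))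

theorem f1777 : g 1 • path g [4, 1, 3] p = path g [4, 1, 3, 1] p :=
  rfl

theorem f1778 : g 6 • path g [4, 1, 3, 1] p = path g [4, 1, 3] p :=
  H.back (i := 1) (by decide) (f1777 H)

theorem f1779 : g 2 • path g [4, 1, 3] p = path g [4, 1, 3, 2] p :=
  rfl

theorem f1781 : g 5 • path g [4, 1, 3] p = path g [4, 1, 3, 5] p :=
  rfl

theorem f1783 : g 6 • path g [4, 1, 3] p = path g [4, 1, 3, 6] p :=
  rfl

theorem f1784 : g 1 • path g [4, 1, 3, 6] p = path g [4, 1, 3] p :=
  H.back (i := 6) (by decide) (f1783 H)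

theorem f1785 : g 6 • path g [4, 1, 3, 6] p = path g [4, 1, 3, 1] p :=
  scan (u := [6]) (w := [6]) (i := 6) (r0_1_0 H) (step (f1783 H) rfl) (step (H.back (i := 1) (by decide) (f1777 H)) rfl)

theorem f1787 : g 7 • path g [4, 1, 3] p = path g [4, 1, 3, 7] p :=
  rfl

theorem f1788 : g 2 • path g [4, 1, 3, 7] p = path g [4, 1, 3] p :=
  H.back (i := 7) (by decide) (f1787 H)

theorem f1789 : g 5 • path g [4, 1, 3, 7] p = path g [4, 6, 3] p :=
  scan (u := [7]) (w := [8, 1, 0, 2, 0, 1, 3]) (i := 5) (r8_0_0 H) (step (f1787 H) rfl) (step (H.back (i := 3) (by decide) (f569 H)) (step (H.back (i := 6) (by decide) (f56 H)) (step (H.back (i := 5) (by decide) (f1355 H)) (step (H.back (i := 7) (by decide) (f23 H)) (step (H.back (i := 5) (by decide) (f1170 H)) (step (H.back (i := 6) (by decide) (f51 H)) (step (H.back (i := 8) (by decide) (f279 H)) rfl)))))))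

theorem f1790 : g 0 • path g [4, 6, 3] p = path g [4, 1, 3, 7] p :=
  H.back (i := 5) (by decide) (f1789 H)

theorem f1792 : g 1 • path g [4, 1, 8] p = path g [4, 1, 8, 1] p :=
  rfl

theorem f1793 : g 6 • path g [4, 1, 8, 1] p = path g [4, 1, 8] p :=
  H.back (i := 1) (by decide) (f1792 H)

theorem f1794 : g 6 • path g [4, 1, 8] p = path g [4, 1, 8, 6] p :=
  rfl

theorem f1795 : g 1 • path g [4, 1, 8, 6] p = path g [4, 1, 8] p :=
  H.back (i := 6) (by decide) (f1794 H)

theorem f1796 : g 6 • path g [4, 1, 8, 6] p = path g [4, 1, 8, 1] p :=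
  scan (u := [6]) (w := [6]) (i := 6) (r0_1_0 H) (step (f1794 H) rfl) (step (H.back (i := 1) (by decide) (f1792 H)) rfl)

theorem f1797 : g 1 • path g [4, 1, 8, 1] p = path g [4, 1, 8, 6] p :=
  H.back (i := 6) (by decide) (f1796 H)

theorem f1806 : g 1 • path g [4, 6, 3] p = path g [4, 6, 3, 1] p :=
  rfl

theorem f1808 : g 2 • path g [4, 6, 3] p = path g [4, 6, 3, 2] p :=
  rfl

theorem f1810 : g 5 • path g [4, 6, 3] p = path g [4, 6, 3, 5] p :=
  rfl

theorem f1812 : g 6 • path g [4, 6, 3] p = path g [4, 6, 3, 6] p :=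
  rfl

theorem f1813 : g 1 • path g [4, 6, 3, 6] p = path g [4, 6, 3] p :=
  H.back (i := 6) (by decide) (f1812 H)

theorem f1814 : g 6 • path g [4, 6, 3, 6] p = path g [4, 6, 3, 1] p :=
  scan (u := [6]) (w := [6]) (i := 6) (r0_1_0 H) (step (f1812 H) rfl) (step (H.back (i := 1) (by decide) (f1806 H)) rfl)

theorem f1815 : g 1 • path g [4, 6, 3, 1] p = path g [4, 6, 3, 6] p :=
  H.back (i := 6) (by decide) (f1814 H)

theorem f1816 : g 3 • path g [4, 6, 3, 6] p = path g [4, 8, 1] p :=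
  scan (u := [6]) (w := [0, 2, 8, 6, 5, 7, 5]) (i := 3) (r8_1_5 H) (step (f1812 H) rfl) (step (H.back (i := 5) (by decide) (f1659 H)) (step (H.back (i := 7) (by decide) (f1646 H)) (step (H.back (i := 3) (by decide) (f1753 H)) (step (H.back (i := 1) (by decide) (f1775 H)) (step (H.back (i := 0) (by decide) (f1771 H)) (step (H.back (i := 2) (by decide) (f1788 H)) (step (H.back (i := 0) (by decide) (f1790 H)) rfl)))))))

theorem f1817 : g 8 • path g [4, 8, 1] p = path g [4, 6, 3, 6] p :=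
  H.back (i := 3) (by decide) (f1816 H)

theorem f1818 : g 2 • path g [3, 4, 6, 8] p = path g [4, 6, 3, 6] p :=
  scan (u := [3, 5, 5, 6, 5, 7, 5, 6, 5, 8]) (w := []) (i := 2) (r6_0_10 H) (step (f1816 H) (step (f1630 H) (step (f1659 H) (step (f588 H) (step (f1143 H) (step (f85 H) (step (f1629 H) (step (f589 H) (step (f1650 H) (step (f1686 H) rfl)))))))))) rfl

theorem f1819 : g 7 • path g [4, 6, 3, 6] p = path g [3, 4, 6, 8] p :=
  H.back (i := 2) (by decide) (f1818 H)

theorem f1820 : g 7 • path g [3, 4, 6, 8] p = path g [4, 6, 3, 6] p :=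
  scan (u := [3, 0, 1, 0, 2, 0, 1, 0, 0, 8]) (w := []) (i := 7) (r6_1_2 H) (step (f1816 H) (step (f1660 H) (step (f245 H) (step (f1651 H) (step (f1668 H) (step (f1655 H) (step (f183 H) (step (f1649 H) (step (f1658 H) (step (f1686 H) rfl)))))))))) rfl

theorem f1821 : g 2 • path g [4, 6, 3, 6] p = path g [3, 4, 6, 8] p :=
  H.back (i := 7) (by decide) (f1820 H)

theorem f1822 : g 1 • path g [4, 6, 3, 2] p = path g [3, 4, 6, 8] p :=
  scan (u := [2, 1, 2]) (w := []) (i := 1) (r1_0_0 H) (step (f1818 H) (step (f1813 H) (step (f1808 H) rfl))) rfl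

theorem f1823 : g 6 • path g [3, 4, 6, 8] p = path g [4, 6, 3, 2] p :=
  H.back (i := 1) (by decide) (f1822 H)

theorem f1824 : g 0 • path g [9, 1, 3] p = path g [4, 6, 3, 2] p :=
  scan (u := [1, 3, 0, 1, 3, 0, 1, 3]) (w := []) (i := 0) (r17_0_1 H) (step (f1822 H) (step (f1687 H) (step (f1649 H) (step (f590 H) (step (f63 H) (step (f1176 H) (step (f88 H) (step (f1042 H) rfl)))))))) rfl

theorem f1825 : g 5 • path g [4, 6, 3, 2] p = path g [9, 1, 3] p :=
  H.back (i := 0) (by decide) (f1824 H)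

theorem f1826 : g 2 • path g [4, 6, 3, 2] p = path g [4, 6, 3] p :=
  scan (u := [0]) (w := [8, 6, 5, 7, 5, 6, 3]) (i := 2) (r8_1_7 H) (step (f1824 H) rfl) (step (H.back (i := 3) (by decide) (f569 H)) (step (H.back (i := 1) (by decide) (f59 H)) (step (H.back (i := 0) (by decide) (f1272 H)) (step (H.back (i := 2) (by decide) (f1011 H)) (step (H.back (i := 0) (by decide) (f101 H)) (step (H.back (i := 1) (by decide) (f97 H)) (step (H.back (i := 8) (by decide) (f1043 H)) rfl)))))))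

theorem f1827 : g 7 • path g [4, 6, 3] p = path g [4, 6, 3, 2] p :=
  H.back (i := 2) (by decide) (f1826 H)

theorem f1828 : g 1 • path g [4, 6, 8] p = path g [4, 6, 8, 1] p :=
  rfl

theorem f1829 : g 6 • path g [4, 6, 8, 1] p = path g [4, 6, 8] p :=
  H.back (i := 1) (by decide) (f1828 H)

theorem f1830 : g 2 • path g [4, 6, 8, 1] p = path g [4, 1, 8, 6] p :=
  scan (u := [1]) (w := [1, 2]) (i := 2) (r1_0_1 H) (step (f1828 H) rfl) (step (H.back (i := 6) (by decide) (f1794 H)) (step (H.back (i := 7) (by decide) (f581 H)) rfl))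

theorem f1831 : g 7 • path g [4, 1, 8, 6] p = path g [4, 6, 8, 1] p :=
  H.back (i := 2) (by decide) (f1830 H)

theorem f1832 : g 6 • path g [4, 6, 8] p = path g [4, 6, 8, 6] p :=
  rfl

theorem f1833 : g 1 • path g [4, 6, 8, 6] p = path g [4, 6, 8] p :=
  H.back (i := 6) (by decide) (f1832 H)

theorem f1834 : g 6 • path g [4, 6, 8, 6] p = path g [4, 6, 8, 1] p :=
  scan (u := [6]) (w := [6]) (i := 6) (r0_1_0 H) (step (f1832 H) rfl) (step (H.back (i := 1) (by decide) (f1828 H)) rfl)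

theorem f1835 : g 1 • path g [4, 6, 8, 1] p = path g [4, 6, 8, 6] p :=
  H.back (i := 6) (by decide) (f1834 H)

theorem f1836 : g 7 • path g [4, 6, 8, 6] p = path g [4, 1, 8, 1] p :=
  scan (u := [6]) (w := [6, 7]) (i := 7) (r1_1_0 H) (step (f1832 H) rfl) (step (H.back (i := 1) (by decide) (f1792 H)) (step (H.back (i := 2) (by decide) (f579 H)) rfl))

theorem f1837 : g 2 • path g [4, 1, 8, 1] p = path g [4, 6, 8, 6] p :=
  H.back (i := 7) (by decide) (f1836 H)

theorem f1838 : g 5 • path g [4, 6, 8, 6] p = path g [3, 9, 1, 3] p :=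
  scan (u := [6]) (w := [8, 6, 5, 8, 6, 5, 8]) (i := 5) (r17_1_1 H) (step (f1832 H) rfl) (step (H.back (i := 3) (by decide) (f1730 H)) (step (H.back (i := 1) (by decide) (f236 H)) (step (H.back (i := 0) (by decide) (f1622 H)) (step (H.back (i := 3) (by decide) (f35 H)) (step (H.back (i := 1) (by decide) (f57 H)) (step (H.back (i := 0) (by decide) (f550 H)) (step (H.back (i := 3) (by decide) (f574 H)) rfl)))))))

theorem f1839 : g 0 • path g [3, 9, 1, 3] p = path g [4, 6, 8, 6] p :=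
  H.back (i := 5) (by decide) (f1838 H)

theorem f1840 : g 7 • path g [3, 4, 6, 3] p = path g [4, 6, 8, 6] p :=
  scan (u := [5, 8, 1, 0, 2, 0, 1, 3]) (w := []) (i := 7) (r8_0_1 H) (step (f1838 H) (step (f1731 H) (step (f245 H) (step (f1651 H) (step (f1668 H) (step (f1655 H) (step (f183 H) (step (f1682 H) rfl)))))))) rfl

theorem f1841 : g 2 • path g [4, 6, 8, 6] p = path g [3, 4, 6, 3] p :=
  H.back (i := 7) (by decide) (f1840 H)

theorem f1842 : g 3 • path g [4, 8, 1] p = path g [4, 8, 1, 3] p :=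
  rfl

theorem f1843 : g 8 • path g [4, 8, 1, 3] p = path g [4, 8, 1] p :=
  H.back (i := 3) (by decide) (f1842 H)

theorem f1844 : g 3 • path g [4, 8, 1, 3] p = path g [4, 6, 3, 6] p :=
  scan (u := [3]) (w := [3]) (i := 3) (r9_0_0 H) (step (f1842 H) rfl) (step (H.back (i := 8) (by decide) (f1817 H)) rfl)

theorem f1846 : g 5 • path g [3, 9, 6, 3] p = path g [4, 8, 1, 3] p :=
  scan (u := [3, 1, 0, 2, 0, 1, 8]) (w := []) (i := 5) (r7_1_2 H) (step (f1844 H) (step (f1813 H) (step (f1790 H) (step (f1788 H) (step (f1771 H) (step (f1775 H) (step (f1754 H) rfl))))))) rfl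

theorem f1847 : g 0 • path g [4, 8, 1, 3] p = path g [3, 9, 6, 3] p :=
  H.back (i := 5) (by decide) (f1846 H)

theorem f1848 : g 5 • path g [4, 8, 1, 3] p = path g [4, 1, 8, 1] p :=
  scan (u := [5]) (w := [6, 5, 7, 5, 6, 5, 8, 2, 3]) (i := 5) (r6_0_0 H) (step (f1846 H) rfl) (step (H.back (i := 1) (by decide) (f1792 H)) (step (H.back (i := 0) (by decide) (f577 H)) (step (H.back (i := 2) (by decide) (f582 H)) (step (H.back (i := 0) (by decide) (f577 H)) (step (H.back (i := 1) (by decide) (f1833 H)) (step (H.back (i := 0) (by decide) (f1839 H)) (step (H.back (i := 3) (by decide) (f1730 H)) (step (H.back (i := 7) (by decide) (f1646 H)) (step (H.back (i := 8) (by decide) (f1749 H)) rfl)))))))))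

theorem f1849 : g 0 • path g [4, 1, 8, 1] p = path g [4, 8, 1, 3] p :=
  H.back (i := 5) (by decide) (f1848 H)

theorem f1850 : g 9 • path g [4, 8, 1] p = path g [4, 8, 1, 9] p :=
  rfl

theorem f1851 : g 4 • path g [4, 8, 1, 9] p = path g [4, 8, 1] p :=
  H.back (i := 9) (by decide) (f1850 H)

theorem f1852 : g 9 • path g [4, 8, 1, 9] p = path g [3, 6, 9, 1] p :=
  scan (u := [9]) (w := [9]) (i := 9) (r13_1_0 H) (step (f1850 H) rfl) (step (H.back (i := 4) (by decide) (f1717 H)) rfl)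

theorem f1853 : g 4 • path g [3, 6, 9, 1] p = path g [4, 8, 1, 9] p :=
  H.back (i := 9) (by decide) (f1852 H)

theorem f1854 : g 3 • path g [4, 8, 6] p = path g [4, 8, 6, 3] p :=
  rfl

theorem f1855 : g 8 • path g [4, 8, 6, 3] p = path g [4, 8, 6] p :=
  H.back (i := 3) (by decide) (f1854 H)

theorem f1856 : g 4 • path g [4, 8, 6] p = path g [4, 8, 6, 4] p :=
  rfl

theorem f1857 : g 9 • path g [4, 8, 6, 4] p = path g [4, 8, 6] p :=
  H.back (i := 4) (by decide) (f1856 H)

theorem f1858 : g 8 • path g [4, 8, 6] p = path g [4, 8, 6, 8] p :=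
  rfl

theorem f1859 : g 3 • path g [4, 8, 6, 8] p = path g [4, 8, 6] p :=
  H.back (i := 8) (by decide) (f1858 H)

theorem f1860 : g 8 • path g [4, 8, 6, 8] p = path g [4, 8, 6, 3] p :=
  scan (u := [8]) (w := [8]) (i := 8) (r9_1_0 H) (step (f1858 H) rfl) (step (H.back (i := 3) (by decide) (f1854 H)) rfl)

theorem f1861 : g 3 • path g [4, 8, 6, 3] p = path g [4, 8, 6, 8] p :=
  H.back (i := 8) (by decide) (f1860 H)

theorem f1862 : g 0 • path g [4, 8, 6, 8] p = path g [4, 6, 3, 6] p :=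
  scan (u := [8]) (w := [3, 6, 5, 7, 5, 6]) (i := 0) (r7_0_5 H) (step (f1858 H) rfl) (step (H.back (i := 8) (by decide) (f1817 H)) (step (H.back (i := 1) (by decide) (f587 H)) (step (H.back (i := 0) (by decide) (f1628 H)) (step (H.back (i := 2) (by decide) (f84 H)) (step (H.back (i := 0) (by decide) (f1149 H)) (step (H.back (i := 1) (by decide) (f590 H)) rfl))))))

theorem f1863 : g 5 • path g [4, 6, 3, 6] p = path g [4, 8, 6, 8] p :=
  H.back (i := 0) (by decide) (f1862 H)

theorem f1864 : g 2 • path g [4, 8, 6, 8] p = path g [3, 4, 1, 8] p :=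
  scan (u := [8]) (w := [3, 5, 5, 6, 5, 7, 5, 6, 5]) (i := 2) (r6_0_8 H) (step (f1858 H) rfl) (step (H.back (i := 8) (by decide) (f1674 H)) (step (H.back (i := 0) (by decide) (f1655 H)) (step (H.back (i := 0) (by decide) (f1626 H)) (step (H.back (i := 1) (by decide) (f174 H)) (step (H.back (i := 0) (by decide) (f1641 H)) (step (H.back (i := 2) (by decide) (f1033 H)) (step (H.back (i := 0) (by decide) (f1622 H)) (step (H.back (i := 1) (by decide) (f181 H)) (step (H.back (i := 0) (by decide) (f1658 H)) rfl)))))))))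

theorem f1866 : g 7 • path g [4, 8, 6, 8] p = path g [3, 4, 1, 8] p :=
  scan (u := [8]) (w := [3, 0, 1, 0, 2, 0, 1, 0, 0]) (i := 7) (r6_1_0 H) (step (f1858 H) rfl) (step (H.back (i := 8) (by decide) (f1674 H)) (step (H.back (i := 5) (by decide) (f1624 H)) (step (H.back (i := 6) (by decide) (f995 H)) (step (H.back (i := 5) (by decide) (f1648 H)) (step (H.back (i := 7) (by decide) (f1663 H)) (step (H.back (i := 5) (by decide) (f1630 H)) (step (H.back (i := 6) (by decide) (f591 H)) (step (H.back (i := 5) (by decide) (f1657 H)) (step (H.back (i := 5) (by decide) (f1650 H)) rfl)))))))))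

theorem f1867 : g 2 • path g [3, 4, 1, 8] p = path g [4, 8, 6, 8] p :=
  H.back (i := 7) (by decide) (f1866 H)

theorem f1868 : path g [4, 6, 3, 2] p = path g [4, 6, 3] p :=
  close (u := [7, 5, 6]) (w := [8, 0, 3, 6, 5]) (r7_0_2 H) (step (f1866 H) (step (f1691 H) (step (f1823 H) rfl))) (step (H.back (i := 3) (by decide) (f569 H)) (step (H.back (i := 5) (by decide) (f551 H)) (step (H.back (i := 8) (by decide) (f570 H)) (step (H.back (i := 1) (by decide) (f1813 H)) (step (H.back (i := 0) (by decide) (f1862 H)) rfl)))))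

theorem f1870 : g 7 • path g [4, 6, 3] p = path g [4, 6, 3] p :=
  (f1827 H).trans (f1868 H)

theorem f1872 : g 1 • path g [4, 6, 3] p = path g [3, 4, 6, 8] p :=
  (congrArg (g 1 • ·) (f1868 H).symm).trans (f1822 H)

theorem f1873 : path g [4, 6, 3, 1] p = path g [3, 4, 6, 8] p :=
  (f1806 H).symm.trans (f1872 H)

theorem f1874 : g 5 • path g [4, 6, 3] p = path g [9, 1, 3] p :=
  (congrArg (g 5 • ·) (f1868 H).symm).trans (f1825 H)

theorem f1875 : path g [4, 6, 3, 5] p = path g [9, 1, 3] p :=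
  (f1810 H).symm.trans (f1874 H)

theorem f1877 : g 2 • path g [4, 6, 3] p = path g [4, 6, 3] p :=
  (f1808 H).trans (f1868 H)

theorem f1880 : g 0 • path g [9, 1, 3] p = path g [4, 6, 3] p :=
  (f1824 H).trans (f1868 H)

theorem f1883 : g 6 • path g [3, 4, 6, 8] p = path g [4, 6, 3] p :=
  (f1823 H).trans (f1868 H)

theorem f1885 : g 1 • path g [3, 4, 6, 8] p = path g [4, 6, 3, 6] p :=
  (congrArg (g 1 • ·) (f1873 H).symm).trans (f1815 H)

theorem f1887 : g 6 • path g [4, 6, 3, 6] p = path g [3, 4, 6, 8] p :=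
  H.back (i := 1) (by decide) (f1885 H)

theorem f1888 : g 5 • path g [4, 6, 3] p = path g [9, 1, 3] p :=
  (f1810 H).trans (f1875 H)

theorem f1889 : g 5 • path g [9, 6, 3] p = path g [4, 1, 3, 7] p :=
  scan (u := [7, 5, 6, 5, 8, 2, 3]) (w := [5, 6, 5]) (i := 5) (r6_0_4 H) (step (f1866 H) (step (f1691 H) (step (f1883 H) (step (f1888 H) (step (f1043 H) (step (f99 H) (step (f1052 H) rfl))))))) (step (H.back (i := 0) (by decide) (f1790 H)) (step (H.back (i := 1) (by decide) (f1813 H)) (step (H.back (i := 0) (by decide) (f1862 H)) rfl)))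

theorem f1891 : g 1 • path g [4, 6, 3] p = path g [3, 4, 6, 8] p :=
  (f1806 H).trans (f1873 H)

theorem f1892 : g 4 • path g [4, 1, 3, 0] p = path g [4, 1, 3, 7] p :=
  scan (u := [7, 5, 6, 7, 9, 0, 2, 0]) (w := [5, 6, 5]) (i := 4) (r11_0_3 H) (step (f1866 H) (step (f1691 H) (step (f1883 H) (step (f1870 H) (step (f1353 H) (step (f1790 H) (step (f1788 H) (step (f1771 H) rfl)))))))) (step (H.back (i := 0) (by decide) (f1790 H)) (step (H.back (i := 1) (by decide) (f1813 H)) (step (H.back (i := 0) (by decide) (f1862 H)) rfl)))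

theorem f1893 : g 9 • path g [4, 1, 3, 7] p = path g [4, 1, 3, 0] p :=
  H.back (i := 4) (by decide) (f1892 H)

theorem f1894 : path g [4, 6, 8, 6] p = path g [4, 8, 6, 3] p :=
  close (u := [0, 1, 0, 2, 0, 1, 0, 0, 8, 7]) (w := [3]) (r6_1_3 H) (step (f1862 H) (step (f1813 H) (step (f1790 H) (step (f1788 H) (step (f1771 H) (step (f1775 H) (step (f1756 H) (step (f1738 H) (step (f1688 H) (step (f1840 H) rfl)))))))))) (step (H.back (i := 8) (by decide) (f1860 H)) rfl)

theorem f1895 : path g [4, 8, 6, 3] p = path g [4, 6, 8, 6] p :=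
  (f1894 H).symm

theorem f1896 : g 8 • path g [4, 6, 8, 6] p = path g [4, 8, 6] p :=
  (congrArg (g 8 • ·) (f1895 H).symm).trans (f1855 H)

theorem f1898 : g 3 • path g [4, 8, 6] p = path g [4, 6, 8, 6] p :=
  H.back (i := 8) (by decide) (f1896 H)

theorem f1899 : g 3 • path g [4, 6, 8, 6] p = path g [4, 8, 6, 8] p :=
  (congrArg (g 3 • ·) (f1895 H).symm).trans (f1861 H)

theorem f1901 : g 8 • path g [4, 8, 6, 8] p = path g [4, 6, 8, 6] p :=
  H.back (i := 3) (by decide) (f1899 H)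

theorem f1902 : path g [4, 1, 8, 1] p = path g [3, 4, 6, 3] p :=
  close (u := [5, 8, 1, 0, 2, 0, 1]) (w := [3, 7]) (r8_0_1 H) (step (f1863 H) (step (f1901 H) (step (f1833 H) (step (f577 H) (step (f582 H) (step (f577 H) (step (f1792 H) rfl))))))) (step (H.back (i := 8) (by decide) (f1688 H)) (step (H.back (i := 2) (by decide) (f1821 H)) rfl))

theorem f1903 : g 6 • path g [3, 4, 6, 3] p = path g [4, 1, 8] p :=
  (congrArg (g 6 • ·) (f1902 H).symm).trans (f1793 H)

theorem f1905 : g 1 • path g [4, 1, 8] p = path g [3, 4, 6, 3] p :=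
  H.back (i := 6) (by decide) (f1903 H)

theorem f1906 : g 1 • path g [3, 4, 6, 3] p = path g [4, 1, 8, 6] p :=
  (congrArg (g 1 • ·) (f1902 H).symm).trans (f1797 H)

theorem f1908 : g 6 • path g [4, 1, 8, 6] p = path g [3, 4, 6, 3] p :=
  H.back (i := 1) (by decide) (f1906 H)

theorem f1909 : g 2 • path g [3, 4, 6, 3] p = path g [4, 6, 8, 6] p :=
  (congrArg (g 2 • ·) (f1902 H).symm).trans (f1837 H)

theorem f1911 : g 7 • path g [4, 6, 8, 6] p = path g [3, 4, 6, 3] p :=
  H.back (i := 2) (by decide) (f1909 H)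

theorem f1912 : g 0 • path g [3, 4, 6, 3] p = path g [4, 8, 1, 3] p :=
  (congrArg (g 0 • ·) (f1902 H).symm).trans (f1849 H)

theorem f1914 : g 5 • path g [4, 8, 1, 3] p = path g [3, 4, 6, 3] p :=
  H.back (i := 0) (by decide) (f1912 H)

theorem f1915 : path g [4, 6, 8, 1] p = path g [3, 4, 1, 8] p :=
  close (u := [5, 8, 6]) (w := [5, 8, 6, 5, 8, 6]) (r17_1_2 H) (step (f1863 H) (step (f1901 H) (step (f1834 H) rfl))) (step (H.back (i := 0) (by decide) (f1690 H)) (step (H.back (i := 3) (by decide) (f1689 H)) (step (H.back (i := 1) (by decide) (f1905 H)) (step (H.back (i := 0) (by decide) (f577 H)) (step (H.back (i := 3) (by decide) (f576 H)) (step (H.back (i := 1) (by decide) (f1813 H)) rfl))))))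

theorem f1916 : g 6 • path g [3, 4, 1, 8] p = path g [4, 6, 8] p :=
  (congrArg (g 6 • ·) (f1915 H).symm).trans (f1829 H)

theorem f1918 : g 1 • path g [4, 6, 8] p = path g [3, 4, 1, 8] p :=
  H.back (i := 6) (by decide) (f1916 H)

theorem f1919 : g 2 • path g [3, 4, 1, 8] p = path g [4, 1, 8, 6] p :=
  (congrArg (g 2 • ·) (f1915 H).symm).trans (f1830 H)

theorem f1920 : path g [4, 8, 6, 8] p = path g [4, 1, 8, 6] p :=
  (f1867 H).symm.trans (f1919 H)

theorem f1921 : g 1 • path g [3, 4, 1, 8] p = path g [4, 6, 8, 6] p :=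
  (congrArg (g 1 • ·) (f1915 H).symm).trans (f1835 H)

theorem f1923 : g 6 • path g [4, 6, 8, 6] p = path g [3, 4, 1, 8] p :=
  H.back (i := 1) (by decide) (f1921 H)

theorem f1924 : g 3 • path g [4, 1, 8, 6] p = path g [4, 8, 6] p :=
  (congrArg (g 3 • ·) (f1920 H).symm).trans (f1859 H)

theorem f1926 : g 8 • path g [4, 8, 6] p = path g [4, 1, 8, 6] p :=
  H.back (i := 3) (by decide) (f1924 H)

theorem f1927 : g 8 • path g [4, 1, 8, 6] p = path g [4, 6, 8, 6] p :=
  (congrArg (g 8 • ·) (f1920 H).symm).trans (f1901 H)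

theorem f1929 : g 3 • path g [4, 6, 8, 6] p = path g [4, 1, 8, 6] p :=
  H.back (i := 8) (by decide) (f1927 H)

theorem f1930 : g 0 • path g [4, 1, 8, 6] p = path g [4, 6, 3, 6] p :=
  (congrArg (g 0 • ·) (f1920 H).symm).trans (f1862 H)

theorem f1932 : g 5 • path g [4, 6, 3, 6] p = path g [4, 1, 8, 6] p :=
  H.back (i := 0) (by decide) (f1930 H)

theorem f1933 : g 2 • path g [4, 1, 8, 6] p = path g [3, 4, 1, 8] p :=
  (congrArg (g 2 • ·) (f1920 H).symm).trans (f1864 H)

theorem f1935 : g 7 • path g [3, 4, 1, 8] p = path g [4, 1, 8, 6] p :=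
  H.back (i := 2) (by decide) (f1933 H)

theorem f1937 : g 7 • path g [4, 1, 8, 6] p = path g [3, 4, 1, 8] p :=
  (f1831 H).trans (f1915 H)

theorem f1939 : g 1 • path g [4, 1, 3, 7] p = path g [4, 8, 1, 3] p :=
  scan (u := [0, 1, 0]) (w := [5, 1]) (i := 1) (r3_0_3 H) (step (f1930 H) (step (f1813 H) (step (f1790 H) rfl))) (step (H.back (i := 0) (by decide) (f1912 H)) (step (H.back (i := 6) (by decide) (f1908 H)) rfl))

theorem f1940 : g 6 • path g [4, 8, 1, 3] p = path g [4, 1, 3, 7] p :=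
  H.back (i := 1) (by decide) (f1939 H)

theorem f1941 : g 6 • path g [3, 9, 1, 8] p = path g [9, 6, 8] p :=
  scan (u := [0, 6, 5]) (w := [5, 6]) (i := 6) (r3_1_4 H) (step (f1930 H) (step (f1887 H) (step (f1739 H) rfl))) (step (H.back (i := 0) (by decide) (f1342 H)) (step (H.back (i := 1) (by decide) (f1795 H)) rfl))

theorem f1942 : g 1 • path g [9, 6, 8] p = path g [3, 9, 1, 8] p :=
  H.back (i := 6) (by decide) (f1941 H)

theorem f1943 : g 2 • path g [3, 4, 1, 8] p = path g [4, 1, 8, 6] p :=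
  (f1867 H).trans (f1920 H)

theorem f1944 : g 5 • path g [4, 1, 3, 6] p = path g [4, 6, 8, 6] p :=
  scan (u := [6, 5, 8, 6]) (w := [8, 6, 5, 8]) (i := 5) (r17_1_1 H) (step (f1941 H) (step (f1341 H) (step (f288 H) (step (f1783 H) rfl)))) (step (H.back (i := 3) (by decide) (f1898 H)) (step (H.back (i := 1) (by decide) (f592 H)) (step (H.back (i := 0) (by decide) (f1631 H)) (step (H.back (i := 3) (by decide) (f1735 H)) rfl))))

theorem f1946 : path g [4, 8, 1, 3] p = path g [4, 1, 3, 1] p :=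
  close (u := [5, 1, 0, 1, 0]) (w := [1]) (r3_0_1 H) (step (f1944 H) (step (f1833 H) (step (f577 H) (step (f1905 H) (step (f1912 H) rfl))))) (step (H.back (i := 6) (by decide) (f1785 H)) rfl)

theorem f1947 : g 8 • path g [4, 1, 3, 1] p = path g [4, 8, 1] p :=
  (congrArg (g 8 • ·) (f1946 H).symm).trans (f1843 H)

theorem f1949 : g 3 • path g [4, 8, 1] p = path g [4, 1, 3, 1] p :=
  H.back (i := 8) (by decide) (f1947 H)

theorem f1950 : g 3 • path g [4, 1, 3, 1] p = path g [4, 6, 3, 6] p :=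
  (congrArg (g 3 • ·) (f1946 H).symm).trans (f1844 H)

theorem f1952 : g 8 • path g [4, 6, 3, 6] p = path g [4, 1, 3, 1] p :=
  H.back (i := 3) (by decide) (f1950 H)

theorem f1953 : g 0 • path g [4, 1, 3, 1] p = path g [3, 9, 6, 3] p :=
  (congrArg (g 0 • ·) (f1946 H).symm).trans (f1847 H)

theorem f1955 : g 5 • path g [3, 9, 6, 3] p = path g [4, 1, 3, 1] p :=
  H.back (i := 0) (by decide) (f1953 H)

theorem f1956 : g 5 • path g [4, 1, 3, 1] p = path g [3, 4, 6, 3] p :=
  (congrArg (g 5 • ·) (f1946 H).symm).trans (f1914 H)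

theorem f1958 : g 0 • path g [3, 4, 6, 3] p = path g [4, 1, 3, 1] p :=
  H.back (i := 5) (by decide) (f1956 H)

theorem f1959 : g 6 • path g [4, 1, 3, 1] p = path g [4, 1, 3, 7] p :=
  (congrArg (g 6 • ·) (f1946 H).symm).trans (f1940 H)

theorem f1960 : path g [4, 1, 3] p = path g [4, 1, 3, 7] p :=
  (f1778 H).symm.trans (f1959 H)

theorem f1961 : path g [4, 1, 3, 7] p = path g [4, 1, 3] p :=
  (f1960 H).symm

theorem f1962 : g 2 • path g [4, 1, 3] p = path g [4, 1, 3] p :=
  (congrArg (g 2 • ·) (f1961 H).symm).trans (f1788 H)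

theorem f1963 : path g [4, 1, 3, 2] p = path g [4, 1, 3] p :=
  (f1779 H).symm.trans (f1962 H)

theorem f1964 : g 5 • path g [4, 1, 3] p = path g [4, 6, 3] p :=
  (congrArg (g 5 • ·) (f1961 H).symm).trans (f1789 H)

theorem f1965 : path g [4, 1, 3, 5] p = path g [4, 6, 3] p :=
  (f1781 H).symm.trans (f1964 H)

theorem f1968 : g 9 • path g [4, 1, 3] p = path g [4, 1, 3, 0] p :=
  (congrArg (g 9 • ·) (f1961 H).symm).trans (f1893 H)

theorem f1969 : path g [9, 6, 3] p = path g [4, 1, 3, 0] p :=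
  (f1360 H).symm.trans (f1968 H)

theorem f1973 : path g [4, 1, 3, 0] p = path g [9, 6, 3] p :=
  (f1969 H).symm

theorem f1975 : g 5 • path g [9, 6, 3] p = path g [4, 1, 3] p :=
  (f1889 H).trans (f1961 H)

theorem f1977 : g 2 • path g [9, 6, 3] p = path g [9, 6, 3] p :=
  (congrArg (g 2 • ·) (f1973 H).symm).trans (f1773 H)

theorem f1979 : g 7 • path g [9, 6, 3] p = path g [9, 6, 3] p :=
  H.back (i := 2) (by decide) (f1977 H)

theorem f1980 : g 1 • path g [9, 6, 3] p = path g [3, 9, 6, 8] p :=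
  (congrArg (g 1 • ·) (f1973 H).symm).trans (f1775 H)

theorem f1982 : g 6 • path g [3, 9, 6, 8] p = path g [9, 6, 3] p :=
  H.back (i := 1) (by decide) (f1980 H)

theorem f1987 : g 0 • path g [4, 6, 3] p = path g [4, 1, 3] p :=
  (f1790 H).trans (f1961 H)

theorem f1990 : g 7 • path g [4, 1, 3] p = path g [4, 1, 3] p :=
  (f1787 H).trans (f1961 H)

theorem f1992 : path g [3, 4, 1, 3] p = path g [4, 1, 3, 6] p :=
  close (u := [5, 3, 1, 0, 2, 0, 1, 8]) (w := []) (r7_1_1 H) (step (f1944 H) (step (f1929 H) (step (f1795 H) (step (f1342 H) (step (f1344 H) (step (f1350 H) (step (f1918 H) (step (f1676 H) rfl)))))))) rfl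

theorem f1993 : path g [4, 1, 3, 6] p = path g [3, 4, 1, 3] p :=
  (f1992 H).symm

theorem f1994 : g 1 • path g [3, 4, 1, 3] p = path g [4, 1, 3] p :=
  (congrArg (g 1 • ·) (f1993 H).symm).trans (f1784 H)

theorem f1996 : g 6 • path g [4, 1, 3] p = path g [3, 4, 1, 3] p :=
  H.back (i := 1) (by decide) (f1994 H)

theorem f1997 : g 6 • path g [3, 4, 1, 3] p = path g [4, 1, 3, 1] p :=
  (congrArg (g 6 • ·) (f1993 H).symm).trans (f1785 H)

theorem f1999 : g 1 • path g [4, 1, 3, 1] p = path g [3, 4, 1, 3] p :=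
  H.back (i := 6) (by decide) (f1997 H)

theorem f2000 : g 5 • path g [3, 4, 1, 3] p = path g [4, 6, 8, 6] p :=
  (congrArg (g 5 • ·) (f1993 H).symm).trans (f1944 H)

theorem f2002 : g 0 • path g [4, 6, 8, 6] p = path g [3, 4, 1, 3] p :=
  H.back (i := 5) (by decide) (f2000 H)

theorem f2003 : g 7 • path g [4, 1, 3, 1] p = path g [3, 4, 1, 3] p :=
  scan (u := [5, 8, 1, 0, 2, 0, 1, 3]) (w := []) (i := 7) (r8_0_1 H) (step (f2000 H) (step (f1896 H) (step (f590 H) (step (f1149 H) (step (f84 H) (step (f1628 H) (step (f587 H) (step (f1949 H) rfl)))))))) rfl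

theorem f2004 : g 2 • path g [3, 4, 1, 3] p = path g [4, 1, 3, 1] p :=
  H.back (i := 7) (by decide) (f2003 H)

theorem f2005 : g 0 • path g [4, 1, 3] p = path g [9, 6, 3] p :=
  (f1771 H).trans (f1973 H)

theorem f2006 : g 5 • path g [4, 1, 3] p = path g [4, 6, 3] p :=
  (f1781 H).trans (f1965 H)

theorem f2007 : g 2 • path g [4, 1, 3] p = path g [4, 1, 3] p :=
  (f1779 H).trans (f1963 H)

theorem f2008 : g 2 • path g [4, 1, 3, 1] p = path g [3, 4, 1, 3] p :=
  scan (u := [1, 2, 1]) (w := []) (i := 2) (r1_0_1 H) (step (f1994 H) (step (f2007 H) (step (f1777 H) rfl))) rfl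

theorem f2009 : g 7 • path g [3, 4, 1, 3] p = path g [4, 1, 3, 1] p :=
  H.back (i := 2) (by decide) (f2008 H)

theorem f2010 : g 0 • path g [9, 6, 3] p = path g [9, 1, 3] p :=
  scan (u := [2]) (w := [0, 2, 0, 0]) (i := 0) (r2_0_0 H) (step (f1977 H) rfl) (step (H.back (i := 5) (by decide) (f1888 H)) (step (H.back (i := 7) (by decide) (f1870 H)) (step (H.back (i := 5) (by decide) (f2006 H)) (step (H.back (i := 5) (by decide) (f1975 H)) rfl))))

theorem f2011 : g 5 • path g [9, 1, 3] p = path g [9, 6, 3] p :=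
  H.back (i := 0) (by decide) (f2010 H)

theorem f2012 : g 2 • path g [9, 1, 3] p = path g [9, 1, 3] p :=
  scan (u := [2, 0]) (w := [0, 2, 0, 2, 0]) (i := 2) (r4_0_0 H) (step (f1977 H) (step (f2010 H) rfl)) (step (H.back (i := 5) (by decide) (f1888 H)) (step (H.back (i := 7) (by decide) (f1870 H)) (step (H.back (i := 5) (by decide) (f2006 H)) (step (H.back (i := 7) (by decide) (f1990 H)) (step (H.back (i := 5) (by decide) (f1975 H)) rfl)))))

theorem f2013 : g 7 • path g [9, 1, 3] p = path g [9, 1, 3] p :=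
  H.back (i := 2) (by decide) (f2012 H)

theorem f2014 : g 6 • path g [3, 9, 6, 3] p = path g [9, 1, 8] p :=
  scan (u := [0]) (w := [7, 5, 6, 7, 5, 2, 1, 0, 2, 1]) (i := 6) (r5_1_11 H) (step (f1953 H) rfl) (step (H.back (i := 2) (by decide) (f1344 H)) (step (H.back (i := 0) (by decide) (f1342 H)) (step (H.back (i := 1) (by decide) (f1795 H)) (step (H.back (i := 2) (by decide) (f1943 H)) (step (H.back (i := 0) (by decide) (f1690 H)) (step (H.back (i := 7) (by decide) (f1819 H)) (step (H.back (i := 6) (by decide) (f1812 H)) (step (H.back (i := 5) (by decide) (f2006 H)) (step (H.back (i := 7) (by decide) (f1990 H)) (step (H.back (i := 6) (by decide) (f1778 H)) rfl))))))))))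

theorem f2015 : g 1 • path g [9, 1, 8] p = path g [3, 9, 6, 3] p :=
  H.back (i := 6) (by decide) (f2014 H)

theorem f2016 : g 1 • path g [3, 9, 1, 3] p = path g [9, 1, 3] p :=
  scan (u := [3, 7, 5, 8]) (w := [0, 2, 0, 1]) (i := 1) (r8_0_8 H) (step (f1950 H) (step (f1819 H) (step (f1739 H) (step (f1736 H) rfl)))) (step (H.back (i := 5) (by decide) (f1888 H)) (step (H.back (i := 7) (by decide) (f1870 H)) (step (H.back (i := 5) (by decide) (f2006 H)) (step (H.back (i := 6) (by decide) (f1778 H)) rfl))))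

theorem f2017 : g 6 • path g [9, 1, 3] p = path g [3, 9, 1, 3] p :=
  H.back (i := 1) (by decide) (f2016 H)

theorem f2018 : g 9 • path g [4, 8, 6] p = path g [4, 8, 6, 9] p :=
  rfl

theorem f2019 : g 4 • path g [4, 8, 6, 9] p = path g [4, 8, 6] p :=
  H.back (i := 9) (by decide) (f2018 H)

theorem f2020 : g 9 • path g [4, 8, 6, 9] p = path g [4, 8, 6, 4] p :=
  scan (u := [9]) (w := [9]) (i := 9) (r13_1_0 H) (step (f2018 H) rfl) (step (H.back (i := 4) (by decide) (f1856 H)) rfl)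

theorem f2023 : g 0 • path g [8, 1, 4] p = path g [8, 1, 4, 0] p :=
  rfl

theorem f2025 : g 1 • path g [8, 1, 4] p = path g [8, 1, 4, 1] p :=
  rfl

theorem f2027 : g 2 • path g [8, 1, 4] p = path g [8, 1, 4, 2] p :=
  rfl

theorem f2028 : g 7 • path g [8, 1, 4, 2] p = path g [8, 1, 4] p :=
  H.back (i := 2) (by decide) (f2027 H)

theorem f2029 : g 1 • path g [8, 1, 4, 2] p = path g [3, 9, 1, 9] p :=
  scan (u := [2]) (w := [4, 2, 1, 4, 5, 5, 5, 6, 7, 5, 6, 7, 2, 1, 4]) (i := 1) (r18_0_11 H) (step (f2027 H) rfl) (step (H.back (i := 9) (by decide) (f1740 H)) (step (H.back (i := 7) (by decide) (f1646 H)) (step (H.back (i := 6) (by decide) (f242 H)) (step (H.back (i := 9) (by decide) (f42 H)) (step (H.back (i := 0) (by decide) (f747 H)) (step (H.back (i := 0) (by decide) (f747 H)) (step (H.back (i := 0) (by decide) (f747 H)) (step (H.back (i := 1) (by decide) (f39 H)) (step (H.back (i := 2) (by decide) (f886 H)) (step (H.back (i := 0) (by decide) (f1502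 H)) (step (H.back (i := 1) (by decide) (f68 H)) (step (H.back (i := 2) (by decide) (f16 H)) (step (H.back (i := 7) (by decide) (f17 H)) (step (H.back (i := 6) (by decide) (f69 H)) (step (H.back (i := 9) (by decide) (f600 H)) rfl)))))))))))))))

theorem f2030 : g 6 • path g [3, 9, 1, 9] p = path g [8, 1, 4, 2] p :=
  H.back (i := 1) (by decide) (f2029 H)

theorem f2031 : g 6 • path g [8, 1, 4] p = path g [3, 4, 6, 9] p :=
  scan (u := [7]) (w := [7, 6]) (i := 6) (r1_1_1 H) (step (f2028 H) rfl) (step (H.back (i := 2) (by decide) (f1744 H)) (step (H.back (i := 1) (by decide) (f2029 H)) rfl))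

theorem f2032 : g 1 • path g [3, 4, 6, 9] p = path g [8, 1, 4] p :=
  H.back (i := 6) (by decide) (f2031 H)

theorem f2033 : g 6 • path g [3, 4, 6, 9] p = path g [8, 1, 4, 1] p :=
  scan (u := [6]) (w := [6]) (i := 6) (r0_1_0 H) (step (f2031 H) rfl) (step (H.back (i := 1) (by decide) (f2025 H)) rfl)

theorem f2034 : g 1 • path g [8, 1, 4, 1] p = path g [3, 4, 6, 9] p :=
  H.back (i := 6) (by decide) (f2033 H)

theorem f2035 : g 5 • path g [8, 1, 4] p = path g [8, 1, 4, 5] p :=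
  rfl

theorem f2037 : g 7 • path g [8, 1, 4] p = path g [8, 1, 4, 7] p :=
  rfl

theorem f2040 : g 0 • path g [8, 1, 9] p = path g [8, 1, 9, 0] p :=
  rfl

theorem f2041 : g 5 • path g [8, 1, 9, 0] p = path g [8, 1, 9] p :=
  H.back (i := 0) (by decide) (f2040 H)

theorem f2042 : g 2 • path g [8, 1, 9, 0] p = path g [3, 1, 9, 5] p :=
  scan (u := [0]) (w := [0, 4, 5, 6, 5, 7, 5, 6, 7, 9]) (i := 2) (r11_0_8 H) (step (f2040 H) rfl) (step (H.back (i := 5) (by decide) (f1614 H)) (step (H.back (i := 9) (by decide) (f142 H)) (step (H.back (i := 0) (by decide) (f1502 H)) (step (H.back (i := 1) (by decide) (f68 H)) (step (H.back (i := 0) (by decide) (f14 H)) (step (H.back (i := 2) (by decide) (f16 H)) (step (H.back (i := 0) (by decide) (f14 H)) (step (H.back (i := 1) (by decide) (f71 H)) (step (H.back (i := 2) (by decide) (f75 H)) (step (H.back (i := 4) (by decide) (f610 H)) rfl))))))))))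

theorem f2044 : g 1 • path g [8, 1, 9] p = path g [8, 1, 9, 1] p :=
  rfl

theorem f2045 : g 6 • path g [8, 1, 9, 1] p = path g [8, 1, 9] p :=
  H.back (i := 1) (by decide) (f2044 H)

theorem f2046 : g 5 • path g [8, 1, 9] p = path g [8, 1, 9, 5] p :=
  rfl

theorem f2047 : g 0 • path g [8, 1, 9, 5] p = path g [8, 1, 9] p :=
  H.back (i := 5) (by decide) (f2046 H)

theorem f2048 : g 7 • path g [8, 1, 9, 5] p = path g [3, 1, 9, 0] p :=
  scan (u := [5]) (w := [5, 5, 7, 5]) (i := 7) (r2_1_1 H) (step (f2046 H) rfl) (step (H.back (i := 0) (by decide) (f1609 H)) (step (H.back (i := 0) (by decide) (f1615 H)) (step (H.back (i := 2) (by decide) (f2042 H)) (step (H.back (i := 0) (by decide) (f2040 H)) rfl))))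

theorem f2050 : g 6 • path g [8, 1, 9] p = path g [8, 1, 9, 6] p :=
  rfl

theorem f2051 : g 1 • path g [8, 1, 9, 6] p = path g [8, 1, 9] p :=
  H.back (i := 6) (by decide) (f2050 H)

theorem f2052 : g 6 • path g [8, 1, 9, 6] p = path g [8, 1, 9, 1] p :=
  scan (u := [6]) (w := [6]) (i := 6) (r0_1_0 H) (step (f2050 H) rfl) (step (H.back (i := 1) (by decide) (f2044 H)) rfl)

theorem f2053 : g 1 • path g [8, 1, 9, 1] p = path g [8, 1, 9, 6] p :=
  H.back (i := 6) (by decide) (f2052 H)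

theorem f2054 : g 5 • path g [8, 1, 9, 6] p = path g [3, 6, 9, 6] p :=
  scan (u := [6]) (w := [6, 6, 4, 1, 0, 2, 1, 0, 9]) (i := 5) (r12_1_1 H) (step (f2050 H) rfl) (step (H.back (i := 1) (by decide) (f1724 H)) (step (H.back (i := 1) (by decide) (f1713 H)) (step (H.back (i := 9) (by decide) (f230 H)) (step (H.back (i := 6) (by decide) (f38 H)) (step (H.back (i := 5) (by decide) (f817 H)) (step (H.back (i := 7) (by decide) (f760 H)) (step (H.back (i := 6) (by decide) (f29 H)) (step (H.back (i := 5) (by decide) (f1497 H)) (step (H.back (i := 4) (by decide) (f610 H)) rfl)))))))))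

theorem f2055 : g 0 • path g [3, 6, 9, 6] p = path g [8, 1, 9, 6] p :=
  H.back (i := 5) (by decide) (f2054 H)

theorem f2056 : g 7 • path g [8, 1, 9, 6] p = path g [3, 4, 1, 4] p :=
  scan (u := [6]) (w := [9, 6, 7, 9, 6, 7, 2, 1, 0, 2, 1, 0, 0, 0, 9]) (i := 7) (r18_1_1 H) (step (f2050 H) rfl) (step (H.back (i := 4) (by decide) (f1672 H)) (step (H.back (i := 1) (by decide) (f174 H)) (step (H.back (i := 2) (by decide) (f1636 H)) (step (H.back (i := 4) (by decide) (f32 H)) (step (H.back (i := 1) (by decide) (f39 H)) (step (H.back (i := 2) (by decide) (f886 H)) (step (H.back (i := 7) (by decide) (f703 H)) (step (H.back (i := 6) (by decide) (f38 H)) (step (H.back (i := 5) (by decide) (f817 H)) (step (H.back (i := 7) (by decide) (f760 H)) (step (H.back (i := 6) (by decide) (f29 H)) (step (H.back (i := 5) (by decide) (f1497 H)) (step (H.back (i := 5) (by decide) (f1585 H)) (step (H.back (i := 5) (by decide) (f1497 H)) (step (H.back (i := 4) (by decide)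 (f610 H)) rfl)))))))))))))))

theorem f2058 : g 1 • path g [8, 6, 9] p = path g [3, 4, 1, 4] p :=
  scan (u := [1, 2]) (w := [2]) (i := 1) (r1_0_1 H) (step (f2051 H) (step (f976 H) rfl)) (step (H.back (i := 7) (by decide) (f2056 H)) rfl)

theorem f2059 : g 6 • path g [3, 4, 1, 4] p = path g [8, 6, 9] p :=
  H.back (i := 1) (by decide) (f2058 H)

theorem f2060 : g 0 • path g [3, 1, 9, 1] p = path g [3, 9, 6, 4] p :=
  scan (u := [1, 0, 2, 0, 1]) (w := [9, 5, 7, 5, 4, 2]) (i := 0) (r11_1_6 H) (step (f2051 H) (step (f2040 H) (step (f2042 H) (step (f1615 H) (step (f1611 H) rfl))))) (step (H.back (i := 4) (by decide) (f1750 H)) (step (H.back (i := 0) (by decide) (f1647 H)) (step (H.back (i := 2) (by decide) (f998 H)) (step (H.back (i := 0) (by decide) (f1626 H)) (step (H.back (i := 9) (by decide) (f1673 H)) (step (H.back (i := 7) (by decide) (f2056 H)) rfl))))))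

theorem f2061 : g 5 • path g [3, 9, 6, 4] p = path g [3, 1, 9, 1] p :=
  H.back (i := 0) (by decide) (f2060 H)

theorem f2062 : g 6 • path g [3, 9, 6, 4] p = path g [3, 6, 9, 0] p :=
  scan (u := [0]) (w := [5, 6, 5, 6]) (i := 6) (r3_1_4 H) (step (f2060 H) rfl) (step (H.back (i := 0) (by decide) (f1711 H)) (step (H.back (i := 1) (by decide) (f1722 H)) (step (H.back (i := 0) (by decide) (f1728 H)) (step (H.back (i := 1) (by decide) (f1619 H)) rfl))))

theorem f2063 : g 1 • path g [3, 6, 9, 0] p = path g [3, 9, 6, 4] p :=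
  H.back (i := 6) (by decide) (f2062 H)

theorem f2064 : g 1 • path g [4, 8, 6, 4] p = path g [3, 6, 9, 5] p :=
  scan (u := [0, 9, 6, 5, 6, 6, 4]) (w := [0, 2, 1]) (i := 1) (r12_1_10 H) (step (f2060 H) (step (f1751 H) (step (f244 H) (step (f1659 H) (step (f588 H) (step (f589 H) (step (f1856 H) rfl))))))) (step (H.back (i := 5) (by decide) (f1719 H)) (step (H.back (i := 7) (by decide) (f946 H)) (step (H.back (i := 6) (by decide) (f1612 H)) rfl)))

theorem f2065 : g 6 • path g [3, 6, 9, 5] p = path g [4, 8, 6, 4] p :=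
  H.back (i := 1) (by decide) (f2064 H)

theorem f2066 : g 5 • path g [8, 1, 9, 1] p = path g [3, 9, 6, 4] p :=
  scan (u := [6, 5, 6, 0, 6]) (w := []) (i := 5) (r3_1_1 H) (step (f2062 H) (step (f1712 H) (step (f1721 H) (step (f2055 H) (step (f2052 H) rfl))))) rfl

theorem f2067 : g 0 • path g [3, 9, 6, 4] p = path g [8, 1, 9, 1] p :=
  H.back (i := 5) (by decide) (f2066 H)

theorem f2069 : g 0 • path g [8, 6, 4] p = path g [8, 6, 4, 0] p :=
  rfl

theorem f2071 : g 1 • path g [8, 6, 4] p = path g [8, 6, 4, 1] p :=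
  rfl

theorem f2072 : g 6 • path g [8, 6, 4, 1] p = path g [8, 6, 4] p :=
  H.back (i := 1) (by decide) (f2071 H)

theorem f2073 : g 2 • path g [8, 6, 4] p = path g [8, 6, 4, 2] p :=
  rfl

theorem f2075 : g 3 • path g [8, 6, 4] p = path g [8, 6, 4, 3] p :=
  rfl

theorem f2076 : g 8 • path g [8, 6, 4, 3] p = path g [8, 6, 4] p :=
  H.back (i := 3) (by decide) (f2075 H)

theorem f2077 : path g [8, 6, 4, 3] p = path g [8, 6, 4] p :=
  close (u := [3]) (w := [9, 8, 4]) (r14_0_3 H) (step (f2075 H) rfl) (step (H.back (i := 4) (by decide) (f967 H)) (step (H.back (i := 3) (by decide) (f1545 H)) (step (H.back (i := 9) (by decide) (f968 H)) rfl)))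

theorem f2078 : g 8 • path g [8, 6, 4] p = path g [8, 6, 4] p :=
  (congrArg (g 8 • ·) (f2077 H).symm).trans (f2076 H)

theorem f2080 : g 3 • path g [8, 6, 4] p = path g [8, 6, 4] p :=
  H.back (i := 8) (by decide) (f2078 H)

theorem f2081 : g 8 • path g [8, 6, 9] p = path g [8, 6, 9] p :=
  scan (u := [3, 4]) (w := [9]) (i := 8) (r14_1_2 H) (step (f2080 H) (step (f972 H) rfl)) (step (H.back (i := 4) (by decide) (f972 H)) rfl)

theorem f2082 : g 3 • path g [8, 6, 9] p = path g [8, 6, 9] p :=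
  H.back (i := 8) (by decide) (f2081 H)

theorem f2083 : g 5 • path g [8, 6, 4] p = path g [8, 6, 4, 5] p :=
  rfl

theorem f2085 : g 6 • path g [8, 6, 4] p = path g [8, 6, 4, 6] p :=
  rfl

theorem f2086 : g 1 • path g [8, 6, 4, 6] p = path g [8, 6, 4] p :=
  H.back (i := 6) (by decide) (f2085 H)

theorem f2087 : g 6 • path g [8, 6, 4, 6] p = path g [8, 6, 4, 1] p :=
  scan (u := [6]) (w := [6]) (i := 6) (r0_1_0 H) (step (f2085 H) rfl) (step (H.back (i := 1) (by decide) (f2071 H)) rfl)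

theorem f2088 : g 1 • path g [8, 6, 4, 1] p = path g [8, 6, 4, 6] p :=
  H.back (i := 6) (by decide) (f2087 H)

theorem f2089 : g 7 • path g [8, 6, 4] p = path g [8, 6, 4, 7] p :=
  rfl

theorem f2090 : g 2 • path g [8, 6, 4, 7] p = path g [8, 6, 4] p :=
  H.back (i := 7) (by decide) (f2089 H)

theorem f2091 : g 0 • path g [8, 6, 9] p = path g [8, 6, 9, 0] p :=
  rfl

theorem f2092 : g 5 • path g [8, 6, 9, 0] p = path g [8, 6, 9] p :=
  H.back (i := 0) (by decide) (f2091 H)

theorem f2093 : g 2 • path g [8, 6, 9, 0] p = path g [3, 6, 9, 5] p :=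
  scan (u := [0]) (w := [0, 2, 0, 2, 0, 2]) (i := 2) (r4_0_1 H) (step (f2091 H) rfl) (step (H.back (i := 5) (by decide) (f1719 H)) (step (H.back (i := 7) (by decide) (f946 H)) (step (H.back (i := 5) (by decide) (f1610 H)) (step (H.back (i := 7) (by decide) (f2048 H)) (step (H.back (i := 5) (by decide) (f2046 H)) (step (H.back (i := 7) (by decide) (f975 H)) rfl))))))

theorem f2094 : g 7 • path g [3, 6, 9, 5] p = path g [8, 6, 9, 0] p :=
  H.back (i := 2) (by decide) (f2093 H)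

theorem f2095 : g 5 • path g [8, 6, 9] p = path g [8, 6, 9, 5] p :=
  rfl

theorem f2096 : g 0 • path g [8, 6, 9, 5] p = path g [8, 6, 9] p :=
  H.back (i := 5) (by decide) (f2095 H)

theorem f2097 : g 7 • path g [8, 6, 9, 5] p = path g [3, 6, 9, 0] p :=
  scan (u := [5]) (w := [5, 5, 7, 5]) (i := 7) (r2_1_1 H) (step (f2095 H) rfl) (step (H.back (i := 0) (by decide) (f1711 H)) (step (H.back (i := 0) (by decide) (f1720 H)) (step (H.back (i := 2) (by decide) (f2093 H)) (step (H.back (i := 0) (by decide) (f2091 H)) rfl))))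

theorem f2099 : g 6 • path g [8, 6, 9] p = path g [8, 6, 9, 6] p :=
  rfl

theorem f2100 : g 1 • path g [8, 6, 9, 6] p = path g [8, 6, 9] p :=
  H.back (i := 6) (by decide) (f2099 H)

theorem f2101 : g 6 • path g [8, 6, 9, 6] p = path g [3, 4, 1, 4] p :=
  scan (u := [6]) (w := [6]) (i := 6) (r0_1_0 H) (step (f2099 H) rfl) (step (H.back (i := 1) (by decide) (f2058 H)) rfl)

theorem f2102 : g 1 • path g [3, 4, 1, 4] p = path g [8, 6, 9, 6] p :=
  H.back (i := 6) (by decide) (f2101 H)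

theorem f2103 : g 7 • path g [8, 6, 9, 6] p = path g [8, 1, 9, 1] p :=
  scan (u := [6]) (w := [6, 7]) (i := 7) (r1_1_0 H) (step (f2099 H) rfl) (step (H.back (i := 1) (by decide) (f2044 H)) (step (H.back (i := 2) (by decide) (f973 H)) rfl))

theorem f2105 : g 5 • path g [8, 6, 9, 6] p = path g [8, 1, 9, 6] p :=
  scan (u := [6]) (w := [6, 6, 4, 1, 0, 2, 1, 0, 9]) (i := 5) (r12_1_1 H) (step (f2099 H) rfl) (step (H.back (i := 1) (by decide) (f2053 H)) (step (H.back (i := 1) (by decide) (f2044 H)) (step (H.back (i := 9) (by decide) (f609 H)) (step (H.back (i := 6) (by decide) (f72 H)) (step (H.back (i := 5) (by decide) (f1669 H)) (step (H.back (i := 7) (by decide) (f910 H)) (step (H.back (i := 6) (by decide) (f40 H)) (step (H.back (i := 5) (by decide) (f1538 H)) (step (H.back (i := 4) (by decide) (f970 H)) rfl)))))))))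

theorem f2106 : g 0 • path g [8, 1, 9, 6] p = path g [8, 6, 9, 6] p :=
  H.back (i := 5) (by decide) (f2105 H)

theorem f2107 : path g [8, 6, 9, 5] p = path g [3, 6, 9, 0] p :=
  close (u := [1, 5]) (w := [1, 0, 1, 0]) (r3_0_0 H) (step (f2100 H) (step (f2095 H) rfl)) (step (H.back (i := 6) (by decide) (f2062 H)) (step (H.back (i := 5) (by decide) (f2066 H)) (step (H.back (i := 6) (by decide) (f2052 H)) (step (H.back (i := 5) (by decide) (f2105 H)) rfl))))

theorem f2108 : g 0 • path g [3, 6, 9, 0] p = path g [8, 6, 9] p :=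
  (congrArg (g 0 • ·) (f2107 H).symm).trans (f2096 H)

theorem f2110 : g 5 • path g [8, 6, 9] p = path g [3, 6, 9, 0] p :=
  H.back (i := 0) (by decide) (f2108 H)

theorem f2111 : g 7 • path g [3, 6, 9, 0] p = path g [3, 6, 9, 0] p :=
  (congrArg (g 7 • ·) (f2107 H).symm).trans (f2097 H)

theorem f2114 : path g [8, 1, 9, 0] p = path g [3, 1, 9, 5] p :=
  close (u := [0, 2, 0]) (w := [0, 2, 0]) (r2_0_2 H) (step (f2108 H) (step (f973 H) (step (f2040 H) rfl))) (step (H.back (i := 5) (by decide) (f1614 H)) (step (H.back (i := 7) (by decide) (f950 H)) (step (H.back (i := 5) (by decide) (f1712 H)) rfl)))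

theorem f2115 : g 5 • path g [3, 1, 9, 5] p = path g [8, 1, 9] p :=
  (congrArg (g 5 • ·) (f2114 H).symm).trans (f2041 H)

theorem f2117 : g 0 • path g [8, 1, 9] p = path g [3, 1, 9, 5] p :=
  H.back (i := 5) (by decide) (f2115 H)

theorem f2118 : g 2 • path g [3, 1, 9, 5] p = path g [3, 1, 9, 5] p :=
  (congrArg (g 2 • ·) (f2114 H).symm).trans (f2042 H)

theorem f2120 : g 7 • path g [3, 1, 9, 5] p = path g [3, 1, 9, 5] p :=
  H.back (i := 2) (by decide) (f2118 H)

theorem f2121 : path g [8, 6, 4, 7] p = path g [8, 6, 4] p :=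
  close (u := [0, 9, 7]) (w := [4, 0, 2, 0, 0]) (r10_1_7 H) (step (f2108 H) (step (f971 H) (step (f2089 H) rfl))) (step (H.back (i := 9) (by decide) (f971 H)) (step (H.back (i := 5) (by decide) (f2092 H)) (step (H.back (i := 7) (by decide) (f2094 H)) (step (H.back (i := 5) (by decide) (f1719 H)) (step (H.back (i := 5) (by decide) (f1712 H)) rfl)))))

theorem f2122 : g 2 • path g [8, 6, 4] p = path g [8, 6, 4] p :=
  (congrArg (g 2 • ·) (f2121 H).symm).trans (f2090 H)

theorem f2123 : path g [8, 6, 4, 2] p = path g [8, 6, 4] p :=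
  (f2073 H).symm.trans (f2122 H)

theorem f2125 : g 7 • path g [8, 6, 4] p = path g [8, 6, 4] p :=
  (f2089 H).trans (f2121 H)

theorem f2127 : g 2 • path g [8, 6, 4] p = path g [8, 6, 4] p :=
  (f2073 H).trans (f2123 H)

theorem f2128 : path g [3, 1, 4, 2] p = path g [3, 1, 4] p :=
  close (u := [5, 5, 7, 5, 9, 2]) (w := [4, 5]) (r10_0_1 H) (step (f2115 H) (step (f2046 H) (step (f2048 H) (step (f1610 H) (step (f144 H) (step (f1572 H) rfl)))))) (step (H.back (i := 9) (by decide) (f144 H)) (step (H.back (i := 0) (by decide) (f1615 H)) rfl))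

theorem f2129 : g 7 • path g [3, 1, 4] p = path g [3, 1, 4] p :=
  (congrArg (g 7 • ·) (f2128 H).symm).trans (f1573 H)

theorem f2130 : path g [3, 1, 4, 7] p = path g [3, 1, 4] p :=
  (f1590 H).symm.trans (f2129 H)

theorem f2132 : g 2 • path g [3, 1, 4] p = path g [3, 1, 4] p :=
  (f1572 H).trans (f2128 H)

theorem f2134 : g 7 • path g [3, 1, 4] p = path g [3, 1, 4] p :=
  (f1590 H).trans (f2130 H)

theorem f2135 : g 9 • path g [8, 1, 9, 1] p = path g [8, 6, 4, 1] p :=
  scan (u := [7]) (w := [6, 7, 9, 6, 7, 2, 1, 0, 2, 1, 0, 0, 0, 9, 6]) (i := 9) (r18_1_2 H) (step (f2103 H) rfl) (step (H.back (i := 1) (by decide) (f2071 H)) (step (H.back (i := 2) (by decide) (f2127 H)) (step (H.back (i := 4) (by decide) (f967 H)) (step (H.back (i := 1) (by decide) (f73 H)) (step (H.back (i := 2) (by decide) (f626 H)) (step (H.back (i := 7) (by decide) (f628 H)) (step (H.back (i := 6) (by decide) (f72 H)) (step (H.back (i := 5) (by decide) (f1669 H)) (step (H.back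 (i := 7) (by decide) (f910 H)) (step (H.back (i := 6) (by decide) (f40 H)) (step (H.back (i := 5) (by decide) (f1538 H)) (step (H.back (i := 5) (by decide) (f1669 H)) (step (H.back (i := 5) (by decide) (f1538 H)) (step (H.back (i := 4) (by decide) (f970 H)) (step (H.back (i := 1) (by decide) (f2100 H)) rfl)))))))))))))))

theorem f2136 : g 4 • path g [8, 6, 4, 1] p = path g [8, 1, 9, 1] p :=
  H.back (i := 9) (by decide) (f2135 H)

theorem f2137 : g 5 • path g [3, 1, 9, 6] p = path g [8, 6, 9, 6] p :=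
  scan (u := [6, 6, 4, 1, 0, 2, 1, 0, 9, 6]) (w := []) (i := 5) (r12_1_3 H) (step (f2101 H) (step (f2059 H) (step (f970 H) (step (f71 H) (step (f14 H) (step (f16 H) (step (f68 H) (step (f1502 H) (step (f142 H) (step (f1616 H) rfl)))))))))) rfl

theorem f2138 : g 0 • path g [8, 6, 9, 6] p = path g [3, 1, 9, 6] p :=
  H.back (i := 5) (by decide) (f2137 H)

theorem f2139 : g 7 • path g [3, 1, 9, 1] p = path g [3, 6, 9, 6] p :=
  scan (u := [5, 7, 5, 5]) (w := [5]) (i := 7) (r2_1_1 H) (step (f2137 H) (step (f2103 H) (step (f2066 H) (step (f2061 H) rfl)))) (step (H.back (i := 0) (by decide) (f1728 H)) rfl)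

theorem f2140 : g 2 • path g [3, 6, 9, 6] p = path g [3, 1, 9, 1] p :=
  H.back (i := 7) (by decide) (f2139 H)

theorem f2141 : g 8 • path g [3, 6, 9, 0] p = path g [8, 1, 9, 5] p :=
  scan (u := [5, 7, 5, 6]) (w := [0, 3, 6]) (i := 8) (r7_0_1 H) (step (f2137 H) (step (f2103 H) (step (f2066 H) (step (f2062 H) rfl)))) (step (H.back (i := 5) (by decide) (f2046 H)) (step (H.back (i := 8) (by decide) (f1604 H)) (step (H.back (i := 1) (by decide) (f1617 H)) rfl)))

theorem f2142 : g 3 • path g [8, 1, 9, 5] p = path g [3, 6, 9, 0] p :=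
  H.back (i := 8) (by decide) (f2141 H)

theorem f2143 : path g [3, 9, 1, 4] p = path g [8, 1, 9, 6] p :=
  close (u := [5, 7, 5, 9, 2, 4]) (w := [5, 5]) (r10_0_2 H) (step (f2137 H) (step (f2103 H) (step (f2066 H) (step (f1751 H) (step (f1664 H) (step (f1732 H) rfl)))))) (step (H.back (i := 0) (by decide) (f2055 H)) (step (H.back (i := 0) (by decide) (f1728 H)) rfl))

theorem f2144 : path g [8, 1, 9, 6] p = path g [3, 9, 1, 4] p :=
  (f2143 H).symm

theorem f2145 : g 1 • path g [3, 9, 1, 4] p = path g [8, 1, 9] p :=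
  (congrArg (g 1 • ·) (f2144 H).symm).trans (f2051 H)

theorem f2147 : g 6 • path g [8, 1, 9] p = path g [3, 9, 1, 4] p :=
  H.back (i := 1) (by decide) (f2145 H)

theorem f2148 : g 6 • path g [3, 9, 1, 4] p = path g [8, 1, 9, 1] p :=
  (congrArg (g 6 • ·) (f2144 H).symm).trans (f2052 H)

theorem f2150 : g 1 • path g [8, 1, 9, 1] p = path g [3, 9, 1, 4] p :=
  H.back (i := 6) (by decide) (f2148 H)

theorem f2151 : g 5 • path g [3, 9, 1, 4] p = path g [3, 6, 9, 6] p :=
  (congrArg (g 5 • ·) (f2144 H).symm).trans (f2054 H)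

theorem f2153 : g 0 • path g [3, 6, 9, 6] p = path g [3, 9, 1, 4] p :=
  H.back (i := 5) (by decide) (f2151 H)

theorem f2154 : g 7 • path g [3, 9, 1, 4] p = path g [3, 4, 1, 4] p :=
  (congrArg (g 7 • ·) (f2144 H).symm).trans (f2056 H)

theorem f2156 : g 2 • path g [3, 4, 1, 4] p = path g [3, 9, 1, 4] p :=
  H.back (i := 7) (by decide) (f2154 H)

theorem f2157 : g 0 • path g [3, 9, 1, 4] p = path g [8, 6, 9, 6] p :=
  (congrArg (g 0 • ·) (f2144 H).symm).trans (f2106 H)

theorem f2159 : g 5 • path g [8, 6, 9, 6] p = path g [3, 9, 1, 4] p :=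
  H.back (i := 0) (by decide) (f2157 H)

theorem f2160 : g 3 • path g [3, 6, 9, 0] p = path g [3, 1, 9, 5] p :=
  scan (u := [5, 7, 5, 6]) (w := [0, 2, 8, 6]) (i := 3) (r8_1_2 H) (step (f2137 H) (step (f2103 H) (step (f2066 H) (step (f2062 H) rfl)))) (step (H.back (i := 5) (by decide) (f1614 H)) (step (H.back (i := 7) (by decide) (f950 H)) (step (H.back (i := 3) (by decide) (f1582 H)) (step (H.back (i := 1) (by decide) (f1617 H)) rfl))))

theorem f2161 : g 8 • path g [3, 1, 9, 5] p = path g [3, 6, 9, 0] p :=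
  H.back (i := 3) (by decide) (f2160 H)

theorem f2162 : path g [8, 1, 9, 5] p = path g [3, 1, 9, 0] p :=
  close (u := [5, 7, 5, 6, 5, 8, 2, 3, 5]) (w := [5, 6]) (r6_0_3 H) (step (f2137 H) (step (f2103 H) (step (f2066 H) (step (f2062 H) (step (f1712 H) (step (f1581 H) (step (f951 H) (step (f1607 H) (step (f2046 H) rfl))))))))) (step (H.back (i := 0) (by decide) (f1609 H)) (step (H.back (i := 1) (by decide) (f1617 H)) rfl))

theorem f2163 : g 0 • path g [3, 1, 9, 0] p = path g [8, 1, 9] p :=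
  (congrArg (g 0 • ·) (f2162 H).symm).trans (f2047 H)

theorem f2165 : g 5 • path g [8, 1, 9] p = path g [3, 1, 9, 0] p :=
  H.back (i := 0) (by decide) (f2163 H)

theorem f2169 : g 3 • path g [3, 1, 9, 0] p = path g [3, 6, 9, 0] p :=
  (congrArg (g 3 • ·) (f2162 H).symm).trans (f2142 H)

theorem f2171 : g 8 • path g [3, 6, 9, 0] p = path g [3, 1, 9, 0] p :=
  H.back (i := 3) (by decide) (f2169 H)

theorem f2172 : g 7 • path g [3, 6, 9, 1] p = path g [3, 1, 9, 6] p :=
  scan (u := [5, 6, 9, 1, 1, 0, 1, 4, 5, 6]) (w := []) (i := 7) (r12_0_3 H) (step (f2137 H) (step (f2101 H) (step (f1673 H) (step (f183 H) (step (f181 H) (step (f1622 H) (step (f236 H) (step (f1732 H) (step (f2151 H) (step (f1723 H) rfl)))))))))) rfl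

theorem f2173 : g 2 • path g [3, 1, 9, 6] p = path g [3, 6, 9, 1] p :=
  H.back (i := 7) (by decide) (f2172 H)

theorem f2174 : g 7 • path g [3, 4, 1, 4] p = path g [3, 9, 1, 4] p :=
  scan (u := [5, 6]) (w := [5, 6, 7, 0, 2, 1, 0, 2, 1]) (i := 7) (r5_0_0 H) (step (f2137 H) (step (f2101 H) rfl)) (step (H.back (i := 0) (by decide) (f2153 H)) (step (H.back (i := 1) (by decide) (f1724 H)) (step (H.back (i := 2) (by decide) (f2173 H)) (step (H.back (i := 5) (by decide) (f1727 H)) (step (H.back (i := 7) (by decide) (f2139 H)) (step (H.back (i := 6) (by decide) (f1618 H)) (step (H.back (i := 5) (by decide) (f1727 H)) (step (H.back (i := 7) (by decide) (f2139 H)) (step (H.back (i := 6) (by decide) (f1618 H)) rfl)))))))))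

theorem f2175 : g 2 • path g [3, 9, 1, 4] p = path g [3, 4, 1, 4] p :=
  H.back (i := 7) (by decide) (f2174 H)

theorem f2176 : path g [3, 6, 9, 6] p = path g [3, 4, 1, 9] p :=
  close (u := [5, 6, 7, 5, 6, 7, 2, 1]) (w := [4, 2, 1, 4, 2, 1, 4, 5, 5]) (r18_0_2 H) (step (f2137 H) (step (f2101 H) (step (f2174 H) (step (f2151 H) (step (f1723 H) (step (f2172 H) (step (f2173 H) (step (f1724 H) rfl)))))))) (step (H.back (i := 9) (by decide) (f1678 H)) (step (H.back (i := 7) (by decide) (f1654 H)) (step (H.back (i := 6) (by decide) (f180 H)) (step (H.back (i := 9) (by decide) (f44 H)) (step (H.back (i := 7) (by decide) (f1031 H)) (step (H.back (i := 6) (by decide) (f237 H)) (step (H.back (i := 9) (by decide) (f1733 H)) (step (H.back (i := 0) (by decide) (f2153 H)) (step (H.back (i := 0) (by decide) (f1728 H)) rfl)))))))))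

theorem f2177 : g 1 • path g [3, 4, 1, 9] p = path g [3, 6, 9] p :=
  (congrArg (g 1 • ·) (f2176 H).symm).trans (f1722 H)

theorem f2179 : g 6 • path g [3, 6, 9] p = path g [3, 4, 1, 9] p :=
  H.back (i := 1) (by decide) (f2177 H)

theorem f2180 : g 6 • path g [3, 4, 1, 9] p = path g [3, 6, 9, 1] p :=
  (congrArg (g 6 • ·) (f2176 H).symm).trans (f1723 H)

theorem f2182 : g 1 • path g [3, 6, 9, 1] p = path g [3, 4, 1, 9] p :=
  H.back (i := 6) (by decide) (f2180 H)

theorem f2185 : g 5 • path g [3, 4, 1, 9] p = path g [3, 1, 9, 6] p :=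
  (congrArg (g 5 • ·) (f2176 H).symm).trans (f1727 H)

theorem f2187 : g 0 • path g [3, 1, 9, 6] p = path g [3, 4, 1, 9] p :=
  H.back (i := 5) (by decide) (f2185 H)

theorem f2188 : g 0 • path g [3, 4, 1, 9] p = path g [3, 9, 1, 4] p :=
  (congrArg (g 0 • ·) (f2176 H).symm).trans (f2153 H)

theorem f2190 : g 5 • path g [3, 9, 1, 4] p = path g [3, 4, 1, 9] p :=
  H.back (i := 0) (by decide) (f2188 H)

theorem f2191 : g 2 • path g [3, 4, 1, 9] p = path g [3, 1, 9, 1] p :=
  (congrArg (g 2 • ·) (f2176 H).symm).trans (f2140 H)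

theorem f2192 : path g [3, 9, 6, 9] p = path g [3, 1, 9, 1] p :=
  (f1767 H).symm.trans (f2191 H)

theorem f2193 : g 4 • path g [3, 1, 9, 1] p = path g [3, 9, 6] p :=
  (congrArg (g 4 • ·) (f2192 H).symm).trans (f1761 H)

theorem f2195 : g 9 • path g [3, 9, 6] p = path g [3, 1, 9, 1] p :=
  H.back (i := 4) (by decide) (f2193 H)

theorem f2196 : g 9 • path g [3, 1, 9, 1] p = path g [3, 9, 6, 4] p :=
  (congrArg (g 9 • ·) (f2192 H).symm).trans (f1762 H)

theorem f2198 : g 4 • path g [3, 9, 6, 4] p = path g [3, 1, 9, 1] p :=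
  H.back (i := 9) (by decide) (f2196 H)

theorem f2200 : g 2 • path g [3, 1, 9, 1] p = path g [3, 4, 1, 9] p :=
  (f1726 H).trans (f2176 H)

theorem f2203 : g 7 • path g [3, 1, 9, 1] p = path g [3, 4, 1, 9] p :=
  (f2139 H).trans (f2176 H)

theorem f2205 : g 2 • path g [3, 4, 1, 9] p = path g [3, 1, 9, 1] p :=
  (f1767 H).trans (f2192 H)

theorem f2206 : g 0 • path g [3, 9, 1, 9] p = path g [3, 4, 1, 4] p :=
  scan (u := [0, 0, 9, 7, 4]) (w := [2, 0]) (i := 0) (r10_1_6 H) (step (f2138 H) (step (f2187 H) (step (f1680 H) (step (f2174 H) (step (f1743 H) rfl))))) (step (H.back (i := 7) (by decide) (f2154 H)) (step (H.back (i := 5) (by decide) (f2159 H)) rfl))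

theorem f2207 : g 5 • path g [3, 4, 1, 4] p = path g [3, 9, 1, 9] p :=
  H.back (i := 0) (by decide) (f2206 H)

theorem f2208 : g 7 • path g [3, 4, 1, 9] p = path g [3, 1, 9, 1] p :=
  (f1765 H).trans (f2192 H)

theorem f2209 : g 9 • path g [3, 1, 9, 6] p = path g [8, 9, 1] p :=
  scan (u := [0]) (w := [6, 5, 6, 6, 4, 1, 0, 2, 1]) (i := 9) (r12_1_10 H) (step (f2138 H) rfl) (step (H.back (i := 1) (by decide) (f979 H)) (step (H.back (i := 0) (by decide) (f1149 H)) (step (H.back (i := 1) (by decide) (f590 H)) (step (H.back (i := 1) (by decide) (f592 H)) (step (H.back (i := 9) (by decide) (f1718 H)) (step (H.back (i := 6) (by decide) (f2180 H)) (step (H.back (i := 5) (by decide) (f2190 H)) (step (H.back (i := 7) (by decide) (f2174 H)) (step (H.back (i := 6) (by decide) (f2101 H)) rfl)))))))))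

theorem f2210 : g 4 • path g [8, 9, 1] p = path g [3, 1, 9, 6] p :=
  H.back (i := 9) (by decide) (f2209 H)

theorem f2211 : path g [4, 8, 1, 9] p = path g [8, 6, 9, 6] p :=
  close (u := [0, 2, 1, 0, 0, 0, 9, 6, 7, 9, 6, 7, 9]) (w := [6, 7, 2, 1]) (r18_1_11 H) (step (f2138 H) (step (f2173 H) (step (f2182 H) (step (f2188 H) (step (f2157 H) (step (f2138 H) (step (f2209 H) (step (f980 H) (step (f85 H) (step (f78 H) (step (f589 H) (step (f593 H) (step (f1850 H) rfl))))))))))))) (step (H.back (i := 1) (by decide) (f2102 H)) (step (H.back (i := 2) (by decide) (f2175 H)) (step (H.back (i := 7) (by decide) (f2174 H)) (step (H.back (i := 6) (by decide) (f2101 H)) rfl))))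

theorem f2212 : path g [8, 6, 9, 6] p = path g [4, 8, 1, 9] p :=
  (f2211 H).symm

theorem f2213 : g 1 • path g [4, 8, 1, 9] p = path g [8, 6, 9] p :=
  (congrArg (g 1 • ·) (f2212 H).symm).trans (f2100 H)

theorem f2215 : g 6 • path g [8, 6, 9] p = path g [4, 8, 1, 9] p :=
  H.back (i := 1) (by decide) (f2213 H)

theorem f2216 : g 6 • path g [4, 8, 1, 9] p = path g [3, 4, 1, 4] p :=
  (congrArg (g 6 • ·) (f2212 H).symm).trans (f2101 H)

theorem f2218 : g 1 • path g [3, 4, 1, 4] p = path g [4, 8, 1, 9] p :=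
  H.back (i := 6) (by decide) (f2216 H)

theorem f2219 : g 7 • path g [4, 8, 1, 9] p = path g [8, 1, 9, 1] p :=
  (congrArg (g 7 • ·) (f2212 H).symm).trans (f2103 H)

theorem f2221 : g 2 • path g [8, 1, 9, 1] p = path g [4, 8, 1, 9] p :=
  H.back (i := 7) (by decide) (f2219 H)

theorem f2222 : g 5 • path g [4, 8, 1, 9] p = path g [3, 9, 1, 4] p :=
  (congrArg (g 5 • ·) (f2212 H).symm).trans (f2159 H)

theorem f2224 : g 0 • path g [3, 9, 1, 4] p = path g [4, 8, 1, 9] p :=
  H.back (i := 5) (by decide) (f2222 H)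

theorem f2225 : g 0 • path g [4, 8, 1, 9] p = path g [3, 1, 9, 6] p :=
  (congrArg (g 0 • ·) (f2212 H).symm).trans (f2138 H)

theorem f2227 : g 5 • path g [3, 1, 9, 6] p = path g [4, 8, 1, 9] p :=
  H.back (i := 0) (by decide) (f2225 H)

theorem f2228 : g 0 • path g [3, 6, 9, 1] p = path g [3, 9, 1, 9] p :=
  scan (u := [0, 2]) (w := [0, 2, 0]) (i := 0) (r2_0_2 H) (step (f2225 H) (step (f2173 H) rfl)) (step (H.back (i := 5) (by decide) (f2207 H)) (step (H.back (i := 7) (by decide) (f2154 H)) (step (H.back (i := 5) (by decide) (f2222 H)) rfl)))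

theorem f2229 : g 5 • path g [3, 9, 1, 9] p = path g [3, 6, 9, 1] p :=
  H.back (i := 0) (by decide) (f2228 H)

theorem f2230 : path g [3, 1, 9, 5] p = path g [8, 1, 4, 2] p :=
  close (u := [0, 1, 5]) (w := [1, 0, 1]) (r3_0_5 H) (step (f2225 H) (step (f1617 H) (step (f1614 H) rfl))) (step (H.back (i := 6) (by decide) (f2030 H)) (step (H.back (i := 5) (by decide) (f2207 H)) (step (H.back (i := 6) (by decide) (f2216 H)) rfl)))

theorem f2231 : path g [8, 1, 4, 2] p = path g [3, 1, 9, 5] p :=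
  (f2230 H).symm

theorem f2232 : g 7 • path g [3, 1, 9, 5] p = path g [8, 1, 4] p :=
  (congrArg (g 7 • ·) (f2231 H).symm).trans (f2028 H)

theorem f2233 : path g [3, 1, 9, 5] p = path g [8, 1, 4] p :=
  (f2120 H).symm.trans (f2232 H)

theorem f2234 : g 1 • path g [3, 1, 9, 5] p = path g [3, 9, 1, 9] p :=
  (congrArg (g 1 • ·) (f2231 H).symm).trans (f2029 H)

theorem f2236 : g 6 • path g [3, 9, 1, 9] p = path g [3, 1, 9, 5] p :=
  H.back (i := 1) (by decide) (f2234 H)

theorem f2237 : g 0 • path g [8, 1, 4] p = path g [3, 1, 9] p :=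
  (congrArg (g 0 • ·) (f2233 H).symm).trans (f1615 H)

theorem f2238 : path g [8, 1, 4, 0] p = path g [3, 1, 9] p :=
  (f2023 H).symm.trans (f2237 H)

theorem f2239 : g 7 • path g [3, 1, 9, 5] p = path g [8, 1, 4] p :=
  (f2120 H).trans (f2233 H)

theorem f2240 : g 7 • path g [8, 1, 4] p = path g [8, 1, 4] p :=
  (congrArg (g 7 • ·) (f2233 H).symm).trans (f2239 H)

theorem f2241 : path g [8, 1, 4, 7] p = path g [8, 1, 4] p :=
  (f2037 H).symm.trans (f2240 H)

theorem f2242 : g 5 • path g [8, 1, 4] p = path g [8, 1, 9] p :=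
  (congrArg (g 5 • ·) (f2233 H).symm).trans (f2115 H)

theorem f2243 : path g [8, 1, 4, 5] p = path g [8, 1, 9] p :=
  (f2035 H).symm.trans (f2242 H)

theorem f2246 : path g [8, 1, 4, 2] p = path g [8, 1, 4] p :=
  (f2231 H).trans (f2233 H)

theorem f2247 : g 2 • path g [8, 1, 4] p = path g [8, 1, 4] p :=
  (f2027 H).trans (f2246 H)

theorem f2249 : g 8 • path g [8, 1, 4] p = path g [3, 6, 9, 0] p :=
  (congrArg (g 8 • ·) (f2233 H).symm).trans (f2161 H)

theorem f2250 : path g [3, 6, 4] p = path g [3, 6, 9, 0] p :=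
  (f1601 H).symm.trans (f2249 H)

theorem f2251 : g 1 • path g [8, 1, 4] p = path g [3, 9, 1, 9] p :=
  (congrArg (g 1 • ·) (f2233 H).symm).trans (f2234 H)

theorem f2252 : path g [8, 1, 4, 1] p = path g [3, 9, 1, 9] p :=
  (f2025 H).symm.trans (f2251 H)

theorem f2254 : g 6 • path g [3, 9, 1, 9] p = path g [8, 1, 4] p :=
  (f2236 H).trans (f2233 H)

theorem f2256 : g 1 • path g [3, 9, 1, 9] p = path g [3, 4, 6, 9] p :=
  (congrArg (g 1 • ·) (f2252 H).symm).trans (f2034 H)

theorem f2258 : g 6 • path g [3, 4, 6, 9] p = path g [3, 9, 1, 9] p :=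
  H.back (i := 1) (by decide) (f2256 H)

theorem f2259 : path g [3, 6, 9, 0] p = path g [3, 6, 4] p :=
  (f2250 H).symm

theorem f2260 : g 5 • path g [3, 6, 4] p = path g [3, 6, 9] p :=
  (congrArg (g 5 • ·) (f2259 H).symm).trans (f1712 H)

theorem f2261 : path g [3, 6, 4, 5] p = path g [3, 6, 9] p :=
  (f1702 H).symm.trans (f2260 H)

theorem f2262 : g 1 • path g [3, 6, 4] p = path g [3, 9, 6, 4] p :=
  (congrArg (g 1 • ·) (f2259 H).symm).trans (f2063 H)

theorem f2263 : path g [3, 6, 4, 1] p = path g [3, 9, 6, 4] p :=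
  (f1698 H).symm.trans (f2262 H)

theorem f2267 : g 0 • path g [3, 6, 4] p = path g [8, 6, 9] p :=
  (congrArg (g 0 • ·) (f2259 H).symm).trans (f2108 H)

theorem f2268 : path g [3, 6, 4, 0] p = path g [8, 6, 9] p :=
  (f1696 H).symm.trans (f2267 H)

theorem f2269 : g 7 • path g [3, 6, 9, 0] p = path g [3, 6, 4] p :=
  (f2111 H).trans (f2259 H)

theorem f2270 : g 7 • path g [3, 6, 4] p = path g [3, 6, 4] p :=
  (congrArg (g 7 • ·) (f2259 H).symm).trans (f2269 H)

theorem f2271 : path g [3, 6, 4, 7] p = path g [3, 6, 4] p :=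
  (f1708 H).symm.trans (f2270 H)

theorem f2272 : g 8 • path g [3, 6, 4] p = path g [3, 1, 9, 0] p :=
  (congrArg (g 8 • ·) (f2259 H).symm).trans (f2171 H)

theorem f2273 : path g [3, 1, 4] p = path g [3, 1, 9, 0] p :=
  (f1578 H).symm.trans (f2272 H)

theorem f2277 : path g [3, 1, 9, 0] p = path g [3, 1, 4] p :=
  (f2273 H).symm

theorem f2278 : g 5 • path g [3, 1, 4] p = path g [3, 1, 9] p :=
  (congrArg (g 5 • ·) (f2277 H).symm).trans (f1610 H)

theorem f2279 : path g [3, 1, 4, 5] p = path g [3, 1, 9] p :=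
  (f1583 H).symm.trans (f2278 H)

theorem f2283 : g 0 • path g [3, 1, 4] p = path g [8, 1, 9] p :=
  (congrArg (g 0 • ·) (f2277 H).symm).trans (f2163 H)

theorem f2284 : path g [3, 1, 4, 0] p = path g [8, 1, 9] p :=
  (f1568 H).symm.trans (f2283 H)

theorem f2292 : g 5 • path g [8, 1, 9] p = path g [3, 1, 4] p :=
  (f2165 H).trans (f2277 H)

theorem f2295 : g 0 • path g [3, 1, 9] p = path g [3, 1, 4] p :=
  (f1609 H).trans (f2277 H)

theorem f2297 : g 2 • path g [3, 6, 4] p = path g [3, 6, 4] p :=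
  (congrArg (g 2 • ·) (f2271 H).symm).trans (f1709 H)

theorem f2298 : path g [3, 6, 4, 2] p = path g [3, 6, 4] p :=
  (f1700 H).symm.trans (f2297 H)

theorem f2300 : g 7 • path g [3, 6, 4] p = path g [3, 6, 4] p :=
  (f1708 H).trans (f2271 H)

theorem f2303 : g 5 • path g [8, 6, 9] p = path g [3, 6, 4] p :=
  (f2110 H).trans (f2259 H)

theorem f2305 : path g [3, 9, 6, 4] p = path g [3, 6, 4, 1] p :=
  (f2263 H).symm

theorem f2306 : g 9 • path g [3, 6, 4, 1] p = path g [3, 9, 6] p :=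
  (congrArg (g 9 • ·) (f2305 H).symm).trans (f1751 H)

theorem f2308 : g 4 • path g [3, 9, 6] p = path g [3, 6, 4, 1] p :=
  H.back (i := 9) (by decide) (f2306 H)

theorem f2309 : g 4 • path g [3, 6, 4, 1] p = path g [3, 1, 9, 1] p :=
  (congrArg (g 4 • ·) (f2305 H).symm).trans (f2198 H)

theorem f2311 : g 9 • path g [3, 1, 9, 1] p = path g [3, 6, 4, 1] p :=
  H.back (i := 4) (by decide) (f2309 H)

theorem f2312 : g 5 • path g [3, 6, 4, 1] p = path g [3, 1, 9, 1] p :=
  (congrArg (g 5 • ·) (f2305 H).symm).trans (f2061 H)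

theorem f2314 : g 0 • path g [3, 1, 9, 1] p = path g [3, 6, 4, 1] p :=
  H.back (i := 5) (by decide) (f2312 H)

theorem f2318 : g 0 • path g [3, 6, 4, 1] p = path g [8, 1, 9, 1] p :=
  (congrArg (g 0 • ·) (f2305 H).symm).trans (f2067 H)

theorem f2320 : g 5 • path g [8, 1, 9, 1] p = path g [3, 6, 4, 1] p :=
  H.back (i := 0) (by decide) (f2318 H)

theorem f2322 : g 0 • path g [3, 6, 9] p = path g [3, 6, 4] p :=
  (f1711 H).trans (f2259 H)

theorem f2325 : g 0 • path g [8, 1, 9] p = path g [8, 1, 4] p :=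
  (f2117 H).trans (f2233 H)

theorem f2330 : g 5 • path g [3, 1, 9] p = path g [8, 1, 4] p :=
  (f1614 H).trans (f2233 H)

theorem f2332 : g 0 • path g [3, 1, 4] p = path g [8, 1, 9] p :=
  (f1568 H).trans (f2284 H)

theorem f2333 : g 2 • path g [3, 6, 4] p = path g [3, 6, 4] p :=
  (f1700 H).trans (f2298 H)

theorem f2334 : g 0 • path g [3, 6, 4] p = path g [8, 6, 9] p :=
  (f1696 H).trans (f2268 H)

theorem f2335 : g 0 • path g [3, 4, 6, 9] p = path g [3, 4, 6, 4] p :=
  scan (u := [0, 2, 0, 1]) (w := [9, 5, 7, 5, 4, 2, 1]) (i := 0) (r11_1_7 H) (step (f2225 H) (step (f2173 H) (step (f2228 H) (step (f2256 H) rfl)))) (step (H.back (i := 4) (by decide) (f1684 H)) (step (H.back (i := 0) (by decide) (f1658 H)) (step (H.back (i := 2) (by decide) (f594 H)) (step (H.back (i := 0) (by decide) (f1631 H)) (step (H.back (i := 9) (by decide) (f1733 H)) (step (H.back (i := 7) (by decide) (f2174 H)) (step (H.back (i := 6) (by decide) (f2216 H)) rfl)))))))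

theorem f2336 : g 5 • path g [3, 4, 6, 4] p = path g [3, 4, 6, 9] p :=
  H.back (i := 0) (by decide) (f2335 H)

theorem f2337 : g 0 • path g [8, 1, 4] p = path g [3, 1, 9] p :=
  (f2023 H).trans (f2238 H)

theorem f2338 : g 0 • path g [3, 4, 1, 4] p = path g [3, 1, 4, 1] p :=
  scan (u := [5, 6]) (w := [6, 5, 6]) (i := 0) (r3_1_2 H) (step (f2227 H) (step (f2216 H) rfl)) (step (H.back (i := 1) (by decide) (f1570 H)) (step (H.back (i := 0) (by decide) (f2295 H)) (step (H.back (i := 1) (by decide) (f1617 H)) rfl)))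

theorem f2339 : g 5 • path g [3, 1, 4, 1] p = path g [3, 4, 1, 4] p :=
  H.back (i := 0) (by decide) (f2338 H)

theorem f2340 : g 7 • path g [3, 6, 4, 1] p = path g [3, 4, 6, 4] p :=
  scan (u := [5, 7, 5]) (w := [5, 7, 5, 7]) (i := 7) (r4_1_0 H) (step (f2227 H) (step (f2219 H) (step (f2320 H) rfl))) (step (H.back (i := 0) (by decide) (f2335 H)) (step (H.back (i := 2) (by decide) (f1744 H)) (step (H.back (i := 0) (by decide) (f2228 H)) (step (H.back (i := 2) (by decide) (f2173 H)) rfl))))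

theorem f2341 : g 2 • path g [3, 4, 6, 4] p = path g [3, 6, 4, 1] p :=
  H.back (i := 7) (by decide) (f2340 H)

theorem f2342 : g 4 • path g [3, 1, 9, 6] p = path g [3, 1, 4, 1] p :=
  scan (u := [5, 9, 2]) (w := [5, 5, 5, 7]) (i := 4) (r10_0_4 H) (step (f2227 H) (step (f1852 H) (step (f1715 H) rfl))) (step (H.back (i := 0) (by decide) (f2338 H)) (step (H.back (i := 0) (by decide) (f2206 H)) (step (H.back (i := 0) (by decide) (f2228 H)) (step (H.back (i := 2) (by decide) (f2173 H)) rfl))))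

theorem f2343 : g 9 • path g [3, 1, 4, 1] p = path g [3, 1, 9, 6] p :=
  H.back (i := 4) (by decide) (f2342 H)

theorem f2344 : g 5 • path g [3, 6, 4] p = path g [3, 6, 9] p :=
  (f1702 H).trans (f2261 H)

theorem f2345 : g 5 • path g [3, 1, 4] p = path g [3, 1, 9] p :=
  (f1583 H).trans (f2279 H)

theorem f2346 : g 4 • path g [3, 1, 4, 1] p = path g [8, 9, 1] p :=
  scan (u := [4]) (w := [4]) (i := 4) (r13_0_0 H) (step (f2342 H) rfl) (step (H.back (i := 9) (by decide) (f2209 H)) rfl)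

theorem f2347 : g 9 • path g [8, 9, 1] p = path g [3, 1, 4, 1] p :=
  H.back (i := 4) (by decide) (f2346 H)

theorem f2348 : g 0 • path g [3, 1, 4, 1] p = path g [3, 6, 9, 1] p :=
  scan (u := [4]) (w := [2, 0, 0, 0, 9, 7]) (i := 0) (r10_1_2 H) (step (f2342 H) rfl) (step (H.back (i := 7) (by decide) (f1716 H)) (step (H.back (i := 5) (by decide) (f2185 H)) (step (H.back (i := 5) (by decide) (f2190 H)) (step (H.back (i := 5) (by decide) (f2222 H)) (step (H.back (i := 4) (by decide) (f1853 H)) (step (H.back (i := 2) (by decide) (f2173 H)) rfl))))))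

theorem f2349 : g 5 • path g [3, 6, 9, 1] p = path g [3, 1, 4, 1] p :=
  H.back (i := 0) (by decide) (f2348 H)

theorem f2350 : path g [3, 1, 4, 6] p = path g [4, 8, 6, 9] p :=
  close (u := [4, 1]) (w := [4, 1, 4, 1, 4, 1, 4, 1, 4, 1, 4, 1]) (r16_0_1 H) (step (f2342 H) (step (f1589 H) rfl)) (step (H.back (i := 9) (by decide) (f2018 H)) (step (H.back (i := 6) (by decide) (f589 H)) (step (H.back (i := 9) (by decide) (f78 H)) (step (H.back (i := 6) (by decide) (f980 H)) (step (H.back (i := 9) (by decide) (f2209 H)) (step (H.back (i := 6) (by decide) (f1616 H)) (step (H.back (i := 9) (by decide) (f142 H)) (step (H.back (i := 6) (by decide) (f40 H)) (step (H.back (i := 9) (by decide) (f217 H)) (step (H.back (i := 6) (by decide) (f1699 H)) (step (H.back (i := 9) (by decide) (f2311 H)) (step (H.back (i := 6) (by decide) (f1618 H)) rfl))))))))))))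

theorem f2351 : path g [4, 8, 6, 9] p = path g [3, 1, 4, 6] p :=
  (f2350 H).symm

theorem f2352 : g 4 • path g [3, 1, 4, 6] p = path g [4, 8, 6] p :=
  (congrArg (g 4 • ·) (f2351 H).symm).trans (f2019 H)

theorem f2354 : g 9 • path g [4, 8, 6] p = path g [3, 1, 4, 6] p :=
  H.back (i := 4) (by decide) (f2352 H)

theorem f2355 : g 9 • path g [3, 1, 4, 6] p = path g [4, 8, 6, 4] p :=
  (congrArg (g 9 • ·) (f2351 H).symm).trans (f2020 H)

theorem f2357 : g 4 • path g [4, 8, 6, 4] p = path g [3, 1, 4, 6] p :=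
  H.back (i := 9) (by decide) (f2355 H)

theorem f2358 : g 2 • path g [3, 1, 4, 1] p = path g [3, 1, 4, 6] p :=
  scan (u := [4]) (w := [1, 4, 2, 1, 4, 5, 5, 5, 6, 7, 5, 6, 7, 2, 1]) (i := 2) (r18_0_10 H) (step (f2342 H) rfl) (step (H.back (i := 6) (by decide) (f1586 H)) (step (H.back (i := 9) (by decide) (f144 H)) (step (H.back (i := 7) (by decide) (f950 H)) (step (H.back (i := 6) (by decide) (f1714 H)) (step (H.back (i := 9) (by decide) (f1852 H)) (step (H.back (i := 0) (by decide) (f2224 H)) (step (H.back (i := 0) (by decide) (f2188 H)) (step (H.back (i := 0) (by decide) (f2187 H)) (step (H.back (i := 1) (by decide) (f1619 H)) (step (H.back (i := 2) (by decide) (f2205 H)) (step (H.back (i := 0) (by decide) (f2187 H)) (step (H.back (i := 1) (by decide) (f1619 H)) (step (H.back (i := 2) (by decide) (f2205 H)) (step (H.back (i := 7) (by decide) (f2203 H)) (step (H.back (i := 6) (by decide) (f1618 H)) rfl)))))))))))))))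

theorem f2359 : g 7 • path g [3, 1, 4, 6] p = path g [3, 1, 4, 1] p :=
  H.back (i := 2) (by decide) (f2358 H)

theorem f2360 : g 5 • path g [8, 1, 4] p = path g [8, 1, 9] p :=
  (f2035 H).trans (f2243 H)

theorem f2361 : g 0 • path g [3, 1, 4, 6] p = path g [4, 8, 6, 4] p :=
  scan (u := [2]) (w := [1, 0, 0, 8, 7, 3, 0, 1, 0]) (i := 0) (r6_1_6 H) (step (f2358 H) rfl) (step (H.back (i := 6) (by decide) (f2065 H)) (step (H.back (i := 5) (by decide) (f1719 H)) (step (H.back (i := 5) (by decide) (f2344 H)) (step (H.back (i := 3) (by decide) (f1580 H)) (step (H.back (i := 2) (by decide) (f2132 H)) (step (H.back (i := 8) (by decide) (f1578 H)) (step (H.back (i := 5) (by decide) (f2303 H)) (step (H.back (i := 6) (by decide) (f2059 H)) (step (H.back (i := 5) (by decide) (f2339 H)) rfl)))))))))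

theorem f2362 : g 5 • path g [4, 8, 6, 4] p = path g [3, 1, 4, 6] p :=
  H.back (i := 0) (by decide) (f2361 H)

theorem f2363 : g 5 • path g [3, 4, 6, 9] p = path g [8, 6, 4, 6] p :=
  scan (u := [2, 1, 0, 9, 6]) (w := [6, 6, 4, 1, 0]) (i := 5) (r12_1_8 H) (step (f2358 H) (step (f1587 H) (step (f2332 H) (step (f611 H) (step (f2031 H) rfl))))) (step (H.back (i := 1) (by decide) (f2088 H)) (step (H.back (i := 1) (by decide) (f2071 H)) (step (H.back (i := 9) (by decide) (f971 H)) (step (H.back (i := 6) (by decide) (f2059 H)) (step (H.back (i := 5) (by decide) (f2339 H)) rfl)))))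

theorem f2364 : g 0 • path g [8, 6, 4, 6] p = path g [3, 4, 6, 9] p :=
  H.back (i := 5) (by decide) (f2363 H)

theorem f2365 : g 7 • path g [8, 1, 4] p = path g [8, 1, 4] p :=
  (f2037 H).trans (f2241 H)

theorem f2366 : g 5 • path g [3, 1, 4, 6] p = path g [3, 6, 4, 6] p :=
  scan (u := [2, 0, 4]) (w := [6, 5, 7, 5, 6, 7, 9, 0]) (i := 5) (r11_0_9 H) (step (f2358 H) (step (f2361 H) (step (f2357 H) rfl))) (step (H.back (i := 1) (by decide) (f1707 H)) (step (H.back (i := 0) (by decide) (f2314 H)) (step (H.back (i := 2) (by decide) (f2205 H)) (step (H.back (i := 0) (by decide) (f2187 H)) (step (H.back (i := 1) (by decide) (f1619 H)) (step (H.back (i := 2) (by decide) (f2205 H)) (step (H.back (i := 4) (by decide) (f1681 H)) (step (H.back (i := 5) (by decide) (f2339 H)) rfl))))))))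

theorem f2367 : g 0 • path g [3, 6, 4, 6] p = path g [3, 1, 4, 6] p :=
  H.back (i := 5) (by decide) (f2366 H)

theorem f2368 : g 2 • path g [4, 8, 1, 9] p = path g [8, 1, 9, 1] p :=
  scan (u := [2, 1, 4, 2, 1, 4]) (w := [1, 4, 5, 5, 5, 6, 7, 5, 6, 7]) (i := 2) (r18_0_8 H) (step (f2358 H) (step (f1587 H) (step (f145 H) (step (f951 H) (step (f1713 H) (step (f1853 H) rfl)))))) (step (H.back (i := 6) (by decide) (f2148 H)) (step (H.back (i := 9) (by decide) (f1742 H)) (step (H.back (i := 0) (by decide) (f2228 H)) (step (H.back (i := 0) (by decide) (f2348 H)) (step (H.back (i := 0) (by decide) (f2338 H)) (step (H.back (i := 1) (by decide) (f2058 H)) (step (H.back (i := 2) (by decide) (f976 H)) (step (H.back (i := 0) (by decide) (f2332 H)) (step (H.back (i := 1) (by decide) (f1587 H)) (step (H.back (i := 2) (by decide) (f2358 H)) rfl))))))))))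

theorem f2369 : g 7 • path g [8, 1, 9, 1] p = path g [4, 8, 1, 9] p :=
  H.back (i := 2) (by decide) (f2368 H)

theorem f2370 : path g [8, 6, 4, 6] p = path g [4, 8, 6, 4] p :=
  close (u := [7, 5, 5, 7, 5]) (w := [5]) (r2_1_2 H) (step (f2359 H) (step (f2339 H) (step (f2207 H) (step (f1746 H) (step (f2363 H) rfl))))) (step (H.back (i := 0) (by decide) (f2361 H)) rfl)

theorem f2371 : g 1 • path g [4, 8, 6, 4] p = path g [8, 6, 4] p :=
  (congrArg (g 1 • ·) (f2370 H).symm).trans (f2086 H)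

theorem f2372 : path g [3, 6, 9, 5] p = path g [8, 6, 4] p :=
  (f2064 H).symm.trans (f2371 H)

theorem f2373 : g 6 • path g [4, 8, 6, 4] p = path g [8, 6, 4, 1] p :=
  (congrArg (g 6 • ·) (f2370 H).symm).trans (f2087 H)

theorem f2375 : g 1 • path g [8, 6, 4, 1] p = path g [4, 8, 6, 4] p :=
  H.back (i := 6) (by decide) (f2373 H)

theorem f2376 : g 0 • path g [4, 8, 6, 4] p = path g [3, 4, 6, 9] p :=
  (congrArg (g 0 • ·) (f2370 H).symm).trans (f2364 H)

theorem f2378 : g 5 • path g [3, 4, 6, 9] p = path g [4, 8, 6, 4] p :=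
  H.back (i := 0) (by decide) (f2376 H)

theorem f2379 : g 0 • path g [8, 6, 4] p = path g [3, 6, 9] p :=
  (congrArg (g 0 • ·) (f2372 H).symm).trans (f1720 H)

theorem f2380 : path g [8, 6, 4, 0] p = path g [3, 6, 9] p :=
  (f2069 H).symm.trans (f2379 H)

theorem f2382 : g 6 • path g [8, 6, 4] p = path g [4, 8, 6, 4] p :=
  (f2085 H).trans (f2370 H)

theorem f2384 : g 7 • path g [8, 6, 4] p = path g [8, 6, 9, 0] p :=
  (congrArg (g 7 • ·) (f2372 H).symm).trans (f2094 H)

theorem f2385 : path g [8, 6, 4] p = path g [8, 6, 9, 0] p :=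
  (f2125 H).symm.trans (f2384 H)

theorem f2386 : path g [8, 6, 9, 0] p = path g [8, 6, 4] p :=
  (f2385 H).symm

theorem f2387 : g 5 • path g [8, 6, 4] p = path g [8, 6, 9] p :=
  (congrArg (g 5 • ·) (f2386 H).symm).trans (f2092 H)

theorem f2388 : path g [8, 6, 4, 5] p = path g [8, 6, 9] p :=
  (f2083 H).symm.trans (f2387 H)

theorem f2393 : g 0 • path g [8, 6, 9] p = path g [8, 6, 4] p :=
  (f2091 H).trans (f2386 H)

theorem f2396 : g 5 • path g [3, 6, 9] p = path g [8, 6, 4] p :=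
  (f1719 H).trans (f2372 H)

theorem f2398 : g 1 • path g [8, 1, 4] p = path g [3, 9, 1, 9] p :=
  (f2025 H).trans (f2252 H)

theorem f2399 : g 5 • path g [3, 1, 9, 1] p = path g [8, 6, 4, 1] p :=
  scan (u := [7, 9, 0, 2, 0, 4]) (w := [6, 5, 7, 5, 6]) (i := 5) (r11_0_6 H) (step (f2359 H) (step (f2343 H) (step (f2187 H) (step (f2205 H) (step (f2314 H) (step (f2309 H) rfl)))))) (step (H.back (i := 1) (by decide) (f2071 H)) (step (H.back (i := 0) (by decide) (f2393 H)) (step (H.back (i := 2) (by decide) (f976 H)) (step (H.back (i := 0) (by decide) (f2332 H)) (step (H.back (i := 1) (by decide) (f1587 H)) rfl)))))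

theorem f2400 : g 0 • path g [8, 6, 4, 1] p = path g [3, 1, 9, 1] p :=
  H.back (i := 5) (by decide) (f2399 H)

theorem f2401 : g 5 • path g [8, 6, 4, 1] p = path g [8, 1, 9, 1] p :=
  scan (u := [5]) (w := [7, 5, 5, 7]) (i := 5) (r2_1_0 H) (step (f2399 H) rfl) (step (H.back (i := 2) (by decide) (f2368 H)) (step (H.back (i := 0) (by decide) (f2224 H)) (step (H.back (i := 0) (by decide) (f2188 H)) (step (H.back (i := 2) (by decide) (f2200 H)) rfl))))

theorem f2402 : g 0 • path g [8, 1, 9, 1] p = path g [8, 6, 4, 1] p :=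
  H.back (i := 5) (by decide) (f2401 H)

theorem f2403 : g 5 • path g [8, 6, 4] p = path g [8, 6, 9] p :=
  (f2083 H).trans (f2388 H)

theorem f2404 : g 0 • path g [8, 6, 4] p = path g [3, 6, 9] p :=
  (f2069 H).trans (f2380 H)

theorem f2405 : g 7 • path g [8, 6, 4, 1] p = path g [4, 8, 6, 4] p :=
  scan (u := [5]) (w := [5, 7, 5, 7, 5, 7]) (i := 7) (r4_1_0 H) (step (f2399 H) rfl) (step (H.back (i := 0) (by decide) (f2361 H)) (step (H.back (i := 2) (by decide) (f2358 H)) (step (H.back (i := 0) (by decide) (f2338 H)) (step (H.back (i := 2) (by decide) (f2175 H)) (step (H.back (i := 0) (by decide) (f2188 H)) (step (H.back (i := 2) (by decide) (f2200 H)) rfl))))))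

theorem f2406 : g 2 • path g [4, 8, 6, 4] p = path g [8, 6, 4, 1] p :=
  H.back (i := 7) (by decide) (f2405 H)

theorem f2407 : g 9 • path g [8, 6, 4, 1] p = path g [8, 9, 6] p :=
  scan (u := [5]) (w := [2, 4, 5, 5, 5, 7]) (i := 9) (r10_0_4 H) (step (f2399 H) rfl) (step (H.back (i := 7) (by decide) (f1667 H)) (step (H.back (i := 9) (by decide) (f2209 H)) (step (H.back (i := 0) (by decide) (f2225 H)) (step (H.back (i := 0) (by decide) (f2224 H)) (step (H.back (i := 0) (by decide) (f2188 H)) (step (H.back (i := 2) (by decide) (f2200 H)) rfl))))))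

theorem f2408 : g 4 • path g [8, 9, 6] p = path g [8, 6, 4, 1] p :=
  H.back (i := 9) (by decide) (f2407 H)

theorem f2409 : g 2 • path g [8, 6, 4, 1] p = path g [4, 8, 6, 4] p :=
  scan (u := [5, 6, 7, 5, 6, 7, 0]) (w := [1, 0, 2, 1]) (i := 2) (r5_0_0 H) (step (f2399 H) (step (f2072 H) (step (f2125 H) (step (f2403 H) (step (f2215 H) (step (f2219 H) (step (f2402 H) rfl))))))) (step (H.back (i := 6) (by decide) (f2382 H)) (step (H.back (i := 5) (by decide) (f2396 H)) (step (H.back (i := 7) (by decide) (f946 H)) (step (H.back (i := 6) (by decide) (f1612 H)) rfl))))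

theorem f2410 : g 7 • path g [4, 8, 6, 4] p = path g [8, 6, 4, 1] p :=
  H.back (i := 2) (by decide) (f2409 H)

theorem f2411 : g 2 • path g [3, 6, 4, 1] p = path g [3, 6, 4, 6] p :=
  scan (u := [5, 6, 7, 0, 2, 1, 0]) (w := [1, 5, 6, 7]) (i := 2) (r5_0_3 H) (step (f2399 H) (step (f2072 H) (step (f2125 H) (step (f2404 H) (step (f945 H) (step (f1611 H) (step (f2314 H) rfl))))))) (step (H.back (i := 6) (by decide) (f1704 H)) (step (H.back (i := 0) (by decide) (f2322 H)) (step (H.back (i := 1) (by decide) (f2177 H)) (step (H.back (i := 2) (by decide) (f2200 H)) rfl))))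

theorem f2412 : g 7 • path g [3, 6, 4, 6] p = path g [3, 6, 4, 1] p :=
  H.back (i := 2) (by decide) (f2411 H)

theorem f2413 : g 1 • path g [4, 8, 6, 4] p = path g [8, 6, 4] p :=
  (f2064 H).trans (f2372 H)

theorem f2414 : g 7 • path g [3, 1, 4, 1] p = path g [3, 1, 4, 6] p :=
  scan (u := [5, 7, 5, 6]) (w := [9, 0, 2, 0, 4, 5, 6]) (i := 7) (r11_0_2 H) (step (f2399 H) (step (f2405 H) (step (f2362 H) (step (f1588 H) rfl)))) (step (H.back (i := 4) (by decide) (f2357 H)) (step (H.back (i := 5) (by decide) (f2378 H)) (step (H.back (i := 7) (by decide) (f1746 H)) (step (H.back (i := 5) (by decide) (f2207 H)) (step (H.back (i := 9) (by decide) (f1680 H)) (step (H.back (i := 0) (by decide) (f2187 H)) (step (H.back (i := 1) (by decide) (f1619 H)) rfl)))))))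

theorem f2415 : g 2 • path g [3, 1, 4, 6] p = path g [3, 1, 4, 1] p :=
  H.back (i := 7) (by decide) (f2414 H)

theorem f2416 : path g [3, 6, 4, 6] p = path g [3, 4, 6, 4] p :=
  close (u := [7, 5]) (w := [5, 7, 5, 5]) (r2_1_2 H) (step (f2414 H) (step (f2366 H) rfl)) (step (H.back (i := 0) (by decide) (f2335 H)) (step (H.back (i := 2) (by decide) (f1744 H)) (step (H.back (i := 0) (by decide) (f2228 H)) (step (H.back (i := 0) (by decide) (f2348 H)) rfl))))

theorem f2417 : g 1 • path g [3, 4, 6, 4] p = path g [3, 6, 4] p :=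
  (congrArg (g 1 • ·) (f2416 H).symm).trans (f1705 H)

theorem f2419 : g 6 • path g [3, 6, 4] p = path g [3, 4, 6, 4] p :=
  H.back (i := 1) (by decide) (f2417 H)

theorem f2420 : g 6 • path g [3, 4, 6, 4] p = path g [3, 6, 4, 1] p :=
  (congrArg (g 6 • ·) (f2416 H).symm).trans (f1706 H)

theorem f2422 : g 1 • path g [3, 6, 4, 1] p = path g [3, 4, 6, 4] p :=
  H.back (i := 6) (by decide) (f2420 H)

theorem f2423 : g 0 • path g [3, 4, 6, 4] p = path g [3, 1, 4, 6] p :=
  (congrArg (g 0 • ·) (f2416 H).symm).trans (f2367 H)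

theorem f2425 : g 5 • path g [3, 1, 4, 6] p = path g [3, 4, 6, 4] p :=
  H.back (i := 0) (by decide) (f2423 H)

theorem f2426 : g 7 • path g [3, 4, 6, 4] p = path g [3, 6, 4, 1] p :=
  (congrArg (g 7 • ·) (f2416 H).symm).trans (f2412 H)

theorem f2428 : g 2 • path g [3, 6, 4, 1] p = path g [3, 4, 6, 4] p :=
  H.back (i := 7) (by decide) (f2426 H)

theorem f2429 : g 9 • path g [8, 9, 6] p = path g [8, 1, 9, 1] p :=
  scan (u := [6, 9, 6, 9, 6, 9, 6, 9, 6]) (w := [6, 9, 6, 9]) (i := 9) (r16_1_1 H) (step (f2420 H) (step (f2306 H) (step (f244 H) (step (f1740 H) (step (f2254 H) (step (f600 H) (step (f69 H) (step (f76 H) (step (f993 H) rfl))))))))) (step (H.back (i := 1) (by decide) (f2044 H)) (step (H.back (i := 4) (by decide) (f612 H)) (step (H.back (i := 1) (by decide) (f2032 H)) (step (H.back (i := 4) (by decide) (f1695 H)) rfl))))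

theorem f2430 : g 4 • path g [8, 1, 9, 1] p = path g [8, 9, 6] p :=
  H.back (i := 9) (by decide) (f2429 H)

theorem f2431 : g 3 • path g [8, 9, 1] p = path g [8, 9, 1, 3] p :=
  rfl

theorem f2432 : g 8 • path g [8, 9, 1, 3] p = path g [8, 9, 1] p :=
  H.back (i := 3) (by decide) (f2431 H)

theorem f2433 : g 6 • path g [8, 9, 1, 3] p = path g [9, 1, 3] p :=
  scan (u := [3]) (w := [5, 7, 5, 6, 8, 0]) (i := 6) (r7_0_7 H) (step (f2431 H) rfl) (step (H.back (i := 0) (by decide) (f2010 H)) (step (H.back (i := 2) (by decide) (f1977 H)) (step (H.back (i := 0) (by decide) (f2005 H)) (step (H.back (i := 1) (by decide) (f1994 H)) (step (H.back (i := 3) (by decide) (f1670 H)) (step (H.back (i := 5) (by decide) (f1624 H)) rfl))))))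

theorem f2434 : g 1 • path g [9, 1, 3] p = path g [8, 9, 1, 3] p :=
  H.back (i := 6) (by decide) (f2433 H)

theorem f2435 : g 1 • path g [8, 9, 1, 3] p = path g [3, 9, 1, 3] p :=
  scan (u := [3]) (w := [0, 2, 0, 1, 8, 5]) (i := 1) (r7_1_2 H) (step (f2431 H) rfl) (step (H.back (i := 5) (by decide) (f1838 H)) (step (H.back (i := 7) (by decide) (f1840 H)) (step (H.back (i := 5) (by decide) (f1956 H)) (step (H.back (i := 6) (by decide) (f1997 H)) (step (H.back (i := 3) (by decide) (f1670 H)) (step (H.back (i := 0) (by decide) (f1655 H)) rfl))))))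

theorem f2436 : g 6 • path g [3, 9, 1, 3] p = path g [8, 9, 1, 3] p :=
  H.back (i := 1) (by decide) (f2435 H)

theorem f2437 : g 0 • path g [8, 9, 1, 3] p = path g [3, 4, 6, 3] p :=
  scan (u := [3]) (w := [2, 8, 6, 5, 7, 5, 6]) (i := 0) (r8_1_6 H) (step (f2431 H) rfl) (step (H.back (i := 7) (by decide) (f1911 H)) (step (H.back (i := 3) (by decide) (f1898 H)) (step (H.back (i := 1) (by decide) (f592 H)) (step (H.back (i := 0) (by decide) (f1631 H)) (step (H.back (i := 2) (by decide) (f1664 H)) (step (H.back (i := 0) (by decide) (f1647 H)) (step (H.back (i := 1) (by decide) (f996 H)) rfl)))))))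

theorem f2438 : g 5 • path g [3, 4, 6, 3] p = path g [8, 9, 1, 3] p :=
  H.back (i := 0) (by decide) (f2437 H)

theorem f2439 : g 7 • path g [3, 9, 1, 3] p = path g [8, 9, 1, 3] p :=
  scan (u := [0, 2, 1, 0, 2, 1, 5, 6, 7, 5, 6]) (w := []) (i := 7) (r5_0_6 H) (step (f2437 H) (step (f1909 H) (step (f1833 H) (step (f577 H) (step (f582 H) (step (f1918 H) (step (f1691 H) (step (f1883 H) (step (f1870 H) (step (f1888 H) (step (f2017 H) rfl))))))))))) rfl

theorem f2440 : g 2 • path g [8, 9, 1, 3] p = path g [3, 9, 1, 3] p :=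
  H.back (i := 7) (by decide) (f2439 H)

theorem f2441 : g 5 • path g [8, 9, 1, 3] p = path g [3, 9, 6, 3] p :=
  scan (u := [7]) (w := [5, 7, 5, 5]) (i := 5) (r2_1_2 H) (step (f2439 H) rfl) (step (H.back (i := 0) (by decide) (f1953 H)) (step (H.back (i := 2) (by decide) (f2004 H)) (step (H.back (i := 0) (by decide) (f2002 H)) (step (H.back (i := 0) (by decide) (f1839 H)) rfl))))

theorem f2442 : g 0 • path g [3, 9, 6, 3] p = path g [8, 9, 1, 3] p :=
  H.back (i := 5) (by decide) (f2441 H)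

theorem f2443 : g 2 • path g [3, 9, 1, 3] p = path g [8, 9, 1, 3] p :=
  scan (u := [1, 0, 2, 1, 0, 6, 7, 5, 6, 7, 5]) (w := []) (i := 2) (r5_1_7 H) (step (f2435 H) (step (f1839 H) (step (f1841 H) (step (f1906 H) (step (f1930 H) (step (f1887 H) (step (f1820 H) (step (f1932 H) (step (f1908 H) (step (f1840 H) (step (f1838 H) rfl))))))))))) rfl

theorem f2444 : g 7 • path g [8, 9, 1, 3] p = path g [3, 9, 1, 3] p :=
  H.back (i := 2) (by decide) (f2443 H)

theorem f2445 : g 8 • path g [8, 9, 1] p = path g [8, 9, 1, 8] p :=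
  rfl

theorem f2446 : g 3 • path g [8, 9, 1, 8] p = path g [8, 9, 1] p :=
  H.back (i := 8) (by decide) (f2445 H)

theorem f2447 : g 8 • path g [8, 9, 1, 8] p = path g [8, 9, 1, 3] p :=
  scan (u := [8]) (w := [8]) (i := 8) (r9_1_0 H) (step (f2445 H) rfl) (step (H.back (i := 3) (by decide) (f2431 H)) rfl)

theorem f2448 : g 3 • path g [8, 9, 1, 3] p = path g [8, 9, 1, 8] p :=
  H.back (i := 8) (by decide) (f2447 H)

theorem f2449 : g 0 • path g [8, 9, 1, 8] p = path g [4, 1, 8, 6] p :=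
  scan (u := [8]) (w := [3, 6, 5, 7, 5, 6]) (i := 0) (r7_0_5 H) (step (f2445 H) rfl) (step (H.back (i := 8) (by decide) (f1926 H)) (step (H.back (i := 1) (by decide) (f592 H)) (step (H.back (i := 0) (by decide) (f1631 H)) (step (H.back (i := 2) (by decide) (f1664 H)) (step (H.back (i := 0) (by decide) (f1647 H)) (step (H.back (i := 1) (by decide) (f996 H)) rfl))))))

theorem f2450 : g 5 • path g [4, 1, 8, 6] p = path g [8, 9, 1, 8] p :=
  H.back (i := 0) (by decide) (f2449 H)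

theorem f2451 : g 1 • path g [8, 9, 1, 8] p = path g [9, 6, 3] p :=
  scan (u := [8]) (w := [0, 2, 0, 1, 3, 7, 5]) (i := 1) (r8_0_2 H) (step (f2445 H) rfl) (step (H.back (i := 5) (by decide) (f2011 H)) (step (H.back (i := 7) (by decide) (f2013 H)) (step (H.back (i := 5) (by decide) (f1888 H)) (step (H.back (i := 6) (by decide) (f1883 H)) (step (H.back (i := 8) (by decide) (f1686 H)) (step (H.back (i := 2) (by decide) (f1653 H)) (step (H.back (i := 0) (by decide) (f1655 H)) rfl)))))))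

theorem f2452 : g 6 • path g [9, 6, 3] p = path g [8, 9, 1, 8] p :=
  H.back (i := 1) (by decide) (f2451 H)

theorem f2453 : g 6 • path g [8, 9, 1, 8] p = path g [3, 9, 6, 8] p :=
  scan (u := [8]) (w := [5, 8, 6, 5, 8, 6, 5]) (i := 6) (r17_1_0 H) (step (f2445 H) rfl) (step (H.back (i := 0) (by decide) (f1759 H)) (step (H.back (i := 3) (by decide) (f1677 H)) (step (H.back (i := 1) (by decide) (f1999 H)) (step (H.back (i := 0) (by decide) (f1958 H)) (step (H.back (i := 3) (by decide) (f1682 H)) (step (H.back (i := 1) (by decide) (f183 H)) (step (H.back (i := 0) (by decide) (f1655 H)) rfl)))))))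

theorem f2454 : g 1 • path g [3, 9, 6, 8] p = path g [8, 9, 1, 8] p :=
  H.back (i := 6) (by decide) (f2453 H)

theorem f2455 : g 2 • path g [8, 9, 1, 8] p = path g [3, 9, 6, 8] p :=
  scan (u := [8]) (w := [3, 5, 5, 6, 5, 7, 5, 6, 5]) (i := 2) (r6_0_8 H) (step (f2445 H) rfl) (step (H.back (i := 8) (by decide) (f1752 H)) (step (H.back (i := 0) (by decide) (f1647 H)) (step (H.back (i := 0) (by decide) (f1651 H)) (step (H.back (i := 1) (by decide) (f245 H)) (step (H.back (i := 0) (by decide) (f1660 H)) (step (H.back (i := 2) (by decide) (f1666 H)) (step (H.back (i := 0) (by decide) (f1649 H)) (step (H.back (i := 1) (by decide) (f183 H)) (step (H.back (i := 0) (by decide) (f1655 H)) rfl)))))))))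

theorem f2456 : g 7 • path g [3, 9, 6, 8] p = path g [8, 9, 1, 8] p :=
  H.back (i := 2) (by decide) (f2455 H)

theorem f2457 : g 7 • path g [8, 9, 1, 8] p = path g [3, 9, 6, 8] p :=
  scan (u := [8]) (w := [3, 0, 1, 0, 2, 0, 1, 0, 0]) (i := 7) (r6_1_0 H) (step (f2445 H) rfl) (step (H.back (i := 8) (by decide) (f1752 H)) (step (H.back (i := 5) (by decide) (f1652 H)) (step (H.back (i := 6) (by decide) (f993 H)) (step (H.back (i := 5) (by decide) (f1143 H)) (step (H.back (i := 7) (by decide) (f561 H)) (step (H.back (i := 5) (by decide) (f1629 H)) (step (H.back (i := 6) (by decide) (f980 H)) (step (H.back (i := 5) (by decide) (f1656 H)) (step (H.back (i := 5) (by decide) (f1624 H)) rfl)))))))))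

theorem f2458 : g 2 • path g [3, 9, 6, 8] p = path g [8, 9, 1, 8] p :=
  H.back (i := 7) (by decide) (f2457 H)

theorem f2460 : g 3 • path g [8, 9, 6] p = path g [8, 9, 6, 3] p :=
  rfl

theorem f2461 : g 8 • path g [8, 9, 6, 3] p = path g [8, 9, 6] p :=
  H.back (i := 3) (by decide) (f2460 H)

theorem f2462 : g 1 • path g [8, 9, 6, 3] p = path g [9, 6, 8] p :=
  scan (u := [3]) (w := [0, 2, 0, 1, 8, 5]) (i := 1) (r7_1_2 H) (step (f2460 H) rfl) (step (H.back (i := 5) (by decide) (f1340 H)) (step (H.back (i := 7) (by decide) (f1347 H)) (step (H.back (i := 5) (by decide) (f1340 H)) (step (H.back (i := 6) (by decide) (f2014 H)) (step (H.back (i := 3) (by decide) (f1748 H)) (step (H.back (i := 0) (by decide) (f1647 H)) rfl))))))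

theorem f2463 : g 6 • path g [9, 6, 8] p = path g [8, 9, 6, 3] p :=
  H.back (i := 1) (by decide) (f2462 H)

theorem f2464 : g 7 • path g [8, 9, 6, 3] p = path g [3, 9, 6, 3] p :=
  scan (u := [3]) (w := [5, 8, 1, 0, 2, 0, 1]) (i := 7) (r8_0_8 H) (step (f2460 H) rfl) (step (H.back (i := 0) (by decide) (f1953 H)) (step (H.back (i := 3) (by decide) (f1949 H)) (step (H.back (i := 6) (by decide) (f591 H)) (step (H.back (i := 5) (by decide) (f1657 H)) (step (H.back (i := 7) (by decide) (f1661 H)) (step (H.back (i := 5) (by decide) (f1624 H)) (step (H.back (i := 6) (by decide) (f995 H)) rfl)))))))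

theorem f2465 : g 2 • path g [3, 9, 6, 3] p = path g [8, 9, 6, 3] p :=
  H.back (i := 7) (by decide) (f2464 H)

theorem f2466 : g 0 • path g [8, 9, 6, 3] p = path g [3, 9, 1, 3] p :=
  scan (u := [3]) (w := [2, 8, 6, 5, 7, 5, 6]) (i := 0) (r8_1_6 H) (step (f2460 H) rfl) (step (H.back (i := 7) (by decide) (f2444 H)) (step (H.back (i := 3) (by decide) (f2431 H)) (step (H.back (i := 1) (by decide) (f979 H)) (step (H.back (i := 0) (by decide) (f1149 H)) (step (H.back (i := 2) (by decide) (f562 H)) (step (H.back (i := 0) (by decide) (f1628 H)) (step (H.back (i := 1) (by decide) (f994 H)) rfl)))))))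

theorem f2467 : g 5 • path g [3, 9, 1, 3] p = path g [8, 9, 6, 3] p :=
  H.back (i := 0) (by decide) (f2466 H)

theorem f2468 : g 5 • path g [8, 9, 6, 3] p = path g [3, 4, 1, 3] p :=
  scan (u := [3]) (w := [5, 6, 5, 7, 5, 6, 5, 8, 2]) (i := 5) (r6_0_10 H) (step (f2460 H) rfl) (step (H.back (i := 0) (by decide) (f2002 H)) (step (H.back (i := 1) (by decide) (f1921 H)) (step (H.back (i := 0) (by decide) (f1690 H)) (step (H.back (i := 2) (by decide) (f1821 H)) (step (H.back (i := 0) (by decide) (f1930 H)) (step (H.back (i := 1) (by decide) (f1906 H)) (step (H.back (i := 0) (by decide) (f2437 H)) (step (H.back (i := 3) (by decide) (f2431 H)) (step (H.back (i := 7) (by decide) (f997 H)) rfl)))))))))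

theorem f2469 : g 0 • path g [3, 4, 1, 3] p = path g [8, 9, 6, 3] p :=
  H.back (i := 5) (by decide) (f2468 H)

theorem f2470 : g 7 • path g [3, 9, 6, 3] p = path g [8, 9, 6, 3] p :=
  scan (u := [5, 5, 7, 5, 5]) (w := []) (i := 7) (r2_1_0 H) (step (f2468 H) (step (f2000 H) (step (f1911 H) (step (f2438 H) (step (f2441 H) rfl))))) rfl

theorem f2471 : g 2 • path g [8, 9, 6, 3] p = path g [3, 9, 6, 3] p :=
  H.back (i := 7) (by decide) (f2470 H)

theorem f2472 : g 1 • path g [3, 9, 1, 8] p = path g [8, 9, 6, 3] p :=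
  scan (u := [5, 1, 0, 1, 0]) (w := []) (i := 1) (r3_0_1 H) (step (f2468 H) (step (f1994 H) (step (f2005 H) (step (f1980 H) (step (f1756 H) rfl))))) rfl

theorem f2473 : g 6 • path g [8, 9, 6, 3] p = path g [3, 9, 1, 8] p :=
  H.back (i := 1) (by decide) (f2472 H)

theorem f2474 : g 8 • path g [8, 9, 6] p = path g [8, 9, 6, 8] p :=
  rfl

theorem f2475 : g 3 • path g [8, 9, 6, 8] p = path g [8, 9, 6] p :=
  H.back (i := 8) (by decide) (f2474 H)

theorem f2476 : g 8 • path g [8, 9, 6, 8] p = path g [8, 9, 6, 3] p :=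
  scan (u := [8]) (w := [8]) (i := 8) (r9_1_0 H) (step (f2474 H) rfl) (step (H.back (i := 3) (by decide) (f2460 H)) rfl)

theorem f2477 : g 3 • path g [8, 9, 6, 3] p = path g [8, 9, 6, 8] p :=
  H.back (i := 8) (by decide) (f2476 H)

theorem f2478 : g 0 • path g [8, 9, 6, 8] p = path g [8, 9, 1, 8] p :=
  scan (u := [8]) (w := [3, 6, 5, 7, 5, 6]) (i := 0) (r7_0_5 H) (step (f2474 H) rfl) (step (H.back (i := 8) (by decide) (f2445 H)) (step (H.back (i := 1) (by decide) (f979 H)) (step (H.back (i := 0) (by decide) (f1149 H)) (step (H.back (i := 2) (by decide) (f562 H)) (step (H.back (i := 0) (by decide) (f1628 H)) (step (H.back (i := 1) (by decide) (f994 H)) rfl))))))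

theorem f2479 : g 5 • path g [8, 9, 1, 8] p = path g [8, 9, 6, 8] p :=
  H.back (i := 0) (by decide) (f2478 H)

theorem f2480 : g 5 • path g [8, 9, 6, 8] p = path g [4, 6, 3, 6] p :=
  scan (u := [8]) (w := [3, 1, 0, 2, 0, 1]) (i := 5) (r7_1_0 H) (step (f2474 H) rfl) (step (H.back (i := 8) (by decide) (f1817 H)) (step (H.back (i := 6) (by decide) (f591 H)) (step (H.back (i := 5) (by decide) (f1657 H)) (step (H.back (i := 7) (by decide) (f1661 H)) (step (H.back (i := 5) (by decide) (f1624 H)) (step (H.back (i := 6) (by decide) (f995 H)) rfl))))))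

theorem f2481 : g 0 • path g [4, 6, 3, 6] p = path g [8, 9, 6, 8] p :=
  H.back (i := 5) (by decide) (f2480 H)

theorem f2482 : g 1 • path g [8, 9, 6, 8] p = path g [9, 1, 8] p :=
  scan (u := [8]) (w := [0, 2, 0, 1, 3, 7, 5]) (i := 1) (r8_0_2 H) (step (f2474 H) rfl) (step (H.back (i := 5) (by decide) (f1349 H)) (step (H.back (i := 7) (by decide) (f580 H)) (step (H.back (i := 5) (by decide) (f1341 H)) (step (H.back (i := 6) (by decide) (f1941 H)) (step (H.back (i := 8) (by decide) (f1734 H)) (step (H.back (i := 2) (by decide) (f1664 H)) (step (H.back (i := 0) (by decide) (f1647 H)) rfl)))))))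

theorem f2483 : g 6 • path g [9, 1, 8] p = path g [8, 9, 6, 8] p :=
  H.back (i := 1) (by decide) (f2482 H)

theorem f2484 : g 6 • path g [8, 9, 6, 8] p = path g [3, 9, 6, 3] p :=
  scan (u := [8]) (w := [5, 7, 5, 6, 3, 0, 2]) (i := 6) (r8_1_0 H) (step (f2474 H) rfl) (step (H.back (i := 0) (by decide) (f1953 H)) (step (H.back (i := 2) (by decide) (f2004 H)) (step (H.back (i := 0) (by decide) (f2002 H)) (step (H.back (i := 1) (by decide) (f1921 H)) (step (H.back (i := 8) (by decide) (f1674 H)) (step (H.back (i := 5) (by decide) (f1624 H)) (step (H.back (i := 7) (by decide) (f997 H)) rfl)))))))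

theorem f2485 : g 1 • path g [3, 9, 6, 3] p = path g [8, 9, 6, 8] p :=
  H.back (i := 6) (by decide) (f2484 H)

theorem f2486 : g 2 • path g [8, 9, 6, 8] p = path g [3, 9, 1, 8] p :=
  scan (u := [8]) (w := [3, 5, 5, 6, 5, 7, 5, 6, 5]) (i := 2) (r6_0_8 H) (step (f2474 H) rfl) (step (H.back (i := 8) (by decide) (f1734 H)) (step (H.back (i := 0) (by decide) (f1660 H)) (step (H.back (i := 0) (by decide) (f1631 H)) (step (H.back (i := 1) (by decide) (f236 H)) (step (H.back (i := 0) (by decide) (f1622 H)) (step (H.back (i := 2) (by decide) (f1636 H)) (step (H.back (i := 0) (by decide) (f1641 H)) (step (H.back (i := 1) (by decide) (f243 H)) (step (H.back (i := 0) (by decide) (f1647 H)) rfl)))))))))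

theorem f2487 : g 7 • path g [3, 9, 1, 8] p = path g [8, 9, 6, 8] p :=
  H.back (i := 2) (by decide) (f2486 H)

theorem f2488 : g 7 • path g [8, 9, 6, 8] p = path g [3, 9, 1, 8] p :=
  scan (u := [8]) (w := [3, 0, 1, 0, 2, 0, 1, 0, 0]) (i := 7) (r6_1_0 H) (step (f2474 H) rfl) (step (H.back (i := 8) (by decide) (f1734 H)) (step (H.back (i := 5) (by decide) (f1630 H)) (step (H.back (i := 6) (by decide) (f591 H)) (step (H.back (i := 5) (by decide) (f1657 H)) (step (H.back (i := 7) (by decide) (f1661 H)) (step (H.back (i := 5) (by decide) (f1624 H)) (step (H.back (i := 6) (by decide) (f995 H)) (step (H.back (i := 5) (by decide) (f1648 H)) (step (H.back (i := 5) (by decide) (f1652 H)) rfl)))))))))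

theorem f2489 : g 2 • path g [3, 9, 1, 8] p = path g [8, 9, 6, 8] p :=
  H.back (i := 7) (by decide) (f2488 H)

theorem f2490 : g 3 • path g [3, 1, 4, 1] p = path g [3, 1, 4, 1, 3] p :=
  rfl

theorem f2491 : g 8 • path g [3, 1, 4, 1, 3] p = path g [3, 1, 4, 1] p :=
  H.back (i := 3) (by decide) (f2490 H)

theorem f2492 : g 4 • path g [3, 1, 4, 1, 3] p = path g [8, 9, 1, 3] p :=
  scan (u := [3]) (w := [8, 9]) (i := 4) (r14_1_2 H) (step (f2490 H) rfl) (step (H.back (i := 3) (by decide) (f2431 H)) (step (H.back (i := 4) (by decide) (f2346 H)) rfl))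

theorem f2493 : g 9 • path g [8, 9, 1, 3] p = path g [3, 1, 4, 1, 3] p :=
  H.back (i := 4) (by decide) (f2492 H)

theorem f2494 : g 8 • path g [3, 1, 4, 1] p = path g [3, 1, 4, 1, 8] p :=
  rfl

theorem f2495 : g 3 • path g [3, 1, 4, 1, 8] p = path g [3, 1, 4, 1] p :=
  H.back (i := 8) (by decide) (f2494 H)

theorem f2496 : g 8 • path g [3, 1, 4, 1, 8] p = path g [3, 1, 4, 1, 3] p :=
  scan (u := [8]) (w := [8]) (i := 8) (r9_1_0 H) (step (f2494 H) rfl) (step (H.back (i := 3) (by decide) (f2490 H)) rfl)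

theorem f2497 : g 3 • path g [3, 1, 4, 1, 3] p = path g [3, 1, 4, 1, 8] p :=
  H.back (i := 8) (by decide) (f2496 H)

theorem f2498 : g 4 • path g [3, 1, 4, 1, 8] p = path g [8, 9, 1, 8] p :=
  scan (u := [8]) (w := [3, 9]) (i := 4) (r14_0_1 H) (step (f2494 H) rfl) (step (H.back (i := 8) (by decide) (f2445 H)) (step (H.back (i := 4) (by decide) (f2346 H)) rfl))

theorem f2499 : g 9 • path g [8, 9, 1, 8] p = path g [3, 1, 4, 1, 8] p :=
  H.back (i := 4) (by decide) (f2498 H)

theorem f2500 : g 3 • path g [3, 1, 4, 6] p = path g [3, 1, 4, 6, 3] p :=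
  rfl

theorem f2501 : g 8 • path g [3, 1, 4, 6, 3] p = path g [3, 1, 4, 6] p :=
  H.back (i := 3) (by decide) (f2500 H)

theorem f2502 : g 4 • path g [3, 1, 4, 6, 3] p = path g [4, 6, 8, 6] p :=
  scan (u := [3]) (w := [8, 9]) (i := 4) (r14_1_2 H) (step (f2500 H) rfl) (step (H.back (i := 3) (by decide) (f1898 H)) (step (H.back (i := 4) (by decide) (f2352 H)) rfl))

theorem f2503 : g 9 • path g [4, 6, 8, 6] p = path g [3, 1, 4, 6, 3] p :=
  H.back (i := 4) (by decide) (f2502 H)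

theorem f2504 : g 8 • path g [3, 1, 4, 6] p = path g [3, 1, 4, 6, 8] p :=
  rfl

theorem f2505 : g 3 • path g [3, 1, 4, 6, 8] p = path g [3, 1, 4, 6] p :=
  H.back (i := 8) (by decide) (f2504 H)

theorem f2506 : g 8 • path g [3, 1, 4, 6, 8] p = path g [3, 1, 4, 6, 3] p :=
  scan (u := [8]) (w := [8]) (i := 8) (r9_1_0 H) (step (f2504 H) rfl) (step (H.back (i := 3) (by decide) (f2500 H)) rfl)

theorem f2507 : g 3 • path g [3, 1, 4, 6, 3] p = path g [3, 1, 4, 6, 8] p :=
  H.back (i := 8) (by decide) (f2506 H)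

theorem f2508 : g 4 • path g [3, 1, 4, 6, 8] p = path g [4, 1, 8, 6] p :=
  scan (u := [8]) (w := [3, 9]) (i := 4) (r14_0_1 H) (step (f2504 H) rfl) (step (H.back (i := 8) (by decide) (f1926 H)) (step (H.back (i := 4) (by decide) (f2352 H)) rfl))

theorem f2509 : g 9 • path g [4, 1, 8, 6] p = path g [3, 1, 4, 6, 8] p :=
  H.back (i := 4) (by decide) (f2508 H)

theorem f2510 : g 3 • path g [3, 1, 9, 1] p = path g [3, 1, 9, 1, 3] p :=
  rfl

theorem f2511 : g 8 • path g [3, 1, 9, 1, 3] p = path g [3, 1, 9, 1] p :=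
  H.back (i := 3) (by decide) (f2510 H)

theorem f2512 : g 4 • path g [3, 1, 9, 1, 3] p = path g [3, 9, 6, 3] p :=
  scan (u := [3]) (w := [8, 9]) (i := 4) (r14_1_2 H) (step (f2510 H) rfl) (step (H.back (i := 3) (by decide) (f1748 H)) (step (H.back (i := 4) (by decide) (f2193 H)) rfl))

theorem f2513 : g 9 • path g [3, 9, 6, 3] p = path g [3, 1, 9, 1, 3] p :=
  H.back (i := 4) (by decide) (f2512 H)

theorem f2514 : g 8 • path g [3, 1, 9, 1] p = path g [3, 1, 9, 1, 8] p :=
  rfl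

theorem f2515 : g 3 • path g [3, 1, 9, 1, 8] p = path g [3, 1, 9, 1] p :=
  H.back (i := 8) (by decide) (f2514 H)

theorem f2516 : g 8 • path g [3, 1, 9, 1, 8] p = path g [3, 1, 9, 1, 3] p :=
  scan (u := [8]) (w := [8]) (i := 8) (r9_1_0 H) (step (f2514 H) rfl) (step (H.back (i := 3) (by decide) (f2510 H)) rfl)

theorem f2517 : g 3 • path g [3, 1, 9, 1, 3] p = path g [3, 1, 9, 1, 8] p :=
  H.back (i := 8) (by decide) (f2516 H)

theorem f2518 : g 4 • path g [3, 1, 9, 1, 8] p = path g [3, 9, 6, 8] p :=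
  scan (u := [8]) (w := [3, 9]) (i := 4) (r14_0_1 H) (step (f2514 H) rfl) (step (H.back (i := 8) (by decide) (f1752 H)) (step (H.back (i := 4) (by decide) (f2193 H)) rfl))

theorem f2519 : g 9 • path g [3, 9, 6, 8] p = path g [3, 1, 9, 1, 8] p :=
  H.back (i := 4) (by decide) (f2518 H)

theorem f2520 : g 3 • path g [3, 1, 9, 6] p = path g [3, 1, 9, 6, 3] p :=
  rfl

theorem f2521 : g 8 • path g [3, 1, 9, 6, 3] p = path g [3, 1, 9, 6] p :=
  H.back (i := 3) (by decide) (f2520 H)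

theorem f2522 : g 9 • path g [3, 1, 9, 6, 3] p = path g [8, 9, 1, 3] p :=
  scan (u := [3]) (w := [8, 4]) (i := 9) (r14_0_3 H) (step (f2520 H) rfl) (step (H.back (i := 3) (by decide) (f2431 H)) (step (H.back (i := 9) (by decide) (f2209 H)) rfl))

theorem f2523 : g 4 • path g [8, 9, 1, 3] p = path g [3, 1, 9, 6, 3] p :=
  H.back (i := 9) (by decide) (f2522 H)

theorem f2524 : g 4 • path g [3, 1, 9, 6, 3] p = path g [3, 1, 4, 1, 3] p :=
  scan (u := [3]) (w := [8, 9]) (i := 4) (r14_1_2 H) (step (f2520 H) rfl) (step (H.back (i := 3) (by decide) (f2490 H)) (step (H.back (i := 4) (by decide) (f2342 H)) rfl))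

theorem f2525 : g 9 • path g [3, 1, 4, 1, 3] p = path g [3, 1, 9, 6, 3] p :=
  H.back (i := 4) (by decide) (f2524 H)

theorem f2526 : g 8 • path g [3, 1, 9, 6] p = path g [3, 1, 9, 6, 8] p :=
  rfl

theorem f2527 : g 3 • path g [3, 1, 9, 6, 8] p = path g [3, 1, 9, 6] p :=
  H.back (i := 8) (by decide) (f2526 H)

theorem f2528 : g 8 • path g [3, 1, 9, 6, 8] p = path g [3, 1, 9, 6, 3] p :=
  scan (u := [8]) (w := [8]) (i := 8) (r9_1_0 H) (step (f2526 H) rfl) (step (H.back (i := 3) (by decide) (f2520 H)) rfl)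

theorem f2529 : g 3 • path g [3, 1, 9, 6, 3] p = path g [3, 1, 9, 6, 8] p :=
  H.back (i := 8) (by decide) (f2528 H)

theorem f2530 : g 4 • path g [3, 1, 9, 6, 8] p = path g [3, 1, 4, 1, 8] p :=
  scan (u := [8]) (w := [3, 9]) (i := 4) (r14_0_1 H) (step (f2526 H) rfl) (step (H.back (i := 8) (by decide) (f2494 H)) (step (H.back (i := 4) (by decide) (f2342 H)) rfl))

theorem f2531 : g 9 • path g [3, 1, 4, 1, 8] p = path g [3, 1, 9, 6, 8] p :=
  H.back (i := 4) (by decide) (f2530 H)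

theorem f2532 : g 9 • path g [3, 1, 9, 6, 8] p = path g [8, 9, 1, 8] p :=
  scan (u := [8]) (w := [3, 4]) (i := 9) (r14_1_0 H) (step (f2526 H) rfl) (step (H.back (i := 8) (by decide) (f2445 H)) (step (H.back (i := 9) (by decide) (f2209 H)) rfl))

theorem f2533 : g 4 • path g [8, 9, 1, 8] p = path g [3, 1, 9, 6, 8] p :=
  H.back (i := 9) (by decide) (f2532 H)

theorem f2534 : g 5 • path g [3, 1, 9, 6, 8] p = path g [3, 1, 4, 1, 8] p :=
  scan (u := [8]) (w := [3, 1, 0, 2, 0, 1]) (i := 5) (r7_1_0 H) (step (f2526 H) rfl) (step (H.back (i := 8) (by decide) (f2494 H)) (step (H.back (i := 6) (by decide) (f1588 H)) (step (H.back (i := 5) (by decide) (f2362 H)) (step (H.back (i := 7) (by decide) (f2405 H)) (step (H.back (i := 5) (by decide) (f2399 H)) (step (H.back (i := 6) (by decide) (f1618 H)) rfl))))))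

theorem f2535 : g 0 • path g [3, 1, 4, 1, 8] p = path g [3, 1, 9, 6, 8] p :=
  H.back (i := 5) (by decide) (f2534 H)

theorem f2536 : g 4 • path g [3, 4, 1, 3] p = path g [3, 4, 1, 3, 4] p :=
  rfl

theorem f2537 : g 9 • path g [3, 4, 1, 3, 4] p = path g [3, 4, 1, 3] p :=
  H.back (i := 4) (by decide) (f2536 H)

theorem f2538 : g 8 • path g [3, 4, 1, 3, 4] p = path g [3, 4, 1, 4] p :=
  scan (u := [4]) (w := [9, 3]) (i := 8) (r14_1_3 H) (step (f2536 H) rfl) (step (H.back (i := 4) (by decide) (f1672 H)) (step (H.back (i := 8) (by decide) (f1671 H)) rfl))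

theorem f2539 : g 3 • path g [3, 4, 1, 4] p = path g [3, 4, 1, 3, 4] p :=
  H.back (i := 8) (by decide) (f2538 H)

theorem f2540 : g 9 • path g [3, 4, 1, 3] p = path g [3, 4, 1, 3, 9] p :=
  rfl

theorem f2541 : g 4 • path g [3, 4, 1, 3, 9] p = path g [3, 4, 1, 3] p :=
  H.back (i := 9) (by decide) (f2540 H)

theorem f2542 : g 9 • path g [3, 4, 1, 3, 9] p = path g [3, 4, 1, 3, 4] p :=
  scan (u := [9]) (w := [9]) (i := 9) (r13_1_0 H) (step (f2540 H) rfl) (step (H.back (i := 4) (by decide) (f2536 H)) rfl)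

theorem f2543 : g 4 • path g [3, 4, 1, 3, 4] p = path g [3, 4, 1, 3, 9] p :=
  H.back (i := 9) (by decide) (f2542 H)

theorem f2544 : g 8 • path g [3, 4, 1, 3, 9] p = path g [3, 4, 1, 9] p :=
  scan (u := [9]) (w := [4, 3]) (i := 8) (r14_0_0 H) (step (f2540 H) rfl) (step (H.back (i := 9) (by decide) (f1678 H)) (step (H.back (i := 8) (by decide) (f1671 H)) rfl))

theorem f2545 : g 3 • path g [3, 4, 1, 9] p = path g [3, 4, 1, 3, 9] p :=
  H.back (i := 8) (by decide) (f2544 H)

theorem f2546 : g 8 • path g [3, 4, 1, 4] p = path g [3, 4, 1, 4, 8] p :=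
  rfl

theorem f2547 : g 3 • path g [3, 4, 1, 4, 8] p = path g [3, 4, 1, 4] p :=
  H.back (i := 8) (by decide) (f2546 H)

theorem f2548 : g 8 • path g [3, 4, 1, 4, 8] p = path g [3, 4, 1, 3, 4] p :=
  scan (u := [8]) (w := [8]) (i := 8) (r9_1_0 H) (step (f2546 H) rfl) (step (H.back (i := 3) (by decide) (f2539 H)) rfl)

theorem f2549 : g 3 • path g [3, 4, 1, 3, 4] p = path g [3, 4, 1, 4, 8] p :=
  H.back (i := 8) (by decide) (f2548 H)

theorem f2550 : g 9 • path g [3, 4, 1, 4, 8] p = path g [3, 4, 1, 8] p :=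
  scan (u := [8]) (w := [3, 4]) (i := 9) (r14_1_0 H) (step (f2546 H) rfl) (step (H.back (i := 8) (by decide) (f1674 H)) (step (H.back (i := 9) (by decide) (f1673 H)) rfl))

theorem f2551 : g 4 • path g [3, 4, 1, 8] p = path g [3, 4, 1, 4, 8] p :=
  H.back (i := 9) (by decide) (f2550 H)

theorem f2552 : g 9 • path g [3, 4, 1, 8] p = path g [3, 4, 1, 8, 9] p :=
  rfl

theorem f2553 : g 4 • path g [3, 4, 1, 8, 9] p = path g [3, 4, 1, 8] p :=
  H.back (i := 9) (by decide) (f2552 H)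

theorem f2554 : g 9 • path g [3, 4, 1, 8, 9] p = path g [3, 4, 1, 4, 8] p :=
  scan (u := [9]) (w := [9]) (i := 9) (r13_1_0 H) (step (f2552 H) rfl) (step (H.back (i := 4) (by decide) (f2551 H)) rfl)

theorem f2555 : g 4 • path g [3, 4, 1, 4, 8] p = path g [3, 4, 1, 8, 9] p :=
  H.back (i := 9) (by decide) (f2554 H)

theorem f2556 : g 8 • path g [3, 4, 1, 8, 9] p = path g [3, 4, 1, 3, 9] p :=
  scan (u := [9]) (w := [4, 3]) (i := 8) (r14_0_0 H) (step (f2552 H) rfl) (step (H.back (i := 9) (by decide) (f2540 H)) (step (H.back (i := 8) (by decide) (f1676 H)) rfl))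

theorem f2557 : g 3 • path g [3, 4, 1, 3, 9] p = path g [3, 4, 1, 8, 9] p :=
  H.back (i := 8) (by decide) (f2556 H)

theorem f2558 : g 3 • path g [3, 4, 1, 8, 9] p = path g [3, 4, 1, 9] p :=
  scan (u := [9]) (w := [4, 8]) (i := 3) (r14_1_1 H) (step (f2552 H) rfl) (step (H.back (i := 9) (by decide) (f1678 H)) (step (H.back (i := 3) (by decide) (f1675 H)) rfl))

theorem f2559 : g 8 • path g [3, 4, 1, 9] p = path g [3, 4, 1, 8, 9] p :=
  H.back (i := 3) (by decide) (f2558 H)

theorem f2560 : g 5 • path g [3, 4, 1, 4, 8] p = path g [3, 4, 1, 8, 9] p :=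
  scan (u := [3, 1, 0, 2, 0, 1, 8]) (w := []) (i := 5) (r7_1_2 H) (step (f2558 H) (step (f2177 H) (step (f2322 H) (step (f2333 H) (step (f2334 H) (step (f2058 H) (step (f2546 H) rfl))))))) rfl

theorem f2561 : g 0 • path g [3, 4, 1, 8, 9] p = path g [3, 4, 1, 4, 8] p :=
  H.back (i := 5) (by decide) (f2560 H)

theorem f2562 : g 4 • path g [3, 4, 6, 3] p = path g [3, 4, 6, 3, 4] p :=
  rfl

theorem f2563 : g 9 • path g [3, 4, 6, 3, 4] p = path g [3, 4, 6, 3] p :=
  H.back (i := 4) (by decide) (f2562 H)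

theorem f2564 : g 8 • path g [3, 4, 6, 3, 4] p = path g [3, 4, 6, 4] p :=
  scan (u := [4]) (w := [9, 3]) (i := 8) (r14_1_3 H) (step (f2562 H) rfl) (step (H.back (i := 4) (by decide) (f1684 H)) (step (H.back (i := 8) (by decide) (f1683 H)) rfl))

theorem f2565 : g 3 • path g [3, 4, 6, 4] p = path g [3, 4, 6, 3, 4] p :=
  H.back (i := 8) (by decide) (f2564 H)

theorem f2566 : g 9 • path g [3, 4, 6, 3] p = path g [3, 4, 6, 3, 9] p :=
  rfl

theorem f2567 : g 4 • path g [3, 4, 6, 3, 9] p = path g [3, 4, 6, 3] p :=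
  H.back (i := 9) (by decide) (f2566 H)

theorem f2568 : g 9 • path g [3, 4, 6, 3, 9] p = path g [3, 4, 6, 3, 4] p :=
  scan (u := [9]) (w := [9]) (i := 9) (r13_1_0 H) (step (f2566 H) rfl) (step (H.back (i := 4) (by decide) (f2562 H)) rfl)

theorem f2569 : g 4 • path g [3, 4, 6, 3, 4] p = path g [3, 4, 6, 3, 9] p :=
  H.back (i := 9) (by decide) (f2568 H)

theorem f2570 : g 8 • path g [3, 4, 6, 3, 9] p = path g [3, 4, 6, 9] p :=
  scan (u := [9]) (w := [4, 3]) (i := 8) (r14_0_0 H) (step (f2566 H) rfl) (step (H.back (i := 9) (by decide) (f1692 H)) (step (H.back (i := 8) (by decide) (f1683 H)) rfl))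

theorem f2571 : g 3 • path g [3, 4, 6, 9] p = path g [3, 4, 6, 3, 9] p :=
  H.back (i := 8) (by decide) (f2570 H)

theorem f2572 : g 2 • path g [3, 4, 6, 3, 9] p = path g [3, 1, 4, 6, 3] p :=
  scan (u := [9]) (w := [4, 5, 5, 5, 7, 5]) (i := 2) (r10_0_5 H) (step (f2566 H) rfl) (step (H.back (i := 9) (by decide) (f2503 H)) (step (H.back (i := 0) (by decide) (f1839 H)) (step (H.back (i := 0) (by decide) (f2466 H)) (step (H.back (i := 0) (by decide) (f2469 H)) (step (H.back (i := 2) (by decide) (f2008 H)) (step (H.back (i := 0) (by decide) (f1958 H)) rfl))))))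

theorem f2573 : g 7 • path g [3, 1, 4, 6, 3] p = path g [3, 4, 6, 3, 9] p :=
  H.back (i := 2) (by decide) (f2572 H)

theorem f2574 : g 7 • path g [3, 4, 6, 3, 9] p = path g [3, 1, 4, 6, 3] p :=
  scan (u := [9]) (w := [4, 0, 2, 0, 0, 0]) (i := 7) (r10_1_0 H) (step (f2566 H) rfl) (step (H.back (i := 9) (by decide) (f2503 H)) (step (H.back (i := 5) (by decide) (f2000 H)) (step (H.back (i := 7) (by decide) (f2003 H)) (step (H.back (i := 5) (by decide) (f1955 H)) (step (H.back (i := 5) (by decide) (f2441 H)) (step (H.back (i := 5) (by decide) (f2438 H)) rfl))))))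

theorem f2575 : g 2 • path g [3, 1, 4, 6, 3] p = path g [3, 4, 6, 3, 9] p :=
  H.back (i := 7) (by decide) (f2574 H)

theorem f2576 : g 5 • path g [3, 1, 4, 6, 3] p = path g [3, 4, 1, 3, 4] p :=
  scan (u := [7]) (w := [8, 1, 0, 2, 0, 1, 3]) (i := 5) (r8_0_0 H) (step (f2574 H) rfl) (step (H.back (i := 3) (by decide) (f2539 H)) (step (H.back (i := 6) (by decide) (f2216 H)) (step (H.back (i := 5) (by decide) (f2227 H)) (step (H.back (i := 7) (by decide) (f2172 H)) (step (H.back (i := 5) (by decide) (f2229 H)) (step (H.back (i := 6) (by decide) (f2258 H)) (step (H.back (i := 8) (by decide) (f2570 H)) rfl)))))))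

theorem f2577 : g 0 • path g [3, 4, 1, 3, 4] p = path g [3, 1, 4, 6, 3] p :=
  H.back (i := 5) (by decide) (f2576 H)

theorem f2578 : g 8 • path g [3, 4, 6, 4] p = path g [3, 4, 6, 4, 8] p :=
  rfl

theorem f2579 : g 3 • path g [3, 4, 6, 4, 8] p = path g [3, 4, 6, 4] p :=
  H.back (i := 8) (by decide) (f2578 H)

theorem f2580 : g 8 • path g [3, 4, 6, 4, 8] p = path g [3, 4, 6, 3, 4] p :=
  scan (u := [8]) (w := [8]) (i := 8) (r9_1_0 H) (step (f2578 H) rfl) (step (H.back (i := 3) (by decide) (f2565 H)) rfl)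

theorem f2581 : g 3 • path g [3, 4, 6, 3, 4] p = path g [3, 4, 6, 4, 8] p :=
  H.back (i := 8) (by decide) (f2580 H)

theorem f2582 : g 9 • path g [3, 4, 6, 4, 8] p = path g [3, 4, 6, 8] p :=
  scan (u := [8]) (w := [3, 4]) (i := 9) (r14_1_0 H) (step (f2578 H) rfl) (step (H.back (i := 8) (by decide) (f1686 H)) (step (H.back (i := 9) (by decide) (f1685 H)) rfl))

theorem f2583 : g 4 • path g [3, 4, 6, 8] p = path g [3, 4, 6, 4, 8] p :=
  H.back (i := 9) (by decide) (f2582 H)

theorem f2584 : g 5 • path g [3, 4, 6, 4, 8] p = path g [3, 1, 9, 1, 8] p :=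
  scan (u := [8]) (w := [3, 1, 0, 2, 0, 1]) (i := 5) (r7_1_0 H) (step (f2578 H) rfl) (step (H.back (i := 8) (by decide) (f2514 H)) (step (H.back (i := 6) (by decide) (f1618 H)) (step (H.back (i := 5) (by decide) (f2185 H)) (step (H.back (i := 7) (by decide) (f2203 H)) (step (H.back (i := 5) (by decide) (f2312 H)) (step (H.back (i := 6) (by decide) (f2420 H)) rfl))))))

theorem f2585 : g 0 • path g [3, 1, 9, 1, 8] p = path g [3, 4, 6, 4, 8] p :=
  H.back (i := 5) (by decide) (f2584 H)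

theorem f2586 : g 6 • path g [3, 4, 6, 4, 8] p = path g [3, 1, 4, 6, 3] p :=
  scan (u := [8]) (w := [5, 8, 6, 5, 8, 6, 5]) (i := 6) (r17_1_0 H) (step (f2578 H) rfl) (step (H.back (i := 0) (by decide) (f2577 H)) (step (H.back (i := 3) (by decide) (f2539 H)) (step (H.back (i := 1) (by decide) (f2058 H)) (step (H.back (i := 0) (by decide) (f2334 H)) (step (H.back (i := 3) (by decide) (f1580 H)) (step (H.back (i := 1) (by decide) (f1587 H)) (step (H.back (i := 0) (by decide) (f2423 H)) rfl)))))))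

theorem f2587 : g 1 • path g [3, 1, 4, 6, 3] p = path g [3, 4, 6, 4, 8] p :=
  H.back (i := 6) (by decide) (f2586 H)

theorem f2588 : g 9 • path g [3, 4, 6, 8] p = path g [3, 4, 6, 8, 9] p :=
  rfl

theorem f2589 : g 4 • path g [3, 4, 6, 8, 9] p = path g [3, 4, 6, 8] p :=
  H.back (i := 9) (by decide) (f2588 H)

theorem f2590 : g 9 • path g [3, 4, 6, 8, 9] p = path g [3, 4, 6, 4, 8] p :=
  scan (u := [9]) (w := [9]) (i := 9) (r13_1_0 H) (step (f2588 H) rfl) (step (H.back (i := 4) (by decide) (f2583 H)) rfl)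

theorem f2591 : g 4 • path g [3, 4, 6, 4, 8] p = path g [3, 4, 6, 8, 9] p :=
  H.back (i := 9) (by decide) (f2590 H)

theorem f2592 : g 8 • path g [3, 4, 6, 8, 9] p = path g [3, 4, 6, 3, 9] p :=
  scan (u := [9]) (w := [4, 3]) (i := 8) (r14_0_0 H) (step (f2588 H) rfl) (step (H.back (i := 9) (by decide) (f2566 H)) (step (H.back (i := 8) (by decide) (f1688 H)) rfl))

theorem f2593 : g 3 • path g [3, 4, 6, 3, 9] p = path g [3, 4, 6, 8, 9] p :=
  H.back (i := 8) (by decide) (f2592 H)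

theorem f2594 : g 3 • path g [3, 4, 6, 8, 9] p = path g [3, 4, 6, 9] p :=
  scan (u := [9]) (w := [4, 8]) (i := 3) (r14_1_1 H) (step (f2588 H) rfl) (step (H.back (i := 9) (by decide) (f1692 H)) (step (H.back (i := 3) (by decide) (f1687 H)) rfl))

theorem f2595 : g 8 • path g [3, 4, 6, 9] p = path g [3, 4, 6, 8, 9] p :=
  H.back (i := 3) (by decide) (f2594 H)

theorem f2596 : g 2 • path g [3, 4, 6, 8, 9] p = path g [3, 1, 4, 1, 8] p :=
  scan (u := [9]) (w := [4, 5, 5, 5, 7, 5]) (i := 2) (r10_0_5 H) (step (f2588 H) rfl) (step (H.back (i := 9) (by decide) (f2499 H)) (step (H.back (i := 0) (by decide) (f2478 H)) (step (H.back (i := 0) (by decide) (f2481 H)) (step (H.back (i := 0) (by decide) (f1930 H)) (step (H.back (i := 2) (by decide) (f1943 H)) (step (H.back (i := 0) (by decide) (f1690 H)) rfl))))))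

theorem f2597 : g 7 • path g [3, 1, 4, 1, 8] p = path g [3, 4, 6, 8, 9] p :=
  H.back (i := 2) (by decide) (f2596 H)

theorem f2598 : g 7 • path g [3, 4, 6, 8, 9] p = path g [3, 1, 4, 1, 8] p :=
  scan (u := [9]) (w := [4, 0, 2, 0, 0, 0]) (i := 7) (r10_1_0 H) (step (f2588 H) rfl) (step (H.back (i := 9) (by decide) (f2499 H)) (step (H.back (i := 5) (by decide) (f2450 H)) (step (H.back (i := 7) (by decide) (f1935 H)) (step (H.back (i := 5) (by decide) (f1758 H)) (step (H.back (i := 5) (by decide) (f1757 H)) (step (H.back (i := 5) (by decide) (f1739 H)) rfl))))))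

theorem f2599 : g 2 • path g [3, 1, 4, 1, 8] p = path g [3, 4, 6, 8, 9] p :=
  H.back (i := 7) (by decide) (f2598 H)

theorem f2600 : g 0 • path g [3, 4, 1, 4, 8] p = path g [3, 4, 6, 8, 9] p :=
  scan (u := [3, 6, 5, 7, 5, 6, 8]) (w := []) (i := 0) (r7_0_7 H) (step (f2594 H) (step (f2258 H) (step (f2229 H) (step (f2172 H) (step (f2227 H) (step (f2216 H) (step (f2546 H) rfl))))))) rfl

theorem f2601 : g 5 • path g [3, 4, 6, 8, 9] p = path g [3, 4, 1, 4, 8] p :=
  H.back (i := 0) (by decide) (f2600 H)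

theorem f2602 : g 3 • path g [3, 6, 4, 1] p = path g [3, 6, 4, 1, 3] p :=
  rfl

theorem f2603 : g 8 • path g [3, 6, 4, 1, 3] p = path g [3, 6, 4, 1] p :=
  H.back (i := 3) (by decide) (f2602 H)

theorem f2604 : g 9 • path g [3, 6, 4, 1, 3] p = path g [3, 9, 6, 3] p :=
  scan (u := [3]) (w := [8, 4]) (i := 9) (r14_0_3 H) (step (f2602 H) rfl) (step (H.back (i := 3) (by decide) (f1748 H)) (step (H.back (i := 9) (by decide) (f2306 H)) rfl))

theorem f2605 : g 4 • path g [3, 9, 6, 3] p = path g [3, 6, 4, 1, 3] p :=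
  H.back (i := 9) (by decide) (f2604 H)

theorem f2606 : g 4 • path g [3, 6, 4, 1, 3] p = path g [3, 1, 9, 1, 3] p :=
  scan (u := [3]) (w := [8, 9]) (i := 4) (r14_1_2 H) (step (f2602 H) rfl) (step (H.back (i := 3) (by decide) (f2510 H)) (step (H.back (i := 4) (by decide) (f2309 H)) rfl))

theorem f2607 : g 9 • path g [3, 1, 9, 1, 3] p = path g [3, 6, 4, 1, 3] p :=
  H.back (i := 4) (by decide) (f2606 H)

theorem f2608 : g 8 • path g [3, 6, 4, 1] p = path g [3, 6, 4, 1, 8] p :=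
  rfl

theorem f2609 : g 3 • path g [3, 6, 4, 1, 8] p = path g [3, 6, 4, 1] p :=
  H.back (i := 8) (by decide) (f2608 H)

theorem f2610 : g 8 • path g [3, 6, 4, 1, 8] p = path g [3, 6, 4, 1, 3] p :=
  scan (u := [8]) (w := [8]) (i := 8) (r9_1_0 H) (step (f2608 H) rfl) (step (H.back (i := 3) (by decide) (f2602 H)) rfl)

theorem f2611 : g 3 • path g [3, 6, 4, 1, 3] p = path g [3, 6, 4, 1, 8] p :=
  H.back (i := 8) (by decide) (f2610 H)

theorem f2612 : g 4 • path g [3, 6, 4, 1, 8] p = path g [3, 1, 9, 1, 8] p :=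
  scan (u := [8]) (w := [3, 9]) (i := 4) (r14_0_1 H) (step (f2608 H) rfl) (step (H.back (i := 8) (by decide) (f2514 H)) (step (H.back (i := 4) (by decide) (f2309 H)) rfl))

theorem f2613 : g 9 • path g [3, 1, 9, 1, 8] p = path g [3, 6, 4, 1, 8] p :=
  H.back (i := 4) (by decide) (f2612 H)

theorem f2614 : g 9 • path g [3, 6, 4, 1, 8] p = path g [3, 9, 6, 8] p :=
  scan (u := [8]) (w := [3, 4]) (i := 9) (r14_1_0 H) (step (f2608 H) rfl) (step (H.back (i := 8) (by decide) (f1752 H)) (step (H.back (i := 9) (by decide) (f2306 H)) rfl))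

theorem f2615 : g 4 • path g [3, 9, 6, 8] p = path g [3, 6, 4, 1, 8] p :=
  H.back (i := 9) (by decide) (f2614 H)

theorem f2616 : g 0 • path g [3, 6, 4, 1, 8] p = path g [3, 4, 1, 8, 9] p :=
  scan (u := [8]) (w := [3, 6, 5, 7, 5, 6]) (i := 0) (r7_0_5 H) (step (f2608 H) rfl) (step (H.back (i := 8) (by decide) (f2559 H)) (step (H.back (i := 1) (by decide) (f2182 H)) (step (H.back (i := 0) (by decide) (f2348 H)) (step (H.back (i := 2) (by decide) (f2415 H)) (step (H.back (i := 0) (by decide) (f2423 H)) (step (H.back (i := 1) (by decide) (f2422 H)) rfl))))))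

theorem f2617 : g 5 • path g [3, 4, 1, 8, 9] p = path g [3, 6, 4, 1, 8] p :=
  H.back (i := 0) (by decide) (f2616 H)

theorem f2618 : g 5 • path g [3, 6, 4, 1, 8] p = path g [3, 4, 6, 8, 9] p :=
  scan (u := [8]) (w := [3, 1, 0, 2, 0, 1]) (i := 5) (r7_1_0 H) (step (f2608 H) rfl) (step (H.back (i := 8) (by decide) (f2595 H)) (step (H.back (i := 6) (by decide) (f2031 H)) (step (H.back (i := 5) (by decide) (f2330 H)) (step (H.back (i := 7) (by decide) (f950 H)) (step (H.back (i := 5) (by decide) (f2344 H)) (step (H.back (i := 6) (by decide) (f1699 H)) rfl))))))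

theorem f2619 : g 0 • path g [3, 4, 6, 8, 9] p = path g [3, 6, 4, 1, 8] p :=
  H.back (i := 5) (by decide) (f2618 H)

theorem f2620 : g 2 • path g [3, 6, 4, 1, 8] p = path g [3, 4, 6, 4, 8] p :=
  scan (u := [8]) (w := [3, 5, 5, 6, 5, 7, 5, 6, 5]) (i := 2) (r6_0_8 H) (step (f2608 H) rfl) (step (H.back (i := 8) (by decide) (f2578 H)) (step (H.back (i := 0) (by decide) (f2335 H)) (step (H.back (i := 0) (by decide) (f2376 H)) (step (H.back (i := 1) (by decide) (f2375 H)) (step (H.back (i := 0) (by decide) (f2402 H)) (step (H.back (i := 2) (by decide) (f2368 H)) (step (H.back (i := 0) (by decide) (f2224 H)) (step (H.back (i := 1) (by decide) (f2150 H)) (step (H.back (i := 0) (by decide) (f2318 H)) rfl)))))))))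

theorem f2621 : g 7 • path g [3, 4, 6, 4, 8] p = path g [3, 6, 4, 1, 8] p :=
  H.back (i := 2) (by decide) (f2620 H)

theorem f2622 : g 7 • path g [3, 6, 4, 1, 8] p = path g [3, 4, 6, 4, 8] p :=
  scan (u := [8]) (w := [3, 0, 1, 0, 2, 0, 1, 0, 0]) (i := 7) (r6_1_0 H) (step (f2608 H) rfl) (step (H.back (i := 8) (by decide) (f2578 H)) (step (H.back (i := 5) (by decide) (f2425 H)) (step (H.back (i := 6) (by decide) (f1586 H)) (step (H.back (i := 5) (by decide) (f2292 H)) (step (H.back (i := 7) (by decide) (f975 H)) (step (H.back (i := 5) (by decide) (f2403 H)) (step (H.back (i := 6) (by decide) (f2072 H)) (step (H.back (i := 5) (by decide) (f2399 H)) (step (H.back (i := 5) (by decide) (f2312 H)) rfl)))))))))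

theorem f2623 : g 2 • path g [3, 4, 6, 4, 8] p = path g [3, 6, 4, 1, 8] p :=
  H.back (i := 7) (by decide) (f2622 H)

theorem f2624 : g 6 • path g [3, 4, 6, 3, 9] p = path g [3, 6, 4, 1, 8] p :=
  scan (u := [7, 6, 7]) (w := []) (i := 6) (r1_1_1 H) (step (f2622 H) (step (f2586 H) (step (f2573 H) rfl))) rfl

theorem f2625 : g 1 • path g [3, 6, 4, 1, 8] p = path g [3, 4, 6, 3, 9] p :=
  H.back (i := 6) (by decide) (f2624 H)

theorem f2626 : g 3 • path g [3, 6, 9, 1] p = path g [3, 6, 9, 1, 3] p :=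
  rfl

theorem f2627 : g 8 • path g [3, 6, 9, 1, 3] p = path g [3, 6, 9, 1] p :=
  H.back (i := 3) (by decide) (f2626 H)

theorem f2628 : g 9 • path g [3, 6, 9, 1, 3] p = path g [4, 1, 3, 1] p :=
  scan (u := [3]) (w := [8, 4]) (i := 9) (r14_0_3 H) (step (f2626 H) rfl) (step (H.back (i := 3) (by decide) (f1949 H)) (step (H.back (i := 9) (by decide) (f1718 H)) rfl))

theorem f2629 : g 4 • path g [4, 1, 3, 1] p = path g [3, 6, 9, 1, 3] p :=
  H.back (i := 9) (by decide) (f2628 H)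

theorem f2630 : g 0 • path g [3, 6, 9, 1, 3] p = path g [3, 4, 6, 3, 9] p :=
  scan (u := [3]) (w := [2, 8, 6, 5, 7, 5, 6]) (i := 0) (r8_1_6 H) (step (f2626 H) rfl) (step (H.back (i := 7) (by decide) (f2573 H)) (step (H.back (i := 3) (by decide) (f2500 H)) (step (H.back (i := 1) (by decide) (f1589 H)) (step (H.back (i := 0) (by decide) (f2338 H)) (step (H.back (i := 2) (by decide) (f2175 H)) (step (H.back (i := 0) (by decide) (f2188 H)) (step (H.back (i := 1) (by decide) (f2182 H)) rfl)))))))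

theorem f2631 : g 5 • path g [3, 4, 6, 3, 9] p = path g [3, 6, 9, 1, 3] p :=
  H.back (i := 0) (by decide) (f2630 H)

theorem f2632 : g 1 • path g [3, 4, 6, 3, 9] p = path g [3, 1, 4, 6, 8] p :=
  scan (u := [3, 0]) (w := [3, 0, 1, 3, 0, 1]) (i := 1) (r17_0_2 H) (step (f2626 H) (step (f2630 H) rfl)) (step (H.back (i := 8) (by decide) (f2504 H)) (step (H.back (i := 5) (by decide) (f2362 H)) (step (H.back (i := 6) (by decide) (f2382 H)) (step (H.back (i := 8) (by decide) (f2078 H)) (step (H.back (i := 5) (by decide) (f2396 H)) (step (H.back (i := 6) (by decide) (f1714 H)) rfl))))))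

theorem f2633 : g 6 • path g [3, 1, 4, 6, 8] p = path g [3, 4, 6, 3, 9] p :=
  H.back (i := 1) (by decide) (f2632 H)

theorem f2634 : g 1 • path g [3, 1, 4, 6, 8] p = path g [3, 6, 4, 1, 8] p :=
  scan (u := [1]) (w := [1]) (i := 1) (r0_0_0 H) (step (f2632 H) rfl) (step (H.back (i := 6) (by decide) (f2624 H)) rfl)

theorem f2635 : g 6 • path g [3, 6, 4, 1, 8] p = path g [3, 1, 4, 6, 8] p :=
  H.back (i := 1) (by decide) (f2634 H)

theorem f2636 : g 8 • path g [3, 6, 9, 1] p = path g [3, 6, 9, 1, 8] p :=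
  rfl

theorem f2637 : g 3 • path g [3, 6, 9, 1, 8] p = path g [3, 6, 9, 1] p :=
  H.back (i := 8) (by decide) (f2636 H)

theorem f2638 : g 8 • path g [3, 6, 9, 1, 8] p = path g [3, 6, 9, 1, 3] p :=
  scan (u := [8]) (w := [8]) (i := 8) (r9_1_0 H) (step (f2636 H) rfl) (step (H.back (i := 3) (by decide) (f2626 H)) rfl)

theorem f2639 : g 3 • path g [3, 6, 9, 1, 3] p = path g [3, 6, 9, 1, 8] p :=
  H.back (i := 8) (by decide) (f2638 H)

theorem f2640 : g 9 • path g [3, 6, 9, 1, 8] p = path g [4, 6, 3, 6] p :=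
  scan (u := [8]) (w := [3, 4]) (i := 9) (r14_1_0 H) (step (f2636 H) rfl) (step (H.back (i := 8) (by decide) (f1817 H)) (step (H.back (i := 9) (by decide) (f1718 H)) rfl))

theorem f2641 : g 4 • path g [4, 6, 3, 6] p = path g [3, 6, 9, 1, 8] p :=
  H.back (i := 9) (by decide) (f2640 H)

theorem f2642 : g 0 • path g [3, 6, 9, 1, 8] p = path g [3, 1, 4, 6, 8] p :=
  scan (u := [8]) (w := [3, 6, 5, 7, 5, 6]) (i := 0) (r7_0_5 H) (step (f2636 H) rfl) (step (H.back (i := 8) (by decide) (f2504 H)) (step (H.back (i := 1) (by decide) (f1589 H)) (step (H.back (i := 0) (by decide) (f2338 H)) (step (H.back (i := 2) (by decide) (f2175 H)) (step (H.back (i := 0) (by decide) (f2188 H)) (step (H.back (i := 1) (by decide) (f2182 H)) rfl))))))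

theorem f2643 : g 5 • path g [3, 1, 4, 6, 8] p = path g [3, 6, 9, 1, 8] p :=
  H.back (i := 0) (by decide) (f2642 H)

theorem f2644 : g 2 • path g [3, 6, 9, 1, 8] p = path g [3, 1, 9, 6, 8] p :=
  scan (u := [8]) (w := [3, 5, 5, 6, 5, 7, 5, 6, 5]) (i := 2) (r6_0_8 H) (step (f2636 H) rfl) (step (H.back (i := 8) (by decide) (f2526 H)) (step (H.back (i := 0) (by decide) (f2225 H)) (step (H.back (i := 0) (by decide) (f2224 H)) (step (H.back (i := 1) (by decide) (f2150 H)) (step (H.back (i := 0) (by decide) (f2318 H)) (step (H.back (i := 2) (by decide) (f2341 H)) (step (H.back (i := 0) (by decide) (f2335 H)) (step (H.back (i := 1) (by decide) (f2256 H)) (step (H.back (i := 0) (by decide) (f2228 H)) rfl)))))))))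

theorem f2645 : g 7 • path g [3, 1, 9, 6, 8] p = path g [3, 6, 9, 1, 8] p :=
  H.back (i := 2) (by decide) (f2644 H)

theorem f2646 : g 7 • path g [3, 6, 9, 1, 8] p = path g [3, 1, 9, 6, 8] p :=
  scan (u := [8]) (w := [3, 0, 1, 0, 2, 0, 1, 0, 0]) (i := 7) (r6_1_0 H) (step (f2636 H) rfl) (step (H.back (i := 8) (by decide) (f2526 H)) (step (H.back (i := 5) (by decide) (f2185 H)) (step (H.back (i := 6) (by decide) (f2179 H)) (step (H.back (i := 5) (by decide) (f2344 H)) (step (H.back (i := 7) (by decide) (f2300 H)) (step (H.back (i := 5) (by decide) (f2303 H)) (step (H.back (i := 6) (by decide) (f2059 H)) (step (H.back (i := 5) (by decide) (f2339 H)) (step (H.back (i := 5) (by decide) (f2349 H)) rfl)))))))))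

theorem f2647 : g 2 • path g [3, 1, 9, 6, 8] p = path g [3, 6, 9, 1, 8] p :=
  H.back (i := 7) (by decide) (f2646 H)

theorem f2648 : g 6 • path g [3, 1, 4, 1, 8] p = path g [3, 4, 6, 8, 9] p :=
  scan (u := [7, 5]) (w := [3, 0, 2, 8, 6, 5]) (i := 6) (r8_1_3 H) (step (f2646 H) (step (f2534 H) rfl)) (step (H.back (i := 8) (by decide) (f2595 H)) (step (H.back (i := 5) (by decide) (f2336 H)) (step (H.back (i := 7) (by decide) (f2340 H)) (step (H.back (i := 3) (by decide) (f2609 H)) (step (H.back (i := 1) (by decide) (f2634 H)) (step (H.back (i := 0) (by decide) (f2642 H)) rfl))))))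

theorem f2649 : g 1 • path g [3, 4, 6, 8, 9] p = path g [3, 1, 4, 1, 8] p :=
  H.back (i := 6) (by decide) (f2648 H)

theorem f2650 : g 2 • path g [3, 4, 1, 3, 4] p = path g [3, 4, 1, 3, 4] p :=
  scan (u := [7, 5, 6, 5, 8]) (w := [3, 5, 5, 6, 5]) (i := 2) (r6_0_4 H) (step (f2646 H) (step (f2534 H) (step (f2648 H) (step (f2601 H) (step (f2548 H) rfl))))) (step (H.back (i := 8) (by decide) (f2548 H)) (step (H.back (i := 0) (by decide) (f2561 H)) (step (H.back (i := 0) (by decide) (f2616 H)) (step (H.back (i := 1) (by decide) (f2634 H)) (step (H.back (i := 0) (by decide) (f2642 H)) rfl)))))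

theorem f2651 : g 7 • path g [3, 4, 1, 3, 4] p = path g [3, 4, 1, 3, 4] p :=
  H.back (i := 2) (by decide) (f2650 H)

theorem f2652 : g 5 • path g [3, 6, 4, 1, 3] p = path g [3, 4, 6, 3, 9] p :=
  scan (u := [2, 0, 1, 8]) (w := [3, 1, 0]) (i := 5) (r7_1_5 H) (step (f2647 H) (step (f2642 H) (step (f2634 H) (step (f2610 H) rfl)))) (step (H.back (i := 8) (by decide) (f2592 H)) (step (H.back (i := 6) (by decide) (f2648 H)) (step (H.back (i := 5) (by decide) (f2534 H)) rfl)))

theorem f2653 : g 0 • path g [3, 4, 6, 3, 9] p = path g [3, 6, 4, 1, 3] p :=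
  H.back (i := 5) (by decide) (f2652 H)

theorem f2654 : g 7 • path g [3, 6, 4, 1, 3] p = path g [3, 6, 4, 1, 3] p :=
  scan (u := [5, 8, 1, 0, 2, 0, 1, 3]) (w := []) (i := 7) (r8_0_1 H) (step (f2652 H) (step (f2570 H) (step (f2032 H) (step (f2337 H) (step (f951 H) (step (f2322 H) (step (f1698 H) (step (f2602 H) rfl)))))))) rfl

theorem f2655 : g 2 • path g [3, 6, 4, 1, 3] p = path g [3, 6, 4, 1, 3] p :=
  H.back (i := 7) (by decide) (f2654 H)

theorem f2656 : g 6 • path g [3, 1, 4, 1, 3] p = path g [3, 6, 4, 1, 3] p :=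
  scan (u := [5, 6, 6, 4, 1, 0, 2, 1, 0, 9]) (w := []) (i := 6) (r12_1_2 H) (step (f2652 H) (step (f2624 H) (step (f2635 H) (step (f2508 H) (step (f1795 H) (step (f1342 H) (step (f1344 H) (step (f2015 H) (step (f2442 H) (step (f2493 H) rfl)))))))))) rfl

theorem f2657 : g 1 • path g [3, 6, 4, 1, 3] p = path g [3, 1, 4, 1, 3] p :=
  H.back (i := 6) (by decide) (f2656 H)

theorem f2658 : g 1 • path g [3, 4, 1, 3, 4] p = path g [3, 4, 1, 3, 4] p :=
  scan (u := [0, 1, 8, 5, 3]) (w := [0, 2]) (i := 1) (r7_1_6 H) (step (f2653 H) (step (f2657 H) (step (f2491 H) (step (f2339 H) (step (f2539 H) rfl))))) (step (H.back (i := 5) (by decide) (f2576 H)) (step (H.back (i := 7) (by decide) (f2574 H)) rfl))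

theorem f2659 : g 6 • path g [3, 4, 1, 3, 4] p = path g [3, 4, 1, 3, 4] p :=
  H.back (i := 1) (by decide) (f2658 H)

theorem f2660 : g 1 • path g [3, 1, 9, 6, 8] p = path g [3, 6, 9, 1, 8] p :=
  scan (u := [0, 1, 3, 0]) (w := [3, 0, 1, 3]) (i := 1) (r17_0_0 H) (step (f2653 H) (step (f2657 H) (step (f2497 H) (step (f2535 H) rfl)))) (step (H.back (i := 8) (by decide) (f2636 H)) (step (H.back (i := 5) (by decide) (f2229 H)) (step (H.back (i := 6) (by decide) (f2258 H)) (step (H.back (i := 8) (by decide) (f2570 H)) rfl))))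

theorem f2661 : g 6 • path g [3, 6, 9, 1, 8] p = path g [3, 1, 9, 6, 8] p :=
  H.back (i := 1) (by decide) (f2660 H)

theorem f2662 : g 0 • path g [3, 1, 4, 1, 3] p = path g [3, 1, 9, 6, 3] p :=
  scan (u := [0, 2, 1]) (w := [9, 6, 5, 6, 6, 4, 1]) (i := 0) (r12_1_7 H) (step (f2653 H) (step (f2655 H) (step (f2657 H) rfl))) (step (H.back (i := 4) (by decide) (f2523 H)) (step (H.back (i := 1) (by decide) (f2434 H)) (step (H.back (i := 0) (by decide) (f2010 H)) (step (H.back (i := 1) (by decide) (f2451 H)) (step (H.back (i := 1) (by decide) (f2454 H)) (step (H.back (i := 9) (by decide) (f2614 H)) (step (H.back (i := 6) (by decide) (f2624 H)) rfl)))))))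

theorem f2663 : g 5 • path g [3, 1, 9, 6, 3] p = path g [3, 1, 4, 1, 3] p :=
  H.back (i := 0) (by decide) (f2662 H)

theorem f2664 : g 1 • path g [3, 1, 9, 6, 3] p = path g [3, 4, 1, 8, 9] p :=
  scan (u := [0]) (w := [5, 1, 0, 1]) (i := 1) (r3_0_5 H) (step (f2662 H) rfl) (step (H.back (i := 0) (by decide) (f2616 H)) (step (H.back (i := 6) (by decide) (f2624 H)) (step (H.back (i := 5) (by decide) (f2652 H)) (step (H.back (i := 6) (by decide) (f2656 H)) rfl))))

theorem f2665 : g 6 • path g [3, 4, 1, 8, 9] p = path g [3, 1, 9, 6, 3] p :=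
  H.back (i := 1) (by decide) (f2664 H)

theorem f2666 : g 2 • path g [3, 1, 9, 6, 3] p = path g [3, 1, 9, 6, 3] p :=
  scan (u := [0]) (w := [8, 6, 5, 7, 5, 6, 3]) (i := 2) (r8_1_7 H) (step (f2662 H) rfl) (step (H.back (i := 3) (by decide) (f2520 H)) (step (H.back (i := 1) (by decide) (f1619 H)) (step (H.back (i := 0) (by decide) (f2400 H)) (step (H.back (i := 2) (by decide) (f2406 H)) (step (H.back (i := 0) (by decide) (f2361 H)) (step (H.back (i := 1) (by decide) (f1589 H)) (step (H.back (i := 8) (by decide) (f2491 H)) rfl)))))))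

theorem f2667 : g 7 • path g [3, 1, 9, 6, 3] p = path g [3, 1, 9, 6, 3] p :=
  H.back (i := 2) (by decide) (f2666 H)

theorem f2668 : g 0 • path g [3, 1, 9, 6, 3] p = path g [3, 1, 9, 1, 3] p :=
  scan (u := [0, 2]) (w := [4, 5, 6, 5, 7, 5, 6, 7, 9]) (i := 0) (r11_0_8 H) (step (f2662 H) (step (f2666 H) rfl)) (step (H.back (i := 9) (by decide) (f2513 H)) (step (H.back (i := 0) (by decide) (f1953 H)) (step (H.back (i := 1) (by decide) (f1777 H)) (step (H.back (i := 0) (by decide) (f1987 H)) (step (H.back (i := 2) (by decide) (f1877 H)) (step (H.back (i := 0) (by decide) (f1880 H)) (step (H.back (i := 1) (by decide) (f2016 H)) (step (H.back (i := 2) (by decide) (f2440 H)) (step (H.back (i := 4) (by decide) (f2492 H)) rfl)))))))))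

theorem f2669 : g 5 • path g [3, 1, 9, 1, 3] p = path g [3, 1, 9, 6, 3] p :=
  H.back (i := 0) (by decide) (f2668 H)

theorem f2670 : g 0 • path g [3, 1, 9, 1, 3] p = path g [3, 4, 6, 3, 4] p :=
  scan (u := [0, 0]) (w := [9, 6, 7, 9, 6, 7, 9, 6, 7, 2, 1, 0, 2, 1]) (i := 0) (r18_1_14 H) (step (f2662 H) (step (f2668 H) rfl)) (step (H.back (i := 4) (by decide) (f2562 H)) (step (H.back (i := 1) (by decide) (f1905 H)) (step (H.back (i := 2) (by decide) (f579 H)) (step (H.back (i := 4) (by decide) (f1351 H)) (step (H.back (i := 1) (by decide) (f1833 H)) (step (H.back (i := 2) (by decide) (f1909 H)) (step (H.back (i := 4) (by decide) (f2567 H)) (step (H.back (i := 1) (by decide) (f2625 H)) (step (H.back (i := 2) (by decide) (f2623 H)) (step (H.back (i := 7) (by decide) (f2622 H)) (step (H.back (i := 6) (by decide) (f2624 H)) (step (H.back (i := 5) (by decide) (f2652 H)) (step (H.back (i := 7) (by decide) (f2654 H)) (step (H.back (i := 6) (by decide) (f2656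 H)) rfl))))))))))))))

theorem f2671 : g 5 • path g [3, 4, 6, 3, 4] p = path g [3, 1, 9, 1, 3] p :=
  H.back (i := 0) (by decide) (f2670 H)

theorem f2672 : g 5 • path g [3, 1, 4, 1, 3] p = path g [3, 4, 6, 3, 4] p :=
  scan (u := [5, 9, 2, 4]) (w := [5, 5, 7]) (i := 5) (r10_0_4 H) (step (f2663 H) (step (f2525 H) (step (f2666 H) (step (f2524 H) rfl)))) (step (H.back (i := 0) (by decide) (f2670 H)) (step (H.back (i := 0) (by decide) (f2668 H)) (step (H.back (i := 2) (by decide) (f2666 H)) rfl)))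

theorem f2673 : g 0 • path g [3, 4, 6, 3, 4] p = path g [3, 1, 4, 1, 3] p :=
  H.back (i := 5) (by decide) (f2672 H)

theorem f2674 : g 5 • path g [3, 4, 1, 3, 4] p = path g [3, 4, 1, 3, 9] p :=
  scan (u := [5, 6, 5, 7, 5, 6]) (w := [8, 2, 3, 5]) (i := 5) (r6_0_1 H) (step (f2663 H) (step (f2656 H) (step (f2652 H) (step (f2574 H) (step (f2576 H) (step (f2659 H) rfl)))))) (step (H.back (i := 3) (by decide) (f2545 H)) (step (H.back (i := 7) (by decide) (f2203 H)) (step (H.back (i := 8) (by decide) (f2511 H)) (step (H.back (i := 0) (by decide) (f2668 H)) rfl))))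

theorem f2675 : g 0 • path g [3, 4, 1, 3, 9] p = path g [3, 4, 1, 3, 4] p :=
  H.back (i := 5) (by decide) (f2674 H)

theorem f2676 : g 6 • path g [3, 4, 1, 3, 9] p = path g [3, 1, 9, 1, 8] p :=
  scan (u := [5]) (w := [0, 6, 5, 6]) (i := 6) (r3_1_2 H) (step (f2674 H) rfl) (step (H.back (i := 5) (by decide) (f2584 H)) (step (H.back (i := 1) (by decide) (f2587 H)) (step (H.back (i := 0) (by decide) (f2577 H)) (step (H.back (i := 1) (by decide) (f2658 H)) rfl))))

theorem f2677 : g 1 • path g [3, 1, 9, 1, 8] p = path g [3, 4, 1, 3, 9] p :=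
  H.back (i := 6) (by decide) (f2676 H)

theorem f2678 : g 7 • path g [3, 4, 6, 3, 4] p = path g [3, 4, 6, 3, 4] p :=
  scan (u := [5]) (w := [5, 5, 7, 5]) (i := 7) (r2_1_1 H) (step (f2672 H) rfl) (step (H.back (i := 0) (by decide) (f2670 H)) (step (H.back (i := 0) (by decide) (f2668 H)) (step (H.back (i := 2) (by decide) (f2666 H)) (step (H.back (i := 0) (by decide) (f2662 H)) rfl))))

theorem f2679 : g 2 • path g [3, 4, 6, 3, 4] p = path g [3, 4, 6, 3, 4] p :=
  H.back (i := 7) (by decide) (f2678 H)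

theorem f2680 : g 1 • path g [3, 4, 6, 3, 4] p = path g [3, 4, 6, 8, 9] p :=
  scan (u := [5]) (w := [0, 1, 0, 1]) (i := 1) (r3_0_1 H) (step (f2672 H) rfl) (step (H.back (i := 5) (by decide) (f2618 H)) (step (H.back (i := 6) (by decide) (f2624 H)) (step (H.back (i := 5) (by decide) (f2652 H)) (step (H.back (i := 6) (by decide) (f2656 H)) rfl))))

theorem f2681 : g 6 • path g [3, 4, 6, 8, 9] p = path g [3, 4, 6, 3, 4] p :=
  H.back (i := 1) (by decide) (f2680 H)

theorem f2682 : g 1 • path g [3, 1, 4, 1, 8] p = path g [3, 4, 6, 3, 4] p :=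
  scan (u := [1, 1]) (w := []) (i := 1) (r0_0_0 H) (step (f2680 H) (step (f2649 H) rfl)) rfl

theorem f2683 : g 6 • path g [3, 4, 6, 3, 4] p = path g [3, 1, 4, 1, 8] p :=
  H.back (i := 1) (by decide) (f2682 H)

theorem f2684 : g 1 • path g [3, 6, 9, 1, 3] p = path g [3, 1, 9, 1, 3] p :=
  scan (u := [1, 0, 1, 5]) (w := [0]) (i := 1) (r3_0_4 H) (step (f2680 H) (step (f2619 H) (step (f2625 H) (step (f2631 H) rfl)))) (step (H.back (i := 5) (by decide) (f2671 H)) rfl)

theorem f2685 : g 6 • path g [3, 1, 9, 1, 3] p = path g [3, 6, 9, 1, 3] p :=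
  H.back (i := 1) (by decide) (f2684 H)

theorem f2686 : g 2 • path g [3, 6, 9, 1, 3] p = path g [3, 6, 9, 1, 3] p :=
  scan (u := [1, 4, 2, 1, 4, 5, 5, 5, 6, 7, 5, 6, 7, 2, 1, 4]) (w := []) (i := 2) (r18_0_12 H) (step (f2684 H) (step (f2512 H) (step (f2465 H) (step (f2462 H) (step (f1334 H) (step (f578 H) (step (f1349 H) (step (f1340 H) (step (f2463 H) (step (f2464 H) (step (f1955 H) (step (f1778 H) (step (f1990 H) (step (f2007 H) (step (f1777 H) (step (f2629 H) rfl)))))))))))))))) rfl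

theorem f2687 : g 7 • path g [3, 6, 9, 1, 3] p = path g [3, 6, 9, 1, 3] p :=
  H.back (i := 2) (by decide) (f2686 H)

theorem f2688 : g 4 • path g [3, 9, 1, 3] p = path g [3, 9, 1, 3, 4] p :=
  rfl

theorem f2689 : g 9 • path g [3, 9, 1, 3, 4] p = path g [3, 9, 1, 3] p :=
  H.back (i := 4) (by decide) (f2688 H)

theorem f2690 : g 8 • path g [3, 9, 1, 3, 4] p = path g [3, 9, 1, 4] p :=
  scan (u := [4]) (w := [9, 3]) (i := 8) (r14_1_3 H) (step (f2688 H) rfl) (step (H.back (i := 4) (by decide) (f1732 H)) (step (H.back (i := 8) (by decide) (f1731 H)) rfl))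

theorem f2691 : g 3 • path g [3, 9, 1, 4] p = path g [3, 9, 1, 3, 4] p :=
  H.back (i := 8) (by decide) (f2690 H)

theorem f2692 : g 1 • path g [3, 9, 1, 3, 4] p = path g [3, 1, 9, 6, 8] p :=
  scan (u := [4]) (w := [4, 1, 4, 1, 4, 1, 4, 1, 4, 1, 4, 1]) (i := 1) (r16_0_1 H) (step (f2688 H) rfl) (step (H.back (i := 9) (by decide) (f2531 H)) (step (H.back (i := 6) (by decide) (f2683 H)) (step (H.back (i := 9) (by decide) (f2568 H)) (step (H.back (i := 6) (by decide) (f2633 H)) (step (H.back (i := 9) (by decide) (f2509 H)) (step (H.back (i := 6) (by decide) (f1794 H)) (step (H.back (i := 9) (by decide) (f1050 H)) (step (H.back (i := 6) (by decide) (f2014 H)) (step (H.back (i := 9) (by decide) (f2604 H)) (step (H.back (i := 6) (by decide) (f2656 H)) (step (H.back (i := 9) (by decide) (f2493 H)) (step (H.back (i := 6) (by decide) (f2436 H)) rfl))))))))))))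

theorem f2693 : g 6 • path g [3, 1, 9, 6, 8] p = path g [3, 9, 1, 3, 4] p :=
  H.back (i := 1) (by decide) (f2692 H)

theorem f2694 : g 2 • path g [3, 9, 1, 3, 4] p = path g [3, 9, 1, 3, 4] p :=
  scan (u := [4]) (w := [1, 4, 2, 1, 4, 5, 5, 5, 6, 7, 5, 6, 7, 2, 1]) (i := 2) (r18_0_10 H) (step (f2688 H) rfl) (step (H.back (i := 6) (by decide) (f2693 H)) (step (H.back (i := 9) (by decide) (f2531 H)) (step (H.back (i := 7) (by decide) (f2598 H)) (step (H.back (i := 6) (by decide) (f2648 H)) (step (H.back (i := 9) (by decide) (f2499 H)) (step (H.back (i := 0) (by decide) (f2478 H)) (step (H.back (i := 0) (by decide) (f2481 H)) (step (H.back (i := 0) (by decide) (f1930 H)) (step (H.back (i := 1) (by decide) (f1906 H)) (step (H.back (i := 2) (by decide) (f1841 H)) (step (H.back (i := 0) (by decide) (f1839 H)) (step (H.back (i := 1) (by decide) (f2435 H)) (step (H.back (i := 2) (by decide) (f2443 H)) (step (H.back (i := 7) (by decide) (f2444 H)) (step (H.back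 (i := 6) (by decide) (f2436 H)) rfl)))))))))))))))

theorem f2695 : g 7 • path g [3, 9, 1, 3, 4] p = path g [3, 9, 1, 3, 4] p :=
  H.back (i := 2) (by decide) (f2694 H)

theorem f2696 : g 1 • path g [3, 6, 9, 1, 8] p = path g [3, 9, 1, 3, 4] p :=
  scan (u := [2, 1, 2]) (w := []) (i := 1) (r1_0_0 H) (step (f2694 H) (step (f2692 H) (step (f2647 H) rfl))) rfl

theorem f2697 : g 6 • path g [3, 9, 1, 3, 4] p = path g [3, 6, 9, 1, 8] p :=
  H.back (i := 1) (by decide) (f2696 H)

theorem f2698 : g 9 • path g [3, 9, 1, 3] p = path g [3, 9, 1, 3, 9] p :=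
  rfl

theorem f2699 : g 4 • path g [3, 9, 1, 3, 9] p = path g [3, 9, 1, 3] p :=
  H.back (i := 9) (by decide) (f2698 H)

theorem f2700 : g 9 • path g [3, 9, 1, 3, 9] p = path g [3, 9, 1, 3, 4] p :=
  scan (u := [9]) (w := [9]) (i := 9) (r13_1_0 H) (step (f2698 H) rfl) (step (H.back (i := 4) (by decide) (f2688 H)) rfl)

theorem f2701 : g 4 • path g [3, 9, 1, 3, 4] p = path g [3, 9, 1, 3, 9] p :=
  H.back (i := 9) (by decide) (f2700 H)

theorem f2702 : g 8 • path g [3, 9, 1, 3, 9] p = path g [3, 9, 1, 9] p :=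
  scan (u := [9]) (w := [4, 3]) (i := 8) (r14_0_0 H) (step (f2698 H) rfl) (step (H.back (i := 9) (by decide) (f1740 H)) (step (H.back (i := 8) (by decide) (f1731 H)) rfl))

theorem f2703 : g 3 • path g [3, 9, 1, 9] p = path g [3, 9, 1, 3, 9] p :=
  H.back (i := 8) (by decide) (f2702 H)

theorem f2704 : g 2 • path g [3, 9, 1, 3, 9] p = path g [3, 1, 4, 1, 3] p :=
  scan (u := [9]) (w := [4, 5, 5, 5, 7, 5]) (i := 2) (r10_0_5 H) (step (f2698 H) rfl) (step (H.back (i := 9) (by decide) (f2493 H)) (step (H.back (i := 0) (by decide) (f2442 H)) (step (H.back (i := 0) (by decide) (f1953 H)) (step (H.back (i := 0) (by decide) (f1958 H)) (step (H.back (i := 2) (by decide) (f1841 H)) (step (H.back (i := 0) (by decide) (f1839 H)) rfl))))))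

theorem f2705 : g 7 • path g [3, 1, 4, 1, 3] p = path g [3, 9, 1, 3, 9] p :=
  H.back (i := 2) (by decide) (f2704 H)

theorem f2706 : g 7 • path g [3, 9, 1, 3, 9] p = path g [3, 1, 4, 1, 3] p :=
  scan (u := [9]) (w := [4, 0, 2, 0, 0, 0]) (i := 7) (r10_1_0 H) (step (f2698 H) rfl) (step (H.back (i := 9) (by decide) (f2493 H)) (step (H.back (i := 5) (by decide) (f2438 H)) (step (H.back (i := 7) (by decide) (f1911 H)) (step (H.back (i := 5) (by decide) (f2000 H)) (step (H.back (i := 5) (by decide) (f2468 H)) (step (H.back (i := 5) (by decide) (f2467 H)) rfl))))))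

theorem f2707 : g 2 • path g [3, 1, 4, 1, 3] p = path g [3, 9, 1, 3, 9] p :=
  H.back (i := 7) (by decide) (f2706 H)

theorem f2708 : g 1 • path g [3, 9, 1, 3, 9] p = path g [3, 6, 4, 1, 3] p :=
  scan (u := [9]) (w := [1, 0, 1, 4, 5, 6, 7, 5, 6]) (i := 1) (r12_0_5 H) (step (f2698 H) rfl) (step (H.back (i := 6) (by decide) (f2656 H)) (step (H.back (i := 5) (by decide) (f2663 H)) (step (H.back (i := 6) (by decide) (f2665 H)) (step (H.back (i := 9) (by decide) (f2552 H)) (step (H.back (i := 0) (by decide) (f1690 H)) (step (H.back (i := 1) (by decide) (f1891 H)) (step (H.back (i := 2) (by decide) (f1877 H)) (step (H.back (i := 0) (by decide) (f1880 H)) (step (H.back (i := 1) (by decide) (f2016 H)) rfl)))))))))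

theorem f2709 : g 6 • path g [3, 6, 4, 1, 3] p = path g [3, 9, 1, 3, 9] p :=
  H.back (i := 1) (by decide) (f2708 H)

theorem f2710 : g 6 • path g [3, 9, 1, 3, 9] p = path g [3, 1, 4, 1, 3] p :=
  scan (u := [9]) (w := [5, 6, 6, 4, 1, 0, 2, 1, 0]) (i := 6) (r12_1_0 H) (step (f2698 H) rfl) (step (H.back (i := 0) (by decide) (f2673 H)) (step (H.back (i := 1) (by decide) (f2682 H)) (step (H.back (i := 1) (by decide) (f2649 H)) (step (H.back (i := 9) (by decide) (f2588 H)) (step (H.back (i := 6) (by decide) (f1887 H)) (step (H.back (i := 5) (by decide) (f2480 H)) (step (H.back (i := 7) (by decide) (f2487 H)) (step (H.back (i := 6) (by decide) (f2473 H)) (step (H.back (i := 5) (by decide) (f2467 H)) rfl)))))))))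

theorem f2711 : g 1 • path g [3, 1, 4, 1, 3] p = path g [3, 9, 1, 3, 9] p :=
  H.back (i := 6) (by decide) (f2710 H)

theorem f2712 : g 5 • path g [3, 9, 1, 3, 4] p = path g [3, 9, 1, 3, 9] p :=
  scan (u := [6, 5, 6, 0, 6]) (w := []) (i := 5) (r3_1_1 H) (step (f2710 H) (step (f2672 H) (step (f2683 H) (step (f2535 H) (step (f2693 H) rfl))))) rfl

theorem f2713 : g 0 • path g [3, 9, 1, 3, 9] p = path g [3, 9, 1, 3, 4] p :=
  H.back (i := 5) (by decide) (f2712 H)

theorem f2714 : g 8 • path g [3, 9, 1, 4] p = path g [3, 9, 1, 4, 8] p :=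
  rfl

theorem f2715 : g 3 • path g [3, 9, 1, 4, 8] p = path g [3, 9, 1, 4] p :=
  H.back (i := 8) (by decide) (f2714 H)

theorem f2716 : g 8 • path g [3, 9, 1, 4, 8] p = path g [3, 9, 1, 3, 4] p :=
  scan (u := [8]) (w := [8]) (i := 8) (r9_1_0 H) (step (f2714 H) rfl) (step (H.back (i := 3) (by decide) (f2691 H)) rfl)

theorem f2717 : g 3 • path g [3, 9, 1, 3, 4] p = path g [3, 9, 1, 4, 8] p :=
  H.back (i := 8) (by decide) (f2716 H)

theorem f2718 : g 9 • path g [3, 9, 1, 4, 8] p = path g [3, 9, 1, 8] p :=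
  scan (u := [8]) (w := [3, 4]) (i := 9) (r14_1_0 H) (step (f2714 H) rfl) (step (H.back (i := 8) (by decide) (f1734 H)) (step (H.back (i := 9) (by decide) (f1733 H)) rfl))

theorem f2719 : g 4 • path g [3, 9, 1, 8] p = path g [3, 9, 1, 4, 8] p :=
  H.back (i := 9) (by decide) (f2718 H)

theorem f2720 : g 0 • path g [3, 9, 1, 4, 8] p = path g [3, 1, 9, 1, 8] p :=
  scan (u := [8]) (w := [3, 6, 5, 7, 5, 6]) (i := 0) (r7_0_5 H) (step (f2714 H) rfl) (step (H.back (i := 8) (by decide) (f2514 H)) (step (H.back (i := 1) (by decide) (f1611 H)) (step (H.back (i := 0) (by decide) (f2337 H)) (step (H.back (i := 2) (by decide) (f2247 H)) (step (H.back (i := 0) (by decide) (f2325 H)) (step (H.back (i := 1) (by decide) (f2145 H)) rfl))))))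

theorem f2721 : g 5 • path g [3, 1, 9, 1, 8] p = path g [3, 9, 1, 4, 8] p :=
  H.back (i := 0) (by decide) (f2720 H)

theorem f2722 : g 2 • path g [3, 9, 1, 4, 8] p = path g [3, 4, 1, 4, 8] p :=
  scan (u := [8]) (w := [3, 5, 5, 6, 5, 7, 5, 6, 5]) (i := 2) (r6_0_8 H) (step (f2714 H) rfl) (step (H.back (i := 8) (by decide) (f2546 H)) (step (H.back (i := 0) (by decide) (f2206 H)) (step (H.back (i := 0) (by decide) (f2228 H)) (step (H.back (i := 1) (by decide) (f1713 H)) (step (H.back (i := 0) (by decide) (f2404 H)) (step (H.back (i := 2) (by decide) (f2127 H)) (step (H.back (i := 0) (by decide) (f2393 H)) (step (H.back (i := 1) (by decide) (f2213 H)) (step (H.back (i := 0) (by decide) (f2224 H)) rfl)))))))))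

theorem f2723 : g 7 • path g [3, 4, 1, 4, 8] p = path g [3, 9, 1, 4, 8] p :=
  H.back (i := 2) (by decide) (f2722 H)

theorem f2724 : g 7 • path g [3, 9, 1, 4, 8] p = path g [3, 4, 1, 4, 8] p :=
  scan (u := [8]) (w := [3, 0, 1, 0, 2, 0, 1, 0, 0]) (i := 7) (r6_1_0 H) (step (f2714 H) rfl) (step (H.back (i := 8) (by decide) (f2546 H)) (step (H.back (i := 5) (by decide) (f2339 H)) (step (H.back (i := 6) (by decide) (f1588 H)) (step (H.back (i := 5) (by decide) (f2362 H)) (step (H.back (i := 7) (by decide) (f2405 H)) (step (H.back (i := 5) (by decide) (f2399 H)) (step (H.back (i := 6) (by decide) (f1618 H)) (step (H.back (i := 5) (by decide) (f2185 H)) (step (H.back (i := 5) (by decide) (f2190 H)) rfl)))))))))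

theorem f2725 : g 2 • path g [3, 4, 1, 4, 8] p = path g [3, 9, 1, 4, 8] p :=
  H.back (i := 7) (by decide) (f2724 H)

theorem f2726 : g 6 • path g [3, 1, 9, 1, 8] p = path g [3, 9, 1, 4, 8] p :=
  scan (u := [7, 5, 6, 9, 1, 1, 0, 1, 4, 5]) (w := []) (i := 6) (r12_0_2 H) (step (f2724 H) (step (f2560 H) (step (f2665 H) (step (f2522 H) (step (f2435 H) (step (f2016 H) (step (f1880 H) (step (f1891 H) (step (f2583 H) (step (f2584 H) rfl)))))))))) rfl

theorem f2727 : g 1 • path g [3, 9, 1, 4, 8] p = path g [3, 1, 9, 1, 8] p :=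
  H.back (i := 6) (by decide) (f2726 H)

theorem f2728 : g 6 • path g [3, 9, 1, 4, 8] p = path g [3, 4, 1, 3, 9] p :=
  scan (u := [6]) (w := [6]) (i := 6) (r0_1_0 H) (step (f2726 H) rfl) (step (H.back (i := 1) (by decide) (f2677 H)) rfl)

theorem f2729 : g 1 • path g [3, 4, 1, 3, 9] p = path g [3, 9, 1, 4, 8] p :=
  H.back (i := 6) (by decide) (f2728 H)

theorem f2730 : g 9 • path g [3, 9, 1, 8] p = path g [3, 9, 1, 8, 9] p :=
  rfl

theorem f2731 : g 4 • path g [3, 9, 1, 8, 9] p = path g [3, 9, 1, 8] p :=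
  H.back (i := 9) (by decide) (f2730 H)

theorem f2732 : g 9 • path g [3, 9, 1, 8, 9] p = path g [3, 9, 1, 4, 8] p :=
  scan (u := [9]) (w := [9]) (i := 9) (r13_1_0 H) (step (f2730 H) rfl) (step (H.back (i := 4) (by decide) (f2719 H)) rfl)

theorem f2733 : g 4 • path g [3, 9, 1, 4, 8] p = path g [3, 9, 1, 8, 9] p :=
  H.back (i := 9) (by decide) (f2732 H)

theorem f2734 : g 8 • path g [3, 9, 1, 8, 9] p = path g [3, 9, 1, 3, 9] p :=
  scan (u := [9]) (w := [4, 3]) (i := 8) (r14_0_0 H) (step (f2730 H) rfl) (step (H.back (i := 9) (by decide) (f2698 H)) (step (H.back (i := 8) (by decide) (f1736 H)) rfl))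

theorem f2735 : g 3 • path g [3, 9, 1, 3, 9] p = path g [3, 9, 1, 8, 9] p :=
  H.back (i := 8) (by decide) (f2734 H)

theorem f2736 : g 3 • path g [3, 9, 1, 8, 9] p = path g [3, 9, 1, 9] p :=
  scan (u := [9]) (w := [4, 8]) (i := 3) (r14_1_1 H) (step (f2730 H) rfl) (step (H.back (i := 9) (by decide) (f1740 H)) (step (H.back (i := 3) (by decide) (f1735 H)) rfl))

theorem f2737 : g 8 • path g [3, 9, 1, 9] p = path g [3, 9, 1, 8, 9] p :=
  H.back (i := 3) (by decide) (f2736 H)

theorem f2738 : g 2 • path g [3, 9, 1, 8, 9] p = path g [3, 1, 4, 6, 8] p :=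
  scan (u := [9]) (w := [4, 5, 5, 5, 7, 5]) (i := 2) (r10_0_5 H) (step (f2730 H) rfl) (step (H.back (i := 9) (by decide) (f2509 H)) (step (H.back (i := 0) (by decide) (f2449 H)) (step (H.back (i := 0) (by decide) (f2478 H)) (step (H.back (i := 0) (by decide) (f2481 H)) (step (H.back (i := 2) (by decide) (f1818 H)) (step (H.back (i := 0) (by decide) (f1738 H)) rfl))))))

theorem f2739 : g 7 • path g [3, 1, 4, 6, 8] p = path g [3, 9, 1, 8, 9] p :=
  H.back (i := 2) (by decide) (f2738 H)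

theorem f2740 : g 7 • path g [3, 9, 1, 8, 9] p = path g [3, 1, 4, 6, 8] p :=
  scan (u := [9]) (w := [4, 0, 2, 0, 0, 0]) (i := 7) (r10_1_0 H) (step (f2730 H) rfl) (step (H.back (i := 9) (by decide) (f2509 H)) (step (H.back (i := 5) (by decide) (f1932 H)) (step (H.back (i := 7) (by decide) (f1820 H)) (step (H.back (i := 5) (by decide) (f1691 H)) (step (H.back (i := 5) (by decide) (f1758 H)) (step (H.back (i := 5) (by decide) (f1757 H)) rfl))))))

theorem f2741 : g 2 • path g [3, 1, 4, 6, 8] p = path g [3, 9, 1, 8, 9] p :=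
  H.back (i := 7) (by decide) (f2740 H)

theorem f2742 : g 6 • path g [3, 9, 1, 8, 9] p = path g [3, 4, 6, 4, 8] p :=
  scan (u := [9]) (w := [5, 6, 6, 4, 1, 0, 2, 1, 0]) (i := 6) (r12_1_0 H) (step (f2730 H) rfl) (step (H.back (i := 0) (by decide) (f2585 H)) (step (H.back (i := 1) (by decide) (f2727 H)) (step (H.back (i := 1) (by decide) (f2729 H)) (step (H.back (i := 9) (by decide) (f2540 H)) (step (H.back (i := 6) (by decide) (f1996 H)) (step (H.back (i := 5) (by decide) (f1975 H)) (step (H.back (i := 7) (by decide) (f1979 H)) (step (H.back (i := 6) (by decide) (f1982 H)) (step (H.back (i := 5) (by decide) (f1757 H)) rfl)))))))))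

theorem f2743 : g 1 • path g [3, 4, 6, 4, 8] p = path g [3, 9, 1, 8, 9] p :=
  H.back (i := 6) (by decide) (f2742 H)

theorem f2744 : g 0 • path g [3, 9, 1, 8, 9] p = path g [3, 9, 1, 4, 8] p :=
  scan (u := [9]) (w := [2, 0, 4, 5, 6, 5, 7, 5, 6, 7]) (i := 0) (r11_0_7 H) (step (f2730 H) rfl) (step (H.back (i := 7) (by decide) (f2723 H)) (step (H.back (i := 5) (by decide) (f2601 H)) (step (H.back (i := 9) (by decide) (f2588 H)) (step (H.back (i := 0) (by decide) (f1738 H)) (step (H.back (i := 1) (by decide) (f1942 H)) (step (H.back (i := 0) (by decide) (f1342 H)) (step (H.back (i := 2) (by decide) (f579 H)) (step (H.back (i := 0) (by decide) (f1350 H)) (step (H.back (i := 1) (by decide) (f2482 H)) (step (H.back (i := 2) (by decide) (f2489 H)) rfl))))))))))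

theorem f2745 : g 5 • path g [3, 9, 1, 4, 8] p = path g [3, 9, 1, 8, 9] p :=
  H.back (i := 0) (by decide) (f2744 H)

theorem f2746 : g 5 • path g [3, 9, 1, 8, 9] p = path g [3, 4, 6, 4, 8] p :=
  scan (u := [9]) (w := [7, 5, 4, 2, 1, 0, 2, 0, 1, 0]) (i := 5) (r11_1_0 H) (step (f2730 H) rfl) (step (H.back (i := 2) (by decide) (f2620 H)) (step (H.back (i := 0) (by decide) (f2619 H)) (step (H.back (i := 9) (by decide) (f2588 H)) (step (H.back (i := 7) (by decide) (f1819 H)) (step (H.back (i := 6) (by decide) (f1812 H)) (step (H.back (i := 5) (by decide) (f2006 H)) (step (H.back (i := 7) (by decide) (f1990 H)) (step (H.back (i := 5) (by decide) (f1975 H)) (step (H.back (i := 6) (by decide) (f1982 H)) (step (H.back (i := 5) (by decide) (f1757 H)) rfl))))))))))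

theorem f2747 : g 0 • path g [3, 4, 6, 4, 8] p = path g [3, 9, 1, 8, 9] p :=
  H.back (i := 5) (by decide) (f2746 H)

theorem f2748 : g 6 • path g [3, 1, 4, 6, 3] p = path g [3, 9, 1, 8, 9] p :=
  scan (u := [5, 6, 5, 6, 0]) (w := []) (i := 6) (r3_1_0 H) (step (f2746 H) (step (f2586 H) (step (f2576 H) (step (f2659 H) (step (f2577 H) rfl))))) rfl

theorem f2749 : g 1 • path g [3, 9, 1, 8, 9] p = path g [3, 1, 4, 6, 3] p :=
  H.back (i := 6) (by decide) (f2748 H)

theorem f2750 : g 9 • path g [4, 1, 3, 1] p = path g [4, 1, 3, 1, 9] p :=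
  rfl

theorem f2751 : g 4 • path g [4, 1, 3, 1, 9] p = path g [4, 1, 3, 1] p :=
  H.back (i := 9) (by decide) (f2750 H)

theorem f2752 : g 9 • path g [4, 1, 3, 1, 9] p = path g [3, 6, 9, 1, 3] p :=
  scan (u := [9]) (w := [9]) (i := 9) (r13_1_0 H) (step (f2750 H) rfl) (step (H.back (i := 4) (by decide) (f2629 H)) rfl)

theorem f2753 : g 4 • path g [3, 6, 9, 1, 3] p = path g [4, 1, 3, 1, 9] p :=
  H.back (i := 9) (by decide) (f2752 H)

theorem f2754 : g 8 • path g [4, 1, 3, 1, 9] p = path g [4, 8, 1, 9] p :=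
  scan (u := [9]) (w := [4, 3]) (i := 8) (r14_0_0 H) (step (f2750 H) rfl) (step (H.back (i := 9) (by decide) (f1850 H)) (step (H.back (i := 8) (by decide) (f1947 H)) rfl))

theorem f2755 : g 3 • path g [4, 8, 1, 9] p = path g [4, 1, 3, 1, 9] p :=
  H.back (i := 8) (by decide) (f2754 H)

theorem f2756 : g 2 • path g [4, 1, 3, 1, 9] p = path g [3, 4, 1, 3, 9] p :=
  scan (u := [9]) (w := [4, 5, 5, 5, 7, 5]) (i := 2) (r10_0_5 H) (step (f2750 H) rfl) (step (H.back (i := 9) (by decide) (f2540 H)) (step (H.back (i := 0) (by decide) (f2002 H)) (step (H.back (i := 0) (by decide) (f1839 H)) (step (H.back (i := 0) (by decide) (f2466 H)) (step (H.back (i := 2) (by decide) (f2465 H)) (step (H.back (i := 0) (by decide) (f1953 H)) rfl))))))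

theorem f2757 : g 7 • path g [3, 4, 1, 3, 9] p = path g [4, 1, 3, 1, 9] p :=
  H.back (i := 2) (by decide) (f2756 H)

theorem f2758 : g 7 • path g [4, 1, 3, 1, 9] p = path g [3, 4, 1, 3, 9] p :=
  scan (u := [9]) (w := [4, 0, 2, 0, 0, 0]) (i := 7) (r10_1_0 H) (step (f2750 H) rfl) (step (H.back (i := 9) (by decide) (f2540 H)) (step (H.back (i := 5) (by decide) (f2468 H)) (step (H.back (i := 7) (by decide) (f2470 H)) (step (H.back (i := 5) (by decide) (f2441 H)) (step (H.back (i := 5) (by decide) (f2438 H)) (step (H.back (i := 5) (by decide) (f1956 H)) rfl))))))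

theorem f2759 : g 2 • path g [3, 4, 1, 3, 9] p = path g [4, 1, 3, 1, 9] p :=
  H.back (i := 7) (by decide) (f2758 H)

theorem f2760 : g 0 • path g [4, 1, 3, 1, 9] p = path g [3, 6, 9, 1, 3] p :=
  scan (u := [9]) (w := [2, 0, 4, 5, 6, 5, 7, 5, 6, 7]) (i := 0) (r11_0_7 H) (step (f2750 H) rfl) (step (H.back (i := 7) (by decide) (f2687 H)) (step (H.back (i := 5) (by decide) (f2631 H)) (step (H.back (i := 9) (by decide) (f2566 H)) (step (H.back (i := 0) (by decide) (f2437 H)) (step (H.back (i := 1) (by decide) (f2434 H)) (step (H.back (i := 0) (by decide) (f2010 H)) (step (H.back (i := 2) (by decide) (f1977 H)) (step (H.back (i := 0) (by decide) (f2005 H)) (step (H.back (i := 1) (by decide) (f1994 H)) (step (H.back (i := 2) (by decide) (f2008 H)) rfl))))))))))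

theorem f2761 : g 5 • path g [3, 6, 9, 1, 3] p = path g [4, 1, 3, 1, 9] p :=
  H.back (i := 0) (by decide) (f2760 H)

theorem f2762 : g 5 • path g [4, 1, 3, 1, 9] p = path g [3, 6, 4, 1, 3] p :=
  scan (u := [9]) (w := [7, 5, 4, 2, 1, 0, 2, 0, 1, 0]) (i := 5) (r11_1_0 H) (step (f2750 H) rfl) (step (H.back (i := 2) (by decide) (f2655 H)) (step (H.back (i := 0) (by decide) (f2653 H)) (step (H.back (i := 9) (by decide) (f2566 H)) (step (H.back (i := 7) (by decide) (f1911 H)) (step (H.back (i := 6) (by decide) (f1832 H)) (step (H.back (i := 5) (by decide) (f578 H)) (step (H.back (i := 7) (by decide) (f581 H)) (step (H.back (i := 5) (by decide) (f578 H)) (step (H.back (i := 6) (by decide) (f1903 H)) (step (H.back (i := 5) (by decide) (f1956 H)) rfl))))))))))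

theorem f2763 : g 0 • path g [3, 6, 4, 1, 3] p = path g [4, 1, 3, 1, 9] p :=
  H.back (i := 5) (by decide) (f2762 H)

theorem f2764 : g 6 • path g [4, 1, 3, 1, 9] p = path g [3, 4, 1, 4, 8] p :=
  scan (u := [9]) (w := [9, 6, 9, 6, 9, 6, 9, 6, 9, 6, 9, 6]) (i := 6) (r16_1_0 H) (step (f2750 H) rfl) (step (H.back (i := 4) (by decide) (f2551 H)) (step (H.back (i := 1) (by decide) (f1918 H)) (step (H.back (i := 4) (by decide) (f1351 H)) (step (H.back (i := 1) (by decide) (f1833 H)) (step (H.back (i := 4) (by decide) (f2502 H)) (step (H.back (i := 1) (by decide) (f2749 H)) (step (H.back (i := 4) (by decide) (f2733 H)) (step (H.back (i := 1) (by decide) (f2729 H)) (step (H.back (i := 4) (by decide) (f2543 H)) (step (H.back (i := 1) (by decide) (f2658 H)) (step (H.back (i := 4) (by decide) (f2536 H)) (step (H.back (i := 1) (by decide) (f1999 H)) rfl))))))))))))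

theorem f2765 : g 1 • path g [3, 4, 1, 4, 8] p = path g [4, 1, 3, 1, 9] p :=
  H.back (i := 6) (by decide) (f2764 H)

theorem f2766 : g 4 • path g [4, 1, 8, 6] p = path g [4, 1, 8, 6, 4] p :=
  rfl

theorem f2767 : g 9 • path g [4, 1, 8, 6, 4] p = path g [4, 1, 8, 6] p :=
  H.back (i := 4) (by decide) (f2766 H)

theorem f2768 : g 4 • path g [4, 1, 8, 6, 4] p = path g [3, 1, 4, 6, 8] p :=
  scan (u := [4]) (w := [4]) (i := 4) (r13_0_0 H) (step (f2766 H) rfl) (step (H.back (i := 9) (by decide) (f2509 H)) rfl)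

theorem f2769 : g 9 • path g [3, 1, 4, 6, 8] p = path g [4, 1, 8, 6, 4] p :=
  H.back (i := 4) (by decide) (f2768 H)

theorem f2770 : g 3 • path g [4, 1, 8, 6, 4] p = path g [4, 8, 6, 4] p :=
  scan (u := [4]) (w := [9, 8]) (i := 3) (r14_0_2 H) (step (f2766 H) rfl) (step (H.back (i := 4) (by decide) (f1856 H)) (step (H.back (i := 3) (by decide) (f1924 H)) rfl))

theorem f2771 : g 8 • path g [4, 8, 6, 4] p = path g [4, 1, 8, 6, 4] p :=
  H.back (i := 3) (by decide) (f2770 H)

theorem f2772 : g 0 • path g [4, 1, 8, 6, 4] p = path g [3, 1, 4, 1, 8] p :=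
  scan (u := [4]) (w := [2, 0, 0, 0, 9, 7]) (i := 0) (r10_1_2 H) (step (f2766 H) rfl) (step (H.back (i := 7) (by decide) (f2598 H)) (step (H.back (i := 5) (by decide) (f2618 H)) (step (H.back (i := 5) (by decide) (f2617 H)) (step (H.back (i := 5) (by decide) (f2560 H)) (step (H.back (i := 4) (by decide) (f2551 H)) (step (H.back (i := 2) (by decide) (f1933 H)) rfl))))))

theorem f2773 : g 5 • path g [3, 1, 4, 1, 8] p = path g [4, 1, 8, 6, 4] p :=
  H.back (i := 0) (by decide) (f2772 H)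

theorem f2774 : g 9 • path g [4, 6, 3, 6] p = path g [4, 6, 3, 6, 9] p :=
  rfl

theorem f2775 : g 4 • path g [4, 6, 3, 6, 9] p = path g [4, 6, 3, 6] p :=
  H.back (i := 9) (by decide) (f2774 H)

theorem f2776 : g 9 • path g [4, 6, 3, 6, 9] p = path g [3, 6, 9, 1, 8] p :=
  scan (u := [9]) (w := [9]) (i := 9) (r13_1_0 H) (step (f2774 H) rfl) (step (H.back (i := 4) (by decide) (f2641 H)) rfl)

theorem f2777 : g 4 • path g [3, 6, 9, 1, 8] p = path g [4, 6, 3, 6, 9] p :=
  H.back (i := 9) (by decide) (f2776 H)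

theorem f2778 : g 8 • path g [4, 6, 3, 6, 9] p = path g [4, 1, 3, 1, 9] p :=
  scan (u := [9]) (w := [4, 3]) (i := 8) (r14_0_0 H) (step (f2774 H) rfl) (step (H.back (i := 9) (by decide) (f2750 H)) (step (H.back (i := 8) (by decide) (f1952 H)) rfl))

theorem f2779 : g 3 • path g [4, 1, 3, 1, 9] p = path g [4, 6, 3, 6, 9] p :=
  H.back (i := 8) (by decide) (f2778 H)

theorem f2780 : g 3 • path g [4, 6, 3, 6, 9] p = path g [4, 8, 1, 9] p :=
  scan (u := [9]) (w := [4, 8]) (i := 3) (r14_1_1 H) (step (f2774 H) rfl) (step (H.back (i := 9) (by decide) (f1850 H)) (step (H.back (i := 3) (by decide) (f1816 H)) rfl))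

theorem f2781 : g 8 • path g [4, 8, 1, 9] p = path g [4, 6, 3, 6, 9] p :=
  H.back (i := 3) (by decide) (f2780 H)

theorem f2782 : g 2 • path g [4, 6, 3, 6, 9] p = path g [3, 1, 9, 1, 8] p :=
  scan (u := [9]) (w := [4, 5, 5, 5, 7, 5]) (i := 2) (r10_0_5 H) (step (f2774 H) rfl) (step (H.back (i := 9) (by decide) (f2519 H)) (step (H.back (i := 0) (by decide) (f1759 H)) (step (H.back (i := 0) (by decide) (f1690 H)) (step (H.back (i := 0) (by decide) (f1738 H)) (step (H.back (i := 2) (by decide) (f2486 H)) (step (H.back (i := 0) (by decide) (f2481 H)) rfl))))))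

theorem f2783 : g 7 • path g [3, 1, 9, 1, 8] p = path g [4, 6, 3, 6, 9] p :=
  H.back (i := 2) (by decide) (f2782 H)

theorem f2784 : g 7 • path g [4, 6, 3, 6, 9] p = path g [3, 1, 9, 1, 8] p :=
  scan (u := [9]) (w := [4, 0, 2, 0, 0, 0]) (i := 7) (r10_1_0 H) (step (f2774 H) rfl) (step (H.back (i := 9) (by decide) (f2519 H)) (step (H.back (i := 5) (by decide) (f1757 H)) (step (H.back (i := 7) (by decide) (f2488 H)) (step (H.back (i := 5) (by decide) (f2479 H)) (step (H.back (i := 5) (by decide) (f2450 H)) (step (H.back (i := 5) (by decide) (f1932 H)) rfl))))))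

theorem f2785 : g 2 • path g [3, 1, 9, 1, 8] p = path g [4, 6, 3, 6, 9] p :=
  H.back (i := 7) (by decide) (f2784 H)

theorem f2786 : g 1 • path g [4, 6, 3, 6, 9] p = path g [3, 4, 1, 4, 8] p :=
  scan (u := [9]) (w := [1, 0, 1, 4, 5, 6, 7, 5, 6]) (i := 1) (r12_0_5 H) (step (f2774 H) rfl) (step (H.back (i := 6) (by decide) (f2764 H)) (step (H.back (i := 5) (by decide) (f2761 H)) (step (H.back (i := 6) (by decide) (f2685 H)) (step (H.back (i := 9) (by decide) (f2513 H)) (step (H.back (i := 0) (by decide) (f1953 H)) (step (H.back (i := 1) (by decide) (f1777 H)) (step (H.back (i := 2) (by decide) (f2007 H)) (step (H.back (i := 0) (by decide) (f1987 H)) (step (H.back (i := 1) (by decide) (f1813 H)) rfl)))))))))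

theorem f2787 : g 6 • path g [3, 4, 1, 4, 8] p = path g [4, 6, 3, 6, 9] p :=
  H.back (i := 1) (by decide) (f2786 H)

theorem f2788 : g 6 • path g [4, 6, 3, 6, 9] p = path g [4, 1, 3, 1, 9] p :=
  scan (u := [9]) (w := [5, 6, 6, 4, 1, 0, 2, 1, 0]) (i := 6) (r12_1_0 H) (step (f2774 H) rfl) (step (H.back (i := 0) (by decide) (f2763 H)) (step (H.back (i := 1) (by decide) (f2708 H)) (step (H.back (i := 1) (by decide) (f2711 H)) (step (H.back (i := 9) (by decide) (f2493 H)) (step (H.back (i := 6) (by decide) (f2436 H)) (step (H.back (i := 5) (by decide) (f1838 H)) (step (H.back (i := 7) (by decide) (f1840 H)) (step (H.back (i := 6) (by decide) (f1908 H)) (step (H.back (i := 5) (by decide) (f1932 H)) rfl)))))))))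

theorem f2789 : g 1 • path g [4, 1, 3, 1, 9] p = path g [4, 6, 3, 6, 9] p :=
  H.back (i := 6) (by decide) (f2788 H)

theorem f2790 : g 5 • path g [3, 6, 9, 1, 8] p = path g [4, 6, 3, 6, 9] p :=
  scan (u := [6, 5, 6, 0, 6]) (w := []) (i := 5) (r3_1_1 H) (step (f2788 H) (step (f2762 H) (step (f2709 H) (step (f2713 H) (step (f2697 H) rfl))))) rfl

theorem f2791 : g 0 • path g [4, 6, 3, 6, 9] p = path g [3, 6, 9, 1, 8] p :=
  H.back (i := 5) (by decide) (f2790 H)

theorem f2792 : g 4 • path g [4, 6, 8, 6] p = path g [4, 6, 8, 6, 4] p :=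
  rfl

theorem f2793 : g 9 • path g [4, 6, 8, 6, 4] p = path g [4, 6, 8, 6] p :=
  H.back (i := 4) (by decide) (f2792 H)

theorem f2794 : g 4 • path g [4, 6, 8, 6, 4] p = path g [3, 1, 4, 6, 3] p :=
  scan (u := [4]) (w := [4]) (i := 4) (r13_0_0 H) (step (f2792 H) rfl) (step (H.back (i := 9) (by decide) (f2503 H)) rfl)

theorem f2795 : g 9 • path g [3, 1, 4, 6, 3] p = path g [4, 6, 8, 6, 4] p :=
  H.back (i := 4) (by decide) (f2794 H)

theorem f2796 : g 3 • path g [4, 6, 8, 6, 4] p = path g [4, 1, 8, 6, 4] p :=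
  scan (u := [4]) (w := [9, 8]) (i := 3) (r14_0_2 H) (step (f2792 H) rfl) (step (H.back (i := 4) (by decide) (f2766 H)) (step (H.back (i := 3) (by decide) (f1929 H)) rfl))

theorem f2797 : g 8 • path g [4, 1, 8, 6, 4] p = path g [4, 6, 8, 6, 4] p :=
  H.back (i := 3) (by decide) (f2796 H)

theorem f2798 : g 8 • path g [4, 6, 8, 6, 4] p = path g [4, 8, 6, 4] p :=
  scan (u := [4]) (w := [9, 3]) (i := 8) (r14_1_3 H) (step (f2792 H) rfl) (step (H.back (i := 4) (by decide) (f1856 H)) (step (H.back (i := 8) (by decide) (f1896 H)) rfl))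

theorem f2799 : g 3 • path g [4, 8, 6, 4] p = path g [4, 6, 8, 6, 4] p :=
  H.back (i := 8) (by decide) (f2798 H)

theorem f2800 : g 0 • path g [4, 6, 8, 6, 4] p = path g [3, 9, 1, 3, 9] p :=
  scan (u := [4]) (w := [2, 0, 0, 0, 9, 7]) (i := 0) (r10_1_2 H) (step (f2792 H) rfl) (step (H.back (i := 7) (by decide) (f2705 H)) (step (H.back (i := 5) (by decide) (f2663 H)) (step (H.back (i := 5) (by decide) (f2669 H)) (step (H.back (i := 5) (by decide) (f2671 H)) (step (H.back (i := 4) (by decide) (f2562 H)) (step (H.back (i := 2) (by decide) (f1841 H)) rfl))))))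

theorem f2801 : g 5 • path g [3, 9, 1, 3, 9] p = path g [4, 6, 8, 6, 4] p :=
  H.back (i := 0) (by decide) (f2800 H)

theorem f2802 : g 1 • path g [4, 6, 8, 6, 4] p = path g [4, 1, 8, 6, 4] p :=
  scan (u := [4]) (w := [0, 2, 1, 0, 9, 6, 5, 6, 6]) (i := 1) (r12_1_5 H) (step (f2792 H) rfl) (step (H.back (i := 5) (by decide) (f2773 H)) (step (H.back (i := 7) (by decide) (f2598 H)) (step (H.back (i := 6) (by decide) (f2648 H)) (step (H.back (i := 5) (by decide) (f2534 H)) (step (H.back (i := 4) (by decide) (f2533 H)) (step (H.back (i := 1) (by decide) (f2454 H)) (step (H.back (i := 0) (by decide) (f1759 H)) (step (H.back (i := 1) (by decide) (f1918 H)) (step (H.back (i := 1) (by decide) (f1833 H)) rfl)))))))))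

theorem f2803 : g 6 • path g [4, 1, 8, 6, 4] p = path g [4, 6, 8, 6, 4] p :=
  H.back (i := 1) (by decide) (f2802 H)

theorem f2804 : g 2 • path g [4, 6, 8, 6, 4] p = path g [4, 6, 8, 6, 4] p :=
  scan (u := [4]) (w := [1, 0, 2, 0, 1, 0, 9, 5, 7, 5]) (i := 2) (r11_1_4 H) (step (f2792 H) rfl) (step (H.back (i := 6) (by decide) (f2803 H)) (step (H.back (i := 5) (by decide) (f2773 H)) (step (H.back (i := 7) (by decide) (f2598 H)) (step (H.back (i := 5) (by decide) (f2618 H)) (step (H.back (i := 6) (by decide) (f2624 H)) (step (H.back (i := 5) (by decide) (f2652 H)) (step (H.back (i := 4) (by decide) (f2605 H)) (step (H.back (i := 0) (by decide) (f1953 H)) (step (H.back (i := 2) (by decide) (f2004 H)) (step (H.back (i := 0) (by decide) (f2002 H)) rfl))))))))))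

theorem f2805 : g 7 • path g [4, 6, 8, 6, 4] p = path g [4, 6, 8, 6, 4] p :=
  H.back (i := 2) (by decide) (f2804 H)

theorem f2807 : g 3 • path g [8, 1, 9, 1] p = path g [8, 1, 9, 1, 3] p :=
  rfl

theorem f2808 : g 8 • path g [8, 1, 9, 1, 3] p = path g [8, 1, 9, 1] p :=
  H.back (i := 3) (by decide) (f2807 H)

theorem f2809 : g 4 • path g [8, 1, 9, 1, 3] p = path g [8, 9, 6, 3] p :=
  scan (u := [3]) (w := [8, 9]) (i := 4) (r14_1_2 H) (step (f2807 H) rfl) (step (H.back (i := 3) (by decide) (f2460 H)) (step (H.back (i := 4) (by decide) (f2430 H)) rfl))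

theorem f2810 : g 9 • path g [8, 9, 6, 3] p = path g [8, 1, 9, 1, 3] p :=
  H.back (i := 4) (by decide) (f2809 H)

theorem f2811 : g 6 • path g [8, 1, 9, 1, 3] p = path g [3, 1, 9, 1, 3] p :=
  scan (u := [3]) (w := [5, 7, 5, 6, 8, 0]) (i := 6) (r7_0_7 H) (step (f2807 H) rfl) (step (H.back (i := 0) (by decide) (f2668 H)) (step (H.back (i := 2) (by decide) (f2666 H)) (step (H.back (i := 0) (by decide) (f2662 H)) (step (H.back (i := 1) (by decide) (f2657 H)) (step (H.back (i := 3) (by decide) (f2602 H)) (step (H.back (i := 5) (by decide) (f2320 H)) rfl))))))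

theorem f2812 : g 1 • path g [3, 1, 9, 1, 3] p = path g [8, 1, 9, 1, 3] p :=
  H.back (i := 6) (by decide) (f2811 H)

theorem f2813 : g 7 • path g [8, 1, 9, 1, 3] p = path g [3, 1, 9, 1, 3] p :=
  scan (u := [3]) (w := [5, 8, 1, 0, 2, 0, 1]) (i := 7) (r8_0_8 H) (step (f2807 H) rfl) (step (H.back (i := 0) (by decide) (f2668 H)) (step (H.back (i := 3) (by decide) (f2520 H)) (step (H.back (i := 6) (by decide) (f1616 H)) (step (H.back (i := 5) (by decide) (f2345 H)) (step (H.back (i := 7) (by decide) (f2134 H)) (step (H.back (i := 5) (by decide) (f2292 H)) (step (H.back (i := 6) (by decide) (f2045 H)) rfl)))))))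

theorem f2814 : g 2 • path g [3, 1, 9, 1, 3] p = path g [8, 1, 9, 1, 3] p :=
  H.back (i := 7) (by decide) (f2813 H)

theorem f2815 : g 0 • path g [8, 1, 9, 1, 3] p = path g [4, 6, 8, 6, 4] p :=
  scan (u := [3]) (w := [2, 8, 6, 5, 7, 5, 6]) (i := 0) (r8_1_6 H) (step (f2807 H) rfl) (step (H.back (i := 7) (by decide) (f2805 H)) (step (H.back (i := 3) (by decide) (f2799 H)) (step (H.back (i := 1) (by decide) (f2375 H)) (step (H.back (i := 0) (by decide) (f2402 H)) (step (H.back (i := 2) (by decide) (f2368 H)) (step (H.back (i := 0) (by decide) (f2224 H)) (step (H.back (i := 1) (by decide) (f2150 H)) rfl)))))))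

theorem f2816 : g 5 • path g [4, 6, 8, 6, 4] p = path g [8, 1, 9, 1, 3] p :=
  H.back (i := 0) (by decide) (f2815 H)

theorem f2817 : g 5 • path g [8, 1, 9, 1, 3] p = path g [3, 9, 1, 3, 4] p :=
  scan (u := [3]) (w := [5, 6, 5, 7, 5, 6, 5, 8, 2]) (i := 5) (r6_0_10 H) (step (f2807 H) rfl) (step (H.back (i := 0) (by decide) (f2713 H)) (step (H.back (i := 1) (by decide) (f2711 H)) (step (H.back (i := 0) (by decide) (f2673 H)) (step (H.back (i := 2) (by decide) (f2679 H)) (step (H.back (i := 0) (by decide) (f2670 H)) (step (H.back (i := 1) (by decide) (f2684 H)) (step (H.back (i := 0) (by decide) (f2760 H)) (step (H.back (i := 3) (by decide) (f2755 H)) (step (H.back (i := 7) (by decide) (f2369 H)) rfl)))))))))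

theorem f2818 : g 0 • path g [3, 9, 1, 3, 4] p = path g [8, 1, 9, 1, 3] p :=
  H.back (i := 5) (by decide) (f2817 H)

theorem f2819 : g 1 • path g [8, 1, 9, 1, 3] p = path g [3, 6, 9, 1, 3] p :=
  scan (u := [3]) (w := [3, 1, 3, 1, 3, 1, 3, 1, 3, 1, 3, 1]) (i := 1) (r15_0_1 H) (step (f2807 H) rfl) (step (H.back (i := 8) (by decide) (f2638 H)) (step (H.back (i := 6) (by decide) (f2697 H)) (step (H.back (i := 8) (by decide) (f2716 H)) (step (H.back (i := 6) (by decide) (f2726 H)) (step (H.back (i := 8) (by decide) (f2514 H)) (step (H.back (i := 6) (by decide) (f1618 H)) (step (H.back (i := 8) (by decide) (f2521 H)) (step (H.back (i := 6) (by decide) (f2665 H)) (step (H.back (i := 8) (by decide) (f2559 H)) (step (H.back (i := 6) (by decide) (f2179 H)) (step (H.back (i := 8) (by decide) (f1606 H)) (step (H.back (i := 6) (by decide) (f2045 H)) rfl))))))))))))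

theorem f2820 : g 6 • path g [3, 6, 9, 1, 3] p = path g [8, 1, 9, 1, 3] p :=
  H.back (i := 1) (by decide) (f2819 H)

theorem f2821 : g 7 • path g [3, 1, 9, 1, 3] p = path g [8, 1, 9, 1, 3] p :=
  scan (u := [1, 0, 9, 5]) (w := [5, 4, 2, 1, 0, 2, 0]) (i := 7) (r11_1_10 H) (step (f2819 H) (step (f2630 H) (step (f2568 H) (step (f2671 H) rfl)))) (step (H.back (i := 0) (by decide) (f2818 H)) (step (H.back (i := 9) (by decide) (f2700 H)) (step (H.back (i := 7) (by decide) (f2705 H)) (step (H.back (i := 6) (by decide) (f2710 H)) (step (H.back (i := 5) (by decide) (f2712 H)) (step (H.back (i := 7) (by decide) (f2695 H)) (step (H.back (i := 5) (by decide) (f2817 H)) rfl)))))))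

theorem f2822 : g 2 • path g [8, 1, 9, 1, 3] p = path g [3, 1, 9, 1, 3] p :=
  H.back (i := 7) (by decide) (f2821 H)

theorem f2823 : g 8 • path g [8, 1, 9, 1] p = path g [8, 1, 9, 1, 8] p :=
  rfl

theorem f2824 : g 3 • path g [8, 1, 9, 1, 8] p = path g [8, 1, 9, 1] p :=
  H.back (i := 8) (by decide) (f2823 H)

theorem f2825 : g 8 • path g [8, 1, 9, 1, 8] p = path g [8, 1, 9, 1, 3] p :=
  scan (u := [8]) (w := [8]) (i := 8) (r9_1_0 H) (step (f2823 H) rfl) (step (H.back (i := 3) (by decide) (f2807 H)) rfl)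

theorem f2826 : g 3 • path g [8, 1, 9, 1, 3] p = path g [8, 1, 9, 1, 8] p :=
  H.back (i := 8) (by decide) (f2825 H)

theorem f2827 : g 4 • path g [8, 1, 9, 1, 8] p = path g [8, 9, 6, 8] p :=
  scan (u := [8]) (w := [3, 9]) (i := 4) (r14_0_1 H) (step (f2823 H) rfl) (step (H.back (i := 8) (by decide) (f2474 H)) (step (H.back (i := 4) (by decide) (f2430 H)) rfl))

theorem f2828 : g 9 • path g [8, 9, 6, 8] p = path g [8, 1, 9, 1, 8] p :=
  H.back (i := 4) (by decide) (f2827 H)

theorem f2829 : g 0 • path g [8, 1, 9, 1, 8] p = path g [4, 1, 8, 6, 4] p :=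
  scan (u := [8]) (w := [3, 6, 5, 7, 5, 6]) (i := 0) (r7_0_5 H) (step (f2823 H) rfl) (step (H.back (i := 8) (by decide) (f2771 H)) (step (H.back (i := 1) (by decide) (f2375 H)) (step (H.back (i := 0) (by decide) (f2402 H)) (step (H.back (i := 2) (by decide) (f2368 H)) (step (H.back (i := 0) (by decide) (f2224 H)) (step (H.back (i := 1) (by decide) (f2150 H)) rfl))))))

theorem f2830 : g 5 • path g [4, 1, 8, 6, 4] p = path g [8, 1, 9, 1, 8] p :=
  H.back (i := 0) (by decide) (f2829 H)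

theorem f2831 : g 5 • path g [8, 1, 9, 1, 8] p = path g [3, 1, 9, 6, 8] p :=
  scan (u := [8]) (w := [3, 1, 0, 2, 0, 1]) (i := 5) (r7_1_0 H) (step (f2823 H) rfl) (step (H.back (i := 8) (by decide) (f2526 H)) (step (H.back (i := 6) (by decide) (f1616 H)) (step (H.back (i := 5) (by decide) (f2345 H)) (step (H.back (i := 7) (by decide) (f2134 H)) (step (H.back (i := 5) (by decide) (f2292 H)) (step (H.back (i := 6) (by decide) (f2045 H)) rfl))))))

theorem f2832 : g 0 • path g [3, 1, 9, 6, 8] p = path g [8, 1, 9, 1, 8] p :=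
  H.back (i := 5) (by decide) (f2831 H)

theorem f2833 : g 1 • path g [8, 1, 9, 1, 8] p = path g [3, 1, 9, 6, 3] p :=
  scan (u := [8]) (w := [0, 2, 0, 1, 3, 7, 5]) (i := 1) (r8_0_2 H) (step (f2823 H) rfl) (step (H.back (i := 5) (by decide) (f2669 H)) (step (H.back (i := 7) (by decide) (f2813 H)) (step (H.back (i := 5) (by decide) (f2816 H)) (step (H.back (i := 6) (by decide) (f2803 H)) (step (H.back (i := 8) (by decide) (f2771 H)) (step (H.back (i := 2) (by decide) (f2409 H)) (step (H.back (i := 0) (by decide) (f2402 H)) rfl)))))))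

theorem f2834 : g 6 • path g [3, 1, 9, 6, 3] p = path g [8, 1, 9, 1, 8] p :=
  H.back (i := 1) (by decide) (f2833 H)

theorem f2835 : g 6 • path g [8, 1, 9, 1, 8] p = path g [3, 4, 1, 8, 9] p :=
  scan (u := [8]) (w := [5, 7, 5, 6, 3, 0, 2]) (i := 6) (r8_1_0 H) (step (f2823 H) rfl) (step (H.back (i := 0) (by decide) (f2616 H)) (step (H.back (i := 2) (by decide) (f2623 H)) (step (H.back (i := 0) (by decide) (f2585 H)) (step (H.back (i := 1) (by decide) (f2727 H)) (step (H.back (i := 8) (by decide) (f2714 H)) (step (H.back (i := 5) (by decide) (f2222 H)) (step (H.back (i := 7) (by decide) (f2369 H)) rfl)))))))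

theorem f2836 : g 1 • path g [3, 4, 1, 8, 9] p = path g [8, 1, 9, 1, 8] p :=
  H.back (i := 6) (by decide) (f2835 H)

theorem f2837 : g 2 • path g [8, 1, 9, 1, 8] p = path g [3, 4, 1, 8, 9] p :=
  scan (u := [8]) (w := [3, 5, 5, 6, 5, 7, 5, 6, 5]) (i := 2) (r6_0_8 H) (step (f2823 H) rfl) (step (H.back (i := 8) (by decide) (f2559 H)) (step (H.back (i := 0) (by decide) (f2187 H)) (step (H.back (i := 0) (by decide) (f2225 H)) (step (H.back (i := 1) (by decide) (f2218 H)) (step (H.back (i := 0) (by decide) (f2206 H)) (step (H.back (i := 2) (by decide) (f1747 H)) (step (H.back (i := 0) (by decide) (f2376 H)) (step (H.back (i := 1) (by decide) (f2375 H)) (step (H.back (i := 0) (by decide) (f2402 H)) rfl)))))))))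

theorem f2838 : g 7 • path g [3, 4, 1, 8, 9] p = path g [8, 1, 9, 1, 8] p :=
  H.back (i := 2) (by decide) (f2837 H)

theorem f2839 : g 7 • path g [8, 1, 9, 1, 8] p = path g [3, 4, 1, 8, 9] p :=
  scan (u := [8]) (w := [3, 0, 1, 0, 2, 0, 1, 0, 0]) (i := 7) (r6_1_0 H) (step (f2823 H) rfl) (step (H.back (i := 8) (by decide) (f2559 H)) (step (H.back (i := 5) (by decide) (f2190 H)) (step (H.back (i := 6) (by decide) (f2147 H)) (step (H.back (i := 5) (by decide) (f2360 H)) (step (H.back (i := 7) (by decide) (f2365 H)) (step (H.back (i := 5) (by decide) (f2330 H)) (step (H.back (i := 6) (by decide) (f1612 H)) (step (H.back (i := 5) (by decide) (f2312 H)) (step (H.back (i := 5) (by decide) (f2320 H)) rfl)))))))))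

theorem f2840 : g 2 • path g [3, 4, 1, 8, 9] p = path g [8, 1, 9, 1, 8] p :=
  H.back (i := 7) (by decide) (f2839 H)

theorem f2842 : g 3 • path g [8, 6, 4, 1] p = path g [8, 6, 4, 1, 3] p :=
  rfl

theorem f2843 : g 8 • path g [8, 6, 4, 1, 3] p = path g [8, 6, 4, 1] p :=
  H.back (i := 3) (by decide) (f2842 H)

theorem f2844 : g 9 • path g [8, 6, 4, 1, 3] p = path g [8, 9, 6, 3] p :=
  scan (u := [3]) (w := [8, 4]) (i := 9) (r14_0_3 H) (step (f2842 H) rfl) (step (H.back (i := 3) (by decide) (f2460 H)) (step (H.back (i := 9) (by decide) (f2407 H)) rfl))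

theorem f2845 : g 4 • path g [8, 9, 6, 3] p = path g [8, 6, 4, 1, 3] p :=
  H.back (i := 9) (by decide) (f2844 H)

theorem f2846 : g 4 • path g [8, 6, 4, 1, 3] p = path g [8, 1, 9, 1, 3] p :=
  scan (u := [3]) (w := [8, 9]) (i := 4) (r14_1_2 H) (step (f2842 H) rfl) (step (H.back (i := 3) (by decide) (f2807 H)) (step (H.back (i := 4) (by decide) (f2136 H)) rfl))

theorem f2847 : g 9 • path g [8, 1, 9, 1, 3] p = path g [8, 6, 4, 1, 3] p :=
  H.back (i := 4) (by decide) (f2846 H)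

theorem f2848 : g 0 • path g [8, 6, 4, 1, 3] p = path g [3, 4, 1, 3, 9] p :=
  scan (u := [3]) (w := [2, 8, 6, 5, 7, 5, 6]) (i := 0) (r8_1_6 H) (step (f2842 H) rfl) (step (H.back (i := 7) (by decide) (f2758 H)) (step (H.back (i := 3) (by decide) (f2755 H)) (step (H.back (i := 1) (by decide) (f2218 H)) (step (H.back (i := 0) (by decide) (f2206 H)) (step (H.back (i := 2) (by decide) (f1747 H)) (step (H.back (i := 0) (by decide) (f2376 H)) (step (H.back (i := 1) (by decide) (f2375 H)) rfl)))))))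

theorem f2849 : g 5 • path g [3, 4, 1, 3, 9] p = path g [8, 6, 4, 1, 3] p :=
  H.back (i := 0) (by decide) (f2848 H)

theorem f2850 : g 5 • path g [8, 6, 4, 1, 3] p = path g [3, 1, 4, 6, 3] p :=
  scan (u := [3]) (w := [5, 6, 5, 7, 5, 6, 5, 8, 2]) (i := 5) (r6_0_10 H) (step (f2842 H) rfl) (step (H.back (i := 0) (by decide) (f2577 H)) (step (H.back (i := 1) (by decide) (f2658 H)) (step (H.back (i := 0) (by decide) (f2675 H)) (step (H.back (i := 2) (by decide) (f2756 H)) (step (H.back (i := 0) (by decide) (f2763 H)) (step (H.back (i := 1) (by decide) (f2708 H)) (step (H.back (i := 0) (by decide) (f2800 H)) (step (H.back (i := 3) (by decide) (f2799 H)) (step (H.back (i := 7) (by decide) (f2405 H)) rfl)))))))))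

theorem f2851 : g 0 • path g [3, 1, 4, 6, 3] p = path g [8, 6, 4, 1, 3] p :=
  H.back (i := 5) (by decide) (f2850 H)

theorem f2852 : g 6 • path g [8, 6, 4, 1, 3] p = path g [8, 6, 4, 1, 3] p :=
  scan (u := [8, 0, 3, 6, 5, 7, 5]) (w := []) (i := 6) (r7_0_5 H) (step (f2843 H) (step (f2400 H) (step (f2510 H) (step (f2685 H) (step (f2761 H) (step (f2758 H) (step (f2849 H) rfl))))))) rfl

theorem f2853 : g 1 • path g [8, 6, 4, 1, 3] p = path g [8, 6, 4, 1, 3] p :=
  H.back (i := 6) (by decide) (f2852 H)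

theorem f2854 : g 2 • path g [8, 6, 4, 1, 3] p = path g [8, 6, 4, 1, 3] p :=
  scan (u := [8, 6, 5, 7, 5, 6, 3, 0]) (w := []) (i := 2) (r8_1_0 H) (step (f2843 H) (step (f2072 H) (step (f2403 H) (step (f975 H) (step (f2292 H) (step (f1586 H) (step (f2500 H) (step (f2851 H) rfl)))))))) rfl

theorem f2855 : g 7 • path g [8, 6, 4, 1, 3] p = path g [8, 6, 4, 1, 3] p :=
  H.back (i := 2) (by decide) (f2854 H)

theorem f2856 : g 8 • path g [8, 6, 4, 1] p = path g [8, 6, 4, 1, 8] p :=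
  rfl

theorem f2857 : g 3 • path g [8, 6, 4, 1, 8] p = path g [8, 6, 4, 1] p :=
  H.back (i := 8) (by decide) (f2856 H)

theorem f2858 : g 8 • path g [8, 6, 4, 1, 8] p = path g [8, 6, 4, 1, 3] p :=
  scan (u := [8]) (w := [8]) (i := 8) (r9_1_0 H) (step (f2856 H) rfl) (step (H.back (i := 3) (by decide) (f2842 H)) rfl)

theorem f2859 : g 3 • path g [8, 6, 4, 1, 3] p = path g [8, 6, 4, 1, 8] p :=
  H.back (i := 8) (by decide) (f2858 H)

theorem f2860 : g 4 • path g [8, 6, 4, 1, 8] p = path g [8, 1, 9, 1, 8] p :=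
  scan (u := [8]) (w := [3, 9]) (i := 4) (r14_0_1 H) (step (f2856 H) rfl) (step (H.back (i := 8) (by decide) (f2823 H)) (step (H.back (i := 4) (by decide) (f2136 H)) rfl))

theorem f2861 : g 9 • path g [8, 1, 9, 1, 8] p = path g [8, 6, 4, 1, 8] p :=
  H.back (i := 4) (by decide) (f2860 H)

theorem f2862 : g 9 • path g [8, 6, 4, 1, 8] p = path g [8, 9, 6, 8] p :=
  scan (u := [8]) (w := [3, 4]) (i := 9) (r14_1_0 H) (step (f2856 H) rfl) (step (H.back (i := 8) (by decide) (f2474 H)) (step (H.back (i := 9) (by decide) (f2407 H)) rfl))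

theorem f2863 : g 4 • path g [8, 9, 6, 8] p = path g [8, 6, 4, 1, 8] p :=
  H.back (i := 9) (by decide) (f2862 H)

theorem f2864 : g 0 • path g [8, 6, 4, 1, 8] p = path g [4, 6, 3, 6, 9] p :=
  scan (u := [8]) (w := [3, 6, 5, 7, 5, 6]) (i := 0) (r7_0_5 H) (step (f2856 H) rfl) (step (H.back (i := 8) (by decide) (f2781 H)) (step (H.back (i := 1) (by decide) (f2218 H)) (step (H.back (i := 0) (by decide) (f2206 H)) (step (H.back (i := 2) (by decide) (f1747 H)) (step (H.back (i := 0) (by decide) (f2376 H)) (step (H.back (i := 1) (by decide) (f2375 H)) rfl))))))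

theorem f2865 : g 5 • path g [4, 6, 3, 6, 9] p = path g [8, 6, 4, 1, 8] p :=
  H.back (i := 0) (by decide) (f2864 H)

theorem f2866 : g 5 • path g [8, 6, 4, 1, 8] p = path g [3, 1, 4, 6, 8] p :=
  scan (u := [8]) (w := [3, 1, 0, 2, 0, 1]) (i := 5) (r7_1_0 H) (step (f2856 H) rfl) (step (H.back (i := 8) (by decide) (f2504 H)) (step (H.back (i := 6) (by decide) (f1586 H)) (step (H.back (i := 5) (by decide) (f2292 H)) (step (H.back (i := 7) (by decide) (f975 H)) (step (H.back (i := 5) (by decide) (f2403 H)) (step (H.back (i := 6) (by decide) (f2072 H)) rfl))))))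

theorem f2867 : g 0 • path g [3, 1, 4, 6, 8] p = path g [8, 6, 4, 1, 8] p :=
  H.back (i := 5) (by decide) (f2866 H)

theorem f2868 : g 1 • path g [8, 6, 4, 1, 8] p = path g [4, 6, 8, 6, 4] p :=
  scan (u := [8]) (w := [0, 2, 0, 1, 3, 7, 5]) (i := 1) (r8_0_2 H) (step (f2856 H) rfl) (step (H.back (i := 5) (by decide) (f2801 H)) (step (H.back (i := 7) (by decide) (f2705 H)) (step (H.back (i := 5) (by decide) (f2663 H)) (step (H.back (i := 6) (by decide) (f2665 H)) (step (H.back (i := 8) (by decide) (f2559 H)) (step (H.back (i := 2) (by decide) (f2200 H)) (step (H.back (i := 0) (by decide) (f2400 H)) rfl)))))))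

theorem f2869 : g 6 • path g [4, 6, 8, 6, 4] p = path g [8, 6, 4, 1, 8] p :=
  H.back (i := 1) (by decide) (f2868 H)

theorem f2870 : g 6 • path g [8, 6, 4, 1, 8] p = path g [4, 1, 8, 6, 4] p :=
  scan (u := [8]) (w := [5, 7, 5, 6, 3, 0, 2]) (i := 6) (r8_1_0 H) (step (f2856 H) rfl) (step (H.back (i := 0) (by decide) (f2829 H)) (step (H.back (i := 2) (by decide) (f2840 H)) (step (H.back (i := 0) (by decide) (f2616 H)) (step (H.back (i := 1) (by decide) (f2634 H)) (step (H.back (i := 8) (by decide) (f2504 H)) (step (H.back (i := 5) (by decide) (f2362 H)) (step (H.back (i := 7) (by decide) (f2405 H)) rfl)))))))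

theorem f2871 : g 1 • path g [4, 1, 8, 6, 4] p = path g [8, 6, 4, 1, 8] p :=
  H.back (i := 6) (by decide) (f2870 H)

theorem f2872 : g 2 • path g [8, 6, 4, 1, 8] p = path g [4, 1, 8, 6, 4] p :=
  scan (u := [8]) (w := [3, 5, 5, 6, 5, 7, 5, 6, 5]) (i := 2) (r6_0_8 H) (step (f2856 H) rfl) (step (H.back (i := 8) (by decide) (f2771 H)) (step (H.back (i := 0) (by decide) (f2361 H)) (step (H.back (i := 0) (by decide) (f2423 H)) (step (H.back (i := 1) (by decide) (f2422 H)) (step (H.back (i := 0) (by decide) (f2314 H)) (step (H.back (i := 2) (by decide) (f2205 H)) (step (H.back (i := 0) (by decide) (f2187 H)) (step (H.back (i := 1) (by decide) (f1619 H)) (step (H.back (i := 0) (by decide) (f2400 H)) rfl)))))))))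

theorem f2873 : g 7 • path g [4, 1, 8, 6, 4] p = path g [8, 6, 4, 1, 8] p :=
  H.back (i := 2) (by decide) (f2872 H)

theorem f2874 : g 7 • path g [8, 6, 4, 1, 8] p = path g [4, 1, 8, 6, 4] p :=
  scan (u := [8]) (w := [3, 0, 1, 0, 2, 0, 1, 0, 0]) (i := 7) (r6_1_0 H) (step (f2856 H) rfl) (step (H.back (i := 8) (by decide) (f2771 H)) (step (H.back (i := 5) (by decide) (f2378 H)) (step (H.back (i := 6) (by decide) (f2031 H)) (step (H.back (i := 5) (by decide) (f2330 H)) (step (H.back (i := 7) (by decide) (f950 H)) (step (H.back (i := 5) (by decide) (f2344 H)) (step (H.back (i := 6) (by decide) (f1699 H)) (step (H.back (i := 5) (by decide) (f2320 H)) (step (H.back (i := 5) (by decide) (f2401 H)) rfl)))))))))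

theorem f2875 : g 2 • path g [4, 1, 8, 6, 4] p = path g [8, 6, 4, 1, 8] p :=
  H.back (i := 7) (by decide) (f2874 H)

theorem step0 : ∀ w ∈ reps, ∃ w' ∈ reps, g 0 • path g w p = path g w' p := by
  intro w hw
  simp only [reps, List.mem_cons, List.not_mem_nil, or_false] at hw
  rcases hw with rfl | rfl | rfl | rfl | rfl | rfl | rfl | rfl | rfl | rfl | rfl | rfl | rfl | rfl | rfl | rfl | rfl | rfl | rfl | rfl | rfl | rfl | rfl | rfl | rfl | rfl | rfl | rfl | rfl | rfl | rfl | rfl | rfl | rfl | rfl | rfl | rfl | rfl | rfl | rfl | rfl | rfl | rfl | rfl | rfl | rfl | rfl | rfl | rfl | rfl | rfl | rfl | rfl | rfl | rfl | rfl | rfl | rfl | rfl | rfl | rfl | rfl | rfl | rfl | rfl | rfl | rfl | rfl | rfl | rfl | rfl | rfl | rfl | rfl | rfl | rfl | rfl | rfl | rfl | rfl | rfl | rfl | rfl | rfl | rfl | rfl | rfl | rfl | rfl | rfl | rfl | rfl | rfl | rfl | rfl | rfl | rfl | rfl | rfl | rfl | rfl | rfl | rfl | rfl | rfl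
  · exact ⟨[], by decide, (f0 H)⟩
  · exact ⟨[3], by decide, (f747 H)⟩
  · exact ⟨[9], by decide, (f1176 H)⟩
  · exact ⟨[8], by decide, (f14 H)⟩
  · exact ⟨[4], by decide, (f1338 H)⟩
  · exact ⟨[8, 1], by decide, (f1574 H)⟩
  · exact ⟨[3, 9], by decide, (f1622 H)⟩
  · exact ⟨[8, 6], by decide, (f1613 H)⟩
  · exact ⟨[3, 4], by decide, (f1641 H)⟩
  · exact ⟨[9, 1], by decide, (f1343 H)⟩
  · exact ⟨[4, 6], by decide, (f550 H)⟩
  · exact ⟨[8, 9], by decide, (f1149 H)⟩
  · exact ⟨[3, 1], by decide, (f1502 H)⟩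
  · exact ⟨[3, 6], by decide, (f1551 H)⟩
  · exact ⟨[4, 8], by decide, (f1628 H)⟩
  · exact ⟨[4, 1], by decide, (f1272 H)⟩
  · exact ⟨[9, 6], by decide, (f101 H)⟩
  · exact ⟨[8, 1, 9], by decide, (f2332 H)⟩
  · exact ⟨[3, 1, 4], by decide, (f2295 H)⟩
  · exact ⟨[8, 9, 1], by decide, (f1626 H)⟩
  · exact ⟨[4, 8, 6], by decide, (f1649 H)⟩
  · exact ⟨[8, 6, 9], by decide, (f2334 H)⟩
  · exact ⟨[3, 6, 4], by decide, (f2322 H)⟩
  · exact ⟨[4, 8, 1], by decide, (f1631 H)⟩
  · exact ⟨[8, 9, 6], by decide, (f1651 H)⟩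
  · exact ⟨[9, 6, 3], by decide, (f2005 H)⟩
  · exact ⟨[9, 6, 8], by decide, (f1342 H)⟩
  · exact ⟨[4, 1, 3], by decide, (f1987 H)⟩
  · exact ⟨[4, 1, 8], by decide, (f577 H)⟩
  · exact ⟨[3, 9, 1], by decide, (f1660 H)⟩
  · exact ⟨[3, 4, 6], by decide, (f1658 H)⟩
  · exact ⟨[3, 1, 9], by decide, (f2337 H)⟩
  · exact ⟨[8, 1, 4], by decide, (f2325 H)⟩
  · exact ⟨[3, 6, 9], by decide, (f2404 H)⟩
  · exact ⟨[8, 6, 4], by decide, (f2393 H)⟩
  · exact ⟨[3, 4, 1], by decide, (f1655 H)⟩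
  · exact ⟨[3, 9, 6], by decide, (f1647 H)⟩
  · exact ⟨[4, 6, 3], by decide, (f1880 H)⟩
  · exact ⟨[4, 6, 8], by decide, (f1350 H)⟩
  · exact ⟨[9, 1, 3], by decide, (f2010 H)⟩
  · exact ⟨[9, 1, 8], by decide, (f1339 H)⟩
  · exact ⟨[3, 6, 9, 1], by decide, (f2348 H)⟩
  · exact ⟨[4, 8, 6, 4], by decide, (f2361 H)⟩
  · exact ⟨[3, 6, 4, 1], by decide, (f2314 H)⟩
  · exact ⟨[3, 4, 1, 9], by decide, (f2187 H)⟩
  · exact ⟨[8, 9, 6, 3], by decide, (f2469 H)⟩
  · exact ⟨[3, 1, 4, 1], by decide, (f2338 H)⟩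
  · exact ⟨[3, 9, 6, 8], by decide, (f1759 H)⟩
  · exact ⟨[3, 9, 1, 4], by decide, (f2188 H)⟩
  · exact ⟨[4, 1, 3, 1], by decide, (f1958 H)⟩
  · exact ⟨[3, 1, 4, 6], by decide, (f2423 H)⟩
  · exact ⟨[3, 4, 1, 8], by decide, (f1690 H)⟩
  · exact ⟨[3, 4, 6, 4], by decide, (f2335 H)⟩
  · exact ⟨[8, 1, 9, 1], by decide, (f2318 H)⟩
  · exact ⟨[3, 9, 1, 9], by decide, (f2228 H)⟩
  · exact ⟨[4, 6, 8, 6], by decide, (f1839 H)⟩
  · exact ⟨[4, 8, 1, 9], by decide, (f2224 H)⟩
  · exact ⟨[3, 4, 6, 8], by decide, (f1738 H)⟩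
  · exact ⟨[3, 4, 1, 4], by decide, (f2206 H)⟩
  · exact ⟨[8, 9, 1, 3], by decide, (f2442 H)⟩
  · exact ⟨[3, 9, 1, 8], by decide, (f1756 H)⟩
  · exact ⟨[3, 9, 6, 3], by decide, (f1953 H)⟩
  · exact ⟨[4, 6, 3, 6], by decide, (f1930 H)⟩
  · exact ⟨[8, 9, 6, 8], by decide, (f2481 H)⟩
  · exact ⟨[3, 4, 1, 3], by decide, (f2002 H)⟩
  · exact ⟨[3, 1, 9, 6], by decide, (f2225 H)⟩
  · exact ⟨[3, 4, 6, 9], by decide, (f2376 H)⟩
  · exact ⟨[8, 6, 4, 1], by decide, (f2402 H)⟩
  · exact ⟨[3, 1, 9, 1], by decide, (f2400 H)⟩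
  · exact ⟨[3, 4, 6, 3], by decide, (f2437 H)⟩
  · exact ⟨[4, 1, 8, 6], by decide, (f2449 H)⟩
  · exact ⟨[3, 9, 1, 3], by decide, (f2466 H)⟩
  · exact ⟨[8, 9, 1, 8], by decide, (f2478 H)⟩
  · exact ⟨[3, 1, 9, 6, 3], by decide, (f2662 H)⟩
  · exact ⟨[3, 1, 9, 6, 8], by decide, (f2535 H)⟩
  · exact ⟨[8, 6, 4, 1, 3], by decide, (f2851 H)⟩
  · exact ⟨[8, 6, 4, 1, 8], by decide, (f2867 H)⟩
  · exact ⟨[3, 4, 6, 3, 4], by decide, (f2670 H)⟩
  · exact ⟨[3, 4, 6, 4, 8], by decide, (f2585 H)⟩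
  · exact ⟨[3, 1, 9, 1, 3], by decide, (f2668 H)⟩
  · exact ⟨[8, 1, 9, 1, 8], by decide, (f2832 H)⟩
  · exact ⟨[3, 1, 4, 6, 3], by decide, (f2577 H)⟩
  · exact ⟨[3, 4, 1, 3, 4], by decide, (f2675 H)⟩
  · exact ⟨[3, 4, 6, 8, 9], by decide, (f2600 H)⟩
  · exact ⟨[3, 4, 1, 4, 8], by decide, (f2561 H)⟩
  · exact ⟨[3, 1, 4, 1, 3], by decide, (f2673 H)⟩
  · exact ⟨[3, 6, 4, 1, 3], by decide, (f2653 H)⟩
  · exact ⟨[3, 9, 1, 8, 9], by decide, (f2747 H)⟩
  · exact ⟨[3, 6, 4, 1, 8], by decide, (f2619 H)⟩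
  · exact ⟨[4, 1, 3, 1, 9], by decide, (f2763 H)⟩
  · exact ⟨[3, 4, 1, 8, 9], by decide, (f2616 H)⟩
  · exact ⟨[3, 4, 6, 3, 9], by decide, (f2630 H)⟩
  · exact ⟨[3, 1, 4, 6, 8], by decide, (f2642 H)⟩
  · exact ⟨[8, 1, 9, 1, 3], by decide, (f2818 H)⟩
  · exact ⟨[3, 9, 1, 3, 4], by decide, (f2713 H)⟩
  · exact ⟨[3, 1, 9, 1, 8], by decide, (f2720 H)⟩
  · exact ⟨[3, 9, 1, 4, 8], by decide, (f2744 H)⟩
  · exact ⟨[3, 6, 9, 1, 3], by decide, (f2760 H)⟩
  · exact ⟨[3, 1, 4, 1, 8], by decide, (f2772 H)⟩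
  · exact ⟨[3, 6, 9, 1, 8], by decide, (f2791 H)⟩
  · exact ⟨[3, 9, 1, 3, 9], by decide, (f2800 H)⟩
  · exact ⟨[4, 6, 8, 6, 4], by decide, (f2815 H)⟩
  · exact ⟨[4, 1, 8, 6, 4], by decide, (f2829 H)⟩
  · exact ⟨[3, 4, 1, 3, 9], by decide, (f2848 H)⟩
  · exact ⟨[4, 6, 3, 6, 9], by decide, (f2864 H)⟩

theorem step1 : ∀ w ∈ reps, ∃ w' ∈ reps, g 1 • path g w p = path g w' p := by
  intro w hw
  simp only [reps, List.mem_cons, List.not_mem_nil, or_false] at hw
  rcases hw with rfl | rfl | rfl | rfl | rfl | rfl | rfl | rfl | rfl | rfl | rfl | rfl | rfl | rfl | rfl | rfl | rfl | rfl | rfl | rfl | rfl | rfl | rfl | rfl | rfl | rfl | rfl | rfl | rfl | rfl | rfl | rfl | rfl | rfl | rfl | rfl | rfl | rfl | rfl | rfl | rfl | rfl | rfl | rfl | rfl | rfl | rfl | rfl | rfl | rfl | rfl | rfl | rfl | rfl | rfl | rfl | rfl | rfl | rfl | rfl | rfl | rfl | rfl | rfl | rfl | rfl | rfl | rfl | rfl | rfl | rfl | rfl | rfl | rfl | rfl | rfl | rfl | rfl | rfl | rfl | rfl |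 rfl | rfl | rfl | rfl | rfl | rfl | rfl | rfl | rfl | rfl | rfl | rfl | rfl | rfl | rfl | rfl | rfl | rfl | rfl | rfl | rfl | rfl | rfl | rfl
  · exact ⟨[], by decide, (f2 H)⟩
  · exact ⟨[3, 1], by decide, (f28 H)⟩
  · exact ⟨[4, 1], by decide, (f50 H)⟩
  · exact ⟨[8, 1], by decide, (f68 H)⟩
  · exact ⟨[9, 1], by decide, (f88 H)⟩
  · exact ⟨[3, 6], by decide, (f41 H)⟩
  · exact ⟨[3, 4, 1], by decide, (f174 H)⟩
  · exact ⟨[3], by decide, (f39 H)⟩
  · exact ⟨[3, 9, 1], by decide, (f236 H)⟩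
  · exact ⟨[4, 6], by decide, (f59 H)⟩
  · exact ⟨[4], by decide, (f57 H)⟩
  · exact ⟨[4, 8, 1], by decide, (f587 H)⟩
  · exact ⟨[8, 6], by decide, (f73 H)⟩
  · exact ⟨[8], by decide, (f71 H)⟩
  · exact ⟨[8, 9, 1], by decide, (f979 H)⟩
  · exact ⟨[9, 6], by decide, (f97 H)⟩
  · exact ⟨[9], by decide, (f95 H)⟩
  · exact ⟨[3, 1, 4, 1], by decide, (f1570 H)⟩
  · exact ⟨[3, 1, 9, 1], by decide, (f1611 H)⟩
  · exact ⟨[3, 4, 6], by decide, (f183 H)⟩
  · exact ⟨[3, 4], by decide, (f181 H)⟩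
  · exact ⟨[3, 6, 4, 1], by decide, (f1698 H)⟩
  · exact ⟨[3, 6, 9, 1], by decide, (f1713 H)⟩
  · exact ⟨[3, 9, 6], by decide, (f245 H)⟩
  · exact ⟨[3, 9], by decide, (f243 H)⟩
  · exact ⟨[4, 1, 3, 1], by decide, (f1777 H)⟩
  · exact ⟨[3, 4, 6, 3], by decide, (f1905 H)⟩
  · exact ⟨[3, 4, 6, 8], by decide, (f1891 H)⟩
  · exact ⟨[3, 4, 1, 8], by decide, (f1918 H)⟩
  · exact ⟨[4, 8, 6], by decide, (f592 H)⟩
  · exact ⟨[4, 8], by decide, (f590 H)⟩
  · exact ⟨[3, 9, 1, 9], by decide, (f2398 H)⟩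
  · exact ⟨[8, 1, 9, 1], by decide, (f2044 H)⟩
  · exact ⟨[8, 6, 4, 1], by decide, (f2071 H)⟩
  · exact ⟨[3, 4, 1, 4], by decide, (f2058 H)⟩
  · exact ⟨[8, 9, 6], by decide, (f996 H)⟩
  · exact ⟨[8, 9], by decide, (f994 H)⟩
  · exact ⟨[8, 9, 1, 3], by decide, (f2434 H)⟩
  · exact ⟨[3, 9, 6, 3], by decide, (f2015 H)⟩
  · exact ⟨[3, 9, 6, 8], by decide, (f1980 H)⟩
  · exact ⟨[3, 9, 1, 8], by decide, (f1942 H)⟩
  · exact ⟨[3, 1, 4, 6], by decide, (f1589 H)⟩
  · exact ⟨[3, 1, 4], by decide, (f1587 H)⟩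
  · exact ⟨[3, 1, 9, 6], by decide, (f1619 H)⟩
  · exact ⟨[3, 1, 9], by decide, (f1617 H)⟩
  · exact ⟨[4, 1, 3], by decide, (f1994 H)⟩
  · exact ⟨[4, 8, 1, 9], by decide, (f2218 H)⟩
  · exact ⟨[4, 6, 8, 6], by decide, (f1921 H)⟩
  · exact ⟨[3, 6, 9], by decide, (f2177 H)⟩
  · exact ⟨[4, 1, 8, 6], by decide, (f1906 H)⟩
  · exact ⟨[3, 6, 4], by decide, (f2417 H)⟩
  · exact ⟨[4, 6, 3, 6], by decide, (f1885 H)⟩
  · exact ⟨[8, 1, 4], by decide, (f2032 H)⟩
  · exact ⟨[3, 4, 6, 4], by decide, (f2422 H)⟩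
  · exact ⟨[3, 4, 1, 9], by decide, (f2182 H)⟩
  · exact ⟨[9, 1, 3], by decide, (f2016 H)⟩
  · exact ⟨[8, 1, 9], by decide, (f2145 H)⟩
  · exact ⟨[8, 9, 6, 3], by decide, (f2472 H)⟩
  · exact ⟨[3, 4, 6, 9], by decide, (f2256 H)⟩
  · exact ⟨[8, 9, 6, 8], by decide, (f2485 H)⟩
  · exact ⟨[8, 9, 1, 8], by decide, (f2454 H)⟩
  · exact ⟨[3, 4, 1, 3], by decide, (f1999 H)⟩
  · exact ⟨[4, 1, 8], by decide, (f1795 H)⟩
  · exact ⟨[4, 6, 3], by decide, (f1813 H)⟩
  · exact ⟨[4, 6, 8], by decide, (f1833 H)⟩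
  · exact ⟨[8, 6, 9], by decide, (f2213 H)⟩
  · exact ⟨[8, 6, 4], by decide, (f2413 H)⟩
  · exact ⟨[3, 9, 1, 4], by decide, (f2150 H)⟩
  · exact ⟨[4, 8, 6, 4], by decide, (f2375 H)⟩
  · exact ⟨[3, 9, 1, 3], by decide, (f2435 H)⟩
  · exact ⟨[9, 6, 3], by decide, (f2451 H)⟩
  · exact ⟨[9, 6, 8], by decide, (f2462 H)⟩
  · exact ⟨[9, 1, 8], by decide, (f2482 H)⟩
  · exact ⟨[3, 9, 1, 3, 9], by decide, (f2711 H)⟩
  · exact ⟨[3, 4, 6, 3, 4], by decide, (f2682 H)⟩
  · exact ⟨[3, 4, 6, 4, 8], by decide, (f2587 H)⟩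
  · exact ⟨[3, 6, 4, 1, 8], by decide, (f2634 H)⟩
  · exact ⟨[8, 1, 9, 1, 3], by decide, (f2812 H)⟩
  · exact ⟨[3, 4, 1, 3, 9], by decide, (f2677 H)⟩
  · exact ⟨[3, 4, 1, 8, 9], by decide, (f2664 H)⟩
  · exact ⟨[3, 6, 9, 1, 8], by decide, (f2660 H)⟩
  · exact ⟨[3, 4, 1, 3, 4], by decide, (f2658 H)⟩
  · exact ⟨[3, 9, 1, 4, 8], by decide, (f2729 H)⟩
  · exact ⟨[4, 1, 3, 1, 9], by decide, (f2765 H)⟩
  · exact ⟨[8, 1, 9, 1, 8], by decide, (f2836 H)⟩
  · exact ⟨[3, 4, 6, 8, 9], by decide, (f2680 H)⟩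
  · exact ⟨[3, 1, 4, 6, 8], by decide, (f2632 H)⟩
  · exact ⟨[3, 9, 1, 8, 9], by decide, (f2743 H)⟩
  · exact ⟨[3, 1, 4, 1, 8], by decide, (f2649 H)⟩
  · exact ⟨[3, 1, 4, 1, 3], by decide, (f2657 H)⟩
  · exact ⟨[3, 4, 6, 3, 9], by decide, (f2625 H)⟩
  · exact ⟨[3, 1, 9, 1, 3], by decide, (f2684 H)⟩
  · exact ⟨[3, 9, 1, 3, 4], by decide, (f2696 H)⟩
  · exact ⟨[3, 1, 9, 6, 8], by decide, (f2692 H)⟩
  · exact ⟨[3, 6, 4, 1, 3], by decide, (f2708 H)⟩
  · exact ⟨[3, 1, 9, 1, 8], by decide, (f2727 H)⟩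
  · exact ⟨[3, 1, 4, 6, 3], by decide, (f2749 H)⟩
  · exact ⟨[4, 6, 3, 6, 9], by decide, (f2789 H)⟩
  · exact ⟨[8, 6, 4, 1, 8], by decide, (f2871 H)⟩
  · exact ⟨[3, 4, 1, 4, 8], by decide, (f2786 H)⟩
  · exact ⟨[4, 1, 8, 6, 4], by decide, (f2802 H)⟩
  · exact ⟨[3, 6, 9, 1, 3], by decide, (f2819 H)⟩
  · exact ⟨[3, 1, 9, 6, 3], by decide, (f2833 H)⟩
  · exact ⟨[8, 6, 4, 1, 3], by decide, (f2853 H)⟩
  · exact ⟨[4, 6, 8, 6, 4], by decide, (f2868 H)⟩

theorem step2 : ∀ w ∈ reps, ∃ w' ∈ reps, g 2 • path g w p = path g w' p := by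
  intro w hw
  simp only [reps, List.mem_cons, List.not_mem_nil, or_false] at hw
  rcases hw with rfl | rfl | rfl | rfl | rfl | rfl | rfl | rfl | rfl | rfl | rfl | rfl | rfl | rfl | rfl | rfl | rfl | rfl | rfl | rfl | rfl | rfl | rfl | rfl | rfl | rfl | rfl | rfl | rfl | rfl | rfl | rfl | rfl | rfl | rfl | rfl | rfl | rfl | rfl | rfl | rfl | rfl | rfl | rfl | rfl | rfl | rfl | rfl | rfl | rfl | rfl | rfl | rfl | rfl | rfl | rfl | rfl | rfl | rfl | rfl | rfl | rfl | rfl | rfl | rfl | rfl | rfl | rfl | rfl | rfl | rfl | rfl | rfl | rfl | rfl | rfl | rfl | rfl | rfl | rfl | rfl | rfl | rfl | rfl | rfl | rfl | rfl | rfl | rfl | rfl | rfl | rfl | rfl | rfl | rfl | rfl | rfl | rfl | rfl | rfl | rfl | rfl | rfl | rfl | rfl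
  · exact ⟨[], by decide, (f4 H)⟩
  · exact ⟨[3], by decide, (f654 H)⟩
  · exact ⟨[4], by decide, (f388 H)⟩
  · exact ⟨[8], by decide, (f16 H)⟩
  · exact ⟨[9], by decide, (f22 H)⟩
  · exact ⟨[3, 6], by decide, (f886 H)⟩
  · exact ⟨[3, 4], by decide, (f1636 H)⟩
  · exact ⟨[3, 1], by decide, (f947 H)⟩
  · exact ⟨[3, 9], by decide, (f1033 H)⟩
  · exact ⟨[4, 6], by decide, (f549 H)⟩
  · exact ⟨[4, 1], by decide, (f554 H)⟩
  · exact ⟨[4, 8], by decide, (f562 H)⟩
  · exact ⟨[8, 6], by decide, (f75 H)⟩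
  · exact ⟨[8, 1], by decide, (f626 H)⟩
  · exact ⟨[8, 9], by decide, (f84 H)⟩
  · exact ⟨[9, 6], by decide, (f99 H)⟩
  · exact ⟨[9, 1], by decide, (f1011 H)⟩
  · exact ⟨[3, 1, 4], by decide, (f2132 H)⟩
  · exact ⟨[3, 6, 9], by decide, (f951 H)⟩
  · exact ⟨[3, 4, 6], by decide, (f1653 H)⟩
  · exact ⟨[3, 4, 1], by decide, (f1662 H)⟩
  · exact ⟨[3, 6, 4], by decide, (f2333 H)⟩
  · exact ⟨[3, 1, 9], by decide, (f945 H)⟩
  · exact ⟨[3, 9, 6], by decide, (f1645 H)⟩
  · exact ⟨[3, 9, 1], by decide, (f1664 H)⟩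
  · exact ⟨[4, 1, 3], by decide, (f2007 H)⟩
  · exact ⟨[4, 6, 8], by decide, (f582 H)⟩
  · exact ⟨[4, 6, 3], by decide, (f1877 H)⟩
  · exact ⟨[4, 1, 8], by decide, (f579 H)⟩
  · exact ⟨[4, 8, 6], by decide, (f594 H)⟩
  · exact ⟨[4, 8, 1], by decide, (f1666 H)⟩
  · exact ⟨[8, 1, 4], by decide, (f2247 H)⟩
  · exact ⟨[8, 6, 9], by decide, (f976 H)⟩
  · exact ⟨[8, 6, 4], by decide, (f2127 H)⟩
  · exact ⟨[8, 1, 9], by decide, (f973 H)⟩
  · exact ⟨[8, 9, 6], by decide, (f998 H)⟩
  · exact ⟨[8, 9, 1], by decide, (f1668 H)⟩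
  · exact ⟨[9, 1, 3], by decide, (f2012 H)⟩
  · exact ⟨[9, 6, 8], by decide, (f1348 H)⟩
  · exact ⟨[9, 6, 3], by decide, (f1977 H)⟩
  · exact ⟨[9, 1, 8], by decide, (f1344 H)⟩
  · exact ⟨[3, 1, 4, 6], by decide, (f2358 H)⟩
  · exact ⟨[3, 1, 4, 1], by decide, (f2415 H)⟩
  · exact ⟨[3, 4, 1, 9], by decide, (f2200 H)⟩
  · exact ⟨[3, 6, 9, 1], by decide, (f2173 H)⟩
  · exact ⟨[4, 1, 3, 1], by decide, (f2004 H)⟩
  · exact ⟨[3, 9, 1, 4], by decide, (f2156 H)⟩
  · exact ⟨[4, 1, 8, 6], by decide, (f1943 H)⟩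
  · exact ⟨[3, 1, 9, 1], by decide, (f2205 H)⟩
  · exact ⟨[4, 6, 8, 6], by decide, (f1909 H)⟩
  · exact ⟨[3, 6, 4, 1], by decide, (f2341 H)⟩
  · exact ⟨[4, 6, 3, 6], by decide, (f1818 H)⟩
  · exact ⟨[3, 9, 1, 9], by decide, (f1747 H)⟩
  · exact ⟨[3, 4, 6, 4], by decide, (f2428 H)⟩
  · exact ⟨[3, 1, 9, 6], by decide, (f1715 H)⟩
  · exact ⟨[8, 9, 1, 3], by decide, (f2443 H)⟩
  · exact ⟨[3, 4, 1, 4], by decide, (f2175 H)⟩
  · exact ⟨[8, 9, 6, 8], by decide, (f2489 H)⟩
  · exact ⟨[3, 4, 6, 9], by decide, (f1744 H)⟩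
  · exact ⟨[8, 9, 6, 3], by decide, (f2465 H)⟩
  · exact ⟨[8, 9, 1, 8], by decide, (f2458 H)⟩
  · exact ⟨[3, 4, 1, 3], by decide, (f2008 H)⟩
  · exact ⟨[3, 4, 1, 8], by decide, (f1933 H)⟩
  · exact ⟨[3, 4, 6, 8], by decide, (f1821 H)⟩
  · exact ⟨[3, 4, 6, 3], by decide, (f1841 H)⟩
  · exact ⟨[8, 1, 9, 1], by decide, (f2368 H)⟩
  · exact ⟨[8, 6, 4, 1], by decide, (f2406 H)⟩
  · exact ⟨[4, 8, 1, 9], by decide, (f2221 H)⟩
  · exact ⟨[4, 8, 6, 4], by decide, (f2409 H)⟩
  · exact ⟨[3, 9, 1, 3], by decide, (f2440 H)⟩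
  · exact ⟨[3, 9, 6, 8], by decide, (f2455 H)⟩
  · exact ⟨[3, 9, 6, 3], by decide, (f2471 H)⟩
  · exact ⟨[3, 9, 1, 8], by decide, (f2486 H)⟩
  · exact ⟨[3, 9, 1, 3, 9], by decide, (f2707 H)⟩
  · exact ⟨[3, 4, 6, 8, 9], by decide, (f2599 H)⟩
  · exact ⟨[3, 4, 6, 3, 9], by decide, (f2575 H)⟩
  · exact ⟨[3, 9, 1, 8, 9], by decide, (f2741 H)⟩
  · exact ⟨[8, 1, 9, 1, 3], by decide, (f2814 H)⟩
  · exact ⟨[4, 6, 3, 6, 9], by decide, (f2785 H)⟩
  · exact ⟨[3, 1, 9, 6, 3], by decide, (f2666 H)⟩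
  · exact ⟨[3, 6, 9, 1, 8], by decide, (f2647 H)⟩
  · exact ⟨[3, 4, 1, 3, 4], by decide, (f2650 H)⟩
  · exact ⟨[4, 1, 3, 1, 9], by decide, (f2759 H)⟩
  · exact ⟨[3, 9, 1, 4, 8], by decide, (f2725 H)⟩
  · exact ⟨[8, 1, 9, 1, 8], by decide, (f2840 H)⟩
  · exact ⟨[3, 4, 6, 3, 4], by decide, (f2679 H)⟩
  · exact ⟨[3, 1, 4, 6, 3], by decide, (f2572 H)⟩
  · exact ⟨[3, 6, 4, 1, 8], by decide, (f2623 H)⟩
  · exact ⟨[3, 1, 4, 1, 8], by decide, (f2596 H)⟩
  · exact ⟨[3, 6, 4, 1, 3], by decide, (f2655 H)⟩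
  · exact ⟨[3, 4, 6, 4, 8], by decide, (f2620 H)⟩
  · exact ⟨[3, 6, 9, 1, 3], by decide, (f2686 H)⟩
  · exact ⟨[3, 1, 9, 6, 8], by decide, (f2644 H)⟩
  · exact ⟨[3, 9, 1, 3, 4], by decide, (f2694 H)⟩
  · exact ⟨[3, 1, 4, 1, 3], by decide, (f2704 H)⟩
  · exact ⟨[3, 4, 1, 4, 8], by decide, (f2722 H)⟩
  · exact ⟨[3, 1, 4, 6, 8], by decide, (f2738 H)⟩
  · exact ⟨[3, 4, 1, 3, 9], by decide, (f2756 H)⟩
  · exact ⟨[8, 6, 4, 1, 8], by decide, (f2875 H)⟩
  · exact ⟨[3, 1, 9, 1, 8], by decide, (f2782 H)⟩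
  · exact ⟨[4, 6, 8, 6, 4], by decide, (f2804 H)⟩
  · exact ⟨[3, 1, 9, 1, 3], by decide, (f2822 H)⟩
  · exact ⟨[3, 4, 1, 8, 9], by decide, (f2837 H)⟩
  · exact ⟨[8, 6, 4, 1, 3], by decide, (f2854 H)⟩
  · exact ⟨[4, 1, 8, 6, 4], by decide, (f2872 H)⟩

theorem step3 : ∀ w ∈ reps, ∃ w' ∈ reps, g 3 • path g w p = path g w' p := by
  intro w hw
  simp only [reps, List.mem_cons, List.not_mem_nil, or_false] at hw
  rcases hw with rfl | rfl | rfl | rfl | rfl | rfl | rfl | rfl | rfl | rfl | rfl | rfl | rfl | rfl | rfl | rfl | rfl | rfl | rfl | rfl | rfl | rfl | rfl | rfl | rfl | rfl | rfl | rfl | rfl | rfl | rfl | rfl | rfl | rfl | rfl | rfl | rfl | rfl | rfl | rfl | rfl | rfl | rfl | rfl | rfl | rfl | rfl | rfl | rfl | rfl | rfl | rfl | rfl | rfl | rfl | rfl | rfl | rfl | rfl | rfl | rfl | rfl | rfl | rfl | rfl | rfl | rfl | rfl | rfl | rfl | rfl | rfl | rfl | rfl | rfl | rfl | rfl | rfl | rfl | rfl | rfl | rfl | rfl | rfl | rfl | rfl | rfl | rfl | rfl | rfl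 | rfl | rfl | rfl | rfl | rfl | rfl | rfl | rfl | rfl | rfl | rfl | rfl | rfl | rfl | rfl
  · exact ⟨[3], by decide, (f6 H)⟩
  · exact ⟨[8], by decide, (f13 H)⟩
  · exact ⟨[3, 4], by decide, (f35 H)⟩
  · exact ⟨[], by decide, (f11 H)⟩
  · exact ⟨[3, 9], by decide, (f47 H)⟩
  · exact ⟨[3, 6], by decide, (f1494 H)⟩
  · exact ⟨[4, 8], by decide, (f65 H)⟩
  · exact ⟨[8, 1], by decide, (f903 H)⟩
  · exact ⟨[8, 9], by decide, (f81 H)⟩
  · exact ⟨[4, 1, 3], by decide, (f278 H)⟩
  · exact ⟨[4, 6, 3], by decide, (f569 H)⟩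
  · exact ⟨[4], by decide, (f63 H)⟩
  · exact ⟨[3, 1], by decide, (f1508 H)⟩
  · exact ⟨[8, 6], by decide, (f1545 H)⟩
  · exact ⟨[9], by decide, (f82 H)⟩
  · exact ⟨[9, 1, 3], by decide, (f1042 H)⟩
  · exact ⟨[9, 6, 3], by decide, (f1052 H)⟩
  · exact ⟨[3, 6, 4], by decide, (f1580 H)⟩
  · exact ⟨[3, 6, 9], by decide, (f1582 H)⟩
  · exact ⟨[3, 4, 1, 3], by decide, (f1670 H)⟩
  · exact ⟨[3, 4, 6, 3], by decide, (f1682 H)⟩
  · exact ⟨[8, 1, 4], by decide, (f1603 H)⟩
  · exact ⟨[8, 1, 9], by decide, (f1607 H)⟩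
  · exact ⟨[3, 9, 1, 3], by decide, (f1730 H)⟩
  · exact ⟨[3, 9, 6, 3], by decide, (f1748 H)⟩
  · exact ⟨[4, 1, 8], by decide, (f289 H)⟩
  · exact ⟨[4, 1], by decide, (f287 H)⟩
  · exact ⟨[4, 6, 8], by decide, (f576 H)⟩
  · exact ⟨[4, 6], by decide, (f574 H)⟩
  · exact ⟨[4, 1, 3, 1], by decide, (f1949 H)⟩
  · exact ⟨[4, 6, 8, 6], by decide, (f1898 H)⟩
  · exact ⟨[3, 1, 4], by decide, (f1598 H)⟩
  · exact ⟨[3, 1, 9], by decide, (f1605 H)⟩
  · exact ⟨[8, 6, 4], by decide, (f2080 H)⟩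
  · exact ⟨[8, 6, 9], by decide, (f2082 H)⟩
  · exact ⟨[8, 9, 1, 3], by decide, (f2431 H)⟩
  · exact ⟨[8, 9, 6, 3], by decide, (f2460 H)⟩
  · exact ⟨[9, 1, 8], by decide, (f1049 H)⟩
  · exact ⟨[9, 1], by decide, (f1047 H)⟩
  · exact ⟨[9, 6, 8], by decide, (f1333 H)⟩
  · exact ⟨[9, 6], by decide, (f1331 H)⟩
  · exact ⟨[3, 1, 4, 1, 3], by decide, (f2490 H)⟩
  · exact ⟨[3, 1, 4, 6, 3], by decide, (f2500 H)⟩
  · exact ⟨[3, 1, 9, 1, 3], by decide, (f2510 H)⟩
  · exact ⟨[3, 1, 9, 6, 3], by decide, (f2520 H)⟩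
  · exact ⟨[3, 4, 1, 8], by decide, (f1677 H)⟩
  · exact ⟨[3, 4, 1, 3, 4], by decide, (f2539 H)⟩
  · exact ⟨[3, 4, 1], by decide, (f1675 H)⟩
  · exact ⟨[3, 4, 1, 3, 9], by decide, (f2545 H)⟩
  · exact ⟨[3, 4, 6, 8], by decide, (f1689 H)⟩
  · exact ⟨[3, 4, 6, 3, 4], by decide, (f2565 H)⟩
  · exact ⟨[3, 4, 6], by decide, (f1687 H)⟩
  · exact ⟨[3, 4, 6, 3, 9], by decide, (f2571 H)⟩
  · exact ⟨[3, 6, 4, 1, 3], by decide, (f2602 H)⟩
  · exact ⟨[3, 6, 9, 1, 3], by decide, (f2626 H)⟩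
  · exact ⟨[3, 9, 1, 8], by decide, (f1737 H)⟩
  · exact ⟨[3, 9, 1, 3, 4], by decide, (f2691 H)⟩
  · exact ⟨[3, 9, 1], by decide, (f1735 H)⟩
  · exact ⟨[3, 9, 1, 3, 9], by decide, (f2703 H)⟩
  · exact ⟨[3, 9, 6, 8], by decide, (f1755 H)⟩
  · exact ⟨[3, 9, 6], by decide, (f1753 H)⟩
  · exact ⟨[4, 6, 3, 6], by decide, (f1950 H)⟩
  · exact ⟨[4, 8, 6], by decide, (f1924 H)⟩
  · exact ⟨[4, 8, 1], by decide, (f1816 H)⟩
  · exact ⟨[4, 1, 8, 6], by decide, (f1929 H)⟩
  · exact ⟨[4, 1, 3, 1, 9], by decide, (f2755 H)⟩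
  · exact ⟨[4, 6, 8, 6, 4], by decide, (f2799 H)⟩
  · exact ⟨[8, 1, 9, 1, 3], by decide, (f2807 H)⟩
  · exact ⟨[8, 6, 4, 1, 3], by decide, (f2842 H)⟩
  · exact ⟨[8, 9, 1, 8], by decide, (f2448 H)⟩
  · exact ⟨[8, 9, 1], by decide, (f2446 H)⟩
  · exact ⟨[8, 9, 6, 8], by decide, (f2477 H)⟩
  · exact ⟨[8, 9, 6], by decide, (f2475 H)⟩
  · exact ⟨[3, 1, 4, 1, 8], by decide, (f2497 H)⟩
  · exact ⟨[3, 1, 4, 1], by decide, (f2495 H)⟩
  · exact ⟨[3, 1, 4, 6, 8], by decide, (f2507 H)⟩
  · exact ⟨[3, 1, 4, 6], by decide, (f2505 H)⟩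
  · exact ⟨[3, 1, 9, 1, 8], by decide, (f2517 H)⟩
  · exact ⟨[3, 1, 9, 1], by decide, (f2515 H)⟩
  · exact ⟨[3, 1, 9, 6, 8], by decide, (f2529 H)⟩
  · exact ⟨[3, 1, 9, 6], by decide, (f2527 H)⟩
  · exact ⟨[3, 4, 1, 4, 8], by decide, (f2549 H)⟩
  · exact ⟨[3, 4, 1, 8, 9], by decide, (f2557 H)⟩
  · exact ⟨[3, 4, 1, 4], by decide, (f2547 H)⟩
  · exact ⟨[3, 4, 1, 9], by decide, (f2558 H)⟩
  · exact ⟨[3, 4, 6, 4, 8], by decide, (f2581 H)⟩
  · exact ⟨[3, 4, 6, 8, 9], by decide, (f2593 H)⟩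
  · exact ⟨[3, 4, 6, 4], by decide, (f2579 H)⟩
  · exact ⟨[3, 4, 6, 9], by decide, (f2594 H)⟩
  · exact ⟨[3, 6, 4, 1, 8], by decide, (f2611 H)⟩
  · exact ⟨[3, 6, 4, 1], by decide, (f2609 H)⟩
  · exact ⟨[3, 6, 9, 1, 8], by decide, (f2639 H)⟩
  · exact ⟨[3, 6, 9, 1], by decide, (f2637 H)⟩
  · exact ⟨[3, 9, 1, 4, 8], by decide, (f2717 H)⟩
  · exact ⟨[3, 9, 1, 8, 9], by decide, (f2735 H)⟩
  · exact ⟨[3, 9, 1, 4], by decide, (f2715 H)⟩
  · exact ⟨[3, 9, 1, 9], by decide, (f2736 H)⟩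
  · exact ⟨[4, 6, 3, 6, 9], by decide, (f2779 H)⟩
  · exact ⟨[4, 8, 6, 4], by decide, (f2770 H)⟩
  · exact ⟨[4, 8, 1, 9], by decide, (f2780 H)⟩
  · exact ⟨[4, 1, 8, 6, 4], by decide, (f2796 H)⟩
  · exact ⟨[8, 1, 9, 1, 8], by decide, (f2826 H)⟩
  · exact ⟨[8, 1, 9, 1], by decide, (f2824 H)⟩
  · exact ⟨[8, 6, 4, 1, 8], by decide, (f2859 H)⟩
  · exact ⟨[8, 6, 4, 1], by decide, (f2857 H)⟩

theorem step4 : ∀ w ∈ reps, ∃ w' ∈ reps, g 4 • path g w p = path g w' p := by
  intro w hw
  simp only [reps, List.mem_cons, List.not_mem_nil, or_false] at hw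
  rcases hw with rfl | rfl | rfl | rfl | rfl | rfl | rfl | rfl | rfl | rfl | rfl | rfl | rfl | rfl | rfl | rfl | rfl | rfl | rfl | rfl | rfl | rfl | rfl | rfl | rfl | rfl | rfl | rfl | rfl | rfl | rfl | rfl | rfl | rfl | rfl | rfl | rfl | rfl | rfl | rfl | rfl | rfl | rfl | rfl | rfl | rfl | rfl | rfl | rfl | rfl | rfl | rfl | rfl | rfl | rfl | rfl | rfl | rfl | rfl | rfl | rfl | rfl | rfl | rfl | rfl | rfl | rfl | rfl | rfl | rfl | rfl | rfl | rfl | rfl | rfl | rfl | rfl | rfl | rfl | rfl | rfl | rfl | rfl | rfl | rfl | rfl | rfl | rfl | rfl | rfl | rfl | rfl | rfl | rfl | rfl | rfl | rfl | rfl | rfl | rfl | rfl | rfl | rfl | rfl | rfl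
  · exact ⟨[4], by decide, (f8 H)⟩
  · exact ⟨[3, 4], by decide, (f32 H)⟩
  · exact ⟨[9], by decide, (f21 H)⟩
  · exact ⟨[4, 8], by decide, (f67 H)⟩
  · exact ⟨[], by decide, (f19 H)⟩
  · exact ⟨[3, 1, 4], by decide, (f132 H)⟩
  · exact ⟨[3, 9], by decide, (f45 H)⟩
  · exact ⟨[3, 6, 4], by decide, (f216 H)⟩
  · exact ⟨[3], by decide, (f43 H)⟩
  · exact ⟨[9, 1], by decide, (f467 H)⟩
  · exact ⟨[4, 6], by decide, (f1219 H)⟩
  · exact ⟨[8, 9], by decide, (f79 H)⟩
  · exact ⟨[8, 1, 4], by decide, (f599 H)⟩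
  · exact ⟨[8, 6, 4], by decide, (f967 H)⟩
  · exact ⟨[8], by decide, (f77 H)⟩
  · exact ⟨[9, 6], by decide, (f1358 H)⟩
  · exact ⟨[4, 1], by decide, (f1300 H)⟩
  · exact ⟨[3, 1, 9], by decide, (f145 H)⟩
  · exact ⟨[3, 1], by decide, (f143 H)⟩
  · exact ⟨[3, 4, 1, 4], by decide, (f1672 H)⟩
  · exact ⟨[3, 4, 6, 4], by decide, (f1684 H)⟩
  · exact ⟨[3, 6, 9], by decide, (f233 H)⟩
  · exact ⟨[3, 6], by decide, (f231 H)⟩
  · exact ⟨[3, 9, 1, 4], by decide, (f1732 H)⟩
  · exact ⟨[3, 6, 4, 1], by decide, (f2308 H)⟩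
  · exact ⟨[9, 1, 3], by decide, (f1045 H)⟩
  · exact ⟨[9, 1, 8], by decide, (f1051 H)⟩
  · exact ⟨[4, 6, 3], by decide, (f1354 H)⟩
  · exact ⟨[4, 6, 8], by decide, (f1351 H)⟩
  · exact ⟨[3, 6, 9, 1], by decide, (f1717 H)⟩
  · exact ⟨[4, 8, 6, 4], by decide, (f1856 H)⟩
  · exact ⟨[8, 1, 9], by decide, (f612 H)⟩
  · exact ⟨[8, 1], by decide, (f610 H)⟩
  · exact ⟨[8, 6, 9], by decide, (f972 H)⟩
  · exact ⟨[8, 6], by decide, (f970 H)⟩
  · exact ⟨[3, 1, 9, 6], by decide, (f2210 H)⟩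
  · exact ⟨[8, 6, 4, 1], by decide, (f2408 H)⟩
  · exact ⟨[9, 6, 3], by decide, (f1356 H)⟩
  · exact ⟨[9, 6, 8], by decide, (f1337 H)⟩
  · exact ⟨[4, 1, 3], by decide, (f1359 H)⟩
  · exact ⟨[4, 1, 8], by decide, (f1334 H)⟩
  · exact ⟨[8, 9, 1], by decide, (f2346 H)⟩
  · exact ⟨[4, 8, 6], by decide, (f2352 H)⟩
  · exact ⟨[3, 9, 6], by decide, (f2193 H)⟩
  · exact ⟨[3, 1, 4, 1], by decide, (f2342 H)⟩
  · exact ⟨[3, 4, 1, 3, 4], by decide, (f2536 H)⟩
  · exact ⟨[3, 4, 1, 9], by decide, (f1681 H)⟩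
  · exact ⟨[3, 4, 1, 4, 8], by decide, (f2551 H)⟩
  · exact ⟨[3, 4, 1], by decide, (f1679 H)⟩
  · exact ⟨[3, 4, 6, 3, 4], by decide, (f2562 H)⟩
  · exact ⟨[3, 4, 6, 9], by decide, (f1695 H)⟩
  · exact ⟨[3, 4, 6, 4, 8], by decide, (f2583 H)⟩
  · exact ⟨[3, 4, 6], by decide, (f1693 H)⟩
  · exact ⟨[3, 1, 9, 1], by decide, (f2309 H)⟩
  · exact ⟨[4, 8, 1, 9], by decide, (f1853 H)⟩
  · exact ⟨[3, 9, 1, 3, 4], by decide, (f2688 H)⟩
  · exact ⟨[3, 9, 1, 9], by decide, (f1743 H)⟩
  · exact ⟨[3, 9, 1, 4, 8], by decide, (f2719 H)⟩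
  · exact ⟨[3, 9, 1], by decide, (f1741 H)⟩
  · exact ⟨[3, 6, 4, 1, 3], by decide, (f2605 H)⟩
  · exact ⟨[3, 6, 4, 1, 8], by decide, (f2615 H)⟩
  · exact ⟨[3, 6, 9, 1, 3], by decide, (f2629 H)⟩
  · exact ⟨[4, 1, 8, 6, 4], by decide, (f2766 H)⟩
  · exact ⟨[3, 6, 9, 1, 8], by decide, (f2641 H)⟩
  · exact ⟨[4, 6, 8, 6, 4], by decide, (f2792 H)⟩
  · exact ⟨[4, 8, 1], by decide, (f1851 H)⟩
  · exact ⟨[3, 1, 4, 6], by decide, (f2357 H)⟩
  · exact ⟨[8, 9, 6], by decide, (f2430 H)⟩
  · exact ⟨[8, 1, 9, 1], by decide, (f2136 H)⟩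
  · exact ⟨[3, 1, 9, 6, 3], by decide, (f2523 H)⟩
  · exact ⟨[3, 1, 9, 6, 8], by decide, (f2533 H)⟩
  · exact ⟨[8, 6, 4, 1, 3], by decide, (f2845 H)⟩
  · exact ⟨[8, 6, 4, 1, 8], by decide, (f2863 H)⟩
  · exact ⟨[8, 9, 1, 3], by decide, (f2492 H)⟩
  · exact ⟨[8, 9, 1, 8], by decide, (f2498 H)⟩
  · exact ⟨[4, 6, 8, 6], by decide, (f2502 H)⟩
  · exact ⟨[4, 1, 8, 6], by decide, (f2508 H)⟩
  · exact ⟨[3, 9, 6, 3], by decide, (f2512 H)⟩
  · exact ⟨[3, 9, 6, 8], by decide, (f2518 H)⟩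
  · exact ⟨[3, 1, 4, 1, 3], by decide, (f2524 H)⟩
  · exact ⟨[3, 1, 4, 1, 8], by decide, (f2530 H)⟩
  · exact ⟨[3, 4, 1, 3, 9], by decide, (f2543 H)⟩
  · exact ⟨[3, 4, 1, 3], by decide, (f2541 H)⟩
  · exact ⟨[3, 4, 1, 8, 9], by decide, (f2555 H)⟩
  · exact ⟨[3, 4, 1, 8], by decide, (f2553 H)⟩
  · exact ⟨[3, 4, 6, 3, 9], by decide, (f2569 H)⟩
  · exact ⟨[3, 4, 6, 3], by decide, (f2567 H)⟩
  · exact ⟨[3, 4, 6, 8, 9], by decide, (f2591 H)⟩
  · exact ⟨[3, 4, 6, 8], by decide, (f2589 H)⟩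
  · exact ⟨[3, 1, 9, 1, 3], by decide, (f2606 H)⟩
  · exact ⟨[3, 1, 9, 1, 8], by decide, (f2612 H)⟩
  · exact ⟨[4, 1, 3, 1, 9], by decide, (f2753 H)⟩
  · exact ⟨[4, 6, 3, 6, 9], by decide, (f2777 H)⟩
  · exact ⟨[3, 9, 1, 3, 9], by decide, (f2701 H)⟩
  · exact ⟨[3, 9, 1, 3], by decide, (f2699 H)⟩
  · exact ⟨[3, 9, 1, 8, 9], by decide, (f2733 H)⟩
  · exact ⟨[3, 9, 1, 8], by decide, (f2731 H)⟩
  · exact ⟨[4, 1, 3, 1], by decide, (f2751 H)⟩
  · exact ⟨[3, 1, 4, 6, 8], by decide, (f2768 H)⟩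
  · exact ⟨[4, 6, 3, 6], by decide, (f2775 H)⟩
  · exact ⟨[3, 1, 4, 6, 3], by decide, (f2794 H)⟩
  · exact ⟨[8, 9, 6, 3], by decide, (f2809 H)⟩
  · exact ⟨[8, 9, 6, 8], by decide, (f2827 H)⟩
  · exact ⟨[8, 1, 9, 1, 3], by decide, (f2846 H)⟩
  · exact ⟨[8, 1, 9, 1, 8], by decide, (f2860 H)⟩

end CfsgQS3.Cert001
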