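import Cfsg.Agent.Lib.QS3.Coset
import Cfsg.Agent.Lib.QS3.RelData

/-!
Groups with an involution centraliser `Q.S₃`: a certificate of coset enumeration, case 010.
-/

set_option autoImplicit false
set_option maxRecDepth 10000

namespace CfsgQS3.Cert010

variable {M α : Type*} [Group M] [MulAction M α] {g : ℕ → M} {p : α} (H : CosetData rels010 3 g p)
include H

theorem r0_1_0 : ∀ x : α, path g [6, 6, 6] x = x :=
  trivial_rot 0 (H.trivial_inv (i := 0) (by decide) (by decide)) (by decide)

theorem r1_0_0 : ∀ x : α, path g [2, 1, 2, 1] x = x :=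
  trivial_rot 0 (H.trivial_rev (i := 1) (by decide)) (by decide)

theorem r1_0_1 : ∀ x : α, path g [1, 2, 1, 2] x = x :=
  trivial_rot 1 (H.trivial_rev (i := 1) (by decide)) (by decide)

theorem r1_1_0 : ∀ x : α, path g [6, 7, 6, 7] x = x :=
  trivial_rot 0 (H.trivial_inv (i := 1) (by decide) (by decide)) (by decide)

theorem r2_0_0 : ∀ x : α, path g [2, 0, 0, 2, 0, 0] x = x :=
  trivial_rot 0 (H.trivial_rev (i := 2) (by decide)) (by decide)

theorem r2_0_1 : ∀ x : α, path g [0, 0, 2, 0, 0, 2] x = x :=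
  trivial_rot 1 (H.trivial_rev (i := 2) (by decide)) (by decide)

theorem r2_0_2 : ∀ x : α, path g [0, 2, 0, 0, 2, 0] x = x :=
  trivial_rot 2 (H.trivial_rev (i := 2) (by decide)) (by decide)

theorem r2_1_1 : ∀ x : α, path g [5, 7, 5, 5, 7, 5] x = x :=
  trivial_rot 1 (H.trivial_inv (i := 2) (by decide) (by decide)) (by decide)

theorem r2_1_2 : ∀ x : α, path g [7, 5, 5, 7, 5, 5] x = x :=
  trivial_rot 2 (H.trivial_inv (i := 2) (by decide) (by decide)) (by decide)

theorem r3_0_0 : ∀ x : α, path g [1, 5, 1, 0, 1, 0] x = x :=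
  trivial_rot 0 (H.trivial_rev (i := 3) (by decide)) (by decide)

theorem r3_0_1 : ∀ x : α, path g [5, 1, 0, 1, 0, 1] x = x :=
  trivial_rot 1 (H.trivial_rev (i := 3) (by decide)) (by decide)

theorem r3_0_2 : ∀ x : α, path g [1, 0, 1, 0, 1, 5] x = x :=
  trivial_rot 2 (H.trivial_rev (i := 3) (by decide)) (by decide)

theorem r3_0_3 : ∀ x : α, path g [0, 1, 0, 1, 5, 1] x = x :=
  trivial_rot 3 (H.trivial_rev (i := 3) (by decide)) (by decide)

theorem r3_0_4 : ∀ x : α, path g [1, 0, 1, 5, 1, 0] x = x :=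
  trivial_rot 4 (H.trivial_rev (i := 3) (by decide)) (by decide)

theorem r3_0_5 : ∀ x : α, path g [0, 1, 5, 1, 0, 1] x = x :=
  trivial_rot 5 (H.trivial_rev (i := 3) (by decide)) (by decide)

theorem r3_1_0 : ∀ x : α, path g [5, 6, 5, 6, 0, 6] x = x :=
  trivial_rot 0 (H.trivial_inv (i := 3) (by decide) (by decide)) (by decide)

theorem r3_1_1 : ∀ x : α, path g [6, 5, 6, 0, 6, 5] x = x :=
  trivial_rot 1 (H.trivial_inv (i := 3) (by decide) (by decide)) (by decide)

theorem r3_1_3 : ∀ x : α, path g [6, 0, 6, 5, 6, 5] x = x :=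
  trivial_rot 3 (H.trivial_inv (i := 3) (by decide) (by decide)) (by decide)

theorem r3_1_4 : ∀ x : α, path g [0, 6, 5, 6, 5, 6] x = x :=
  trivial_rot 4 (H.trivial_inv (i := 3) (by decide) (by decide)) (by decide)

theorem r4_0_0 : ∀ x : α, path g [2, 0, 2, 0, 2, 0, 2, 0] x = x :=
  trivial_rot 0 (H.trivial_rev (i := 4) (by decide)) (by decide)

theorem r4_0_1 : ∀ x : α, path g [0, 2, 0, 2, 0, 2, 0, 2] x = x :=
  trivial_rot 1 (H.trivial_rev (i := 4) (by decide)) (by decide)

theorem r4_1_0 : ∀ x : α, path g [5, 7, 5, 7, 5, 7, 5, 7] x = x :=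
  trivial_rot 0 (H.trivial_inv (i := 4) (by decide) (by decide)) (by decide)

theorem r4_1_1 : ∀ x : α, path g [7, 5, 7, 5, 7, 5, 7, 5] x = x :=
  trivial_rot 1 (H.trivial_inv (i := 4) (by decide) (by decide)) (by decide)

theorem r5_0_0 : ∀ x : α, path g [5, 6, 7, 5, 6, 7, 0, 2, 1, 0, 2, 1] x = x :=
  trivial_rot 0 (H.trivial_rev (i := 5) (by decide)) (by decide)

theorem r5_0_7 : ∀ x : α, path g [2, 1, 0, 2, 1, 5, 6, 7, 5, 6, 7, 0] x = x :=
  trivial_rot 7 (H.trivial_rev (i := 5) (by decide)) (by decide)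

theorem r5_0_9 : ∀ x : α, path g [0, 2, 1, 5, 6, 7, 5, 6, 7, 0, 2, 1] x = x :=
  trivial_rot 9 (H.trivial_rev (i := 5) (by decide)) (by decide)

theorem r5_1_5 : ∀ x : α, path g [5, 2, 1, 0, 2, 1, 0, 6, 7, 5, 6, 7] x = x :=
  trivial_rot 5 (H.trivial_inv (i := 5) (by decide) (by decide)) (by decide)

theorem r5_1_8 : ∀ x : α, path g [0, 2, 1, 0, 6, 7, 5, 6, 7, 5, 2, 1] x = x :=
  trivial_rot 8 (H.trivial_inv (i := 5) (by decide) (by decide)) (by decide)

theorem r5_1_11 : ∀ x : α, path g [0, 6, 7, 5, 6, 7, 5, 2, 1, 0, 2, 1] x = x :=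
  trivial_rot 11 (H.trivial_inv (i := 5) (by decide) (by decide)) (by decide)

theorem r6_0_3 : ∀ x : α, path g [5, 7, 5, 6, 5, 8, 2, 3, 5, 5, 6] x = x :=
  trivial_rot 3 (H.trivial_rev (i := 6) (by decide)) (by decide)

theorem r6_0_8 : ∀ x : α, path g [8, 2, 3, 5, 5, 6, 5, 7, 5, 6, 5] x = x :=
  trivial_rot 8 (H.trivial_rev (i := 6) (by decide)) (by decide)

theorem r6_0_10 : ∀ x : α, path g [3, 5, 5, 6, 5, 7, 5, 6, 5, 8, 2] x = x :=
  trivial_rot 10 (H.trivial_rev (i := 6) (by decide)) (by decide)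

theorem r6_1_0 : ∀ x : α, path g [8, 7, 3, 0, 1, 0, 2, 0, 1, 0, 0] x = x :=
  trivial_rot 0 (H.trivial_inv (i := 6) (by decide) (by decide)) (by decide)

theorem r6_1_5 : ∀ x : α, path g [0, 2, 0, 1, 0, 0, 8, 7, 3, 0, 1] x = x :=
  trivial_rot 5 (H.trivial_inv (i := 6) (by decide) (by decide)) (by decide)

theorem r6_1_6 : ∀ x : α, path g [2, 0, 1, 0, 0, 8, 7, 3, 0, 1, 0] x = x :=
  trivial_rot 6 (H.trivial_inv (i := 6) (by decide) (by decide)) (by decide)

theorem r6_1_10 : ∀ x : α, path g [0, 8, 7, 3, 0, 1, 0, 2, 0, 1, 0] x = x :=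
  trivial_rot 10 (H.trivial_inv (i := 6) (by decide) (by decide)) (by decide)

theorem r7_0_1 : ∀ x : α, path g [5, 7, 5, 6, 8, 0, 3, 6] x = x :=
  trivial_rot 1 (H.trivial_rev (i := 7) (by decide)) (by decide)

theorem r7_0_2 : ∀ x : α, path g [7, 5, 6, 8, 0, 3, 6, 5] x = x :=
  trivial_rot 2 (H.trivial_rev (i := 7) (by decide)) (by decide)

theorem r7_0_5 : ∀ x : α, path g [8, 0, 3, 6, 5, 7, 5, 6] x = x :=
  trivial_rot 5 (H.trivial_rev (i := 7) (by decide)) (by decide)

theorem r7_1_0 : ∀ x : α, path g [8, 5, 3, 1, 0, 2, 0, 1] x = x :=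
  trivial_rot 0 (H.trivial_inv (i := 7) (by decide) (by decide)) (by decide)

theorem r7_1_3 : ∀ x : α, path g [1, 0, 2, 0, 1, 8, 5, 3] x = x :=
  trivial_rot 3 (H.trivial_inv (i := 7) (by decide) (by decide)) (by decide)

theorem r7_1_4 : ∀ x : α, path g [0, 2, 0, 1, 8, 5, 3, 1] x = x :=
  trivial_rot 4 (H.trivial_inv (i := 7) (by decide) (by decide)) (by decide)

theorem r7_1_5 : ∀ x : α, path g [2, 0, 1, 8, 5, 3, 1, 0] x = x :=
  trivial_rot 5 (H.trivial_inv (i := 7) (by decide) (by decide)) (by decide)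

theorem r8_0_0 : ∀ x : α, path g [7, 5, 8, 1, 0, 2, 0, 1, 3] x = x :=
  trivial_rot 0 (H.trivial_rev (i := 8) (by decide)) (by decide)

theorem r8_0_2 : ∀ x : α, path g [8, 1, 0, 2, 0, 1, 3, 7, 5] x = x :=
  trivial_rot 2 (H.trivial_rev (i := 8) (by decide)) (by decide)

theorem r8_0_4 : ∀ x : α, path g [0, 2, 0, 1, 3, 7, 5, 8, 1] x = x :=
  trivial_rot 4 (H.trivial_rev (i := 8) (by decide)) (by decide)

theorem r8_0_7 : ∀ x : α, path g [1, 3, 7, 5, 8, 1, 0, 2, 0] x = x :=
  trivial_rot 7 (H.trivial_rev (i := 8) (by decide)) (by decide)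

theorem r8_1_2 : ∀ x : α, path g [5, 7, 5, 6, 3, 0, 2, 8, 6] x = x :=
  trivial_rot 2 (H.trivial_inv (i := 8) (by decide) (by decide)) (by decide)

theorem r8_1_3 : ∀ x : α, path g [7, 5, 6, 3, 0, 2, 8, 6, 5] x = x :=
  trivial_rot 3 (H.trivial_inv (i := 8) (by decide) (by decide)) (by decide)

theorem r8_1_5 : ∀ x : α, path g [6, 3, 0, 2, 8, 6, 5, 7, 5] x = x :=
  trivial_rot 5 (H.trivial_inv (i := 8) (by decide) (by decide)) (by decide)

theorem r8_1_7 : ∀ x : α, path g [0, 2, 8, 6, 5, 7, 5, 6, 3] x = x :=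
  trivial_rot 7 (H.trivial_inv (i := 8) (by decide) (by decide)) (by decide)

theorem r8_1_8 : ∀ x : α, path g [2, 8, 6, 5, 7, 5, 6, 3, 0] x = x :=
  trivial_rot 8 (H.trivial_inv (i := 8) (by decide) (by decide)) (by decide)

theorem r9_0_0 : ∀ x : α, path g [3, 3, 3] x = x :=
  trivial_rot 0 (H.trivial_rev (i := 9) (by decide)) (by decide)

theorem r9_1_0 : ∀ x : α, path g [8, 8, 8] x = x :=
  trivial_rot 0 (H.trivial_inv (i := 9) (by decide) (by decide)) (by decide)

theorem r10_0_0 : ∀ x : α, path g [5, 5, 5, 7, 5, 9, 2, 4] x = x :=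
  trivial_rot 0 (H.trivial_rev (i := 10) (by decide)) (by decide)

theorem r10_0_1 : ∀ x : α, path g [5, 5, 7, 5, 9, 2, 4, 5] x = x :=
  trivial_rot 1 (H.trivial_rev (i := 10) (by decide)) (by decide)

theorem r10_0_3 : ∀ x : α, path g [7, 5, 9, 2, 4, 5, 5, 5] x = x :=
  trivial_rot 3 (H.trivial_rev (i := 10) (by decide)) (by decide)

theorem r10_0_5 : ∀ x : α, path g [9, 2, 4, 5, 5, 5, 7, 5] x = x :=
  trivial_rot 5 (H.trivial_rev (i := 10) (by decide)) (by decide)

theorem r10_0_7 : ∀ x : α, path g [4, 5, 5, 5, 7, 5, 9, 2] x = x :=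
  trivial_rot 7 (H.trivial_rev (i := 10) (by decide)) (by decide)

theorem r10_1_0 : ∀ x : α, path g [9, 7, 4, 0, 2, 0, 0, 0] x = x :=
  trivial_rot 0 (H.trivial_inv (i := 10) (by decide) (by decide)) (by decide)

theorem r10_1_2 : ∀ x : α, path g [4, 0, 2, 0, 0, 0, 9, 7] x = x :=
  trivial_rot 2 (H.trivial_inv (i := 10) (by decide) (by decide)) (by decide)

theorem r10_1_5 : ∀ x : α, path g [0, 0, 0, 9, 7, 4, 0, 2] x = x :=
  trivial_rot 5 (H.trivial_inv (i := 10) (by decide) (by decide)) (by decide)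

theorem r10_1_6 : ∀ x : α, path g [0, 0, 9, 7, 4, 0, 2, 0] x = x :=
  trivial_rot 6 (H.trivial_inv (i := 10) (by decide) (by decide)) (by decide)

theorem r11_0_2 : ∀ x : α, path g [5, 7, 5, 6, 7, 9, 0, 2, 0, 4, 5, 6] x = x :=
  trivial_rot 2 (H.trivial_rev (i := 11) (by decide)) (by decide)

theorem r11_0_7 : ∀ x : α, path g [9, 0, 2, 0, 4, 5, 6, 5, 7, 5, 6, 7] x = x :=
  trivial_rot 7 (H.trivial_rev (i := 11) (by decide)) (by decide)

theorem r11_0_8 : ∀ x : α, path g [0, 2, 0, 4, 5, 6, 5, 7, 5, 6, 7, 9] x = x :=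
  trivial_rot 8 (H.trivial_rev (i := 11) (by decide)) (by decide)

theorem r11_1_1 : ∀ x : α, path g [5, 7, 5, 4, 2, 1, 0, 2, 0, 1, 0, 9] x = x :=
  trivial_rot 1 (H.trivial_inv (i := 11) (by decide) (by decide)) (by decide)

theorem r11_1_5 : ∀ x : α, path g [2, 1, 0, 2, 0, 1, 0, 9, 5, 7, 5, 4] x = x :=
  trivial_rot 5 (H.trivial_inv (i := 11) (by decide) (by decide)) (by decide)

theorem r11_1_7 : ∀ x : α, path g [0, 2, 0, 1, 0, 9, 5, 7, 5, 4, 2, 1] x = x :=
  trivial_rot 7 (H.trivial_inv (i := 11) (by decide) (by decide)) (by decide)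

theorem r11_1_9 : ∀ x : α, path g [0, 1, 0, 9, 5, 7, 5, 4, 2, 1, 0, 2] x = x :=
  trivial_rot 9 (H.trivial_inv (i := 11) (by decide) (by decide)) (by decide)

theorem r11_1_10 : ∀ x : α, path g [1, 0, 9, 5, 7, 5, 4, 2, 1, 0, 2, 0] x = x :=
  trivial_rot 10 (H.trivial_inv (i := 11) (by decide) (by decide)) (by decide)

theorem r12_0_0 : ∀ x : α, path g [5, 6, 7, 5, 6, 9, 1, 1, 0, 1, 4] x = x :=
  trivial_rot 0 (H.trivial_rev (i := 12) (by decide)) (by decide)

theorem r12_0_1 : ∀ x : α, path g [6, 7, 5, 6, 9, 1, 1, 0, 1, 4, 5] x = x :=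
  trivial_rot 1 (H.trivial_rev (i := 12) (by decide)) (by decide)

theorem r12_0_3 : ∀ x : α, path g [5, 6, 9, 1, 1, 0, 1, 4, 5, 6, 7] x = x :=
  trivial_rot 3 (H.trivial_rev (i := 12) (by decide)) (by decide)

theorem r12_0_5 : ∀ x : α, path g [9, 1, 1, 0, 1, 4, 5, 6, 7, 5, 6] x = x :=
  trivial_rot 5 (H.trivial_rev (i := 12) (by decide)) (by decide)

theorem r12_1_0 : ∀ x : α, path g [9, 6, 5, 6, 6, 4, 1, 0, 2, 1, 0] x = x :=
  trivial_rot 0 (H.trivial_inv (i := 12) (by decide) (by decide)) (by decide)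

theorem r12_1_1 : ∀ x : α, path g [6, 5, 6, 6, 4, 1, 0, 2, 1, 0, 9] x = x :=
  trivial_rot 1 (H.trivial_inv (i := 12) (by decide) (by decide)) (by decide)

theorem r12_1_3 : ∀ x : α, path g [6, 6, 4, 1, 0, 2, 1, 0, 9, 6, 5] x = x :=
  trivial_rot 3 (H.trivial_inv (i := 12) (by decide) (by decide)) (by decide)

theorem r12_1_7 : ∀ x : α, path g [0, 2, 1, 0, 9, 6, 5, 6, 6, 4, 1] x = x :=
  trivial_rot 7 (H.trivial_inv (i := 12) (by decide) (by decide)) (by decide)

theorem r12_1_8 : ∀ x : α, path g [2, 1, 0, 9, 6, 5, 6, 6, 4, 1, 0] x = x :=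
  trivial_rot 8 (H.trivial_inv (i := 12) (by decide) (by decide)) (by decide)

theorem r12_1_9 : ∀ x : α, path g [1, 0, 9, 6, 5, 6, 6, 4, 1, 0, 2] x = x :=
  trivial_rot 9 (H.trivial_inv (i := 12) (by decide) (by decide)) (by decide)

theorem r13_0_0 : ∀ x : α, path g [4, 4, 4] x = x :=
  trivial_rot 0 (H.trivial_rev (i := 13) (by decide)) (by decide)

theorem r13_1_0 : ∀ x : α, path g [9, 9, 9] x = x :=
  trivial_rot 0 (H.trivial_inv (i := 13) (by decide) (by decide)) (by decide)

theorem r14_0_0 : ∀ x : α, path g [9, 8, 4, 3] x = x :=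
  trivial_rot 0 (H.trivial_rev (i := 14) (by decide)) (by decide)

theorem r14_0_3 : ∀ x : α, path g [3, 9, 8, 4] x = x :=
  trivial_rot 3 (H.trivial_rev (i := 14) (by decide)) (by decide)

theorem r14_1_0 : ∀ x : α, path g [8, 9, 3, 4] x = x :=
  trivial_rot 0 (H.trivial_inv (i := 14) (by decide) (by decide)) (by decide)

theorem r14_1_1 : ∀ x : α, path g [9, 3, 4, 8] x = x :=
  trivial_rot 1 (H.trivial_inv (i := 14) (by decide) (by decide)) (by decide)

theorem r14_1_2 : ∀ x : α, path g [3, 4, 8, 9] x = x :=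
  trivial_rot 2 (H.trivial_inv (i := 14) (by decide) (by decide)) (by decide)

theorem r14_1_3 : ∀ x : α, path g [4, 8, 9, 3] x = x :=
  trivial_rot 3 (H.trivial_inv (i := 14) (by decide) (by decide)) (by decide)

theorem r15_0_1 : ∀ x : α, path g [3, 1, 3, 1, 3, 1, 3, 1, 3, 1, 3, 1, 3, 1] x = x :=
  trivial_rot 1 (H.trivial_rev (i := 15) (by decide)) (by decide)

theorem r16_1_1 : ∀ x : α, path g [6, 9, 6, 9, 6, 9, 6, 9, 6, 9, 6, 9, 6, 9] x = x :=
  trivial_rot 1 (H.trivial_inv (i := 16) (by decide) (by decide)) (by decide)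

theorem r17_0_9 : ∀ x : α, path g [0, 1, 3, 0, 1, 3, 6, 5, 7, 5, 6, 7, 0, 1, 3] x = x :=
  trivial_rot 9 (H.trivial_rev (i := 17) (by decide)) (by decide)

theorem r17_1_0 : ∀ x : α, path g [8, 6, 5, 8, 6, 5, 8, 6, 5, 2, 1, 0, 2, 0, 1] x = x :=
  trivial_rot 0 (H.trivial_inv (i := 17) (by decide) (by decide)) (by decide)

theorem r17_1_2 : ∀ x : α, path g [5, 8, 6, 5, 8, 6, 5, 2, 1, 0, 2, 0, 1, 8, 6] x = x :=
  trivial_rot 2 (H.trivial_inv (i := 17) (by decide) (by decide)) (by decide)

theorem r17_1_8 : ∀ x : α, path g [5, 2, 1, 0, 2, 0, 1, 8, 6, 5, 8, 6, 5, 8, 6] x = x :=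
  trivial_rot 8 (H.trivial_inv (i := 17) (by decide) (by decide)) (by decide)

theorem r18_0_1 : ∀ x : α, path g [1, 4, 2, 1, 4, 2, 1, 4, 2] x = x :=
  trivial_rot 1 (H.trivial_rev (i := 18) (by decide)) (by decide)

theorem r18_0_2 : ∀ x : α, path g [4, 2, 1, 4, 2, 1, 4, 2, 1] x = x :=
  trivial_rot 2 (H.trivial_rev (i := 18) (by decide)) (by decide)

theorem r18_1_0 : ∀ x : α, path g [9, 6, 7, 9, 6, 7, 9, 6, 7] x = x :=
  trivial_rot 0 (H.trivial_inv (i := 18) (by decide) (by decide)) (by decide)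

theorem r18_1_1 : ∀ x : α, path g [6, 7, 9, 6, 7, 9, 6, 7, 9] x = x :=
  trivial_rot 1 (H.trivial_inv (i := 18) (by decide) (by decide)) (by decide)

theorem r18_1_2 : ∀ x : α, path g [7, 9, 6, 7, 9, 6, 7, 9, 6] x = x :=
  trivial_rot 2 (H.trivial_inv (i := 18) (by decide) (by decide)) (by decide)

theorem f0 : g 0 • path g [] p = path g [] p :=
  H.base (i := 0) (by decide)

theorem f1 : g 5 • path g [] p = path g [] p :=
  H.back (i := 0) (by decide) (f0 H)

theorem f2 : g 1 • path g [] p = path g [] p :=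
  H.base (i := 1) (by decide)

theorem f3 : g 6 • path g [] p = path g [] p :=
  H.back (i := 1) (by decide) (f2 H)

theorem f4 : g 2 • path g [] p = path g [] p :=
  H.base (i := 2) (by decide)

theorem f5 : g 7 • path g [] p = path g [] p :=
  H.back (i := 2) (by decide) (f4 H)

theorem f6 : g 3 • path g [] p = path g [3] p :=
  rfl

theorem f7 : g 8 • path g [3] p = path g [] p :=
  H.back (i := 3) (by decide) (f6 H)

theorem f8 : g 4 • path g [] p = path g [4] p :=
  rfl

theorem f9 : g 9 • path g [4] p = path g [] p :=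
  H.back (i := 4) (by decide) (f8 H)

theorem f10 : g 8 • path g [] p = path g [8] p :=
  rfl

theorem f11 : g 3 • path g [8] p = path g [] p :=
  H.back (i := 8) (by decide) (f10 H)

theorem f12 : g 8 • path g [8] p = path g [3] p :=
  scan (u := [8]) (w := [8]) (i := 8) (r9_1_0 H) (step (f10 H) rfl) (step (H.back (i := 3) (by decide) (f6 H)) rfl)

theorem f14 : g 0 • path g [8] p = path g [8] p :=
  scan (u := [8]) (w := [3, 6, 5, 7, 5, 6]) (i := 0) (r7_0_5 H) (step (f10 H) rfl) (step (H.back (i := 8) (by decide) (f10 H)) (step (H.back (i := 1) (by decide) (f2 H)) (step (H.back (i := 0) (by decide) (f0 H)) (step (H.back (i := 2) (by decide) (f4 H)) (step (H.back (i := 0) (by decide) (f0 H)) (step (H.back (i := 1) (by decide) (f2 H)) rfl))))))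

theorem f15 : g 5 • path g [8] p = path g [8] p :=
  H.back (i := 0) (by decide) (f14 H)

theorem f16 : g 2 • path g [8] p = path g [8] p :=
  scan (u := [8]) (w := [3, 5, 5, 6, 5, 7, 5, 6, 5]) (i := 2) (r6_0_8 H) (step (f10 H) rfl) (step (H.back (i := 8) (by decide) (f10 H)) (step (H.back (i := 0) (by decide) (f0 H)) (step (H.back (i := 0) (by decide) (f0 H)) (step (H.back (i := 1) (by decide) (f2 H)) (step (H.back (i := 0) (by decide) (f0 H)) (step (H.back (i := 2) (by decide) (f4 H)) (step (H.back (i := 0) (by decide) (f0 H)) (step (H.back (i := 1) (by decide) (f2 H)) (step (H.back (i := 0) (by decide) (f0 H)) rfl)))))))))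

theorem f17 : g 7 • path g [8] p = path g [8] p :=
  H.back (i := 2) (by decide) (f16 H)

theorem f18 : g 9 • path g [] p = path g [9] p :=
  rfl

theorem f19 : g 4 • path g [9] p = path g [] p :=
  H.back (i := 9) (by decide) (f18 H)

theorem f20 : g 9 • path g [9] p = path g [4] p :=
  scan (u := [9]) (w := [9]) (i := 9) (r13_1_0 H) (step (f18 H) rfl) (step (H.back (i := 4) (by decide) (f8 H)) rfl)

theorem f21 : g 4 • path g [4] p = path g [9] p :=
  H.back (i := 9) (by decide) (f20 H)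

theorem f22 : g 2 • path g [9] p = path g [9] p :=
  scan (u := [9]) (w := [4, 5, 5, 5, 7, 5]) (i := 2) (r10_0_5 H) (step (f18 H) rfl) (step (H.back (i := 9) (by decide) (f18 H)) (step (H.back (i := 0) (by decide) (f0 H)) (step (H.back (i := 0) (by decide) (f0 H)) (step (H.back (i := 0) (by decide) (f0 H)) (step (H.back (i := 2) (by decide) (f4 H)) (step (H.back (i := 0) (by decide) (f0 H)) rfl))))))

theorem f23 : g 7 • path g [9] p = path g [9] p :=
  H.back (i := 2) (by decide) (f22 H)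

theorem f24 : g 0 • path g [3] p = path g [3, 0] p :=
  rfl

theorem f25 : g 5 • path g [3, 0] p = path g [3] p :=
  H.back (i := 0) (by decide) (f24 H)

theorem f26 : g 2 • path g [3, 0] p = path g [3] p :=
  scan (u := [0]) (w := [8, 6, 5, 7, 5, 6, 3]) (i := 2) (r8_1_7 H) (step (f24 H) rfl) (step (H.back (i := 3) (by decide) (f6 H)) (step (H.back (i := 1) (by decide) (f2 H)) (step (H.back (i := 0) (by decide) (f0 H)) (step (H.back (i := 2) (by decide) (f4 H)) (step (H.back (i := 0) (by decide) (f0 H)) (step (H.back (i := 1) (by decide) (f2 H)) (step (H.back (i := 8) (by decide) (f7 H)) rfl)))))))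

theorem f27 : g 7 • path g [3] p = path g [3, 0] p :=
  H.back (i := 2) (by decide) (f26 H)

theorem f28 : g 1 • path g [3] p = path g [3, 1] p :=
  rfl

theorem f29 : g 6 • path g [3, 1] p = path g [3] p :=
  H.back (i := 1) (by decide) (f28 H)

theorem f30 : g 2 • path g [3] p = path g [3, 2] p :=
  rfl

theorem f31 : g 7 • path g [3, 2] p = path g [3] p :=
  H.back (i := 2) (by decide) (f30 H)

theorem f32 : g 4 • path g [3] p = path g [3, 4] p :=
  rfl

theorem f33 : g 9 • path g [3, 4] p = path g [3] p :=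
  H.back (i := 4) (by decide) (f32 H)

theorem f34 : g 8 • path g [3, 4] p = path g [4] p :=
  scan (u := [4]) (w := [9, 3]) (i := 8) (r14_1_3 H) (step (f32 H) rfl) (step (H.back (i := 4) (by decide) (f8 H)) (step (H.back (i := 8) (by decide) (f7 H)) rfl))

theorem f35 : g 3 • path g [4] p = path g [3, 4] p :=
  H.back (i := 8) (by decide) (f34 H)

theorem f36 : g 5 • path g [3] p = path g [3, 5] p :=
  rfl

theorem f38 : g 6 • path g [3] p = path g [3, 6] p :=
  rfl

theorem f39 : g 1 • path g [3, 6] p = path g [3] p :=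
  H.back (i := 6) (by decide) (f38 H)

theorem f40 : g 6 • path g [3, 6] p = path g [3, 1] p :=
  scan (u := [6]) (w := [6]) (i := 6) (r0_1_0 H) (step (f38 H) rfl) (step (H.back (i := 1) (by decide) (f28 H)) rfl)

theorem f41 : g 1 • path g [3, 1] p = path g [3, 6] p :=
  H.back (i := 6) (by decide) (f40 H)

theorem f42 : g 9 • path g [3] p = path g [3, 9] p :=
  rfl

theorem f43 : g 4 • path g [3, 9] p = path g [3] p :=
  H.back (i := 9) (by decide) (f42 H)

theorem f44 : g 9 • path g [3, 9] p = path g [3, 4] p :=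
  scan (u := [9]) (w := [9]) (i := 9) (r13_1_0 H) (step (f42 H) rfl) (step (H.back (i := 4) (by decide) (f32 H)) rfl)

theorem f46 : g 8 • path g [3, 9] p = path g [9] p :=
  scan (u := [9]) (w := [4, 3]) (i := 8) (r14_0_0 H) (step (f42 H) rfl) (step (H.back (i := 9) (by decide) (f18 H)) (step (H.back (i := 8) (by decide) (f7 H)) rfl))

theorem f47 : g 3 • path g [9] p = path g [3, 9] p :=
  H.back (i := 8) (by decide) (f46 H)

theorem f48 : g 0 • path g [4] p = path g [4, 0] p :=
  rfl

theorem f49 : g 5 • path g [4, 0] p = path g [4] p :=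
  H.back (i := 0) (by decide) (f48 H)

theorem f50 : g 1 • path g [4] p = path g [4, 1] p :=
  rfl

theorem f51 : g 6 • path g [4, 1] p = path g [4] p :=
  H.back (i := 1) (by decide) (f50 H)

theorem f52 : g 2 • path g [4] p = path g [4, 2] p :=
  rfl

theorem f53 : g 7 • path g [4, 2] p = path g [4] p :=
  H.back (i := 2) (by decide) (f52 H)

theorem f54 : g 5 • path g [4] p = path g [4, 5] p :=
  rfl

theorem f55 : g 0 • path g [4, 5] p = path g [4] p :=
  H.back (i := 5) (by decide) (f54 H)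

theorem f56 : g 6 • path g [4] p = path g [4, 6] p :=
  rfl

theorem f57 : g 1 • path g [4, 6] p = path g [4] p :=
  H.back (i := 6) (by decide) (f56 H)

theorem f58 : g 6 • path g [4, 6] p = path g [4, 1] p :=
  scan (u := [6]) (w := [6]) (i := 6) (r0_1_0 H) (step (f56 H) rfl) (step (H.back (i := 1) (by decide) (f50 H)) rfl)

theorem f59 : g 1 • path g [4, 1] p = path g [4, 6] p :=
  H.back (i := 6) (by decide) (f58 H)

theorem f60 : g 7 • path g [4] p = path g [4, 7] p :=
  rfl

theorem f62 : g 8 • path g [4] p = path g [4, 8] p :=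
  rfl

theorem f64 : g 8 • path g [4, 8] p = path g [3, 4] p :=
  scan (u := [8]) (w := [8]) (i := 8) (r9_1_0 H) (step (f62 H) rfl) (step (H.back (i := 3) (by decide) (f35 H)) rfl)

theorem f66 : g 9 • path g [4, 8] p = path g [8] p :=
  scan (u := [8]) (w := [3, 4]) (i := 9) (r14_1_0 H) (step (f62 H) rfl) (step (H.back (i := 8) (by decide) (f10 H)) (step (H.back (i := 9) (by decide) (f9 H)) rfl))

theorem f67 : g 4 • path g [8] p = path g [4, 8] p :=
  H.back (i := 9) (by decide) (f66 H)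

theorem f68 : g 1 • path g [8] p = path g [8, 1] p :=
  rfl

theorem f69 : g 6 • path g [8, 1] p = path g [8] p :=
  H.back (i := 1) (by decide) (f68 H)

theorem f70 : g 6 • path g [8] p = path g [8, 6] p :=
  rfl

theorem f71 : g 1 • path g [8, 6] p = path g [8] p :=
  H.back (i := 6) (by decide) (f70 H)

theorem f72 : g 6 • path g [8, 6] p = path g [8, 1] p :=
  scan (u := [6]) (w := [6]) (i := 6) (r0_1_0 H) (step (f70 H) rfl) (step (H.back (i := 1) (by decide) (f68 H)) rfl)

theorem f73 : g 1 • path g [8, 1] p = path g [8, 6] p :=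
  H.back (i := 6) (by decide) (f72 H)

theorem f74 : g 7 • path g [8, 6] p = path g [8, 1] p :=
  scan (u := [6]) (w := [6, 7]) (i := 7) (r1_1_0 H) (step (f70 H) rfl) (step (H.back (i := 1) (by decide) (f68 H)) (step (H.back (i := 2) (by decide) (f16 H)) rfl))

theorem f75 : g 2 • path g [8, 1] p = path g [8, 6] p :=
  H.back (i := 7) (by decide) (f74 H)

theorem f76 : g 9 • path g [8] p = path g [8, 9] p :=
  rfl

theorem f77 : g 4 • path g [8, 9] p = path g [8] p :=
  H.back (i := 9) (by decide) (f76 H)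

theorem f78 : g 9 • path g [8, 9] p = path g [4, 8] p :=
  scan (u := [9]) (w := [9]) (i := 9) (r13_1_0 H) (step (f76 H) rfl) (step (H.back (i := 4) (by decide) (f67 H)) rfl)

theorem f79 : g 4 • path g [4, 8] p = path g [8, 9] p :=
  H.back (i := 9) (by decide) (f78 H)

theorem f80 : g 8 • path g [8, 9] p = path g [3, 9] p :=
  scan (u := [9]) (w := [4, 3]) (i := 8) (r14_0_0 H) (step (f76 H) rfl) (step (H.back (i := 9) (by decide) (f42 H)) (step (H.back (i := 8) (by decide) (f12 H)) rfl))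

theorem f81 : g 3 • path g [3, 9] p = path g [8, 9] p :=
  H.back (i := 8) (by decide) (f80 H)

theorem f82 : g 3 • path g [8, 9] p = path g [9] p :=
  scan (u := [9]) (w := [4, 8]) (i := 3) (r14_1_1 H) (step (f76 H) rfl) (step (H.back (i := 9) (by decide) (f18 H)) (step (H.back (i := 3) (by decide) (f11 H)) rfl))

theorem f83 : g 8 • path g [9] p = path g [8, 9] p :=
  H.back (i := 3) (by decide) (f82 H)

theorem f84 : g 2 • path g [8, 9] p = path g [8, 9] p :=
  scan (u := [9]) (w := [4, 5, 5, 5, 7, 5]) (i := 2) (r10_0_5 H) (step (f76 H) rfl) (step (H.back (i := 9) (by decide) (f76 H)) (step (H.back (i := 0) (by decide) (f14 H)) (step (H.back (i := 0) (by decide) (f14 H)) (step (H.back (i := 0) (by decide) (f14 H)) (step (H.back (i := 2) (by decide) (f16 H)) (step (H.back (i := 0) (by decide) (f14 H)) rfl))))))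

theorem f85 : g 7 • path g [8, 9] p = path g [8, 9] p :=
  H.back (i := 2) (by decide) (f84 H)

theorem f86 : g 0 • path g [9] p = path g [9, 0] p :=
  rfl

theorem f87 : g 5 • path g [9, 0] p = path g [9] p :=
  H.back (i := 0) (by decide) (f86 H)

theorem f88 : g 1 • path g [9] p = path g [9, 1] p :=
  rfl

theorem f89 : g 6 • path g [9, 1] p = path g [9] p :=
  H.back (i := 1) (by decide) (f88 H)

theorem f90 : g 5 • path g [9] p = path g [9, 5] p :=
  rfl

theorem f91 : g 0 • path g [9, 5] p = path g [9] p :=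
  H.back (i := 5) (by decide) (f90 H)

theorem f92 : g 7 • path g [9, 5] p = path g [9, 0] p :=
  scan (u := [5]) (w := [5, 4, 2, 1, 0, 2, 0, 1, 0, 9]) (i := 7) (r11_1_1 H) (step (f90 H) rfl) (step (H.back (i := 0) (by decide) (f86 H)) (step (H.back (i := 9) (by decide) (f18 H)) (step (H.back (i := 7) (by decide) (f5 H)) (step (H.back (i := 6) (by decide) (f3 H)) (step (H.back (i := 5) (by decide) (f1 H)) (step (H.back (i := 7) (by decide) (f5 H)) (step (H.back (i := 5) (by decide) (f1 H)) (step (H.back (i := 6) (by decide) (f3 H)) (step (H.back (i := 5) (by decide) (f1 H)) (step (H.back (i := 4) (by decide) (f19 H)) rfl))))))))))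

theorem f93 : g 2 • path g [9, 0] p = path g [9, 5] p :=
  H.back (i := 7) (by decide) (f92 H)

theorem f94 : g 6 • path g [9] p = path g [9, 6] p :=
  rfl

theorem f95 : g 1 • path g [9, 6] p = path g [9] p :=
  H.back (i := 6) (by decide) (f94 H)

theorem f96 : g 6 • path g [9, 6] p = path g [9, 1] p :=
  scan (u := [6]) (w := [6]) (i := 6) (r0_1_0 H) (step (f94 H) rfl) (step (H.back (i := 1) (by decide) (f88 H)) rfl)

theorem f97 : g 1 • path g [9, 1] p = path g [9, 6] p :=
  H.back (i := 6) (by decide) (f96 H)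

theorem f98 : g 7 • path g [9, 6] p = path g [9, 1] p :=
  scan (u := [6]) (w := [6, 7]) (i := 7) (r1_1_0 H) (step (f94 H) rfl) (step (H.back (i := 1) (by decide) (f88 H)) (step (H.back (i := 2) (by decide) (f22 H)) rfl))

theorem f99 : g 2 • path g [9, 1] p = path g [9, 6] p :=
  H.back (i := 7) (by decide) (f98 H)

theorem f100 : g 5 • path g [9, 6] p = path g [9, 6] p :=
  scan (u := [6]) (w := [6, 6, 4, 1, 0, 2, 1, 0, 9]) (i := 5) (r12_1_1 H) (step (f94 H) rfl) (step (H.back (i := 1) (by decide) (f97 H)) (step (H.back (i := 1) (by decide) (f88 H)) (step (H.back (i := 9) (by decide) (f18 H)) (step (H.back (i := 6) (by decide) (f3 H)) (step (H.back (i := 5) (by decide) (f1 H)) (step (H.back (i := 7) (by decide) (f5 H)) (step (H.back (i := 6) (by decide) (f3 H)) (step (H.back (i := 5) (by decide) (f1 H)) (step (H.back (i := 4) (by decide) (f19 H)) rfl)))))))))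

theorem f101 : g 0 • path g [9, 6] p = path g [9, 6] p :=
  H.back (i := 5) (by decide) (f100 H)

theorem f102 : g 0 • path g [3, 0] p = path g [3, 0, 0] p :=
  rfl

theorem f104 : g 2 • path g [3, 0, 0] p = path g [3, 5] p :=
  scan (u := [0]) (w := [0, 0, 2, 0]) (i := 2) (r2_0_2 H) (step (f102 H) rfl) (step (H.back (i := 5) (by decide) (f36 H)) (step (H.back (i := 5) (by decide) (f25 H)) (step (H.back (i := 7) (by decide) (f27 H)) (step (H.back (i := 5) (by decide) (f25 H)) rfl))))

theorem f106 : g 1 • path g [3, 0] p = path g [3, 0, 1] p :=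
  rfl

theorem f107 : g 6 • path g [3, 0, 1] p = path g [3, 0] p :=
  H.back (i := 1) (by decide) (f106 H)

theorem f112 : g 6 • path g [3, 0] p = path g [3, 0, 6] p :=
  rfl

theorem f114 : g 6 • path g [3, 0, 6] p = path g [3, 0, 1] p :=
  scan (u := [6]) (w := [6]) (i := 6) (r0_1_0 H) (step (f112 H) rfl) (step (H.back (i := 1) (by decide) (f106 H)) rfl)

theorem f116 : g 7 • path g [3, 0, 6] p = path g [3, 1] p :=
  scan (u := [6]) (w := [6, 7]) (i := 7) (r1_1_0 H) (step (f112 H) rfl) (step (H.back (i := 1) (by decide) (f28 H)) (step (H.back (i := 2) (by decide) (f26 H)) rfl))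

theorem f117 : g 2 • path g [3, 1] p = path g [3, 0, 6] p :=
  H.back (i := 7) (by decide) (f116 H)

theorem f128 : g 0 • path g [3, 1] p = path g [3, 1, 0] p :=
  rfl

theorem f129 : g 5 • path g [3, 1, 0] p = path g [3, 1] p :=
  H.back (i := 0) (by decide) (f128 H)

theorem f130 : g 3 • path g [3, 1] p = path g [3, 1, 3] p :=
  rfl

theorem f131 : g 8 • path g [3, 1, 3] p = path g [3, 1] p :=
  H.back (i := 3) (by decide) (f130 H)

theorem f132 : g 4 • path g [3, 1] p = path g [3, 1, 4] p :=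
  rfl

theorem f133 : g 9 • path g [3, 1, 4] p = path g [3, 1] p :=
  H.back (i := 4) (by decide) (f132 H)

theorem f134 : g 5 • path g [3, 1] p = path g [3, 1, 5] p :=
  rfl

theorem f135 : g 0 • path g [3, 1, 5] p = path g [3, 1] p :=
  H.back (i := 5) (by decide) (f134 H)

theorem f136 : g 7 • path g [3, 1] p = path g [3, 1, 7] p :=
  rfl

theorem f138 : g 8 • path g [3, 1] p = path g [3, 1, 8] p :=
  rfl

theorem f140 : g 8 • path g [3, 1, 8] p = path g [3, 1, 3] p :=
  scan (u := [8]) (w := [8]) (i := 8) (r9_1_0 H) (step (f138 H) rfl) (step (H.back (i := 3) (by decide) (f130 H)) rfl)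

theorem f141 : g 3 • path g [3, 1, 3] p = path g [3, 1, 8] p :=
  H.back (i := 8) (by decide) (f140 H)

theorem f142 : g 9 • path g [3, 1] p = path g [3, 1, 9] p :=
  rfl

theorem f144 : g 9 • path g [3, 1, 9] p = path g [3, 1, 4] p :=
  scan (u := [9]) (w := [9]) (i := 9) (r13_1_0 H) (step (f142 H) rfl) (step (H.back (i := 4) (by decide) (f132 H)) rfl)

theorem f145 : g 4 • path g [3, 1, 4] p = path g [3, 1, 9] p :=
  H.back (i := 9) (by decide) (f144 H)

theorem f148 : g 1 • path g [3, 2] p = path g [3, 2, 1] p :=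
  rfl

theorem f150 : g 2 • path g [3, 2, 1] p = path g [3, 6] p :=
  scan (u := [1]) (w := [1, 2]) (i := 2) (r1_0_1 H) (step (f148 H) rfl) (step (H.back (i := 6) (by decide) (f38 H)) (step (H.back (i := 7) (by decide) (f31 H)) rfl))

theorem f151 : g 7 • path g [3, 6] p = path g [3, 2, 1] p :=
  H.back (i := 2) (by decide) (f150 H)

theorem f154 : g 3 • path g [3, 2] p = path g [3, 2, 3] p :=
  rfl

theorem f160 : g 6 • path g [3, 2] p = path g [3, 2, 6] p :=
  rfl

theorem f162 : g 6 • path g [3, 2, 6] p = path g [3, 2, 1] p :=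
  scan (u := [6]) (w := [6]) (i := 6) (r0_1_0 H) (step (f160 H) rfl) (step (H.back (i := 1) (by decide) (f148 H)) rfl)

theorem f164 : g 8 • path g [3, 2] p = path g [3, 2, 8] p :=
  rfl

theorem f165 : g 3 • path g [3, 2, 8] p = path g [3, 2] p :=
  H.back (i := 8) (by decide) (f164 H)

theorem f166 : g 8 • path g [3, 2, 8] p = path g [3, 2, 3] p :=
  scan (u := [8]) (w := [8]) (i := 8) (r9_1_0 H) (step (f164 H) rfl) (step (H.back (i := 3) (by decide) (f154 H)) rfl)

theorem f167 : g 3 • path g [3, 2, 3] p = path g [3, 2, 8] p :=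
  H.back (i := 8) (by decide) (f166 H)

theorem f172 : g 0 • path g [3, 4] p = path g [3, 4, 0] p :=
  rfl

theorem f174 : g 1 • path g [3, 4] p = path g [3, 4, 1] p :=
  rfl

theorem f175 : g 6 • path g [3, 4, 1] p = path g [3, 4] p :=
  H.back (i := 1) (by decide) (f174 H)

theorem f176 : g 2 • path g [3, 4] p = path g [3, 4, 2] p :=
  rfl

theorem f177 : g 7 • path g [3, 4, 2] p = path g [3, 4] p :=
  H.back (i := 2) (by decide) (f176 H)

theorem f178 : g 5 • path g [3, 4] p = path g [3, 4, 5] p :=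
  rfl

theorem f180 : g 6 • path g [3, 4] p = path g [3, 4, 6] p :=
  rfl

theorem f181 : g 1 • path g [3, 4, 6] p = path g [3, 4] p :=
  H.back (i := 6) (by decide) (f180 H)

theorem f182 : g 6 • path g [3, 4, 6] p = path g [3, 4, 1] p :=
  scan (u := [6]) (w := [6]) (i := 6) (r0_1_0 H) (step (f180 H) rfl) (step (H.back (i := 1) (by decide) (f174 H)) rfl)

theorem f183 : g 1 • path g [3, 4, 1] p = path g [3, 4, 6] p :=
  H.back (i := 6) (by decide) (f182 H)

theorem f184 : g 7 • path g [3, 4] p = path g [3, 4, 7] p :=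
  rfl

theorem f208 : g 0 • path g [3, 6] p = path g [3, 6, 0] p :=
  rfl

theorem f209 : g 5 • path g [3, 6, 0] p = path g [3, 6] p :=
  H.back (i := 0) (by decide) (f208 H)

theorem f210 : g 2 • path g [3, 6] p = path g [3, 6, 2] p :=
  rfl

theorem f212 : g 1 • path g [3, 6, 2] p = path g [3, 1, 7] p :=
  scan (u := [2]) (w := [2, 1]) (i := 1) (r1_0_0 H) (step (f210 H) rfl) (step (H.back (i := 7) (by decide) (f136 H)) (step (H.back (i := 6) (by decide) (f40 H)) rfl))

theorem f213 : g 6 • path g [3, 1, 7] p = path g [3, 6, 2] p :=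
  H.back (i := 1) (by decide) (f212 H)

theorem f214 : g 3 • path g [3, 6] p = path g [3, 6, 3] p :=
  rfl

theorem f216 : g 4 • path g [3, 6] p = path g [3, 6, 4] p :=
  rfl

theorem f218 : g 5 • path g [3, 6] p = path g [3, 6, 5] p :=
  rfl

theorem f219 : g 0 • path g [3, 6, 5] p = path g [3, 6] p :=
  H.back (i := 5) (by decide) (f218 H)

theorem f220 : g 7 • path g [3, 6, 5] p = path g [3, 1, 0] p :=
  scan (u := [5]) (w := [5, 6, 8, 0, 3, 6]) (i := 7) (r7_0_1 H) (step (f218 H) rfl) (step (H.back (i := 0) (by decide) (f128 H)) (step (H.back (i := 1) (by decide) (f28 H)) (step (H.back (i := 3) (by decide) (f6 H)) (step (H.back (i := 5) (by decide) (f1 H)) (step (H.back (i := 8) (by decide) (f7 H)) (step (H.back (i := 1) (by decide) (f39 H)) rfl))))))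

theorem f221 : g 2 • path g [3, 1, 0] p = path g [3, 6, 5] p :=
  H.back (i := 7) (by decide) (f220 H)

theorem f222 : g 2 • path g [3, 6, 0] p = path g [3, 1, 5] p :=
  scan (u := [0, 0]) (w := [0, 0, 2]) (i := 2) (r2_0_1 H) (step (f219 H) (step (f208 H) rfl)) (step (H.back (i := 5) (by decide) (f134 H)) (step (H.back (i := 5) (by decide) (f129 H)) (step (H.back (i := 7) (by decide) (f220 H)) rfl)))

theorem f223 : g 7 • path g [3, 1, 5] p = path g [3, 6, 0] p :=
  H.back (i := 2) (by decide) (f222 H)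

theorem f224 : g 8 • path g [3, 6] p = path g [3, 6, 8] p :=
  rfl

theorem f226 : g 8 • path g [3, 6, 8] p = path g [3, 6, 3] p :=
  scan (u := [8]) (w := [8]) (i := 8) (r9_1_0 H) (step (f224 H) rfl) (step (H.back (i := 3) (by decide) (f214 H)) rfl)

theorem f228 : g 5 • path g [3, 6, 8] p = path g [3, 1, 8] p :=
  scan (u := [8]) (w := [3, 1, 0, 2, 0, 1]) (i := 5) (r7_1_0 H) (step (f224 H) rfl) (step (H.back (i := 8) (by decide) (f138 H)) (step (H.back (i := 6) (by decide) (f40 H)) (step (H.back (i := 5) (by decide) (f209 H)) (step (H.back (i := 7) (by decide) (f223 H)) (step (H.back (i := 5) (by decide) (f134 H)) (step (H.back (i := 6) (by decide) (f40 H)) rfl))))))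

theorem f229 : g 0 • path g [3, 1, 8] p = path g [3, 6, 8] p :=
  H.back (i := 5) (by decide) (f228 H)

theorem f230 : g 9 • path g [3, 6] p = path g [3, 6, 9] p :=
  rfl

theorem f231 : g 4 • path g [3, 6, 9] p = path g [3, 6] p :=
  H.back (i := 9) (by decide) (f230 H)

theorem f232 : g 9 • path g [3, 6, 9] p = path g [3, 6, 4] p :=
  scan (u := [9]) (w := [9]) (i := 9) (r13_1_0 H) (step (f230 H) rfl) (step (H.back (i := 4) (by decide) (f216 H)) rfl)

theorem f233 : g 4 • path g [3, 6, 4] p = path g [3, 6, 9] p :=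
  H.back (i := 9) (by decide) (f232 H)

theorem f234 : g 0 • path g [3, 9] p = path g [3, 9, 0] p :=
  rfl

theorem f235 : g 5 • path g [3, 9, 0] p = path g [3, 9] p :=
  H.back (i := 0) (by decide) (f234 H)

theorem f236 : g 1 • path g [3, 9] p = path g [3, 9, 1] p :=
  rfl

theorem f237 : g 6 • path g [3, 9, 1] p = path g [3, 9] p :=
  H.back (i := 1) (by decide) (f236 H)

theorem f238 : g 2 • path g [3, 9] p = path g [3, 9, 2] p :=
  rfl

theorem f240 : g 5 • path g [3, 9] p = path g [3, 9, 5] p :=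
  rfl

theorem f241 : g 0 • path g [3, 9, 5] p = path g [3, 9] p :=
  H.back (i := 5) (by decide) (f240 H)

theorem f242 : g 6 • path g [3, 9] p = path g [3, 9, 6] p :=
  rfl

theorem f243 : g 1 • path g [3, 9, 6] p = path g [3, 9] p :=
  H.back (i := 6) (by decide) (f242 H)

theorem f244 : g 6 • path g [3, 9, 6] p = path g [3, 9, 1] p :=
  scan (u := [6]) (w := [6]) (i := 6) (r0_1_0 H) (step (f242 H) rfl) (step (H.back (i := 1) (by decide) (f236 H)) rfl)

theorem f245 : g 1 • path g [3, 9, 1] p = path g [3, 9, 6] p :=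
  H.back (i := 6) (by decide) (f244 H)

theorem f246 : g 7 • path g [3, 9] p = path g [3, 9, 7] p :=
  rfl

theorem f247 : g 2 • path g [3, 9, 7] p = path g [3, 9] p :=
  H.back (i := 7) (by decide) (f246 H)

theorem f248 : g 0 • path g [4, 0] p = path g [4, 0, 0] p :=
  rfl

theorem f250 : g 1 • path g [4, 0] p = path g [4, 0, 1] p :=
  rfl

theorem f251 : g 6 • path g [4, 0, 1] p = path g [4, 0] p :=
  H.back (i := 1) (by decide) (f250 H)

theorem f252 : g 2 • path g [4, 0] p = path g [4, 0, 2] p :=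
  rfl

theorem f253 : g 7 • path g [4, 0, 2] p = path g [4, 0] p :=
  H.back (i := 2) (by decide) (f252 H)

theorem f254 : g 3 • path g [4, 0] p = path g [4, 0, 3] p :=
  rfl

theorem f256 : g 4 • path g [4, 0] p = path g [4, 0, 4] p :=
  rfl

theorem f257 : g 9 • path g [4, 0, 4] p = path g [4, 0] p :=
  H.back (i := 4) (by decide) (f256 H)

theorem f258 : g 6 • path g [4, 0] p = path g [4, 0, 6] p :=
  rfl

theorem f259 : g 1 • path g [4, 0, 6] p = path g [4, 0] p :=
  H.back (i := 6) (by decide) (f258 H)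

theorem f260 : g 6 • path g [4, 0, 6] p = path g [4, 0, 1] p :=
  scan (u := [6]) (w := [6]) (i := 6) (r0_1_0 H) (step (f258 H) rfl) (step (H.back (i := 1) (by decide) (f250 H)) rfl)

theorem f261 : g 1 • path g [4, 0, 1] p = path g [4, 0, 6] p :=
  H.back (i := 6) (by decide) (f260 H)

theorem f262 : g 7 • path g [4, 0] p = path g [4, 0, 7] p :=
  rfl

theorem f263 : g 2 • path g [4, 0, 7] p = path g [4, 0] p :=
  H.back (i := 7) (by decide) (f262 H)

theorem f264 : g 8 • path g [4, 0] p = path g [4, 0, 8] p :=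
  rfl

theorem f268 : g 9 • path g [4, 0] p = path g [4, 0, 9] p :=
  rfl

theorem f269 : g 4 • path g [4, 0, 9] p = path g [4, 0] p :=
  H.back (i := 9) (by decide) (f268 H)

theorem f270 : g 9 • path g [4, 0, 9] p = path g [4, 0, 4] p :=
  scan (u := [9]) (w := [9]) (i := 9) (r13_1_0 H) (step (f268 H) rfl) (step (H.back (i := 4) (by decide) (f256 H)) rfl)

theorem f272 : g 0 • path g [4, 1] p = path g [4, 1, 0] p :=
  rfl

theorem f273 : g 5 • path g [4, 1, 0] p = path g [4, 1] p :=
  H.back (i := 0) (by decide) (f272 H)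

theorem f274 : g 2 • path g [4, 1] p = path g [4, 1, 2] p :=
  rfl

theorem f276 : g 1 • path g [4, 1, 2] p = path g [4, 7] p :=
  scan (u := [2]) (w := [2, 1]) (i := 1) (r1_0_0 H) (step (f274 H) rfl) (step (H.back (i := 7) (by decide) (f60 H)) (step (H.back (i := 6) (by decide) (f51 H)) rfl))

theorem f277 : g 6 • path g [4, 7] p = path g [4, 1, 2] p :=
  H.back (i := 1) (by decide) (f276 H)

theorem f278 : g 3 • path g [4, 1] p = path g [4, 1, 3] p :=
  rfl

theorem f279 : g 8 • path g [4, 1, 3] p = path g [4, 1] p :=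
  H.back (i := 3) (by decide) (f278 H)

theorem f280 : g 4 • path g [4, 1] p = path g [4, 1, 4] p :=
  rfl

theorem f282 : g 5 • path g [4, 1] p = path g [4, 1, 5] p :=
  rfl

theorem f283 : g 0 • path g [4, 1, 5] p = path g [4, 1] p :=
  H.back (i := 5) (by decide) (f282 H)

theorem f284 : g 7 • path g [4, 1] p = path g [4, 1, 7] p :=
  rfl

theorem f285 : g 2 • path g [4, 1, 7] p = path g [4, 1] p :=
  H.back (i := 7) (by decide) (f284 H)

theorem f286 : g 8 • path g [4, 1] p = path g [4, 1, 8] p :=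
  rfl

theorem f296 : g 1 • path g [4, 2] p = path g [4, 2, 1] p :=
  rfl

theorem f300 : g 4 • path g [4, 2, 1] p = path g [9, 1] p :=
  scan (u := [1]) (w := [2, 1, 4, 2, 1, 4, 2]) (i := 4) (r18_0_1 H) (step (f296 H) rfl) (step (H.back (i := 7) (by decide) (f98 H)) (step (H.back (i := 6) (by decide) (f94 H)) (step (H.back (i := 9) (by decide) (f18 H)) (step (H.back (i := 7) (by decide) (f5 H)) (step (H.back (i := 6) (by decide) (f3 H)) (step (H.back (i := 9) (by decide) (f9 H)) (step (H.back (i := 7) (by decide) (f53 H)) rfl)))))))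

theorem f301 : g 9 • path g [9, 1] p = path g [4, 2, 1] p :=
  H.back (i := 4) (by decide) (f300 H)

theorem f302 : g 2 • path g [4, 2] p = path g [4, 2, 2] p :=
  rfl

theorem f303 : g 7 • path g [4, 2, 2] p = path g [4, 2] p :=
  H.back (i := 2) (by decide) (f302 H)

theorem f306 : g 4 • path g [4, 2] p = path g [4, 2, 4] p :=
  rfl

theorem f308 : g 5 • path g [4, 2, 4] p = path g [9, 0] p :=
  scan (u := [4]) (w := [5, 5, 7, 5, 9, 2]) (i := 5) (r10_0_7 H) (step (f306 H) rfl) (step (H.back (i := 0) (by decide) (f86 H)) (step (H.back (i := 0) (by decide) (f91 H)) (step (H.back (i := 2) (by decide) (f93 H)) (step (H.back (i := 0) (by decide) (f86 H)) (step (H.back (i := 4) (by decide) (f21 H)) (step (H.back (i := 7) (by decide) (f53 H)) rfl))))))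

theorem f309 : g 0 • path g [9, 0] p = path g [4, 2, 4] p :=
  H.back (i := 5) (by decide) (f308 H)

theorem f312 : g 6 • path g [4, 2] p = path g [4, 2, 6] p :=
  rfl

theorem f313 : g 1 • path g [4, 2, 6] p = path g [4, 2] p :=
  H.back (i := 6) (by decide) (f312 H)

theorem f314 : g 6 • path g [4, 2, 6] p = path g [4, 2, 1] p :=
  scan (u := [6]) (w := [6]) (i := 6) (r0_1_0 H) (step (f312 H) rfl) (step (H.back (i := 1) (by decide) (f296 H)) rfl)

theorem f315 : g 1 • path g [4, 2, 1] p = path g [4, 2, 6] p :=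
  H.back (i := 6) (by decide) (f314 H)

theorem f320 : g 9 • path g [4, 2] p = path g [4, 2, 9] p :=
  rfl

theorem f322 : g 9 • path g [4, 2, 9] p = path g [4, 2, 4] p :=
  scan (u := [9]) (w := [9]) (i := 9) (r13_1_0 H) (step (f320 H) rfl) (step (H.back (i := 4) (by decide) (f306 H)) rfl)

theorem f324 : g 1 • path g [4, 5] p = path g [4, 5, 1] p :=
  rfl

theorem f325 : g 6 • path g [4, 5, 1] p = path g [4, 5] p :=
  H.back (i := 1) (by decide) (f324 H)

theorem f326 : g 2 • path g [4, 5] p = path g [4, 5, 2] p :=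
  rfl

theorem f327 : g 7 • path g [4, 5, 2] p = path g [4, 5] p :=
  H.back (i := 2) (by decide) (f326 H)

theorem f328 : g 3 • path g [4, 5] p = path g [4, 5, 3] p :=
  rfl

theorem f332 : g 5 • path g [4, 5] p = path g [4, 5, 5] p :=
  rfl

theorem f333 : g 0 • path g [4, 5, 5] p = path g [4, 5] p :=
  H.back (i := 5) (by decide) (f332 H)

theorem f334 : g 5 • path g [4, 5, 5] p = path g [4, 0, 2] p :=
  scan (u := [5]) (w := [7, 5, 9, 2, 4, 5]) (i := 5) (r10_0_1 H) (step (f332 H) rfl) (step (H.back (i := 2) (by decide) (f252 H)) (step (H.back (i := 0) (by decide) (f48 H)) (step (H.back (i := 4) (by decide) (f8 H)) (step (H.back (i := 7) (by decide) (f5 H)) (step (H.back (i := 9) (by decide) (f9 H)) (step (H.back (i := 0) (by decide) (f55 H)) rfl))))))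

theorem f335 : g 0 • path g [4, 0, 2] p = path g [4, 5, 5] p :=
  H.back (i := 5) (by decide) (f334 H)

theorem f336 : path g [4, 5, 2] p = path g [4, 5] p :=
  close (u := [0, 2]) (w := [0, 0, 2, 0]) (r2_0_2 H) (step (f333 H) (step (f326 H) rfl)) (step (H.back (i := 5) (by decide) (f54 H)) (step (H.back (i := 5) (by decide) (f49 H)) (step (H.back (i := 7) (by decide) (f253 H)) (step (H.back (i := 5) (by decide) (f334 H)) rfl))))

theorem f337 : g 7 • path g [4, 5] p = path g [4, 5] p :=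
  (congrArg (g 7 • ·) (f336 H).symm).trans (f327 H)

theorem f339 : g 2 • path g [4, 5] p = path g [4, 5] p :=
  H.back (i := 7) (by decide) (f337 H)

theorem f340 : g 6 • path g [4, 5] p = path g [4, 5, 6] p :=
  rfl

theorem f341 : g 1 • path g [4, 5, 6] p = path g [4, 5] p :=
  H.back (i := 6) (by decide) (f340 H)

theorem f342 : g 6 • path g [4, 5, 6] p = path g [4, 5, 1] p :=
  scan (u := [6]) (w := [6]) (i := 6) (r0_1_0 H) (step (f340 H) rfl) (step (H.back (i := 1) (by decide) (f324 H)) rfl)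

theorem f343 : g 1 • path g [4, 5, 1] p = path g [4, 5, 6] p :=
  H.back (i := 6) (by decide) (f342 H)

theorem f344 : g 7 • path g [4, 5, 6] p = path g [4, 5, 1] p :=
  scan (u := [6]) (w := [6, 7]) (i := 7) (r1_1_0 H) (step (f340 H) rfl) (step (H.back (i := 1) (by decide) (f324 H)) (step (H.back (i := 2) (by decide) (f339 H)) rfl))

theorem f345 : g 2 • path g [4, 5, 1] p = path g [4, 5, 6] p :=
  H.back (i := 7) (by decide) (f344 H)

theorem f346 : path g [4, 5, 1] p = path g [4, 1, 0] p :=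
  close (u := [6, 7]) (w := [5, 6, 9, 1, 1, 0, 1, 4, 5]) (r12_0_1 H) (step (f340 H) (step (f344 H) rfl)) (step (H.back (i := 0) (by decide) (f272 H)) (step (H.back (i := 1) (by decide) (f50 H)) (step (H.back (i := 4) (by decide) (f8 H)) (step (H.back (i := 6) (by decide) (f3 H)) (step (H.back (i := 6) (by decide) (f3 H)) (step (H.back (i := 5) (by decide) (f1 H)) (step (H.back (i := 6) (by decide) (f3 H)) (step (H.back (i := 9) (by decide) (f9 H)) (step (H.back (i := 0) (by decide) (f55 H)) rfl)))))))))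

theorem f347 : g 6 • path g [4, 1, 0] p = path g [4, 5] p :=
  (congrArg (g 6 • ·) (f346 H).symm).trans (f325 H)

theorem f350 : g 1 • path g [4, 1, 0] p = path g [4, 5, 6] p :=
  (congrArg (g 1 • ·) (f346 H).symm).trans (f343 H)

theorem f352 : g 6 • path g [4, 5, 6] p = path g [4, 1, 0] p :=
  H.back (i := 1) (by decide) (f350 H)

theorem f353 : g 2 • path g [4, 1, 0] p = path g [4, 5, 6] p :=
  (congrArg (g 2 • ·) (f346 H).symm).trans (f345 H)

theorem f355 : g 7 • path g [4, 5, 6] p = path g [4, 1, 0] p :=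
  H.back (i := 2) (by decide) (f353 H)

theorem f356 : g 5 • path g [4, 5, 6] p = path g [4, 5, 6] p :=
  scan (u := [1, 0, 1, 0, 1]) (w := []) (i := 5) (r3_0_2 H) (step (f341 H) (step (f55 H) (step (f50 H) (step (f272 H) (step (f350 H) rfl))))) rfl

theorem f357 : g 0 • path g [4, 5, 6] p = path g [4, 5, 6] p :=
  H.back (i := 5) (by decide) (f356 H)

theorem f358 : path g [4, 1, 5] p = path g [4, 1, 0] p :=
  close (u := [1, 0, 1, 5]) (w := [1, 0]) (r3_0_4 H) (step (f341 H) (step (f55 H) (step (f50 H) (step (f282 H) rfl)))) (step (H.back (i := 6) (by decide) (f352 H)) (step (H.back (i := 5) (by decide) (f356 H)) rfl))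

theorem f359 : g 0 • path g [4, 1, 0] p = path g [4, 1] p :=
  (congrArg (g 0 • ·) (f358 H).symm).trans (f283 H)

theorem f362 : g 7 • path g [4, 5, 3] p = path g [3, 4, 0] p :=
  scan (u := [1, 3]) (w := [5, 8, 1, 0, 2, 0]) (i := 7) (r8_0_7 H) (step (f341 H) (step (f328 H) rfl)) (step (H.back (i := 0) (by decide) (f172 H)) (step (H.back (i := 3) (by decide) (f35 H)) (step (H.back (i := 6) (by decide) (f51 H)) (step (H.back (i := 5) (by decide) (f273 H)) (step (H.back (i := 7) (by decide) (f355 H)) (step (H.back (i := 5) (by decide) (f356 H)) rfl))))))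

theorem f364 : path g [4, 2, 1] p = path g [4, 1] p :=
  close (u := [1, 0, 9, 5, 7, 5, 4, 2, 1]) (w := [0, 2, 0]) (r11_1_10 H) (step (f341 H) (step (f55 H) (step (f9 H) (step (f1 H) (step (f5 H) (step (f1 H) (step (f8 H) (step (f52 H) (step (f296 H) rfl))))))))) (step (H.back (i := 5) (by decide) (f273 H)) (step (H.back (i := 7) (by decide) (f355 H)) (step (H.back (i := 5) (by decide) (f356 H)) rfl)))

theorem f369 : g 4 • path g [4, 1] p = path g [9, 1] p :=
  (congrArg (g 4 • ·) (f364 H).symm).trans (f300 H)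

theorem f370 : path g [4, 1, 4] p = path g [9, 1] p :=
  (f280 H).symm.trans (f369 H)

theorem f371 : g 1 • path g [4, 1] p = path g [4, 2, 6] p :=
  (congrArg (g 1 • ·) (f364 H).symm).trans (f315 H)

theorem f372 : path g [4, 6] p = path g [4, 2, 6] p :=
  (f59 H).symm.trans (f371 H)

theorem f373 : path g [4, 2, 6] p = path g [4, 6] p :=
  (f372 H).symm

theorem f374 : g 1 • path g [4, 6] p = path g [4, 2] p :=
  (congrArg (g 1 • ·) (f373 H).symm).trans (f313 H)

theorem f375 : path g [4] p = path g [4, 2] p :=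
  (f57 H).symm.trans (f374 H)

theorem f379 : path g [4, 2] p = path g [4] p :=
  (f375 H).symm

theorem f387 : g 2 • path g [4] p = path g [4, 2, 2] p :=
  (congrArg (g 2 • ·) (f379 H).symm).trans (f302 H)

theorem f388 : g 2 • path g [4] p = path g [4] p :=
  (f52 H).trans (f379 H)

theorem f389 : path g [4] p = path g [4, 2, 2] p :=
  (f388 H).symm.trans (f387 H)

theorem f401 : g 9 • path g [4] p = path g [4, 2, 9] p :=
  (congrArg (g 9 • ·) (f379 H).symm).trans (f320 H)

theorem f402 : path g [] p = path g [4, 2, 9] p :=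
  (f9 H).symm.trans (f401 H)

theorem f403 : path g [4, 2, 9] p = path g [] p :=
  (f402 H).symm

theorem f407 : g 9 • path g [] p = path g [4, 2, 4] p :=
  (congrArg (g 9 • ·) (f403 H).symm).trans (f322 H)

theorem f408 : path g [9] p = path g [4, 2, 4] p :=
  (f18 H).symm.trans (f407 H)

theorem f409 : path g [4, 2, 4] p = path g [9] p :=
  (f408 H).symm

theorem f413 : g 5 • path g [9] p = path g [9, 0] p :=
  (congrArg (g 5 • ·) (f409 H).symm).trans (f308 H)

theorem f414 : path g [9, 5] p = path g [9, 0] p :=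
  (f90 H).symm.trans (f413 H)

theorem f419 : g 0 • path g [9, 0] p = path g [9] p :=
  (f309 H).trans (f409 H)

theorem f421 : g 7 • path g [9, 0] p = path g [9, 0] p :=
  (congrArg (g 7 • ·) (f414 H).symm).trans (f92 H)

theorem f441 : path g [4, 2, 2] p = path g [4] p :=
  (f389 H).symm

theorem f442 : g 7 • path g [4, 2, 2] p = path g [4] p :=
  (f303 H).trans (f379 H)

theorem f443 : g 7 • path g [4] p = path g [4] p :=
  (congrArg (g 7 • ·) (f441 H).symm).trans (f442 H)

theorem f444 : path g [4, 7] p = path g [4] p :=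
  (f60 H).symm.trans (f443 H)

theorem f447 : g 6 • path g [4] p = path g [4, 1, 2] p :=
  (congrArg (g 6 • ·) (f444 H).symm).trans (f277 H)

theorem f448 : path g [4, 6] p = path g [4, 1, 2] p :=
  (f56 H).symm.trans (f447 H)

theorem f449 : path g [4, 1, 2] p = path g [4, 6] p :=
  (f448 H).symm

theorem f461 : g 9 • path g [9, 1] p = path g [4, 1] p :=
  (f301 H).trans (f364 H)

theorem f467 : g 4 • path g [4, 1] p = path g [9, 1] p :=
  (f280 H).trans (f370 H)

theorem f468 : g 5 • path g [9] p = path g [9, 0] p :=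
  (f90 H).trans (f414 H)

theorem f469 : g 2 • path g [4, 5, 6] p = path g [4, 1, 0] p :=
  scan (u := [0, 0, 2, 0, 0]) (w := []) (i := 2) (r2_0_1 H) (step (f359 H) (step (f272 H) (step (f353 H) (step (f357 H) (step (f357 H) rfl))))) rfl

theorem f470 : g 7 • path g [4, 1, 0] p = path g [4, 5, 6] p :=
  H.back (i := 2) (by decide) (f469 H)

theorem f471 : g 2 • path g [4, 1] p = path g [4, 6] p :=
  (f274 H).trans (f449 H)

theorem f472 : g 0 • path g [4, 6] p = path g [4, 6] p :=
  scan (u := [0, 1]) (w := [1, 5, 1]) (i := 0) (r3_0_3 H) (step (f359 H) (step (f59 H) rfl)) (step (H.back (i := 6) (by decide) (f56 H)) (step (H.back (i := 0) (by decide) (f55 H)) (step (H.back (i := 6) (by decide) (f347 H)) rfl)))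

theorem f473 : g 5 • path g [4, 6] p = path g [4, 6] p :=
  H.back (i := 0) (by decide) (f472 H)

theorem f474 : path g [4, 0, 1] p = path g [4, 1, 0] p :=
  close (u := [0, 1, 5, 1, 0, 1]) (w := []) (r3_0_5 H) (step (f359 H) (step (f59 H) (step (f473 H) (step (f57 H) (step (f48 H) (step (f250 H) rfl)))))) rfl

theorem f475 : path g [4, 1, 0] p = path g [4, 0, 1] p :=
  (f474 H).symm

theorem f476 : g 5 • path g [4, 0, 1] p = path g [4, 1] p :=
  (congrArg (g 5 • ·) (f475 H).symm).trans (f273 H)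

theorem f478 : g 0 • path g [4, 1] p = path g [4, 0, 1] p :=
  H.back (i := 5) (by decide) (f476 H)

theorem f481 : g 1 • path g [4, 0, 1] p = path g [4, 5, 6] p :=
  (congrArg (g 1 • ·) (f475 H).symm).trans (f350 H)

theorem f482 : path g [4, 0, 6] p = path g [4, 5, 6] p :=
  (f261 H).symm.trans (f481 H)

theorem f483 : g 2 • path g [4, 0, 1] p = path g [4, 5, 6] p :=
  (congrArg (g 2 • ·) (f475 H).symm).trans (f353 H)

theorem f485 : g 7 • path g [4, 5, 6] p = path g [4, 0, 1] p :=
  H.back (i := 2) (by decide) (f483 H)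

theorem f486 : g 0 • path g [4, 0, 1] p = path g [4, 1] p :=
  (congrArg (g 0 • ·) (f475 H).symm).trans (f359 H)

theorem f488 : g 5 • path g [4, 1] p = path g [4, 0, 1] p :=
  H.back (i := 0) (by decide) (f486 H)

theorem f489 : g 7 • path g [4, 0, 1] p = path g [4, 5, 6] p :=
  (congrArg (g 7 • ·) (f475 H).symm).trans (f470 H)

theorem f491 : g 2 • path g [4, 5, 6] p = path g [4, 0, 1] p :=
  H.back (i := 7) (by decide) (f489 H)

theorem f492 : path g [4, 5, 6] p = path g [4, 0, 6] p :=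
  (f482 H).symm

theorem f493 : g 1 • path g [4, 0, 6] p = path g [4, 5] p :=
  (congrArg (g 1 • ·) (f492 H).symm).trans (f341 H)

theorem f494 : path g [4, 0] p = path g [4, 5] p :=
  (f259 H).symm.trans (f493 H)

theorem f498 : g 7 • path g [4, 0, 6] p = path g [4, 0, 1] p :=
  (congrArg (g 7 • ·) (f492 H).symm).trans (f485 H)

theorem f500 : g 2 • path g [4, 0, 1] p = path g [4, 0, 6] p :=
  H.back (i := 7) (by decide) (f498 H)

theorem f501 : g 5 • path g [4, 5, 6] p = path g [4, 0, 6] p :=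
  (f356 H).trans (f492 H)

theorem f502 : g 5 • path g [4, 0, 6] p = path g [4, 0, 6] p :=
  (congrArg (g 5 • ·) (f492 H).symm).trans (f501 H)

theorem f503 : g 0 • path g [4, 0, 6] p = path g [4, 0, 6] p :=
  H.back (i := 5) (by decide) (f502 H)

theorem f507 : g 2 • path g [4, 0, 6] p = path g [4, 0, 1] p :=
  (congrArg (g 2 • ·) (f492 H).symm).trans (f491 H)

theorem f509 : g 7 • path g [4, 0, 1] p = path g [4, 0, 6] p :=
  H.back (i := 2) (by decide) (f507 H)

theorem f510 : path g [4, 5] p = path g [4, 0] p :=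
  (f494 H).symm

theorem f519 : g 3 • path g [4, 0] p = path g [4, 5, 3] p :=
  (congrArg (g 3 • ·) (f510 H).symm).trans (f328 H)

theorem f520 : path g [4, 0, 3] p = path g [4, 5, 3] p :=
  (f254 H).symm.trans (f519 H)

theorem f525 : g 7 • path g [4, 5] p = path g [4, 0] p :=
  (f337 H).trans (f510 H)

theorem f526 : g 7 • path g [4, 0] p = path g [4, 0] p :=
  (congrArg (g 7 • ·) (f510 H).symm).trans (f525 H)

theorem f527 : path g [4, 0, 7] p = path g [4, 0] p :=
  (f262 H).symm.trans (f526 H)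

theorem f531 : g 2 • path g [4, 0] p = path g [4, 0] p :=
  (congrArg (g 2 • ·) (f527 H).symm).trans (f263 H)

theorem f532 : path g [4, 0, 2] p = path g [4, 0] p :=
  (f252 H).symm.trans (f531 H)

theorem f534 : g 7 • path g [4, 0] p = path g [4, 0] p :=
  (f262 H).trans (f527 H)

theorem f536 : g 0 • path g [4, 0] p = path g [4, 5, 5] p :=
  (congrArg (g 0 • ·) (f532 H).symm).trans (f335 H)

theorem f537 : path g [4, 0, 0] p = path g [4, 5, 5] p :=
  (f248 H).symm.trans (f536 H)

theorem f538 : path g [4, 5, 5] p = path g [4, 0, 0] p :=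
  (f537 H).symm

theorem f539 : g 0 • path g [4, 5, 5] p = path g [4, 0] p :=
  (f333 H).trans (f510 H)

theorem f540 : g 0 • path g [4, 0, 0] p = path g [4, 0] p :=
  (congrArg (g 0 • ·) (f538 H).symm).trans (f539 H)

theorem f541 : g 5 • path g [4, 0] p = path g [4, 0, 0] p :=
  H.back (i := 0) (by decide) (f540 H)

theorem f542 : path g [4] p = path g [4, 0, 0] p :=
  (f49 H).symm.trans (f541 H)

theorem f546 : path g [4, 0, 0] p = path g [4] p :=
  (f542 H).symm

theorem f548 : g 5 • path g [4] p = path g [4, 0] p :=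
  (f54 H).trans (f510 H)

theorem f557 : path g [4, 5, 3] p = path g [4, 0, 3] p :=
  (f520 H).symm

theorem f561 : g 7 • path g [4, 0, 3] p = path g [3, 4, 0] p :=
  (congrArg (g 7 • ·) (f557 H).symm).trans (f362 H)

theorem f564 : path g [4, 6] p = path g [4, 1, 7] p :=
  close (u := [2, 0, 2, 0]) (w := [2, 0, 2, 0]) (r4_0_0 H) (step (f507 H) (step (f486 H) (step (f471 H) (step (f472 H) rfl)))) (step (H.back (i := 7) (by decide) (f284 H)) (step (H.back (i := 5) (by decide) (f476 H)) (step (H.back (i := 7) (by decide) (f498 H)) (step (H.back (i := 5) (by decide) (f502 H)) rfl))))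

theorem f565 : path g [4, 1, 7] p = path g [4, 6] p :=
  (f564 H).symm

theorem f566 : g 2 • path g [4, 6] p = path g [4, 1] p :=
  (congrArg (g 2 • ·) (f565 H).symm).trans (f285 H)

theorem f569 : g 0 • path g [4, 0] p = path g [4] p :=
  (f248 H).trans (f546 H)

theorem f570 : g 0 • path g [4, 8] p = path g [4, 0, 8] p :=
  scan (u := [5, 7, 5, 6, 8]) (w := [3, 6]) (i := 0) (r7_0_1 H) (step (f502 H) (step (f498 H) (step (f476 H) (step (f51 H) (step (f62 H) rfl))))) (step (H.back (i := 8) (by decide) (f264 H)) (step (H.back (i := 1) (by decide) (f259 H)) rfl))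

theorem f575 : g 5 • path g [4, 8] p = path g [4, 0, 8] p :=
  scan (u := [0, 2, 0, 1, 8]) (w := [3, 1]) (i := 5) (r7_1_4 H) (step (f486 H) (step (f471 H) (step (f472 H) (step (f57 H) (step (f62 H) rfl))))) (step (H.back (i := 8) (by decide) (f264 H)) (step (H.back (i := 6) (by decide) (f251 H)) rfl))

theorem f576 : g 0 • path g [4, 0, 8] p = path g [4, 8] p :=
  H.back (i := 5) (by decide) (f575 H)

theorem f577 : g 5 • path g [3, 4, 7] p = path g [4, 0, 3] p :=
  scan (u := [0, 2, 0, 1, 3, 7]) (w := [8, 1]) (i := 5) (r8_0_4 H) (step (f486 H) (step (f471 H) (step (f472 H) (step (f57 H) (step (f35 H) (step (f184 H) rfl)))))) (step (H.back (i := 3) (by decide) (f254 H)) (step (H.back (i := 6) (by decide) (f251 H)) rfl))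

theorem f579 : g 7 • path g [4, 8] p = path g [4, 8] p :=
  scan (u := [0, 2, 0, 1, 0, 0, 8]) (w := [3, 0, 1]) (i := 7) (r6_1_5 H) (step (f486 H) (step (f471 H) (step (f472 H) (step (f57 H) (step (f48 H) (step (f569 H) (step (f62 H) rfl))))))) (step (H.back (i := 8) (by decide) (f62 H)) (step (H.back (i := 5) (by decide) (f49 H)) (step (H.back (i := 6) (by decide) (f251 H)) rfl)))

theorem f580 : g 2 • path g [4, 8] p = path g [4, 8] p :=
  H.back (i := 7) (by decide) (f579 H)

theorem f581 : g 3 • path g [4, 6] p = path g [4, 6, 3] p :=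
  rfl

theorem f582 : g 8 • path g [4, 6, 3] p = path g [4, 6] p :=
  H.back (i := 3) (by decide) (f581 H)

theorem f583 : g 4 • path g [4, 6] p = path g [4, 6, 4] p :=
  rfl

theorem f584 : g 9 • path g [4, 6, 4] p = path g [4, 6] p :=
  H.back (i := 4) (by decide) (f583 H)

theorem f585 : g 8 • path g [4, 6] p = path g [4, 6, 8] p :=
  rfl

theorem f587 : g 8 • path g [4, 6, 8] p = path g [4, 6, 3] p :=
  scan (u := [8]) (w := [8]) (i := 8) (r9_1_0 H) (step (f585 H) rfl) (step (H.back (i := 3) (by decide) (f581 H)) rfl)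

theorem f593 : g 7 • path g [4, 6, 8] p = path g [4, 1, 8] p :=
  scan (u := [8]) (w := [3, 0, 1, 0, 2, 0, 1, 0, 0]) (i := 7) (r6_1_0 H) (step (f585 H) rfl) (step (H.back (i := 8) (by decide) (f286 H)) (step (H.back (i := 5) (by decide) (f476 H)) (step (H.back (i := 6) (by decide) (f260 H)) (step (H.back (i := 5) (by decide) (f502 H)) (step (H.back (i := 7) (by decide) (f509 H)) (step (H.back (i := 5) (by decide) (f488 H)) (step (H.back (i := 6) (by decide) (f58 H)) (step (H.back (i := 5) (by decide) (f473 H)) (step (H.back (i := 5) (by decide) (f473 H)) rfl)))))))))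

theorem f594 : g 2 • path g [4, 1, 8] p = path g [4, 6, 8] p :=
  H.back (i := 7) (by decide) (f593 H)

theorem f595 : g 9 • path g [4, 6] p = path g [4, 6, 9] p :=
  rfl

theorem f597 : g 9 • path g [4, 6, 9] p = path g [4, 6, 4] p :=
  scan (u := [9]) (w := [9]) (i := 9) (r13_1_0 H) (step (f595 H) rfl) (step (H.back (i := 4) (by decide) (f583 H)) rfl)

theorem f599 : g 1 • path g [4, 8] p = path g [4, 8, 1] p :=
  rfl

theorem f600 : g 6 • path g [4, 8, 1] p = path g [4, 8] p :=
  H.back (i := 1) (by decide) (f599 H)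

theorem f601 : g 6 • path g [4, 8] p = path g [4, 8, 6] p :=
  rfl

theorem f602 : g 1 • path g [4, 8, 6] p = path g [4, 8] p :=
  H.back (i := 6) (by decide) (f601 H)

theorem f603 : g 6 • path g [4, 8, 6] p = path g [4, 8, 1] p :=
  scan (u := [6]) (w := [6]) (i := 6) (r0_1_0 H) (step (f601 H) rfl) (step (H.back (i := 1) (by decide) (f599 H)) rfl)

theorem f604 : g 1 • path g [4, 8, 1] p = path g [4, 8, 6] p :=
  H.back (i := 6) (by decide) (f603 H)

theorem f605 : g 7 • path g [4, 8, 6] p = path g [4, 8, 1] p :=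
  scan (u := [6]) (w := [6, 7]) (i := 7) (r1_1_0 H) (step (f601 H) rfl) (step (H.back (i := 1) (by decide) (f599 H)) (step (H.back (i := 2) (by decide) (f580 H)) rfl))

theorem f606 : g 2 • path g [4, 8, 1] p = path g [4, 8, 6] p :=
  H.back (i := 7) (by decide) (f605 H)

theorem f607 : g 0 • path g [8, 1] p = path g [8, 1, 0] p :=
  rfl

theorem f608 : g 5 • path g [8, 1, 0] p = path g [8, 1] p :=
  H.back (i := 0) (by decide) (f607 H)

theorem f609 : g 3 • path g [8, 1] p = path g [8, 1, 3] p :=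
  rfl

theorem f610 : g 8 • path g [8, 1, 3] p = path g [8, 1] p :=
  H.back (i := 3) (by decide) (f609 H)

theorem f611 : g 4 • path g [8, 1] p = path g [8, 1, 4] p :=
  rfl

theorem f613 : g 5 • path g [8, 1] p = path g [8, 1, 5] p :=
  rfl

theorem f614 : g 0 • path g [8, 1, 5] p = path g [8, 1] p :=
  H.back (i := 5) (by decide) (f613 H)

theorem f615 : g 7 • path g [8, 1] p = path g [8, 1, 7] p :=
  rfl

theorem f616 : g 2 • path g [8, 1, 7] p = path g [8, 1] p :=
  H.back (i := 7) (by decide) (f615 H)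

theorem f617 : g 8 • path g [8, 1] p = path g [8, 1, 8] p :=
  rfl

theorem f619 : g 8 • path g [8, 1, 8] p = path g [8, 1, 3] p :=
  scan (u := [8]) (w := [8]) (i := 8) (r9_1_0 H) (step (f617 H) rfl) (step (H.back (i := 3) (by decide) (f609 H)) rfl)

theorem f621 : g 9 • path g [8, 1] p = path g [8, 1, 9] p :=
  rfl

theorem f622 : g 4 • path g [8, 1, 9] p = path g [8, 1] p :=
  H.back (i := 9) (by decide) (f621 H)

theorem f623 : g 9 • path g [8, 1, 9] p = path g [8, 1, 4] p :=
  scan (u := [9]) (w := [9]) (i := 9) (r13_1_0 H) (step (f621 H) rfl) (step (H.back (i := 4) (by decide) (f611 H)) rfl)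

theorem f624 : g 4 • path g [8, 1, 4] p = path g [8, 1, 9] p :=
  H.back (i := 9) (by decide) (f623 H)

theorem f625 : g 0 • path g [8, 6] p = path g [8, 6, 0] p :=
  rfl

theorem f626 : g 5 • path g [8, 6, 0] p = path g [8, 6] p :=
  H.back (i := 0) (by decide) (f625 H)

theorem f627 : g 6 • path g [8, 6, 0] p = path g [8, 1, 0] p :=
  scan (u := [0]) (w := [5, 6, 5, 6]) (i := 6) (r3_1_4 H) (step (f625 H) rfl) (step (H.back (i := 0) (by decide) (f607 H)) (step (H.back (i := 1) (by decide) (f68 H)) (step (H.back (i := 0) (by decide) (f14 H)) (step (H.back (i := 1) (by decide) (f71 H)) rfl))))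

theorem f629 : g 5 • path g [8, 6] p = path g [8, 6, 0] p :=
  scan (u := [6, 5, 6, 0, 6]) (w := []) (i := 5) (r3_1_1 H) (step (f627 H) (step (f608 H) (step (f69 H) (step (f14 H) (step (f70 H) rfl))))) rfl

theorem f630 : g 0 • path g [8, 6, 0] p = path g [8, 6] p :=
  H.back (i := 5) (by decide) (f629 H)

theorem f631 : path g [8, 1, 0] p = path g [8, 1, 5] p :=
  close (u := [6]) (w := [0, 6, 5, 6, 5]) (r3_1_3 H) (step (f627 H) rfl) (step (H.back (i := 5) (by decide) (f613 H)) (step (H.back (i := 1) (by decide) (f68 H)) (step (H.back (i := 0) (by decide) (f14 H)) (step (H.back (i := 1) (by decide) (f71 H)) (step (H.back (i := 0) (by decide) (f630 H)) rfl)))))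

theorem f632 : path g [8, 1, 5] p = path g [8, 1, 0] p :=
  (f631 H).symm

theorem f633 : g 0 • path g [8, 1, 0] p = path g [8, 1] p :=
  (congrArg (g 0 • ·) (f632 H).symm).trans (f614 H)

theorem f635 : g 5 • path g [8, 1] p = path g [8, 1, 0] p :=
  H.back (i := 0) (by decide) (f633 H)

theorem f636 : path g [8, 6] p = path g [8, 1, 7] p :=
  close (u := [0, 2, 0, 0]) (w := [2, 0]) (r2_0_2 H) (step (f633 H) (step (f75 H) (step (f625 H) (step (f630 H) rfl)))) (step (H.back (i := 7) (by decide) (f615 H)) (step (H.back (i := 5) (by decide) (f608 H)) rfl))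

theorem f637 : path g [8, 1, 7] p = path g [8, 6] p :=
  (f636 H).symm

theorem f638 : g 2 • path g [8, 6] p = path g [8, 1] p :=
  (congrArg (g 2 • ·) (f637 H).symm).trans (f616 H)

theorem f640 : g 7 • path g [8, 1] p = path g [8, 6] p :=
  H.back (i := 2) (by decide) (f638 H)

theorem f641 : g 7 • path g [8, 6, 0] p = path g [8, 1, 0] p :=
  scan (u := [5]) (w := [5, 6, 3, 0, 2, 8, 6]) (i := 7) (r8_1_2 H) (step (f629 H) rfl) (step (H.back (i := 0) (by decide) (f607 H)) (step (H.back (i := 1) (by decide) (f68 H)) (step (H.back (i := 8) (by decide) (f10 H)) (step (H.back (i := 5) (by decide) (f1 H)) (step (H.back (i := 7) (by decide) (f5 H)) (step (H.back (i := 3) (by decide) (f11 H)) (step (H.back (i := 1) (by decide) (f71 H)) rfl)))))))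

theorem f643 : path g [3, 2, 3] p = path g [8] p :=
  close (u := [5, 7, 5, 6, 5, 8, 2, 3]) (w := [5, 5, 6]) (r6_0_3 H) (step (f629 H) (step (f641 H) (step (f608 H) (step (f69 H) (step (f15 H) (step (f12 H) (step (f30 H) (step (f154 H) rfl)))))))) (step (H.back (i := 0) (by decide) (f14 H)) (step (H.back (i := 0) (by decide) (f14 H)) (step (H.back (i := 1) (by decide) (f71 H)) rfl)))

theorem f646 : g 3 • path g [8] p = path g [3, 2, 8] p :=
  (congrArg (g 3 • ·) (f643 H).symm).trans (f167 H)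

theorem f647 : path g [] p = path g [3, 2, 8] p :=
  (f11 H).symm.trans (f646 H)

theorem f648 : path g [3, 2, 8] p = path g [] p :=
  (f647 H).symm

theorem f649 : g 3 • path g [] p = path g [3, 2] p :=
  (congrArg (g 3 • ·) (f648 H).symm).trans (f165 H)

theorem f650 : path g [3] p = path g [3, 2] p :=
  (f6 H).symm.trans (f649 H)

theorem f654 : path g [3, 2] p = path g [3] p :=
  (f650 H).symm

theorem f662 : g 2 • path g [3] p = path g [3] p :=
  (f30 H).trans (f654 H)

theorem f671 : g 6 • path g [3] p = path g [3, 2, 6] p :=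
  (congrArg (g 6 • ·) (f654 H).symm).trans (f160 H)

theorem f672 : path g [3, 6] p = path g [3, 2, 6] p :=
  (f38 H).symm.trans (f671 H)

theorem f691 : path g [3, 2, 6] p = path g [3, 6] p :=
  (f672 H).symm

theorem f695 : g 6 • path g [3, 6] p = path g [3, 2, 1] p :=
  (congrArg (g 6 • ·) (f691 H).symm).trans (f162 H)

theorem f696 : path g [3, 1] p = path g [3, 2, 1] p :=
  (f40 H).symm.trans (f695 H)

theorem f697 : path g [3, 2, 1] p = path g [3, 1] p :=
  (f696 H).symm

theorem f701 : g 2 • path g [3, 1] p = path g [3, 6] p :=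
  (congrArg (g 2 • ·) (f697 H).symm).trans (f150 H)

theorem f702 : path g [3, 0, 6] p = path g [3, 6] p :=
  (f117 H).symm.trans (f701 H)

theorem f708 : g 6 • path g [3, 6] p = path g [3, 0, 1] p :=
  (congrArg (g 6 • ·) (f702 H).symm).trans (f114 H)

theorem f709 : path g [3, 1] p = path g [3, 0, 1] p :=
  (f40 H).symm.trans (f708 H)

theorem f711 : g 7 • path g [3, 6] p = path g [3, 1] p :=
  (f151 H).trans (f697 H)

theorem f713 : path g [3, 0, 1] p = path g [3, 1] p :=
  (f709 H).symm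

theorem f714 : g 6 • path g [3, 1] p = path g [3, 0] p :=
  (congrArg (g 6 • ·) (f713 H).symm).trans (f107 H)

theorem f715 : path g [3] p = path g [3, 0] p :=
  (f29 H).symm.trans (f714 H)

theorem f719 : path g [3, 0] p = path g [3] p :=
  (f715 H).symm

theorem f724 : g 0 • path g [3] p = path g [3, 0, 0] p :=
  (congrArg (g 0 • ·) (f719 H).symm).trans (f102 H)

theorem f725 : g 0 • path g [3] p = path g [3] p :=
  (f24 H).trans (f719 H)

theorem f726 : path g [3] p = path g [3, 0, 0] p :=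
  (f725 H).symm.trans (f724 H)

theorem f738 : g 7 • path g [3] p = path g [3] p :=
  (f27 H).trans (f719 H)

theorem f774 : path g [3, 0, 0] p = path g [3] p :=
  (f726 H).symm

theorem f778 : g 2 • path g [3] p = path g [3, 5] p :=
  (congrArg (g 2 • ·) (f774 H).symm).trans (f104 H)

theorem f779 : path g [3] p = path g [3, 5] p :=
  (f662 H).symm.trans (f778 H)

theorem f780 : path g [3, 5] p = path g [3] p :=
  (f779 H).symm

theorem f795 : g 5 • path g [3] p = path g [3] p :=
  (f36 H).trans (f780 H)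

theorem f864 : path g [8, 6, 0] p = path g [3, 1, 3] p :=
  close (u := [5]) (w := [8, 6, 5, 8, 6, 5, 2, 1, 0, 2, 0, 1, 8, 6]) (r17_1_2 H) (step (f629 H) rfl) (step (H.back (i := 3) (by decide) (f130 H)) (step (H.back (i := 1) (by decide) (f28 H)) (step (H.back (i := 0) (by decide) (f725 H)) (step (H.back (i := 3) (by decide) (f6 H)) (step (H.back (i := 1) (by decide) (f2 H)) (step (H.back (i := 0) (by decide) (f0 H)) (step (H.back (i := 7) (by decide) (f5 H)) (step (H.back (i := 6) (by decide) (f3 H)) (step (H.back (i := 5) (by decide) (f1 H)) (step (H.back (i := 7) (by decide) (f5 H)) (step (H.back (i := 5) (by decide) (f1 H)) (step (H.back (i := 6) (by decide) (f3 H)) (step (H.back (i := 3) (by decide) (f11 H)) (step (H.back (i := 1) (by decide) (f71 H)) rfl))))))))))))))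

theorem f865 : g 5 • path g [3, 1, 3] p = path g [8, 6] p :=
  (congrArg (g 5 • ·) (f864 H).symm).trans (f626 H)

theorem f867 : g 0 • path g [8, 6] p = path g [3, 1, 3] p :=
  H.back (i := 5) (by decide) (f865 H)

theorem f868 : g 6 • path g [3, 1, 3] p = path g [8, 1, 0] p :=
  (congrArg (g 6 • ·) (f864 H).symm).trans (f627 H)

theorem f870 : g 1 • path g [8, 1, 0] p = path g [3, 1, 3] p :=
  H.back (i := 6) (by decide) (f868 H)

theorem f871 : g 0 • path g [3, 1, 3] p = path g [8, 6] p :=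
  (congrArg (g 0 • ·) (f864 H).symm).trans (f630 H)

theorem f873 : g 5 • path g [8, 6] p = path g [3, 1, 3] p :=
  H.back (i := 0) (by decide) (f871 H)

theorem f874 : g 7 • path g [3, 1, 3] p = path g [8, 1, 0] p :=
  (congrArg (g 7 • ·) (f864 H).symm).trans (f641 H)

theorem f876 : g 2 • path g [8, 1, 0] p = path g [3, 1, 3] p :=
  H.back (i := 7) (by decide) (f874 H)

theorem f877 : g 2 • path g [3, 1, 3] p = path g [8, 1, 0] p :=
  scan (u := [5]) (w := [1, 0, 2, 0, 1, 8, 6, 5, 8, 6, 5, 8, 6]) (i := 2) (r17_1_8 H) (step (f873 H) rfl) (step (H.back (i := 6) (by decide) (f868 H)) (step (H.back (i := 5) (by decide) (f873 H)) (step (H.back (i := 7) (by decide) (f640 H)) (step (H.back (i := 5) (by decide) (f608 H)) (step (H.back (i := 6) (by decide) (f868 H)) (step (H.back (i := 3) (by decide) (f130 H)) (step (H.back (i := 1) (by decide) (f28 H)) (step (H.back (i := 0) (by decide) (f725 H)) (step (H.back (i := 3) (by decide) (f6 H)) (step (H.back (i := 1) (by decide) (f2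 H)) (step (H.back (i := 0) (by decide) (f0 H)) (step (H.back (i := 3) (by decide) (f11 H)) (step (H.back (i := 1) (by decide) (f71 H)) rfl)))))))))))))

theorem f878 : g 7 • path g [8, 1, 0] p = path g [3, 1, 3] p :=
  H.back (i := 2) (by decide) (f877 H)

theorem f879 : g 3 • path g [3, 1, 5] p = path g [8, 1, 0] p :=
  scan (u := [0, 2, 0, 1, 8, 5]) (w := [1]) (i := 3) (r7_1_4 H) (step (f871 H) (step (f638 H) (step (f607 H) (step (f870 H) (step (f131 H) (step (f134 H) rfl)))))) (step (H.back (i := 6) (by decide) (f868 H)) rfl)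

theorem f880 : g 8 • path g [8, 1, 0] p = path g [3, 1, 5] p :=
  H.back (i := 3) (by decide) (f879 H)

theorem f881 : path g [8, 1, 8] p = path g [3, 6] p :=
  close (u := [0, 2, 8]) (w := [6, 5, 7, 5, 6, 3]) (r8_1_7 H) (step (f871 H) (step (f638 H) (step (f617 H) rfl))) (step (H.back (i := 1) (by decide) (f41 H)) (step (H.back (i := 0) (by decide) (f135 H)) (step (H.back (i := 2) (by decide) (f222 H)) (step (H.back (i := 0) (by decide) (f208 H)) (step (H.back (i := 1) (by decide) (f41 H)) (step (H.back (i := 8) (by decide) (f131 H)) rfl))))))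

theorem f884 : g 8 • path g [3, 6] p = path g [8, 1, 3] p :=
  (congrArg (g 8 • ·) (f881 H).symm).trans (f619 H)

theorem f885 : path g [3, 6, 8] p = path g [8, 1, 3] p :=
  (f224 H).symm.trans (f884 H)

theorem f886 : path g [8, 1, 3] p = path g [3, 6, 8] p :=
  (f885 H).symm

theorem f887 : g 8 • path g [3, 6, 8] p = path g [8, 1] p :=
  (congrArg (g 8 • ·) (f886 H).symm).trans (f610 H)

theorem f888 : path g [3, 6, 3] p = path g [8, 1] p :=
  (f226 H).symm.trans (f887 H)

theorem f893 : g 8 • path g [8, 1] p = path g [3, 6] p :=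
  (f617 H).trans (f881 H)

theorem f896 : g 3 • path g [8, 1] p = path g [3, 6, 8] p :=
  (f609 H).trans (f886 H)

theorem f898 : path g [3, 1, 7] p = path g [3, 6] p :=
  close (u := [0, 2, 0, 1, 0, 0, 8, 7]) (w := [3, 0, 1]) (r6_1_5 H) (step (f871 H) (step (f638 H) (step (f607 H) (step (f870 H) (step (f871 H) (step (f867 H) (step (f131 H) (step (f136 H) rfl)))))))) (step (H.back (i := 8) (by decide) (f893 H)) (step (H.back (i := 5) (by decide) (f608 H)) (step (H.back (i := 6) (by decide) (f868 H)) rfl)))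

theorem f901 : g 6 • path g [3, 6] p = path g [3, 6, 2] p :=
  (congrArg (g 6 • ·) (f898 H).symm).trans (f213 H)

theorem f902 : path g [3, 1] p = path g [3, 6, 2] p :=
  (f40 H).symm.trans (f901 H)

theorem f903 : path g [3, 6, 2] p = path g [3, 1] p :=
  (f902 H).symm

theorem f905 : g 7 • path g [3, 1] p = path g [3, 6] p :=
  (f136 H).trans (f898 H)

theorem f910 : g 3 • path g [3, 6] p = path g [8, 1] p :=
  (f214 H).trans (f888 H)

theorem f911 : g 8 • path g [8, 6] p = path g [3, 6, 0] p :=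
  scan (u := [2, 0, 1]) (w := [5, 3, 1, 0]) (i := 8) (r7_1_5 H) (step (f877 H) (step (f633 H) (step (f73 H) rfl))) (step (H.back (i := 0) (by decide) (f208 H)) (step (H.back (i := 8) (by decide) (f893 H)) (step (H.back (i := 6) (by decide) (f72 H)) (step (H.back (i := 5) (by decide) (f865 H)) rfl))))

theorem f912 : g 3 • path g [3, 6, 0] p = path g [8, 6] p :=
  H.back (i := 8) (by decide) (f911 H)

theorem f913 : g 7 • path g [3, 6, 0] p = path g [3, 1, 5] p :=
  scan (u := [2, 0, 1, 0, 0, 8]) (w := [3, 0, 1, 0]) (i := 7) (r6_1_6 H) (step (f877 H) (step (f633 H) (step (f73 H) (step (f867 H) (step (f871 H) (step (f911 H) rfl)))))) (step (H.back (i := 8) (by decide) (f880 H)) (step (H.back (i := 5) (by decide) (f635 H)) (step (H.back (i := 6) (by decide) (f72 H)) (step (H.back (i := 5) (by decide) (f865 H)) rfl))))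

theorem f916 : path g [3, 6, 0] p = path g [3, 6, 5] p :=
  close (u := [8]) (w := [0, 3, 6, 5, 7, 5, 6]) (r7_0_5 H) (step (f911 H) rfl) (step (H.back (i := 5) (by decide) (f218 H)) (step (H.back (i := 8) (by decide) (f893 H)) (step (H.back (i := 1) (by decide) (f68 H)) (step (H.back (i := 0) (by decide) (f14 H)) (step (H.back (i := 2) (by decide) (f16 H)) (step (H.back (i := 0) (by decide) (f14 H)) (step (H.back (i := 1) (by decide) (f71 H)) rfl)))))))

theorem f917 : path g [3, 6, 5] p = path g [3, 6, 0] p :=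
  (f916 H).symm

theorem f918 : g 0 • path g [3, 6, 0] p = path g [3, 6] p :=
  (congrArg (g 0 • ·) (f917 H).symm).trans (f219 H)

theorem f920 : g 5 • path g [3, 6] p = path g [3, 6, 0] p :=
  H.back (i := 0) (by decide) (f918 H)

theorem f921 : g 7 • path g [3, 6, 0] p = path g [3, 1, 0] p :=
  (congrArg (g 7 • ·) (f917 H).symm).trans (f220 H)

theorem f922 : path g [3, 1, 5] p = path g [3, 1, 0] p :=
  (f913 H).symm.trans (f921 H)

theorem f923 : g 0 • path g [3, 1, 0] p = path g [3, 1] p :=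
  (congrArg (g 0 • ·) (f922 H).symm).trans (f135 H)

theorem f926 : g 7 • path g [3, 1, 0] p = path g [3, 6, 0] p :=
  (congrArg (g 7 • ·) (f922 H).symm).trans (f223 H)

theorem f929 : g 3 • path g [3, 1, 0] p = path g [8, 1, 0] p :=
  (congrArg (g 3 • ·) (f922 H).symm).trans (f879 H)

theorem f933 : g 2 • path g [3, 1, 0] p = path g [3, 6, 0] p :=
  (f221 H).trans (f917 H)

theorem f935 : g 7 • path g [3, 6, 0] p = path g [3, 1, 0] p :=
  (f913 H).trans (f922 H)

theorem f936 : g 2 • path g [3, 6, 9] p = path g [3, 1, 9] p :=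
  scan (u := [7, 5, 9]) (w := [4, 5, 5, 5]) (i := 2) (r10_0_3 H) (step (f926 H) (step (f209 H) (step (f230 H) rfl))) (step (H.back (i := 9) (by decide) (f142 H)) (step (H.back (i := 0) (by decide) (f923 H)) (step (H.back (i := 0) (by decide) (f128 H)) (step (H.back (i := 0) (by decide) (f923 H)) rfl))))

theorem f937 : g 7 • path g [3, 1, 9] p = path g [3, 6, 9] p :=
  H.back (i := 2) (by decide) (f936 H)

theorem f938 : g 2 • path g [3, 6] p = path g [3, 1] p :=
  (f210 H).trans (f903 H)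

theorem f939 : g 6 • path g [3, 6, 0] p = path g [3, 1, 0] p :=
  scan (u := [0, 6, 5, 6, 5]) (w := []) (i := 6) (r3_1_4 H) (step (f923 H) (step (f29 H) (step (f795 H) (step (f38 H) (step (f920 H) rfl))))) rfl

theorem f940 : g 1 • path g [3, 1, 0] p = path g [3, 6, 0] p :=
  H.back (i := 6) (by decide) (f939 H)

theorem f941 : g 7 • path g [3, 6, 9] p = path g [3, 1, 9] p :=
  scan (u := [0, 0, 0, 9]) (w := [4, 0, 2]) (i := 7) (r10_1_5 H) (step (f918 H) (step (f208 H) (step (f918 H) (step (f230 H) rfl)))) (step (H.back (i := 9) (by decide) (f142 H)) (step (H.back (i := 5) (by decide) (f129 H)) (step (H.back (i := 7) (by decide) (f935 H)) rfl)))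

theorem f942 : g 2 • path g [3, 1, 9] p = path g [3, 6, 9] p :=
  H.back (i := 7) (by decide) (f941 H)

theorem f943 : g 7 • path g [3, 9, 5] p = path g [3, 9, 0] p :=
  scan (u := [0, 1, 0, 9, 5]) (w := [5, 4, 2, 1, 0, 2]) (i := 7) (r11_1_9 H) (step (f918 H) (step (f39 H) (step (f725 H) (step (f42 H) (step (f240 H) rfl))))) (step (H.back (i := 0) (by decide) (f234 H)) (step (H.back (i := 9) (by decide) (f42 H)) (step (H.back (i := 7) (by decide) (f738 H)) (step (H.back (i := 6) (by decide) (f29 H)) (step (H.back (i := 5) (by decide) (f129 H)) (step (H.back (i := 7) (by decide) (f935 H)) rfl))))))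

theorem f944 : g 2 • path g [3, 9, 0] p = path g [3, 9, 5] p :=
  H.back (i := 7) (by decide) (f943 H)

theorem f945 : g 3 • path g [8, 6] p = path g [8, 6, 3] p :=
  rfl

theorem f946 : g 8 • path g [8, 6, 3] p = path g [8, 6] p :=
  H.back (i := 3) (by decide) (f945 H)

theorem f947 : g 3 • path g [8, 6, 3] p = path g [3, 6, 0] p :=
  scan (u := [3]) (w := [3]) (i := 3) (r9_0_0 H) (step (f945 H) rfl) (step (H.back (i := 8) (by decide) (f911 H)) rfl)

theorem f948 : g 8 • path g [3, 6, 0] p = path g [8, 6, 3] p :=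
  H.back (i := 3) (by decide) (f947 H)

theorem f949 : g 2 • path g [3, 1, 8] p = path g [8, 6, 3] p :=
  scan (u := [3, 5, 5, 6, 5, 7, 5, 6, 5, 8]) (w := []) (i := 2) (r6_0_10 H) (step (f947 H) (step (f209 H) (step (f920 H) (step (f939 H) (step (f129 H) (step (f905 H) (step (f920 H) (step (f939 H) (step (f129 H) (step (f138 H) rfl)))))))))) rfl

theorem f953 : g 0 • path g [3, 6, 8] p = path g [3, 1, 8] p :=
  scan (u := [2, 8, 6, 5, 7, 5, 6, 3]) (w := []) (i := 0) (r8_1_8 H) (step (f949 H) (step (f946 H) (step (f72 H) (step (f635 H) (step (f878 H) (step (f865 H) (step (f72 H) (step (f896 H) rfl)))))))) rfl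

theorem f955 : g 8 • path g [3, 6, 8] p = path g [8, 1] p :=
  (f226 H).trans (f888 H)

theorem f956 : g 1 • path g [3, 1, 8] p = path g [8, 6, 3] p :=
  scan (u := [0]) (w := [3, 0, 1, 3, 6, 5, 7, 5, 6, 7, 0, 1, 3]) (i := 1) (r17_0_9 H) (step (f953 H) rfl) (step (H.back (i := 8) (by decide) (f948 H)) (step (H.back (i := 5) (by decide) (f920 H)) (step (H.back (i := 6) (by decide) (f38 H)) (step (H.back (i := 8) (by decide) (f12 H)) (step (H.back (i := 1) (by decide) (f71 H)) (step (H.back (i := 0) (by decide) (f871 H)) (step (H.back (i := 2) (by decide) (f876 H)) (step (H.back (i := 0) (by decide) (f607 H)) (step (H.back (i := 1) (by decide) (f68 H)) (step (H.back (i := 2) (by decide) (f16 H)) (step (H.back (i := 5) (by decide) (f15 H)) (step (H.back (i := 6) (by decide) (f69 H)) (step (H.back (i := 8) (by decide) (f955 H)) rfl)))))))))))))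

theorem f958 : g 4 • path g [8, 6] p = path g [8, 6, 4] p :=
  rfl

theorem f959 : g 9 • path g [8, 6, 4] p = path g [8, 6] p :=
  H.back (i := 4) (by decide) (f958 H)

theorem f960 : g 9 • path g [8, 6] p = path g [8, 6, 9] p :=
  rfl

theorem f961 : g 4 • path g [8, 6, 9] p = path g [8, 6] p :=
  H.back (i := 9) (by decide) (f960 H)

theorem f962 : g 9 • path g [8, 6, 9] p = path g [8, 6, 4] p :=
  scan (u := [9]) (w := [9]) (i := 9) (r13_1_0 H) (step (f960 H) rfl) (step (H.back (i := 4) (by decide) (f958 H)) rfl)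

theorem f963 : g 4 • path g [8, 6, 4] p = path g [8, 6, 9] p :=
  H.back (i := 9) (by decide) (f962 H)

theorem f964 : g 2 • path g [8, 6, 9] p = path g [8, 1, 9] p :=
  scan (u := [9]) (w := [4, 5, 5, 5, 7, 5]) (i := 2) (r10_0_5 H) (step (f960 H) rfl) (step (H.back (i := 9) (by decide) (f621 H)) (step (H.back (i := 0) (by decide) (f633 H)) (step (H.back (i := 0) (by decide) (f607 H)) (step (H.back (i := 0) (by decide) (f633 H)) (step (H.back (i := 2) (by decide) (f877 H)) (step (H.back (i := 0) (by decide) (f867 H)) rfl))))))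

theorem f965 : g 7 • path g [8, 1, 9] p = path g [8, 6, 9] p :=
  H.back (i := 2) (by decide) (f964 H)

theorem f966 : g 7 • path g [8, 6, 9] p = path g [8, 1, 9] p :=
  scan (u := [9]) (w := [4, 0, 2, 0, 0, 0]) (i := 7) (r10_1_0 H) (step (f960 H) rfl) (step (H.back (i := 9) (by decide) (f621 H)) (step (H.back (i := 5) (by decide) (f608 H)) (step (H.back (i := 7) (by decide) (f874 H)) (step (H.back (i := 5) (by decide) (f873 H)) (step (H.back (i := 5) (by decide) (f865 H)) (step (H.back (i := 5) (by decide) (f873 H)) rfl))))))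

theorem f967 : g 2 • path g [8, 1, 9] p = path g [8, 6, 9] p :=
  H.back (i := 7) (by decide) (f966 H)

theorem f968 : g 0 • path g [8, 9] p = path g [8, 9, 0] p :=
  rfl

theorem f969 : g 5 • path g [8, 9, 0] p = path g [8, 9] p :=
  H.back (i := 0) (by decide) (f968 H)

theorem f970 : g 1 • path g [8, 9] p = path g [8, 9, 1] p :=
  rfl

theorem f971 : g 6 • path g [8, 9, 1] p = path g [8, 9] p :=
  H.back (i := 1) (by decide) (f970 H)

theorem f972 : g 5 • path g [8, 9] p = path g [8, 9, 5] p :=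
  rfl

theorem f973 : g 0 • path g [8, 9, 5] p = path g [8, 9] p :=
  H.back (i := 5) (by decide) (f972 H)

theorem f974 : g 7 • path g [8, 9, 5] p = path g [8, 9, 0] p :=
  scan (u := [5]) (w := [5, 4, 2, 1, 0, 2, 0, 1, 0, 9]) (i := 7) (r11_1_1 H) (step (f972 H) rfl) (step (H.back (i := 0) (by decide) (f968 H)) (step (H.back (i := 9) (by decide) (f76 H)) (step (H.back (i := 7) (by decide) (f17 H)) (step (H.back (i := 6) (by decide) (f69 H)) (step (H.back (i := 5) (by decide) (f608 H)) (step (H.back (i := 7) (by decide) (f874 H)) (step (H.back (i := 5) (by decide) (f873 H)) (step (H.back (i := 6) (by decide) (f70 H)) (step (H.back (i := 5) (by decide) (f15 H)) (step (H.back (i := 4) (by decide) (f77 H)) rfl))))))))))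

theorem f976 : path g [8, 9, 0] p = path g [8, 9, 5] p :=
  close (u := [0, 0]) (w := [0, 9, 7, 4, 0, 2]) (r10_1_5 H) (step (f973 H) (step (f968 H) rfl)) (step (H.back (i := 5) (by decide) (f972 H)) (step (H.back (i := 4) (by decide) (f79 H)) (step (H.back (i := 2) (by decide) (f580 H)) (step (H.back (i := 9) (by decide) (f78 H)) (step (H.back (i := 5) (by decide) (f969 H)) (step (H.back (i := 7) (by decide) (f974 H)) rfl))))))

theorem f977 : path g [8, 9, 5] p = path g [8, 9, 0] p :=
  (f976 H).symm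

theorem f978 : g 0 • path g [8, 9, 0] p = path g [8, 9] p :=
  (congrArg (g 0 • ·) (f977 H).symm).trans (f973 H)

theorem f980 : g 5 • path g [8, 9] p = path g [8, 9, 0] p :=
  H.back (i := 0) (by decide) (f978 H)

theorem f984 : g 6 • path g [8, 9] p = path g [8, 9, 6] p :=
  rfl

theorem f985 : g 1 • path g [8, 9, 6] p = path g [8, 9] p :=
  H.back (i := 6) (by decide) (f984 H)

theorem f986 : g 6 • path g [8, 9, 6] p = path g [8, 9, 1] p :=
  scan (u := [6]) (w := [6]) (i := 6) (r0_1_0 H) (step (f984 H) rfl) (step (H.back (i := 1) (by decide) (f970 H)) rfl)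

theorem f987 : g 1 • path g [8, 9, 1] p = path g [8, 9, 6] p :=
  H.back (i := 6) (by decide) (f986 H)

theorem f988 : g 7 • path g [8, 9, 6] p = path g [8, 9, 1] p :=
  scan (u := [6]) (w := [6, 7]) (i := 7) (r1_1_0 H) (step (f984 H) rfl) (step (H.back (i := 1) (by decide) (f970 H)) (step (H.back (i := 2) (by decide) (f84 H)) rfl))

theorem f989 : g 2 • path g [8, 9, 1] p = path g [8, 9, 6] p :=
  H.back (i := 7) (by decide) (f988 H)

theorem f990 : g 1 • path g [9, 0] p = path g [9, 0, 1] p :=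
  rfl

theorem f991 : g 6 • path g [9, 0, 1] p = path g [9, 0] p :=
  H.back (i := 1) (by decide) (f990 H)

theorem f992 : g 5 • path g [9, 0, 1] p = path g [9, 1] p :=
  scan (u := [1]) (w := [1, 0, 1, 0]) (i := 5) (r3_0_0 H) (step (f990 H) rfl) (step (H.back (i := 6) (by decide) (f96 H)) (step (H.back (i := 5) (by decide) (f100 H)) (step (H.back (i := 6) (by decide) (f94 H)) (step (H.back (i := 5) (by decide) (f87 H)) rfl))))

theorem f993 : g 0 • path g [9, 1] p = path g [9, 0, 1] p :=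
  H.back (i := 5) (by decide) (f992 H)

theorem f994 : g 0 • path g [9, 0, 1] p = path g [9, 1] p :=
  scan (u := [1]) (w := [1, 0, 1, 5]) (i := 0) (r3_0_2 H) (step (f990 H) rfl) (step (H.back (i := 6) (by decide) (f96 H)) (step (H.back (i := 5) (by decide) (f100 H)) (step (H.back (i := 6) (by decide) (f94 H)) (step (H.back (i := 0) (by decide) (f419 H)) rfl))))

theorem f995 : g 5 • path g [9, 1] p = path g [9, 0, 1] p :=
  H.back (i := 0) (by decide) (f994 H)

theorem f996 : g 3 • path g [8, 9, 0] p = path g [9, 0] p :=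
  scan (u := [1, 0, 2, 0, 1, 8, 5]) (w := []) (i := 3) (r7_1_3 H) (step (f990 H) (step (f994 H) (step (f99 H) (step (f101 H) (step (f95 H) (step (f83 H) (step (f980 H) rfl))))))) rfl

theorem f997 : g 8 • path g [9, 0] p = path g [8, 9, 0] p :=
  H.back (i := 3) (by decide) (f996 H)

theorem f998 : g 4 • path g [4, 0, 1] p = path g [9, 6] p :=
  scan (u := [1, 0, 9, 6, 5, 6, 6]) (w := [1, 0, 2]) (i := 4) (r12_1_9 H) (step (f990 H) (step (f994 H) (step (f461 H) (step (f51 H) (step (f548 H) (step (f258 H) (step (f260 H) rfl))))))) (step (H.back (i := 6) (by decide) (f94 H)) (step (H.back (i := 5) (by decide) (f87 H)) (step (H.back (i := 7) (by decide) (f421 H)) rfl)))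

theorem f999 : g 9 • path g [9, 6] p = path g [4, 0, 1] p :=
  H.back (i := 4) (by decide) (f998 H)

theorem f1000 : g 9 • path g [9, 0, 1] p = path g [4, 0, 6] p :=
  scan (u := [4, 5, 5, 5, 7, 5]) (w := [2]) (i := 9) (r10_0_7 H) (step (f998 H) (step (f100 H) (step (f100 H) (step (f100 H) (step (f98 H) (step (f995 H) rfl)))))) (step (H.back (i := 7) (by decide) (f509 H)) rfl)

theorem f1001 : g 4 • path g [4, 0, 6] p = path g [9, 0, 1] p :=
  H.back (i := 9) (by decide) (f1000 H)

theorem f1002 : g 2 • path g [9, 6] p = path g [9, 1] p :=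
  scan (u := [4, 0]) (w := [0, 0, 0, 9, 7]) (i := 2) (r10_1_2 H) (step (f998 H) (step (f101 H) rfl)) (step (H.back (i := 5) (by decide) (f992 H)) (step (H.back (i := 5) (by decide) (f995 H)) (step (H.back (i := 5) (by decide) (f992 H)) (step (H.back (i := 4) (by decide) (f1001 H)) (step (H.back (i := 2) (by decide) (f500 H)) rfl)))))

theorem f1003 : g 7 • path g [9, 1] p = path g [9, 6] p :=
  H.back (i := 2) (by decide) (f1002 H)

theorem f1004 : g 1 • path g [4, 6, 4] p = path g [9, 0] p :=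
  scan (u := [9, 6, 5, 6, 6, 4]) (w := [0, 2, 1, 0]) (i := 1) (r12_1_0 H) (step (f1000 H) (step (f260 H) (step (f476 H) (step (f51 H) (step (f56 H) (step (f583 H) rfl)))))) (step (H.back (i := 5) (by decide) (f468 H)) (step (H.back (i := 7) (by decide) (f23 H)) (step (H.back (i := 6) (by decide) (f89 H)) (step (H.back (i := 5) (by decide) (f992 H)) rfl))))

theorem f1005 : g 6 • path g [9, 0] p = path g [4, 6, 4] p :=
  H.back (i := 1) (by decide) (f1004 H)

theorem f1006 : g 7 • path g [4, 6, 4] p = path g [9, 0, 1] p :=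
  scan (u := [9, 0, 2, 0, 4, 5, 6, 5, 7, 5, 6]) (w := []) (i := 7) (r11_0_7 H) (step (f1000 H) (step (f503 H) (step (f507 H) (step (f486 H) (step (f467 H) (step (f995 H) (step (f991 H) (step (f87 H) (step (f23 H) (step (f468 H) (step (f1005 H) rfl))))))))))) rfl

theorem f1007 : g 2 • path g [9, 0, 1] p = path g [4, 6, 4] p :=
  H.back (i := 7) (by decide) (f1006 H)

theorem f1008 : g 5 • path g [4, 6, 4] p = path g [4, 6, 4] p :=
  scan (u := [7, 5, 6, 8, 0, 3, 6]) (w := []) (i := 5) (r7_0_2 H) (step (f1006 H) (step (f992 H) (step (f89 H) (step (f83 H) (step (f968 H) (step (f996 H) (step (f1005 H) rfl))))))) rfl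

theorem f1009 : g 0 • path g [4, 6, 4] p = path g [4, 6, 4] p :=
  H.back (i := 5) (by decide) (f1008 H)

theorem f1010 : g 8 • path g [3, 9, 5] p = path g [9, 0] p :=
  scan (u := [7, 5, 6, 3, 0, 2]) (w := [6, 5]) (i := 8) (r8_1_3 H) (step (f1006 H) (step (f992 H) (step (f89 H) (step (f47 H) (step (f234 H) (step (f944 H) rfl)))))) (step (H.back (i := 1) (by decide) (f1004 H)) (step (H.back (i := 0) (by decide) (f1009 H)) rfl))

theorem f1012 : g 2 • path g [4, 6, 4] p = path g [9, 0, 1] p :=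
  scan (u := [2, 0, 0]) (w := [0, 0]) (i := 2) (r2_0_0 H) (step (f1007 H) (step (f1009 H) (step (f1009 H) rfl))) (step (H.back (i := 5) (by decide) (f995 H)) (step (H.back (i := 5) (by decide) (f992 H)) rfl))

theorem f1013 : g 7 • path g [9, 0, 1] p = path g [4, 6, 4] p :=
  H.back (i := 2) (by decide) (f1012 H)

theorem f1014 : g 1 • path g [9, 0, 1] p = path g [4, 6, 4] p :=
  scan (u := [2]) (w := [0, 2, 0, 1, 0, 9, 5, 7, 5, 4]) (i := 1) (r11_1_5 H) (step (f1012 H) rfl) (step (H.back (i := 5) (by decide) (f1008 H)) (step (H.back (i := 7) (by decide) (f1013 H)) (step (H.back (i := 5) (by decide) (f995 H)) (step (H.back (i := 6) (by decide) (f96 H)) (step (H.back (i := 5) (by decide) (f100 H)) (step (H.back (i := 4) (by decide) (f998 H)) (step (H.back (i := 0) (by decide) (f478 H)) (step (H.back (i := 2) (by decide) (f566 H)) (step (H.back (i := 0) (by decide) (f472 H)) (step (H.back (i := 9) (by decide) (f584 H)) rfl))))))))))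

theorem f1015 : g 6 • path g [4, 6, 4] p = path g [9, 0, 1] p :=
  H.back (i := 1) (by decide) (f1014 H)

theorem f1016 : g 8 • path g [8, 9, 0] p = path g [3, 9, 5] p :=
  scan (u := [8, 8]) (w := []) (i := 8) (r9_1_0 H) (step (f1010 H) (step (f997 H) rfl)) rfl

theorem f1018 : path g [3, 9, 7] p = path g [3, 9] p :=
  close (u := [8, 1, 0, 2, 0, 1, 3, 7]) (w := [5]) (r8_0_2 H) (step (f1010 H) (step (f990 H) (step (f994 H) (step (f99 H) (step (f101 H) (step (f95 H) (step (f47 H) (step (f246 H) rfl)))))))) (step (H.back (i := 0) (by decide) (f241 H)) rfl)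

theorem f1019 : g 2 • path g [3, 9] p = path g [3, 9] p :=
  (congrArg (g 2 • ·) (f1018 H).symm).trans (f247 H)

theorem f1020 : path g [3, 9, 2] p = path g [3, 9] p :=
  (f238 H).symm.trans (f1019 H)

theorem f1022 : g 7 • path g [3, 9] p = path g [3, 9] p :=
  (f246 H).trans (f1018 H)

theorem f1024 : g 2 • path g [3, 9] p = path g [3, 9] p :=
  (f238 H).trans (f1020 H)

theorem f1045 : g 4 • path g [9, 6] p = path g [9, 6, 4] p :=
  rfl

theorem f1046 : g 9 • path g [9, 6, 4] p = path g [9, 6] p :=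
  H.back (i := 4) (by decide) (f1045 H)

theorem f1047 : g 4 • path g [9, 6, 4] p = path g [4, 0, 1] p :=
  scan (u := [4]) (w := [4]) (i := 4) (r13_0_0 H) (step (f1045 H) rfl) (step (H.back (i := 9) (by decide) (f999 H)) rfl)

theorem f1048 : g 9 • path g [4, 0, 1] p = path g [9, 6, 4] p :=
  H.back (i := 4) (by decide) (f1047 H)

theorem f1051 : g 7 • path g [4, 6, 9] p = path g [9, 6, 4] p :=
  scan (u := [4, 0, 2, 0, 0, 0, 9]) (w := []) (i := 7) (r10_1_2 H) (step (f1047 H) (step (f486 H) (step (f471 H) (step (f472 H) (step (f472 H) (step (f472 H) (step (f595 H) rfl))))))) rfl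

theorem f1052 : g 2 • path g [9, 6, 4] p = path g [4, 6, 9] p :=
  H.back (i := 7) (by decide) (f1051 H)

theorem f1053 : g 6 • path g [4, 0, 9] p = path g [4, 6, 9] p :=
  scan (u := [7, 9, 6, 7, 9, 6, 7, 9]) (w := []) (i := 6) (r18_1_2 H) (step (f1051 H) (step (f1046 H) (step (f96 H) (step (f1003 H) (step (f999 H) (step (f251 H) (step (f534 H) (step (f268 H) rfl)))))))) rfl

theorem f1054 : g 1 • path g [4, 6, 9] p = path g [4, 0, 9] p :=
  H.back (i := 6) (by decide) (f1053 H)

theorem f1055 : path g [9, 6, 4] p = path g [4, 1] p :=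
  close (u := [6, 9, 6, 9, 6, 9]) (w := [6, 9, 6, 9, 6, 9, 6, 9]) (r16_1_1 H) (step (f1053 H) (step (f597 H) (step (f1015 H) (step (f1000 H) (step (f260 H) (step (f1048 H) rfl)))))) (step (H.back (i := 1) (by decide) (f50 H)) (step (H.back (i := 4) (by decide) (f8 H)) (step (H.back (i := 1) (by decide) (f2 H)) (step (H.back (i := 4) (by decide) (f19 H)) (step (H.back (i := 1) (by decide) (f95 H)) (step (H.back (i := 4) (by decide) (f998 H)) (step (H.back (i := 1) (by decide) (f250 H)) (step (H.back (i := 4) (by decide) (f269 H)) rfl))))))))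

theorem f1062 : g 2 • path g [4, 1] p = path g [4, 6, 9] p :=
  (congrArg (g 2 • ·) (f1055 H).symm).trans (f1052 H)

theorem f1063 : path g [4, 6] p = path g [4, 6, 9] p :=
  (f471 H).symm.trans (f1062 H)

theorem f1064 : path g [4, 6, 9] p = path g [4, 6] p :=
  (f1063 H).symm

theorem f1076 : g 1 • path g [4, 6] p = path g [4, 0, 9] p :=
  (congrArg (g 1 • ·) (f1064 H).symm).trans (f1054 H)

theorem f1077 : path g [4] p = path g [4, 0, 9] p :=
  (f57 H).symm.trans (f1076 H)

theorem f1078 : path g [4, 0, 9] p = path g [4] p :=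
  (f1077 H).symm

theorem f1081 : g 9 • path g [4] p = path g [4, 0, 4] p :=
  (congrArg (g 9 • ·) (f1078 H).symm).trans (f270 H)

theorem f1082 : path g [] p = path g [4, 0, 4] p :=
  (f9 H).symm.trans (f1081 H)

theorem f1086 : path g [4, 0, 4] p = path g [] p :=
  (f1082 H).symm

theorem f1087 : g 9 • path g [] p = path g [4, 0] p :=
  (congrArg (g 9 • ·) (f1086 H).symm).trans (f257 H)

theorem f1088 : path g [9] p = path g [4, 0] p :=
  (f18 H).symm.trans (f1087 H)

theorem f1092 : path g [4, 0] p = path g [9] p :=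
  (f1088 H).symm

theorem f1112 : g 8 • path g [9] p = path g [4, 0, 8] p :=
  (congrArg (g 8 • ·) (f1092 H).symm).trans (f264 H)

theorem f1113 : path g [8, 9] p = path g [4, 0, 8] p :=
  (f83 H).symm.trans (f1112 H)

theorem f1117 : path g [4, 0, 8] p = path g [8, 9] p :=
  (f1113 H).symm

theorem f1131 : g 0 • path g [8, 9] p = path g [4, 8] p :=
  (congrArg (g 0 • ·) (f1117 H).symm).trans (f576 H)

theorem f1132 : path g [8, 9, 0] p = path g [4, 8] p :=
  (f968 H).symm.trans (f1131 H)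

theorem f1134 : g 5 • path g [4, 8] p = path g [8, 9] p :=
  (f575 H).trans (f1117 H)

theorem f1140 : g 0 • path g [4, 8] p = path g [8, 9] p :=
  (f570 H).trans (f1117 H)

theorem f1147 : g 8 • path g [4, 8] p = path g [3, 9, 5] p :=
  (congrArg (g 8 • ·) (f1132 H).symm).trans (f1016 H)

theorem f1148 : path g [3, 4] p = path g [3, 9, 5] p :=
  (f64 H).symm.trans (f1147 H)

theorem f1149 : path g [3, 9, 5] p = path g [3, 4] p :=
  (f1148 H).symm

theorem f1152 : g 7 • path g [3, 4] p = path g [3, 9, 0] p :=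
  (congrArg (g 7 • ·) (f1149 H).symm).trans (f943 H)

theorem f1153 : path g [3, 4, 7] p = path g [3, 9, 0] p :=
  (f184 H).symm.trans (f1152 H)

theorem f1154 : g 8 • path g [3, 4] p = path g [9, 0] p :=
  (congrArg (g 8 • ·) (f1149 H).symm).trans (f1010 H)

theorem f1155 : path g [4] p = path g [9, 0] p :=
  (f34 H).symm.trans (f1154 H)

theorem f1159 : path g [9, 0] p = path g [4] p :=
  (f1155 H).symm

theorem f1161 : g 5 • path g [4] p = path g [9] p :=
  (f548 H).trans (f1092 H)

theorem f1177 : g 6 • path g [4] p = path g [4, 6, 4] p :=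
  (congrArg (g 6 • ·) (f1159 H).symm).trans (f1005 H)

theorem f1178 : path g [4, 6] p = path g [4, 6, 4] p :=
  (f56 H).symm.trans (f1177 H)

theorem f1205 : path g [4, 6, 4] p = path g [4, 6] p :=
  (f1178 H).symm

theorem f1225 : g 6 • path g [4, 6] p = path g [9, 0, 1] p :=
  (congrArg (g 6 • ·) (f1205 H).symm).trans (f1015 H)

theorem f1226 : path g [4, 1] p = path g [9, 0, 1] p :=
  (f58 H).symm.trans (f1225 H)

theorem f1227 : path g [9, 0, 1] p = path g [4, 1] p :=
  (f1226 H).symm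

theorem f1233 : g 0 • path g [4, 1] p = path g [9, 1] p :=
  (congrArg (g 0 • ·) (f1227 H).symm).trans (f994 H)

theorem f1234 : path g [4, 0, 1] p = path g [9, 1] p :=
  (f478 H).symm.trans (f1233 H)

theorem f1263 : g 0 • path g [9, 1] p = path g [4, 1] p :=
  (f993 H).trans (f1227 H)

theorem f1294 : g 9 • path g [9, 6] p = path g [9, 1] p :=
  (f999 H).trans (f1234 H)

theorem f1296 : path g [3, 9, 0] p = path g [3, 4, 7] p :=
  (f1153 H).symm

theorem f1297 : g 5 • path g [3, 4, 7] p = path g [3, 9] p :=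
  (congrArg (g 5 • ·) (f1296 H).symm).trans (f235 H)

theorem f1298 : path g [4, 0, 3] p = path g [3, 9] p :=
  (f577 H).symm.trans (f1297 H)

theorem f1308 : g 7 • path g [3, 9] p = path g [3, 4, 0] p :=
  (congrArg (g 7 • ·) (f1298 H).symm).trans (f561 H)

theorem f1309 : path g [3, 9] p = path g [3, 4, 0] p :=
  (f1022 H).symm.trans (f1308 H)

theorem f1313 : path g [3, 4, 0] p = path g [3, 9] p :=
  (f1309 H).symm

theorem f1315 : g 5 • path g [3, 9] p = path g [3, 4] p :=
  (f240 H).trans (f1149 H)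

theorem f1340 : g 0 • path g [3, 4] p = path g [3, 9] p :=
  (f172 H).trans (f1313 H)

theorem f1347 : g 5 • path g [9] p = path g [4] p :=
  (f468 H).trans (f1159 H)

theorem f1356 : g 6 • path g [3, 1, 0] p = path g [3, 1, 0, 6] p :=
  rfl

theorem f1357 : g 1 • path g [3, 1, 0, 6] p = path g [3, 1, 0] p :=
  H.back (i := 6) (by decide) (f1356 H)

theorem f1358 : g 6 • path g [3, 1, 0, 6] p = path g [3, 6, 0] p :=
  scan (u := [6]) (w := [6]) (i := 6) (r0_1_0 H) (step (f1356 H) rfl) (step (H.back (i := 1) (by decide) (f940 H)) rfl)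

theorem f1359 : g 1 • path g [3, 6, 0] p = path g [3, 1, 0, 6] p :=
  H.back (i := 6) (by decide) (f1358 H)

theorem f1360 : g 7 • path g [3, 1, 0, 6] p = path g [3, 1, 0, 6] p :=
  scan (u := [6]) (w := [6, 7]) (i := 7) (r1_1_0 H) (step (f1356 H) rfl) (step (H.back (i := 1) (by decide) (f1359 H)) (step (H.back (i := 2) (by decide) (f933 H)) rfl))

theorem f1362 : g 5 • path g [3, 1, 0, 6] p = path g [3, 1, 0, 6] p :=
  scan (u := [6]) (w := [6, 0, 6, 5]) (i := 5) (r3_1_1 H) (step (f1356 H) rfl) (step (H.back (i := 1) (by decide) (f1359 H)) (step (H.back (i := 5) (by decide) (f920 H)) (step (H.back (i := 1) (by decide) (f41 H)) (step (H.back (i := 0) (by decide) (f923 H)) rfl))))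

theorem f1364 : g 8 • path g [3, 1, 0] p = path g [3, 1, 0, 8] p :=
  rfl

theorem f1365 : g 3 • path g [3, 1, 0, 8] p = path g [3, 1, 0] p :=
  H.back (i := 8) (by decide) (f1364 H)

theorem f1366 : g 8 • path g [3, 1, 0, 8] p = path g [8, 1, 0] p :=
  scan (u := [8]) (w := [8]) (i := 8) (r9_1_0 H) (step (f1364 H) rfl) (step (H.back (i := 3) (by decide) (f929 H)) rfl)

theorem f1367 : g 3 • path g [8, 1, 0] p = path g [3, 1, 0, 8] p :=
  H.back (i := 8) (by decide) (f1366 H)

theorem f1376 : g 6 • path g [3, 1, 0, 8] p = path g [3, 6, 8] p :=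
  scan (u := [8]) (w := [5, 8, 6, 5, 8, 6, 5, 2, 1, 0, 2, 0, 1]) (i := 6) (r17_1_0 H) (step (f1364 H) rfl) (step (H.back (i := 0) (by decide) (f229 H)) (step (H.back (i := 3) (by decide) (f141 H)) (step (H.back (i := 1) (by decide) (f870 H)) (step (H.back (i := 0) (by decide) (f607 H)) (step (H.back (i := 3) (by decide) (f910 H)) (step (H.back (i := 1) (by decide) (f41 H)) (step (H.back (i := 0) (by decide) (f923 H)) (step (H.back (i := 7) (by decide) (f935 H)) (step (H.back (i := 6) (by decide) (f1358 H)) (step (H.back (i := 5) (by decide) (f1362 H)) (step (H.back (i := 7) (by decide) (f1360 H)) (step (H.back (i := 5) (by decide) (f1362 H)) (step (H.back (i := 6) (by decide) (f1356 H)) rfl)))))))))))))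

theorem f1378 : path g [3, 1, 3] p = path g [3, 6] p :=
  close (u := [3, 1, 3, 1, 3, 1, 3, 1, 3]) (w := [1, 3, 1, 3, 1]) (r15_0_1 H) (step (f1365 H) (step (f940 H) (step (f912 H) (step (f71 H) (step (f11 H) (step (f2 H) (step (f6 H) (step (f28 H) (step (f130 H) rfl))))))))) (step (H.back (i := 6) (by decide) (f38 H)) (step (H.back (i := 8) (by decide) (f12 H)) (step (H.back (i := 6) (by decide) (f69 H)) (step (H.back (i := 8) (by decide) (f955 H)) (step (H.back (i := 6) (by decide) (f1376 H)) rfl)))))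

theorem f1391 : g 2 • path g [3, 6] p = path g [8, 1, 0] p :=
  (congrArg (g 2 • ·) (f1378 H).symm).trans (f877 H)

theorem f1392 : path g [3, 1] p = path g [8, 1, 0] p :=
  (f938 H).symm.trans (f1391 H)

theorem f1393 : path g [8, 1, 0] p = path g [3, 1] p :=
  (f1392 H).symm

theorem f1409 : g 3 • path g [3, 1] p = path g [3, 1, 0, 8] p :=
  (congrArg (g 3 • ·) (f1393 H).symm).trans (f1367 H)

theorem f1410 : g 3 • path g [3, 1] p = path g [3, 6] p :=
  (f130 H).trans (f1378 H)

theorem f1411 : path g [3, 6] p = path g [3, 1, 0, 8] p :=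
  (f1410 H).symm.trans (f1409 H)

theorem f1412 : path g [3, 1, 0, 8] p = path g [3, 6] p :=
  (f1411 H).symm

theorem f1426 : g 6 • path g [3, 6] p = path g [3, 6, 8] p :=
  (congrArg (g 6 • ·) (f1412 H).symm).trans (f1376 H)

theorem f1427 : path g [3, 1] p = path g [3, 6, 8] p :=
  (f40 H).symm.trans (f1426 H)

theorem f1428 : path g [3, 6, 8] p = path g [3, 1] p :=
  (f1427 H).symm

theorem f1435 : g 0 • path g [3, 1] p = path g [3, 1, 8] p :=
  (congrArg (g 0 • ·) (f1428 H).symm).trans (f953 H)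

theorem f1436 : path g [3, 1, 0] p = path g [3, 1, 8] p :=
  (f128 H).symm.trans (f1435 H)

theorem f1446 : path g [3, 1, 8] p = path g [3, 1, 0] p :=
  (f1436 H).symm

theorem f1464 : g 1 • path g [3, 1, 0] p = path g [8, 6, 3] p :=
  (congrArg (g 1 • ·) (f1446 H).symm).trans (f956 H)

theorem f1465 : path g [3, 6, 0] p = path g [8, 6, 3] p :=
  (f940 H).symm.trans (f1464 H)

theorem f1466 : path g [8, 6, 3] p = path g [3, 6, 0] p :=
  (f1465 H).symm

theorem f1470 : g 3 • path g [3, 6, 0] p = path g [3, 6, 0] p :=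
  (congrArg (g 3 • ·) (f1466 H).symm).trans (f947 H)

theorem f1471 : path g [8, 6] p = path g [3, 6, 0] p :=
  (f912 H).symm.trans (f1470 H)

theorem f1487 : path g [3, 6, 0] p = path g [8, 6] p :=
  (f1471 H).symm

theorem f1489 : g 5 • path g [8, 6] p = path g [3, 6] p :=
  (f873 H).trans (f1378 H)

theorem f1494 : path g [8, 6, 3] p = path g [8, 6] p :=
  (f1466 H).trans (f1487 H)

theorem f1495 : g 3 • path g [8, 6] p = path g [8, 6] p :=
  (f945 H).trans (f1494 H)

theorem f1500 : g 0 • path g [8, 6] p = path g [3, 6] p :=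
  (f867 H).trans (f1378 H)

theorem f1508 : g 1 • path g [8, 6] p = path g [3, 1, 0, 6] p :=
  (congrArg (g 1 • ·) (f1487 H).symm).trans (f1359 H)

theorem f1509 : path g [8] p = path g [3, 1, 0, 6] p :=
  (f71 H).symm.trans (f1508 H)

theorem f1510 : path g [3, 1, 0, 6] p = path g [8] p :=
  (f1509 H).symm

theorem f1511 : g 1 • path g [8] p = path g [3, 1, 0] p :=
  (congrArg (g 1 • ·) (f1510 H).symm).trans (f1357 H)

theorem f1512 : path g [8, 1] p = path g [3, 1, 0] p :=
  (f68 H).symm.trans (f1511 H)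

theorem f1528 : path g [3, 1, 0] p = path g [8, 1] p :=
  (f1512 H).symm

theorem f1530 : g 5 • path g [8, 1] p = path g [3, 1] p :=
  (f635 H).trans (f1393 H)

theorem f1536 : g 0 • path g [8, 1] p = path g [3, 1] p :=
  (f607 H).trans (f1393 H)

theorem f1558 : path g [3, 1, 8] p = path g [8, 1] p :=
  (f1446 H).trans (f1528 H)

theorem f1561 : g 1 • path g [3, 1, 4] p = path g [3, 1, 4, 1] p :=
  rfl

theorem f1562 : g 6 • path g [3, 1, 4, 1] p = path g [3, 1, 4] p :=
  H.back (i := 1) (by decide) (f1561 H)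

theorem f1563 : g 2 • path g [3, 1, 4] p = path g [3, 1, 4, 2] p :=
  rfl

theorem f1564 : g 7 • path g [3, 1, 4, 2] p = path g [3, 1, 4] p :=
  H.back (i := 2) (by decide) (f1563 H)

theorem f1565 : g 0 • path g [3, 1] p = path g [8, 1] p :=
  (f128 H).trans (f1528 H)

theorem f1566 : g 3 • path g [3, 1, 4] p = path g [3, 1, 4, 3] p :=
  rfl

theorem f1567 : g 8 • path g [3, 1, 4, 3] p = path g [3, 1, 4] p :=
  H.back (i := 3) (by decide) (f1566 H)

theorem f1568 : path g [3, 1, 4, 3] p = path g [3, 6, 4] p :=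
  close (u := [3]) (w := [9, 8, 4]) (r14_0_3 H) (step (f1566 H) rfl) (step (H.back (i := 4) (by decide) (f216 H)) (step (H.back (i := 3) (by decide) (f1410 H)) (step (H.back (i := 9) (by decide) (f133 H)) rfl)))

theorem f1569 : g 8 • path g [3, 6, 4] p = path g [3, 1, 4] p :=
  (congrArg (g 8 • ·) (f1568 H).symm).trans (f1567 H)

theorem f1571 : g 3 • path g [3, 1, 4] p = path g [3, 6, 4] p :=
  H.back (i := 8) (by decide) (f1569 H)

theorem f1572 : g 8 • path g [3, 6, 9] p = path g [3, 1, 9] p :=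
  scan (u := [3, 4]) (w := [9]) (i := 8) (r14_1_2 H) (step (f1571 H) (step (f233 H) rfl)) (step (H.back (i := 4) (by decide) (f145 H)) rfl)

theorem f1573 : g 3 • path g [3, 1, 9] p = path g [3, 6, 9] p :=
  H.back (i := 8) (by decide) (f1572 H)

theorem f1575 : g 5 • path g [3, 1, 4] p = path g [3, 1, 4, 5] p :=
  rfl

theorem f1576 : g 0 • path g [3, 1, 4, 5] p = path g [3, 1, 4] p :=
  H.back (i := 5) (by decide) (f1575 H)

theorem f1578 : g 6 • path g [3, 1, 4] p = path g [3, 1, 4, 6] p :=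
  rfl

theorem f1580 : g 6 • path g [3, 1, 4, 6] p = path g [3, 1, 4, 1] p :=
  scan (u := [6]) (w := [6]) (i := 6) (r0_1_0 H) (step (f1578 H) rfl) (step (H.back (i := 1) (by decide) (f1561 H)) rfl)

theorem f1581 : g 1 • path g [3, 1, 4, 1] p = path g [3, 1, 4, 6] p :=
  H.back (i := 6) (by decide) (f1580 H)

theorem f1582 : g 7 • path g [3, 1, 4] p = path g [3, 1, 4, 7] p :=
  rfl

theorem f1584 : g 8 • path g [3, 1, 4] p = path g [3, 1, 4, 8] p :=
  rfl

theorem f1585 : g 3 • path g [3, 1, 4, 8] p = path g [3, 1, 4] p :=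
  H.back (i := 8) (by decide) (f1584 H)

theorem f1588 : g 8 • path g [3, 1] p = path g [8, 1] p :=
  (f138 H).trans (f1558 H)

theorem f1589 : path g [3, 1, 4, 8] p = path g [8, 1, 4] p :=
  close (u := [8]) (w := [9, 3, 4]) (r14_1_0 H) (step (f1584 H) rfl) (step (H.back (i := 4) (by decide) (f611 H)) (step (H.back (i := 8) (by decide) (f1588 H)) (step (H.back (i := 9) (by decide) (f133 H)) rfl)))

theorem f1590 : g 3 • path g [8, 1, 4] p = path g [3, 1, 4] p :=
  (congrArg (g 3 • ·) (f1589 H).symm).trans (f1585 H)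

theorem f1592 : g 8 • path g [3, 1, 4] p = path g [8, 1, 4] p :=
  H.back (i := 3) (by decide) (f1590 H)

theorem f1596 : g 8 • path g [3, 1, 9] p = path g [8, 1, 9] p :=
  scan (u := [3, 4]) (w := [9]) (i := 8) (r14_1_2 H) (step (f1590 H) (step (f145 H) rfl)) (step (H.back (i := 4) (by decide) (f624 H)) rfl)

theorem f1598 : g 8 • path g [8, 1, 9] p = path g [3, 6, 9] p :=
  scan (u := [8]) (w := [8]) (i := 8) (r9_1_0 H) (step (f1596 H) rfl) (step (H.back (i := 3) (by decide) (f1573 H)) rfl)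

theorem f1601 : g 0 • path g [3, 1, 9] p = path g [3, 1, 9, 0] p :=
  rfl

theorem f1602 : g 5 • path g [3, 1, 9, 0] p = path g [3, 1, 9] p :=
  H.back (i := 0) (by decide) (f1601 H)

theorem f1603 : g 1 • path g [3, 1, 9] p = path g [3, 1, 9, 1] p :=
  rfl

theorem f1605 : g 0 • path g [3, 6] p = path g [8, 6] p :=
  (f208 H).trans (f1487 H)

theorem f1606 : g 5 • path g [3, 1, 9] p = path g [3, 1, 9, 5] p :=
  rfl

theorem f1607 : g 0 • path g [3, 1, 9, 5] p = path g [3, 1, 9] p :=
  H.back (i := 5) (by decide) (f1606 H)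

theorem f1608 : g 6 • path g [3, 1, 9] p = path g [3, 1, 9, 6] p :=
  rfl

theorem f1609 : g 1 • path g [3, 1, 9, 6] p = path g [3, 1, 9] p :=
  H.back (i := 6) (by decide) (f1608 H)

theorem f1610 : g 6 • path g [3, 1, 9, 6] p = path g [3, 1, 9, 1] p :=
  scan (u := [6]) (w := [6]) (i := 6) (r0_1_0 H) (step (f1608 H) rfl) (step (H.back (i := 1) (by decide) (f1603 H)) rfl)

theorem f1611 : g 1 • path g [3, 1, 9, 1] p = path g [3, 1, 9, 6] p :=
  H.back (i := 6) (by decide) (f1610 H)

theorem f1612 : g 0 • path g [3, 4, 1] p = path g [3, 4, 1, 0] p :=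
  rfl

theorem f1613 : g 5 • path g [3, 4, 1, 0] p = path g [3, 4, 1] p :=
  H.back (i := 0) (by decide) (f1612 H)

theorem f1614 : path g [3, 4, 1, 0] p = path g [8, 9, 1] p :=
  close (u := [0]) (w := [2, 1, 0, 9, 6, 5, 6, 6, 4, 1]) (r12_1_7 H) (step (f1612 H) rfl) (step (H.back (i := 7) (by decide) (f988 H)) (step (H.back (i := 6) (by decide) (f984 H)) (step (H.back (i := 5) (by decide) (f1134 H)) (step (H.back (i := 4) (by decide) (f67 H)) (step (H.back (i := 1) (by decide) (f71 H)) (step (H.back (i := 0) (by decide) (f1605 H)) (step (H.back (i := 1) (by decide) (f41 H)) (step (H.back (i := 1) (by decide) (f28 H)) (step (H.back (i := 9) (by decide) (f33 H)) (step (H.back (i := 6) (by decide) (f175 H)) rfl))))))))))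

theorem f1615 : g 5 • path g [8, 9, 1] p = path g [3, 4, 1] p :=
  (congrArg (g 5 • ·) (f1614 H).symm).trans (f1613 H)

theorem f1617 : g 0 • path g [3, 4, 1] p = path g [8, 9, 1] p :=
  H.back (i := 5) (by decide) (f1615 H)

theorem f1618 : g 5 • path g [3, 4, 7] p = path g [3, 9] p :=
  (f577 H).trans (f1298 H)

theorem f1619 : g 0 • path g [8, 9] p = path g [4, 8] p :=
  (f968 H).trans (f1132 H)

theorem f1620 : g 5 • path g [8, 9] p = path g [4, 8] p :=
  (f980 H).trans (f1132 H)

theorem f1621 : g 5 • path g [4, 8, 1] p = path g [3, 9, 1] p :=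
  scan (u := [0, 2, 1, 5, 6, 7]) (w := [6, 7, 0, 2, 1]) (i := 5) (r5_0_9 H) (step (f1617 H) (step (f989 H) (step (f985 H) (step (f1620 H) (step (f601 H) (step (f605 H) rfl)))))) (step (H.back (i := 1) (by decide) (f236 H)) (step (H.back (i := 2) (by decide) (f1024 H)) (step (H.back (i := 5) (by decide) (f1618 H)) (step (H.back (i := 7) (by decide) (f184 H)) (step (H.back (i := 6) (by decide) (f175 H)) rfl)))))

theorem f1622 : g 0 • path g [3, 9, 1] p = path g [4, 8, 1] p :=
  H.back (i := 5) (by decide) (f1621 H)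

theorem f1623 : path g [3, 4, 2] p = path g [3, 4] p :=
  close (u := [0, 2, 1, 0, 6, 7, 5, 6, 7, 5, 2]) (w := [1]) (r5_1_8 H) (step (f1617 H) (step (f989 H) (step (f985 H) (step (f1619 H) (step (f601 H) (step (f605 H) (step (f1621 H) (step (f237 H) (step (f1022 H) (step (f1315 H) (step (f176 H) rfl))))))))))) (step (H.back (i := 6) (by decide) (f175 H)) rfl)

theorem f1624 : g 7 • path g [3, 4] p = path g [3, 4] p :=
  (congrArg (g 7 • ·) (f1623 H).symm).trans (f177 H)

theorem f1625 : path g [3, 4, 7] p = path g [3, 4] p :=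
  (f184 H).symm.trans (f1624 H)

theorem f1629 : g 5 • path g [3, 4] p = path g [3, 9] p :=
  (congrArg (g 5 • ·) (f1625 H).symm).trans (f1618 H)

theorem f1630 : path g [3, 4, 5] p = path g [3, 9] p :=
  (f178 H).symm.trans (f1629 H)

theorem f1634 : g 7 • path g [3, 4] p = path g [3, 4] p :=
  (f184 H).trans (f1625 H)

theorem f1635 : g 5 • path g [3, 4] p = path g [3, 9] p :=
  (f178 H).trans (f1630 H)

theorem f1636 : g 2 • path g [3, 9, 1] p = path g [3, 9, 6] p :=
  scan (u := [0, 6, 7, 5, 6, 7, 5]) (w := [1, 0, 2, 1]) (i := 2) (r5_1_11 H) (step (f1617 H) (step (f971 H) (step (f85 H) (step (f1620 H) (step (f601 H) (step (f605 H) (step (f1621 H) rfl))))))) (step (H.back (i := 6) (by decide) (f242 H)) (step (H.back (i := 5) (by decide) (f1635 H)) (step (H.back (i := 7) (by decide) (f1634 H)) (step (H.back (i := 6) (by decide) (f175 H)) rfl))))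

theorem f1638 : g 0 • path g [8, 9, 6] p = path g [3, 9, 6] p :=
  scan (u := [0, 2]) (w := [1, 0, 9, 5, 7, 5, 4, 2, 1]) (i := 0) (r11_1_7 H) (step (f1617 H) (step (f989 H) rfl)) (step (H.back (i := 6) (by decide) (f242 H)) (step (H.back (i := 5) (by decide) (f1635 H)) (step (H.back (i := 4) (by decide) (f32 H)) (step (H.back (i := 0) (by decide) (f725 H)) (step (H.back (i := 2) (by decide) (f662 H)) (step (H.back (i := 0) (by decide) (f725 H)) (step (H.back (i := 9) (by decide) (f33 H)) (step (H.back (i := 7) (by decide) (f1634 H)) (step (H.back (i := 6) (by decide) (f175 H)) rfl)))))))))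

theorem f1639 : g 5 • path g [3, 9, 6] p = path g [8, 9, 6] p :=
  H.back (i := 0) (by decide) (f1638 H)

theorem f1640 : g 0 • path g [3, 4, 6] p = path g [4, 8, 6] p :=
  scan (u := [5, 1]) (w := [1, 0, 1]) (i := 0) (r3_0_1 H) (step (f1615 H) (step (f183 H) rfl)) (step (H.back (i := 6) (by decide) (f601 H)) (step (H.back (i := 5) (by decide) (f1620 H)) (step (H.back (i := 6) (by decide) (f971 H)) rfl)))

theorem f1641 : g 5 • path g [4, 8, 6] p = path g [3, 4, 6] p :=
  H.back (i := 0) (by decide) (f1640 H)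

theorem f1642 : g 0 • path g [3, 9, 6] p = path g [8, 9, 6] p :=
  scan (u := [5, 6, 5, 6]) (w := [6]) (i := 0) (r3_1_0 H) (step (f1615 H) (step (f175 H) (step (f1635 H) (step (f242 H) rfl)))) (step (H.back (i := 1) (by decide) (f987 H)) rfl)

theorem f1643 : g 5 • path g [8, 9, 6] p = path g [3, 9, 6] p :=
  H.back (i := 0) (by decide) (f1642 H)

theorem f1644 : g 2 • path g [3, 4, 1] p = path g [3, 4, 6] p :=
  scan (u := [5]) (w := [1, 0, 2, 1, 0, 6, 7, 5, 6, 7]) (i := 2) (r5_1_5 H) (step (f1615 H) rfl) (step (H.back (i := 6) (by decide) (f180 H)) (step (H.back (i := 5) (by decide) (f1315 H)) (step (H.back (i := 7) (by decide) (f1022 H)) (step (H.back (i := 6) (by decide) (f237 H)) (step (H.back (i := 5) (by decide) (f1621 H)) (step (H.back (i := 1) (by decide) (f599 H)) (step (H.back (i := 2) (by decide) (f580 H)) (step (H.back (i := 0) (by decide) (f1619 H)) (step (H.back (i := 1) (by decide) (f985 H)) (step (H.back (i := 2) (by decide) (f989 H)) rfl))))))))))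

theorem f1645 : g 7 • path g [3, 4, 6] p = path g [3, 4, 1] p :=
  H.back (i := 2) (by decide) (f1644 H)

theorem f1646 : g 0 • path g [8, 9, 1] p = path g [3, 4, 1] p :=
  scan (u := [2, 0, 1, 8, 5, 3, 1]) (w := []) (i := 0) (r7_1_5 H) (step (f1644 H) (step (f1640 H) (step (f602 H) (step (f64 H) (step (f1635 H) (step (f81 H) (step (f970 H) rfl))))))) rfl

theorem f1647 : g 5 • path g [3, 4, 1] p = path g [8, 9, 1] p :=
  H.back (i := 0) (by decide) (f1646 H)

theorem f1648 : g 5 • path g [3, 4, 6] p = path g [4, 8, 6] p :=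
  scan (u := [2, 1, 0, 9, 6]) (w := [6, 6, 4, 1, 0]) (i := 5) (r12_1_8 H) (step (f1644 H) (step (f181 H) (step (f1340 H) (step (f44 H) (step (f180 H) rfl))))) (step (H.back (i := 1) (by decide) (f604 H)) (step (H.back (i := 1) (by decide) (f599 H)) (step (H.back (i := 9) (by decide) (f78 H)) (step (H.back (i := 6) (by decide) (f971 H)) (step (H.back (i := 5) (by decide) (f1647 H)) rfl)))))

theorem f1649 : g 0 • path g [4, 8, 6] p = path g [3, 4, 6] p :=
  H.back (i := 5) (by decide) (f1648 H)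

theorem f1650 : g 5 • path g [3, 9, 1] p = path g [4, 8, 1] p :=
  scan (u := [2, 1, 0, 2, 1]) (w := [6, 7, 5, 6, 7, 0]) (i := 5) (r5_0_7 H) (step (f1644 H) (step (f181 H) (step (f1340 H) (step (f1024 H) (step (f236 H) rfl))))) (step (H.back (i := 1) (by decide) (f599 H)) (step (H.back (i := 2) (by decide) (f580 H)) (step (H.back (i := 0) (by decide) (f1619 H)) (step (H.back (i := 1) (by decide) (f985 H)) (step (H.back (i := 2) (by decide) (f989 H)) (step (H.back (i := 5) (by decide) (f1647 H)) rfl))))))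

theorem f1651 : g 0 • path g [4, 8, 1] p = path g [3, 9, 1] p :=
  H.back (i := 5) (by decide) (f1650 H)

theorem f1652 : g 7 • path g [3, 4, 1] p = path g [3, 4, 6] p :=
  scan (u := [7, 5, 5]) (w := [5, 5]) (i := 7) (r2_1_2 H) (step (f1645 H) (step (f1647 H) (step (f1615 H) rfl))) (step (H.back (i := 0) (by decide) (f1649 H)) (step (H.back (i := 0) (by decide) (f1640 H)) rfl))

theorem f1654 : g 7 • path g [3, 9, 1] p = path g [3, 9, 6] p :=
  scan (u := [7, 5, 7, 5]) (w := [5, 7, 5]) (i := 7) (r4_1_1 H) (step (f1652 H) (step (f1648 H) (step (f605 H) (step (f1621 H) rfl)))) (step (H.back (i := 0) (by decide) (f1638 H)) (step (H.back (i := 2) (by decide) (f989 H)) (step (H.back (i := 0) (by decide) (f1617 H)) rfl)))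

theorem f1655 : g 2 • path g [3, 9, 6] p = path g [3, 9, 1] p :=
  H.back (i := 7) (by decide) (f1654 H)

theorem f1656 : g 7 • path g [4, 8, 1] p = path g [4, 8, 6] p :=
  scan (u := [5]) (w := [5, 5, 7, 5]) (i := 7) (r2_1_1 H) (step (f1650 H) rfl) (step (H.back (i := 0) (by decide) (f1640 H)) (step (H.back (i := 0) (by decide) (f1649 H)) (step (H.back (i := 2) (by decide) (f606 H)) (step (H.back (i := 0) (by decide) (f1622 H)) rfl))))

theorem f1658 : g 7 • path g [8, 9, 1] p = path g [8, 9, 6] p :=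
  scan (u := [5, 7, 5, 7, 5]) (w := [5, 7]) (i := 7) (r4_1_0 H) (step (f1650 H) (step (f1656 H) (step (f1641 H) (step (f1645 H) (step (f1647 H) rfl))))) (step (H.back (i := 0) (by decide) (f1642 H)) (step (H.back (i := 2) (by decide) (f1636 H)) rfl))

theorem f1659 : g 2 • path g [8, 9, 6] p = path g [8, 9, 1] p :=
  H.back (i := 7) (by decide) (f1658 H)

theorem f1660 : g 5 • path g [3, 6] p = path g [8, 6] p :=
  (f920 H).trans (f1487 H)

theorem f1661 : g 3 • path g [3, 4, 1] p = path g [3, 4, 1, 3] p :=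
  rfl

theorem f1662 : g 8 • path g [3, 4, 1, 3] p = path g [3, 4, 1] p :=
  H.back (i := 3) (by decide) (f1661 H)

theorem f1663 : g 4 • path g [3, 4, 1] p = path g [3, 4, 1, 4] p :=
  rfl

theorem f1664 : g 9 • path g [3, 4, 1, 4] p = path g [3, 4, 1] p :=
  H.back (i := 4) (by decide) (f1663 H)

theorem f1665 : g 2 • path g [3, 4, 1, 4] p = path g [3, 1, 9, 6] p :=
  scan (u := [4]) (w := [1, 4, 2, 1, 4, 2, 1]) (i := 2) (r18_0_2 H) (step (f1663 H) rfl) (step (H.back (i := 6) (by decide) (f1608 H)) (step (H.back (i := 9) (by decide) (f142 H)) (step (H.back (i := 7) (by decide) (f711 H)) (step (H.back (i := 6) (by decide) (f38 H)) (step (H.back (i := 9) (by decide) (f33 H)) (step (H.back (i := 7) (by decide) (f1634 H)) (step (H.back (i := 6) (by decide) (f175 H)) rfl)))))))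

theorem f1666 : g 7 • path g [3, 1, 9, 6] p = path g [3, 4, 1, 4] p :=
  H.back (i := 2) (by decide) (f1665 H)

theorem f1667 : g 1 • path g [3, 6, 9] p = path g [3, 4, 1, 4] p :=
  scan (u := [2, 1, 2]) (w := []) (i := 1) (r1_0_0 H) (step (f1665 H) (step (f1609 H) (step (f942 H) rfl))) rfl

theorem f1668 : g 6 • path g [3, 4, 1, 4] p = path g [3, 6, 9] p :=
  H.back (i := 1) (by decide) (f1667 H)

theorem f1669 : g 8 • path g [3, 4, 1] p = path g [3, 4, 1, 8] p :=
  rfl

theorem f1671 : g 8 • path g [3, 4, 1, 8] p = path g [3, 4, 1, 3] p :=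
  scan (u := [8]) (w := [8]) (i := 8) (r9_1_0 H) (step (f1669 H) rfl) (step (H.back (i := 3) (by decide) (f1661 H)) rfl)

theorem f1673 : g 9 • path g [3, 4, 1] p = path g [3, 4, 1, 9] p :=
  rfl

theorem f1675 : g 9 • path g [3, 4, 1, 9] p = path g [3, 4, 1, 4] p :=
  scan (u := [9]) (w := [9]) (i := 9) (r13_1_0 H) (step (f1673 H) rfl) (step (H.back (i := 4) (by decide) (f1663 H)) rfl)

theorem f1676 : g 4 • path g [3, 4, 1, 4] p = path g [3, 4, 1, 9] p :=
  H.back (i := 9) (by decide) (f1675 H)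

theorem f1677 : g 3 • path g [3, 4, 6] p = path g [3, 4, 6, 3] p :=
  rfl

theorem f1678 : g 8 • path g [3, 4, 6, 3] p = path g [3, 4, 6] p :=
  H.back (i := 3) (by decide) (f1677 H)

theorem f1681 : g 8 • path g [3, 4, 6] p = path g [3, 4, 6, 8] p :=
  rfl

theorem f1682 : g 3 • path g [3, 4, 6, 8] p = path g [3, 4, 6] p :=
  H.back (i := 8) (by decide) (f1681 H)

theorem f1683 : g 8 • path g [3, 4, 6, 8] p = path g [3, 4, 6, 3] p :=
  scan (u := [8]) (w := [8]) (i := 8) (r9_1_0 H) (step (f1681 H) rfl) (step (H.back (i := 3) (by decide) (f1677 H)) rfl)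

theorem f1687 : g 9 • path g [3, 4, 6] p = path g [3, 4, 6, 9] p :=
  rfl

theorem f1693 : g 1 • path g [3, 6, 4] p = path g [3, 6, 4, 1] p :=
  rfl

theorem f1695 : g 2 • path g [3, 6, 4] p = path g [3, 6, 4, 2] p :=
  rfl

theorem f1696 : g 7 • path g [3, 6, 4, 2] p = path g [3, 6, 4] p :=
  H.back (i := 2) (by decide) (f1695 H)

theorem f1697 : g 5 • path g [3, 6, 4] p = path g [3, 6, 4, 5] p :=
  rfl

theorem f1699 : g 6 • path g [3, 6, 4] p = path g [3, 6, 4, 6] p :=
  rfl

theorem f1701 : g 6 • path g [3, 6, 4, 6] p = path g [3, 6, 4, 1] p :=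
  scan (u := [6]) (w := [6]) (i := 6) (r0_1_0 H) (step (f1699 H) rfl) (step (H.back (i := 1) (by decide) (f1693 H)) rfl)

theorem f1703 : g 7 • path g [3, 6, 4] p = path g [3, 6, 4, 7] p :=
  rfl

theorem f1708 : g 5 • path g [3, 6, 9] p = path g [3, 6, 9, 5] p :=
  rfl

theorem f1710 : g 6 • path g [3, 6, 9] p = path g [3, 6, 9, 6] p :=
  rfl

theorem f1712 : g 6 • path g [3, 6, 9, 6] p = path g [3, 4, 1, 4] p :=
  scan (u := [6]) (w := [6]) (i := 6) (r0_1_0 H) (step (f1710 H) rfl) (step (H.back (i := 1) (by decide) (f1667 H)) rfl)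

theorem f1713 : g 1 • path g [3, 4, 1, 4] p = path g [3, 6, 9, 6] p :=
  H.back (i := 6) (by decide) (f1712 H)

theorem f1714 : g 7 • path g [3, 6, 9, 6] p = path g [3, 1, 9, 1] p :=
  scan (u := [6]) (w := [6, 7]) (i := 7) (r1_1_0 H) (step (f1710 H) rfl) (step (H.back (i := 1) (by decide) (f1603 H)) (step (H.back (i := 2) (by decide) (f936 H)) rfl))

theorem f1715 : g 2 • path g [3, 1, 9, 1] p = path g [3, 6, 9, 6] p :=
  H.back (i := 7) (by decide) (f1714 H)

theorem f1716 : g 5 • path g [3, 6, 9, 6] p = path g [3, 1, 9, 6] p :=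
  scan (u := [6]) (w := [6, 6, 4, 1, 0, 2, 1, 0, 9]) (i := 5) (r12_1_1 H) (step (f1710 H) rfl) (step (H.back (i := 1) (by decide) (f1611 H)) (step (H.back (i := 1) (by decide) (f1603 H)) (step (H.back (i := 9) (by decide) (f142 H)) (step (H.back (i := 6) (by decide) (f40 H)) (step (H.back (i := 5) (by decide) (f1489 H)) (step (H.back (i := 7) (by decide) (f640 H)) (step (H.back (i := 6) (by decide) (f72 H)) (step (H.back (i := 5) (by decide) (f1660 H)) (step (H.back (i := 4) (by decide) (f231 H)) rfl)))))))))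

theorem f1721 : g 4 • path g [3, 9, 1] p = path g [3, 9, 1, 4] p :=
  rfl

theorem f1722 : g 9 • path g [3, 9, 1, 4] p = path g [3, 9, 1] p :=
  H.back (i := 4) (by decide) (f1721 H)

theorem f1723 : g 8 • path g [3, 9, 1] p = path g [3, 9, 1, 8] p :=
  rfl

theorem f1727 : g 0 • path g [3, 9, 1, 8] p = path g [3, 4, 6, 8] p :=
  scan (u := [8]) (w := [3, 6, 5, 7, 5, 6]) (i := 0) (r7_0_5 H) (step (f1723 H) rfl) (step (H.back (i := 8) (by decide) (f1681 H)) (step (H.back (i := 1) (by decide) (f183 H)) (step (H.back (i := 0) (by decide) (f1646 H)) (step (H.back (i := 2) (by decide) (f1659 H)) (step (H.back (i := 0) (by decide) (f1642 H)) (step (H.back (i := 1) (by decide) (f245 H)) rfl))))))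

theorem f1729 : g 9 • path g [3, 9, 1] p = path g [3, 9, 1, 9] p :=
  rfl

theorem f1730 : g 4 • path g [3, 9, 1, 9] p = path g [3, 9, 1] p :=
  H.back (i := 9) (by decide) (f1729 H)

theorem f1731 : g 9 • path g [3, 9, 1, 9] p = path g [3, 9, 1, 4] p :=
  scan (u := [9]) (w := [9]) (i := 9) (r13_1_0 H) (step (f1729 H) rfl) (step (H.back (i := 4) (by decide) (f1721 H)) rfl)

theorem f1732 : g 4 • path g [3, 9, 1, 4] p = path g [3, 9, 1, 9] p :=
  H.back (i := 9) (by decide) (f1731 H)

theorem f1733 : g 2 • path g [3, 9, 1, 9] p = path g [3, 4, 6, 9] p :=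
  scan (u := [9]) (w := [4, 5, 5, 5, 7, 5]) (i := 2) (r10_0_5 H) (step (f1729 H) rfl) (step (H.back (i := 9) (by decide) (f1687 H)) (step (H.back (i := 0) (by decide) (f1649 H)) (step (H.back (i := 0) (by decide) (f1640 H)) (step (H.back (i := 0) (by decide) (f1649 H)) (step (H.back (i := 2) (by decide) (f606 H)) (step (H.back (i := 0) (by decide) (f1622 H)) rfl))))))

theorem f1734 : g 7 • path g [3, 4, 6, 9] p = path g [3, 9, 1, 9] p :=
  H.back (i := 2) (by decide) (f1733 H)

theorem f1735 : g 7 • path g [3, 9, 1, 9] p = path g [3, 4, 6, 9] p :=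
  scan (u := [9]) (w := [4, 0, 2, 0, 0, 0]) (i := 7) (r10_1_0 H) (step (f1729 H) rfl) (step (H.back (i := 9) (by decide) (f1687 H)) (step (H.back (i := 5) (by decide) (f1641 H)) (step (H.back (i := 7) (by decide) (f1656 H)) (step (H.back (i := 5) (by decide) (f1650 H)) (step (H.back (i := 5) (by decide) (f1621 H)) (step (H.back (i := 5) (by decide) (f1650 H)) rfl))))))

theorem f1736 : g 2 • path g [3, 4, 6, 9] p = path g [3, 9, 1, 9] p :=
  H.back (i := 7) (by decide) (f1735 H)

theorem f1737 : g 6 • path g [3, 9, 1, 9] p = path g [3, 1, 4, 2] p :=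
  scan (u := [9]) (w := [7, 9, 6, 7, 9, 6, 7]) (i := 6) (r18_1_0 H) (step (f1729 H) rfl) (step (H.back (i := 2) (by decide) (f1563 H)) (step (H.back (i := 4) (by decide) (f132 H)) (step (H.back (i := 1) (by decide) (f28 H)) (step (H.back (i := 2) (by decide) (f662 H)) (step (H.back (i := 4) (by decide) (f43 H)) (step (H.back (i := 1) (by decide) (f243 H)) (step (H.back (i := 2) (by decide) (f1636 H)) rfl)))))))

theorem f1738 : g 1 • path g [3, 1, 4, 2] p = path g [3, 9, 1, 9] p :=
  H.back (i := 6) (by decide) (f1737 H)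

theorem f1739 : path g [3, 1, 4, 6] p = path g [3, 4, 6, 9] p :=
  close (u := [6, 7, 6]) (w := [7]) (r1_1_0 H) (step (f1737 H) (step (f1564 H) (step (f1578 H) rfl))) (step (H.back (i := 2) (by decide) (f1733 H)) rfl)

theorem f1740 : path g [3, 4, 6, 9] p = path g [3, 1, 4, 6] p :=
  (f1739 H).symm

theorem f1747 : g 7 • path g [3, 1, 4, 6] p = path g [3, 9, 1, 9] p :=
  (congrArg (g 7 • ·) (f1740 H).symm).trans (f1734 H)

theorem f1750 : g 2 • path g [3, 1, 4, 6] p = path g [3, 9, 1, 9] p :=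
  (congrArg (g 2 • ·) (f1740 H).symm).trans (f1736 H)

theorem f1752 : g 7 • path g [3, 9, 1, 9] p = path g [3, 1, 4, 6] p :=
  H.back (i := 2) (by decide) (f1750 H)

theorem f1755 : g 4 • path g [3, 9, 6] p = path g [3, 9, 6, 4] p :=
  rfl

theorem f1756 : g 9 • path g [3, 9, 6, 4] p = path g [3, 9, 6] p :=
  H.back (i := 4) (by decide) (f1755 H)

theorem f1765 : g 9 • path g [3, 9, 6] p = path g [3, 9, 6, 9] p :=
  rfl

theorem f1766 : g 4 • path g [3, 9, 6, 9] p = path g [3, 9, 6] p :=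
  H.back (i := 9) (by decide) (f1765 H)

theorem f1769 : g 2 • path g [3, 9, 6, 9] p = path g [3, 4, 1, 9] p :=
  scan (u := [9]) (w := [4, 5, 5, 5, 7, 5]) (i := 2) (r10_0_5 H) (step (f1765 H) rfl) (step (H.back (i := 9) (by decide) (f1673 H)) (step (H.back (i := 0) (by decide) (f1646 H)) (step (H.back (i := 0) (by decide) (f1617 H)) (step (H.back (i := 0) (by decide) (f1646 H)) (step (H.back (i := 2) (by decide) (f1659 H)) (step (H.back (i := 0) (by decide) (f1642 H)) rfl))))))

theorem f1771 : g 7 • path g [3, 9, 6, 9] p = path g [3, 4, 1, 9] p :=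
  scan (u := [9]) (w := [4, 0, 2, 0, 0, 0]) (i := 7) (r10_1_0 H) (step (f1765 H) rfl) (step (H.back (i := 9) (by decide) (f1673 H)) (step (H.back (i := 5) (by decide) (f1615 H)) (step (H.back (i := 7) (by decide) (f988 H)) (step (H.back (i := 5) (by decide) (f1639 H)) (step (H.back (i := 5) (by decide) (f1643 H)) (step (H.back (i := 5) (by decide) (f1639 H)) rfl))))))

theorem f1773 : g 6 • path g [3, 9, 1, 4] p = path g [3, 9, 6, 9] p :=
  scan (u := [7, 9, 6, 7, 9, 6, 7, 9]) (w := []) (i := 6) (r18_1_2 H) (step (f1771 H) (step (f1675 H) (step (f1668 H) (step (f941 H) (step (f144 H) (step (f1578 H) (step (f1747 H) (step (f1731 H) rfl)))))))) rfl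

theorem f1778 : g 0 • path g [4, 1, 3] p = path g [4, 1, 3, 0] p :=
  rfl

theorem f1782 : g 1 • path g [4, 1, 3, 0] p = path g [3, 4, 6, 8] p :=
  scan (u := [0]) (w := [3, 0, 1, 3, 6, 5, 7, 5, 6, 7, 0, 1, 3]) (i := 1) (r17_0_9 H) (step (f1778 H) rfl) (step (H.back (i := 8) (by decide) (f1681 H)) (step (H.back (i := 5) (by decide) (f1641 H)) (step (H.back (i := 6) (by decide) (f601 H)) (step (H.back (i := 8) (by decide) (f62 H)) (step (H.back (i := 1) (by decide) (f57 H)) (step (H.back (i := 0) (by decide) (f472 H)) (step (H.back (i := 2) (by decide) (f471 H)) (step (H.back (i := 0) (by decide) (f1263 H)) (step (H.back (i := 1) (by decide) (f88 H)) (step (H.back (i := 2) (by decide) (f22 H)) (step (H.back (i := 5) (by decide) (f1161 H)) (step (H.back (i := 6) (by decide) (f51 H)) (step (H.back (i := 8) (by decide) (f279 H)) rfl)))))))))))))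

theorem f1794 : g 7 • path g [4, 1, 3] p = path g [4, 1, 3, 7] p :=
  rfl

theorem f1795 : g 2 • path g [4, 1, 3, 7] p = path g [4, 1, 3] p :=
  H.back (i := 7) (by decide) (f1794 H)

theorem f1796 : g 5 • path g [4, 1, 3, 7] p = path g [4, 6, 3] p :=
  scan (u := [7]) (w := [8, 1, 0, 2, 0, 1, 3]) (i := 5) (r8_0_0 H) (step (f1794 H) rfl) (step (H.back (i := 3) (by decide) (f581 H)) (step (H.back (i := 6) (by decide) (f56 H)) (step (H.back (i := 5) (by decide) (f1347 H)) (step (H.back (i := 7) (by decide) (f23 H)) (step (H.back (i := 5) (by decide) (f1161 H)) (step (H.back (i := 6) (by decide) (f51 H)) (step (H.back (i := 8) (by decide) (f279 H)) rfl)))))))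

theorem f1797 : g 0 • path g [4, 6, 3] p = path g [4, 1, 3, 7] p :=
  H.back (i := 5) (by decide) (f1796 H)

theorem f1819 : g 6 • path g [4, 6, 3] p = path g [4, 6, 3, 6] p :=
  rfl

theorem f1823 : g 3 • path g [4, 6, 3, 6] p = path g [8, 9, 1] p :=
  scan (u := [6]) (w := [0, 2, 8, 6, 5, 7, 5]) (i := 3) (r8_1_5 H) (step (f1819 H) rfl) (step (H.back (i := 5) (by decide) (f1647 H)) (step (H.back (i := 7) (by decide) (f1645 H)) (step (H.back (i := 3) (by decide) (f1682 H)) (step (H.back (i := 1) (by decide) (f1782 H)) (step (H.back (i := 0) (by decide) (f1778 H)) (step (H.back (i := 2) (by decide) (f1795 H)) (step (H.back (i := 0) (by decide) (f1797 H)) rfl)))))))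

theorem f1824 : g 8 • path g [8, 9, 1] p = path g [4, 6, 3, 6] p :=
  H.back (i := 3) (by decide) (f1823 H)

theorem f1849 : g 3 • path g [4, 8, 1] p = path g [4, 8, 1, 3] p :=
  rfl

theorem f1850 : g 8 • path g [4, 8, 1, 3] p = path g [4, 8, 1] p :=
  H.back (i := 3) (by decide) (f1849 H)

theorem f1851 : g 4 • path g [4, 8, 1] p = path g [4, 8, 1, 4] p :=
  rfl

theorem f1852 : g 9 • path g [4, 8, 1, 4] p = path g [4, 8, 1] p :=
  H.back (i := 4) (by decide) (f1851 H)

theorem f1853 : g 8 • path g [4, 8, 1] p = path g [4, 8, 1, 8] p :=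
  rfl

theorem f1855 : g 8 • path g [4, 8, 1, 8] p = path g [4, 8, 1, 3] p :=
  scan (u := [8]) (w := [8]) (i := 8) (r9_1_0 H) (step (f1853 H) rfl) (step (H.back (i := 3) (by decide) (f1849 H)) rfl)

theorem f1857 : g 2 • path g [4, 8, 1, 8] p = path g [3, 4, 6, 8] p :=
  scan (u := [8]) (w := [3, 5, 5, 6, 5, 7, 5, 6, 5]) (i := 2) (r6_0_8 H) (step (f1853 H) rfl) (step (H.back (i := 8) (by decide) (f1681 H)) (step (H.back (i := 0) (by decide) (f1649 H)) (step (H.back (i := 0) (by decide) (f1640 H)) (step (H.back (i := 1) (by decide) (f183 H)) (step (H.back (i := 0) (by decide) (f1646 H)) (step (H.back (i := 2) (by decide) (f1659 H)) (step (H.back (i := 0) (by decide) (f1642 H)) (step (H.back (i := 1) (by decide) (f245 H)) (step (H.back (i := 0) (by decide) (f1651 H)) rfl)))))))))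

theorem f1858 : g 7 • path g [3, 4, 6, 8] p = path g [4, 8, 1, 8] p :=
  H.back (i := 2) (by decide) (f1857 H)

theorem f1861 : g 9 • path g [4, 8, 1] p = path g [4, 8, 1, 9] p :=
  rfl

theorem f1867 : g 4 • path g [4, 8, 6] p = path g [4, 8, 6, 4] p :=
  rfl

theorem f1869 : g 8 • path g [4, 8, 6] p = path g [4, 8, 6, 8] p :=
  rfl

theorem f1875 : g 5 • path g [4, 8, 6, 8] p = path g [4, 6, 3, 6] p :=
  scan (u := [8]) (w := [3, 1, 0, 2, 0, 1]) (i := 5) (r7_1_0 H) (step (f1869 H) rfl) (step (H.back (i := 8) (by decide) (f1824 H)) (step (H.back (i := 6) (by decide) (f986 H)) (step (H.back (i := 5) (by decide) (f1639 H)) (step (H.back (i := 7) (by decide) (f1654 H)) (step (H.back (i := 5) (by decide) (f1621 H)) (step (H.back (i := 6) (by decide) (f603 H)) rfl))))))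

theorem f1876 : g 0 • path g [4, 6, 3, 6] p = path g [4, 8, 6, 8] p :=
  H.back (i := 5) (by decide) (f1875 H)

theorem f1879 : g 7 • path g [4, 8, 6, 8] p = path g [3, 4, 1, 8] p :=
  scan (u := [8]) (w := [3, 0, 1, 0, 2, 0, 1, 0, 0]) (i := 7) (r6_1_0 H) (step (f1869 H) rfl) (step (H.back (i := 8) (by decide) (f1669 H)) (step (H.back (i := 5) (by decide) (f1615 H)) (step (H.back (i := 6) (by decide) (f986 H)) (step (H.back (i := 5) (by decide) (f1639 H)) (step (H.back (i := 7) (by decide) (f1654 H)) (step (H.back (i := 5) (by decide) (f1621 H)) (step (H.back (i := 6) (by decide) (f603 H)) (step (H.back (i := 5) (by decide) (f1648 H)) (step (H.back (i := 5) (by decide) (f1641 H)) rfl)))))))))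

theorem f1880 : g 2 • path g [3, 4, 1, 8] p = path g [4, 8, 6, 8] p :=
  H.back (i := 7) (by decide) (f1879 H)

theorem f1888 : g 1 • path g [8, 1, 4] p = path g [8, 1, 4, 1] p :=
  rfl

theorem f1894 : g 6 • path g [8, 1, 4] p = path g [8, 1, 4, 6] p :=
  rfl

theorem f1896 : g 6 • path g [8, 1, 4, 6] p = path g [8, 1, 4, 1] p :=
  scan (u := [6]) (w := [6]) (i := 6) (r0_1_0 H) (step (f1894 H) rfl) (step (H.back (i := 1) (by decide) (f1888 H)) rfl)

theorem f1901 : g 0 • path g [8, 1, 9] p = path g [8, 1, 9, 0] p :=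
  rfl

theorem f1903 : g 2 • path g [8, 1, 9, 0] p = path g [3, 1, 9, 5] p :=
  scan (u := [0]) (w := [0, 4, 5, 6, 5, 7, 5, 6, 7, 9]) (i := 2) (r11_0_8 H) (step (f1901 H) rfl) (step (H.back (i := 5) (by decide) (f1606 H)) (step (H.back (i := 9) (by decide) (f142 H)) (step (H.back (i := 0) (by decide) (f1536 H)) (step (H.back (i := 1) (by decide) (f68 H)) (step (H.back (i := 0) (by decide) (f14 H)) (step (H.back (i := 2) (by decide) (f16 H)) (step (H.back (i := 0) (by decide) (f14 H)) (step (H.back (i := 1) (by decide) (f71 H)) (step (H.back (i := 2) (by decide) (f75 H)) (step (H.back (i := 4) (by decide) (f622 H)) rfl))))))))))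

theorem f1905 : g 1 • path g [8, 1, 9] p = path g [8, 1, 9, 1] p :=
  rfl

theorem f1907 : g 5 • path g [8, 1, 9] p = path g [8, 1, 9, 5] p :=
  rfl

theorem f1909 : g 7 • path g [8, 1, 9, 5] p = path g [3, 1, 9, 0] p :=
  scan (u := [5]) (w := [5, 5, 7, 5]) (i := 7) (r2_1_1 H) (step (f1907 H) rfl) (step (H.back (i := 0) (by decide) (f1601 H)) (step (H.back (i := 0) (by decide) (f1607 H)) (step (H.back (i := 2) (by decide) (f1903 H)) (step (H.back (i := 0) (by decide) (f1901 H)) rfl))))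

theorem f1911 : g 5 • path g [3, 9, 6, 4] p = path g [8, 1, 9, 1] p :=
  scan (u := [5, 7, 5, 6, 7, 9, 0, 2, 0, 4]) (w := [6]) (i := 5) (r11_0_2 H) (step (f1907 H) (step (f1909 H) (step (f1602 H) (step (f1608 H) (step (f1666 H) (step (f1664 H) (step (f1617 H) (step (f989 H) (step (f1638 H) (step (f1755 H) rfl)))))))))) (step (H.back (i := 1) (by decide) (f1905 H)) rfl)

theorem f1912 : g 0 • path g [8, 1, 9, 1] p = path g [3, 9, 6, 4] p :=
  H.back (i := 5) (by decide) (f1911 H)

theorem f1913 : g 6 • path g [8, 1, 9] p = path g [8, 1, 9, 6] p :=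
  rfl

theorem f1914 : g 1 • path g [8, 1, 9, 6] p = path g [8, 1, 9] p :=
  H.back (i := 6) (by decide) (f1913 H)

theorem f1915 : g 6 • path g [8, 1, 9, 6] p = path g [8, 1, 9, 1] p :=
  scan (u := [6]) (w := [6]) (i := 6) (r0_1_0 H) (step (f1913 H) rfl) (step (H.back (i := 1) (by decide) (f1905 H)) rfl)

theorem f1916 : g 1 • path g [8, 1, 9, 1] p = path g [8, 1, 9, 6] p :=
  H.back (i := 6) (by decide) (f1915 H)

theorem f1917 : g 7 • path g [8, 1, 9, 6] p = path g [4, 8, 1, 4] p :=
  scan (u := [6]) (w := [9, 6, 7, 9, 6, 7, 9]) (i := 7) (r18_1_1 H) (step (f1913 H) rfl) (step (H.back (i := 4) (by decide) (f1851 H)) (step (H.back (i := 1) (by decide) (f599 H)) (step (H.back (i := 2) (by decide) (f580 H)) (step (H.back (i := 4) (by decide) (f67 H)) (step (H.back (i := 1) (by decide) (f71 H)) (step (H.back (i := 2) (by decide) (f75 H)) (step (H.back (i := 4) (by decide) (f622 H)) rfl)))))))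

theorem f1918 : g 2 • path g [4, 8, 1, 4] p = path g [8, 1, 9, 6] p :=
  H.back (i := 7) (by decide) (f1917 H)

theorem f1919 : g 5 • path g [8, 1, 9, 6] p = path g [3, 6, 9, 6] p :=
  scan (u := [6]) (w := [6, 6, 4, 1, 0, 2, 1, 0, 9]) (i := 5) (r12_1_1 H) (step (f1913 H) rfl) (step (H.back (i := 1) (by decide) (f1713 H)) (step (H.back (i := 1) (by decide) (f1667 H)) (step (H.back (i := 9) (by decide) (f230 H)) (step (H.back (i := 6) (by decide) (f38 H)) (step (H.back (i := 5) (by decide) (f795 H)) (step (H.back (i := 7) (by decide) (f738 H)) (step (H.back (i := 6) (by decide) (f29 H)) (step (H.back (i := 5) (by decide) (f1530 H)) (step (H.back (i := 4) (by decide) (f622 H)) rfl)))))))))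

theorem f1920 : g 0 • path g [3, 6, 9, 6] p = path g [8, 1, 9, 6] p :=
  H.back (i := 5) (by decide) (f1919 H)

theorem f1921 : g 1 • path g [8, 6, 9] p = path g [4, 8, 1, 4] p :=
  scan (u := [1, 2]) (w := [2]) (i := 1) (r1_0_1 H) (step (f1914 H) (step (f967 H) rfl)) (step (H.back (i := 7) (by decide) (f1917 H)) rfl)

theorem f1922 : g 6 • path g [4, 8, 1, 4] p = path g [8, 6, 9] p :=
  H.back (i := 1) (by decide) (f1921 H)

theorem f1930 : g 3 • path g [8, 6, 4] p = path g [8, 6, 4, 3] p :=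
  rfl

theorem f1931 : g 8 • path g [8, 6, 4, 3] p = path g [8, 6, 4] p :=
  H.back (i := 3) (by decide) (f1930 H)

theorem f1932 : path g [8, 6, 4, 3] p = path g [8, 6, 4] p :=
  close (u := [3]) (w := [9, 8, 4]) (r14_0_3 H) (step (f1930 H) rfl) (step (H.back (i := 4) (by decide) (f958 H)) (step (H.back (i := 3) (by decide) (f1495 H)) (step (H.back (i := 9) (by decide) (f959 H)) rfl)))

theorem f1933 : g 8 • path g [8, 6, 4] p = path g [8, 6, 4] p :=
  (congrArg (g 8 • ·) (f1932 H).symm).trans (f1931 H)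

theorem f1935 : g 3 • path g [8, 6, 4] p = path g [8, 6, 4] p :=
  H.back (i := 8) (by decide) (f1933 H)

theorem f1936 : g 8 • path g [8, 6, 9] p = path g [8, 6, 9] p :=
  scan (u := [3, 4]) (w := [9]) (i := 8) (r14_1_2 H) (step (f1935 H) (step (f963 H) rfl)) (step (H.back (i := 4) (by decide) (f963 H)) rfl)

theorem f1937 : g 3 • path g [8, 6, 9] p = path g [8, 6, 9] p :=
  H.back (i := 8) (by decide) (f1936 H)

theorem f1946 : g 0 • path g [8, 6, 9] p = path g [8, 6, 9, 0] p :=
  rfl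

theorem f1947 : g 5 • path g [8, 6, 9, 0] p = path g [8, 6, 9] p :=
  H.back (i := 0) (by decide) (f1946 H)

theorem f1948 : g 2 • path g [8, 6, 9, 0] p = path g [3, 6, 9, 5] p :=
  scan (u := [0]) (w := [0, 2, 0, 2, 0, 2]) (i := 2) (r4_0_1 H) (step (f1946 H) rfl) (step (H.back (i := 5) (by decide) (f1708 H)) (step (H.back (i := 7) (by decide) (f937 H)) (step (H.back (i := 5) (by decide) (f1602 H)) (step (H.back (i := 7) (by decide) (f1909 H)) (step (H.back (i := 5) (by decide) (f1907 H)) (step (H.back (i := 7) (by decide) (f966 H)) rfl))))))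

theorem f1950 : g 5 • path g [8, 6, 9] p = path g [8, 6, 9, 5] p :=
  rfl

theorem f1954 : g 6 • path g [8, 6, 9, 5] p = path g [4, 8, 6, 4] p :=
  scan (u := [5]) (w := [9, 1, 1, 0, 1, 4, 5, 6, 7]) (i := 6) (r12_0_3 H) (step (f1950 H) rfl) (step (H.back (i := 4) (by decide) (f1867 H)) (step (H.back (i := 6) (by decide) (f601 H)) (step (H.back (i := 6) (by decide) (f600 H)) (step (H.back (i := 5) (by decide) (f1650 H)) (step (H.back (i := 6) (by decide) (f244 H)) (step (H.back (i := 9) (by decide) (f1756 H)) (step (H.back (i := 0) (by decide) (f1912 H)) (step (H.back (i := 1) (by decide) (f1905 H)) (step (H.back (i := 2) (by decide) (f964 H)) rfl)))))))))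

theorem f1956 : g 6 • path g [8, 6, 9] p = path g [8, 6, 9, 6] p :=
  rfl

theorem f1957 : g 1 • path g [8, 6, 9, 6] p = path g [8, 6, 9] p :=
  H.back (i := 6) (by decide) (f1956 H)

theorem f1958 : g 6 • path g [8, 6, 9, 6] p = path g [4, 8, 1, 4] p :=
  scan (u := [6]) (w := [6]) (i := 6) (r0_1_0 H) (step (f1956 H) rfl) (step (H.back (i := 1) (by decide) (f1921 H)) rfl)

theorem f1959 : g 1 • path g [4, 8, 1, 4] p = path g [8, 6, 9, 6] p :=
  H.back (i := 6) (by decide) (f1958 H)

theorem f1962 : g 5 • path g [8, 6, 9, 6] p = path g [8, 1, 9, 6] p :=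
  scan (u := [6]) (w := [6, 6, 4, 1, 0, 2, 1, 0, 9]) (i := 5) (r12_1_1 H) (step (f1956 H) rfl) (step (H.back (i := 1) (by decide) (f1916 H)) (step (H.back (i := 1) (by decide) (f1905 H)) (step (H.back (i := 9) (by decide) (f621 H)) (step (H.back (i := 6) (by decide) (f72 H)) (step (H.back (i := 5) (by decide) (f1660 H)) (step (H.back (i := 7) (by decide) (f905 H)) (step (H.back (i := 6) (by decide) (f40 H)) (step (H.back (i := 5) (by decide) (f1489 H)) (step (H.back (i := 4) (by decide) (f961 H)) rfl)))))))))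

theorem f1964 : g 1 • path g [8, 6, 9, 0] p = path g [3, 9, 6, 4] p :=
  scan (u := [1, 0]) (w := [5, 1, 0]) (i := 1) (r3_0_4 H) (step (f1957 H) (step (f1946 H) rfl)) (step (H.back (i := 0) (by decide) (f1912 H)) (step (H.back (i := 6) (by decide) (f1915 H)) (step (H.back (i := 5) (by decide) (f1962 H)) rfl)))

theorem f1966 : g 5 • path g [3, 1, 9, 6] p = path g [8, 6, 9, 6] p :=
  scan (u := [6, 6, 4, 1, 0, 2, 1, 0, 9, 6]) (w := []) (i := 5) (r12_1_3 H) (step (f1958 H) (step (f1922 H) (step (f961 H) (step (f71 H) (step (f14 H) (step (f16 H) (step (f68 H) (step (f1536 H) (step (f142 H) (step (f1608 H) rfl)))))))))) rfl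

theorem f1967 : g 0 • path g [8, 6, 9, 6] p = path g [3, 1, 9, 6] p :=
  H.back (i := 5) (by decide) (f1966 H)

theorem f1968 : g 0 • path g [3, 9, 6, 4] p = path g [3, 1, 9, 1] p :=
  scan (u := [5, 1, 0, 1]) (w := [1]) (i := 0) (r3_0_1 H) (step (f1966 H) (step (f1957 H) (step (f1946 H) (step (f1964 H) rfl)))) (step (H.back (i := 6) (by decide) (f1610 H)) rfl)

theorem f1969 : g 5 • path g [3, 1, 9, 1] p = path g [3, 9, 6, 4] p :=
  H.back (i := 0) (by decide) (f1968 H)

theorem f1970 : path g [3, 9, 1, 4] p = path g [3, 1, 9, 6] p :=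
  close (u := [5, 5, 5, 7, 5, 9, 2, 4]) (w := []) (r10_0_0 H) (step (f1966 H) (step (f1962 H) (step (f1919 H) (step (f1714 H) (step (f1969 H) (step (f1756 H) (step (f1655 H) (step (f1721 H) rfl)))))))) rfl

theorem f1971 : g 9 • path g [3, 1, 9, 6] p = path g [3, 9, 1] p :=
  (congrArg (g 9 • ·) (f1970 H).symm).trans (f1722 H)

theorem f1974 : g 4 • path g [3, 1, 9, 6] p = path g [3, 9, 1, 9] p :=
  (congrArg (g 4 • ·) (f1970 H).symm).trans (f1732 H)

theorem f1977 : g 6 • path g [3, 1, 9, 6] p = path g [3, 9, 6, 9] p :=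
  (congrArg (g 6 • ·) (f1970 H).symm).trans (f1773 H)

theorem f1978 : path g [3, 1, 9, 1] p = path g [3, 9, 6, 9] p :=
  (f1610 H).symm.trans (f1977 H)

theorem f1979 : path g [3, 9, 6, 9] p = path g [3, 1, 9, 1] p :=
  (f1978 H).symm

theorem f1980 : g 4 • path g [3, 1, 9, 1] p = path g [3, 9, 6] p :=
  (congrArg (g 4 • ·) (f1979 H).symm).trans (f1766 H)

theorem f1982 : g 9 • path g [3, 9, 6] p = path g [3, 1, 9, 1] p :=
  H.back (i := 4) (by decide) (f1980 H)

theorem f1986 : g 2 • path g [3, 1, 9, 1] p = path g [3, 4, 1, 9] p :=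
  (congrArg (g 2 • ·) (f1979 H).symm).trans (f1769 H)

theorem f1987 : path g [3, 6, 9, 6] p = path g [3, 4, 1, 9] p :=
  (f1715 H).symm.trans (f1986 H)

theorem f1988 : g 7 • path g [3, 1, 9, 1] p = path g [3, 4, 1, 9] p :=
  (congrArg (g 7 • ·) (f1979 H).symm).trans (f1771 H)

theorem f1997 : g 6 • path g [3, 4, 1, 9] p = path g [3, 4, 1, 4] p :=
  (congrArg (g 6 • ·) (f1987 H).symm).trans (f1712 H)

theorem f1999 : g 1 • path g [3, 4, 1, 4] p = path g [3, 4, 1, 9] p :=
  H.back (i := 6) (by decide) (f1997 H)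

theorem f2003 : g 5 • path g [3, 4, 1, 9] p = path g [3, 1, 9, 6] p :=
  (congrArg (g 5 • ·) (f1987 H).symm).trans (f1716 H)

theorem f2005 : g 0 • path g [3, 1, 9, 6] p = path g [3, 4, 1, 9] p :=
  H.back (i := 5) (by decide) (f2003 H)

theorem f2006 : g 0 • path g [3, 4, 1, 9] p = path g [8, 1, 9, 6] p :=
  (congrArg (g 0 • ·) (f1987 H).symm).trans (f1920 H)

theorem f2008 : g 5 • path g [8, 1, 9, 6] p = path g [3, 4, 1, 9] p :=
  H.back (i := 0) (by decide) (f2006 H)

theorem f2009 : g 7 • path g [4, 8, 1, 4] p = path g [8, 1, 9, 6] p :=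
  scan (u := [5, 6]) (w := [5, 6, 9, 1, 1, 0, 1, 4]) (i := 7) (r12_0_0 H) (step (f1966 H) (step (f1958 H) rfl)) (step (H.back (i := 0) (by decide) (f2006 H)) (step (H.back (i := 1) (by decide) (f1999 H)) (step (H.back (i := 4) (by decide) (f1663 H)) (step (H.back (i := 6) (by decide) (f182 H)) (step (H.back (i := 6) (by decide) (f180 H)) (step (H.back (i := 5) (by decide) (f1315 H)) (step (H.back (i := 6) (by decide) (f237 H)) (step (H.back (i := 9) (by decide) (f1971 H)) rfl))))))))

theorem f2010 : g 2 • path g [8, 1, 9, 6] p = path g [4, 8, 1, 4] p :=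
  H.back (i := 7) (by decide) (f2009 H)

theorem f2011 : g 7 • path g [3, 4, 1, 4] p = path g [3, 1, 9, 6] p :=
  scan (u := [5, 6, 7, 5, 6]) (w := [0, 2, 1, 0, 2, 1]) (i := 7) (r5_0_0 H) (step (f1966 H) (step (f1958 H) (step (f2009 H) (step (f2008 H) (step (f1997 H) rfl))))) (step (H.back (i := 5) (by decide) (f2003 H)) (step (H.back (i := 7) (by decide) (f1988 H)) (step (H.back (i := 6) (by decide) (f1610 H)) (step (H.back (i := 5) (by decide) (f2003 H)) (step (H.back (i := 7) (by decide) (f1988 H)) (step (H.back (i := 6) (by decide) (f1610 H)) rfl))))))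

theorem f2012 : g 2 • path g [3, 1, 9, 6] p = path g [3, 4, 1, 4] p :=
  H.back (i := 7) (by decide) (f2011 H)

theorem f2013 : g 0 • path g [3, 9, 1, 9] p = path g [4, 8, 1, 4] p :=
  scan (u := [0, 0, 9, 7, 4]) (w := [2, 0]) (i := 0) (r10_1_6 H) (step (f1967 H) (step (f2005 H) (step (f1675 H) (step (f2011 H) (step (f1974 H) rfl))))) (step (H.back (i := 7) (by decide) (f1917 H)) (step (H.back (i := 5) (by decide) (f1962 H)) rfl))

theorem f2014 : g 5 • path g [4, 8, 1, 4] p = path g [3, 9, 1, 9] p :=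
  H.back (i := 0) (by decide) (f2013 H)

theorem f2015 : g 2 • path g [3, 1, 9, 1] p = path g [3, 4, 1, 9] p :=
  (f1715 H).trans (f1987 H)

theorem f2016 : g 9 • path g [8, 1, 9, 6] p = path g [8, 9, 1] p :=
  scan (u := [0, 2, 1, 0]) (w := [6, 5, 6, 6, 4, 1]) (i := 9) (r12_1_7 H) (step (f1967 H) (step (f2012 H) (step (f1999 H) (step (f2006 H) rfl)))) (step (H.back (i := 1) (by decide) (f970 H)) (step (H.back (i := 0) (by decide) (f1140 H)) (step (H.back (i := 1) (by decide) (f602 H)) (step (H.back (i := 1) (by decide) (f604 H)) (step (H.back (i := 9) (by decide) (f1852 H)) (step (H.back (i := 6) (by decide) (f1958 H)) rfl))))))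

theorem f2018 : path g [4, 8, 1, 9] p = path g [8, 6, 9, 6] p :=
  close (u := [9, 6, 7, 9, 6, 7, 9]) (w := [6, 7]) (r18_1_0 H) (step (f2016 H) (step (f971 H) (step (f85 H) (step (f78 H) (step (f601 H) (step (f605 H) (step (f1861 H) rfl))))))) (step (H.back (i := 1) (by decide) (f1959 H)) (step (H.back (i := 2) (by decide) (f2010 H)) rfl))

theorem f2019 : path g [8, 6, 9, 6] p = path g [4, 8, 1, 9] p :=
  (f2018 H).symm

theorem f2020 : g 1 • path g [4, 8, 1, 9] p = path g [8, 6, 9] p :=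
  (congrArg (g 1 • ·) (f2019 H).symm).trans (f1957 H)

theorem f2022 : g 6 • path g [8, 6, 9] p = path g [4, 8, 1, 9] p :=
  H.back (i := 1) (by decide) (f2020 H)

theorem f2029 : g 5 • path g [4, 8, 1, 9] p = path g [8, 1, 9, 6] p :=
  (congrArg (g 5 • ·) (f2019 H).symm).trans (f1962 H)

theorem f2031 : g 0 • path g [8, 1, 9, 6] p = path g [4, 8, 1, 9] p :=
  H.back (i := 5) (by decide) (f2029 H)

theorem f2032 : g 0 • path g [4, 8, 1, 9] p = path g [3, 1, 9, 6] p :=
  (congrArg (g 0 • ·) (f2019 H).symm).trans (f1967 H)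

theorem f2035 : path g [3, 1, 4, 5] p = path g [8, 1, 9] p :=
  close (u := [9, 1, 1, 0, 1, 4, 5, 6, 7, 5]) (w := [6]) (r12_0_5 H) (step (f2016 H) (step (f987 H) (step (f985 H) (step (f1619 H) (step (f599 H) (step (f1851 H) (step (f2014 H) (step (f1737 H) (step (f1564 H) (step (f1575 H) rfl)))))))))) (step (H.back (i := 1) (by decide) (f1914 H)) rfl)

theorem f2036 : g 0 • path g [8, 1, 9] p = path g [3, 1, 4] p :=
  (congrArg (g 0 • ·) (f2035 H).symm).trans (f1576 H)

theorem f2037 : path g [8, 1, 9, 0] p = path g [3, 1, 4] p :=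
  (f1901 H).symm.trans (f2036 H)

theorem f2039 : g 5 • path g [3, 1, 4] p = path g [8, 1, 9] p :=
  (f1575 H).trans (f2035 H)

theorem f2041 : g 2 • path g [3, 1, 4] p = path g [3, 1, 9, 5] p :=
  (congrArg (g 2 • ·) (f2037 H).symm).trans (f1903 H)

theorem f2042 : path g [3, 1, 4, 2] p = path g [3, 1, 9, 5] p :=
  (f1563 H).symm.trans (f2041 H)

theorem f2043 : path g [3, 1, 9, 5] p = path g [3, 1, 4, 2] p :=
  (f2042 H).symm

theorem f2044 : g 0 • path g [3, 1, 4, 2] p = path g [3, 1, 9] p :=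
  (congrArg (g 0 • ·) (f2043 H).symm).trans (f1607 H)

theorem f2046 : g 5 • path g [3, 1, 9] p = path g [3, 1, 4, 2] p :=
  H.back (i := 0) (by decide) (f2044 H)

theorem f2050 : g 0 • path g [8, 1, 9] p = path g [3, 1, 4] p :=
  (f1901 H).trans (f2037 H)

theorem f2051 : path g [3, 1, 4] p = path g [3, 1, 4, 2] p :=
  close (u := [0, 8, 7, 3, 0, 1, 0, 2, 0, 1, 0]) (w := []) (r6_1_10 H) (step (f2044 H) (step (f1596 H) (step (f965 H) (step (f1937 H) (step (f1946 H) (step (f1964 H) (step (f1968 H) (step (f2015 H) (step (f2006 H) (step (f1914 H) (step (f2050 H) rfl))))))))))) rfl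

theorem f2052 : path g [3, 1, 4, 2] p = path g [3, 1, 4] p :=
  (f2051 H).symm

theorem f2053 : g 7 • path g [3, 1, 4] p = path g [3, 1, 4] p :=
  (congrArg (g 7 • ·) (f2052 H).symm).trans (f1564 H)

theorem f2054 : path g [3, 1, 4, 7] p = path g [3, 1, 4] p :=
  (f1582 H).symm.trans (f2053 H)

theorem f2055 : g 1 • path g [3, 1, 4] p = path g [3, 9, 1, 9] p :=
  (congrArg (g 1 • ·) (f2052 H).symm).trans (f1738 H)

theorem f2056 : path g [3, 1, 4, 1] p = path g [3, 9, 1, 9] p :=
  (f1561 H).symm.trans (f2055 H)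

theorem f2060 : g 5 • path g [3, 1, 9] p = path g [3, 1, 4] p :=
  (f2046 H).trans (f2052 H)

theorem f2062 : path g [3, 9, 1, 9] p = path g [3, 1, 4, 1] p :=
  (f2056 H).symm

theorem f2063 : g 4 • path g [3, 1, 4, 1] p = path g [3, 9, 1] p :=
  (congrArg (g 4 • ·) (f2062 H).symm).trans (f1730 H)

theorem f2065 : g 9 • path g [3, 9, 1] p = path g [3, 1, 4, 1] p :=
  H.back (i := 4) (by decide) (f2063 H)

theorem f2072 : g 7 • path g [3, 1, 4, 1] p = path g [3, 1, 4, 6] p :=
  (congrArg (g 7 • ·) (f2062 H).symm).trans (f1752 H)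

theorem f2078 : g 0 • path g [3, 1, 4, 1] p = path g [4, 8, 1, 4] p :=
  (congrArg (g 0 • ·) (f2062 H).symm).trans (f2013 H)

theorem f2080 : g 5 • path g [4, 8, 1, 4] p = path g [3, 1, 4, 1] p :=
  H.back (i := 0) (by decide) (f2078 H)

theorem f2084 : g 0 • path g [3, 4, 1, 4] p = path g [3, 1, 4, 1] p :=
  scan (u := [0, 2, 0, 0, 2]) (w := []) (i := 0) (r2_0_2 H) (step (f2078 H) (step (f1918 H) (step (f2031 H) (step (f2032 H) (step (f2012 H) rfl))))) rfl

theorem f2086 : g 5 • path g [4, 8, 6, 4] p = path g [3, 1, 4, 6] p :=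
  scan (u := [0, 6, 5, 6]) (w := [6]) (i := 5) (r3_1_4 H) (step (f2078 H) (step (f1922 H) (step (f1950 H) (step (f1954 H) rfl)))) (step (H.back (i := 1) (by decide) (f1581 H)) rfl)

theorem f2087 : g 0 • path g [3, 1, 4, 6] p = path g [4, 8, 6, 4] p :=
  H.back (i := 5) (by decide) (f2086 H)

theorem f2088 : path g [8, 6, 9, 5] p = path g [8, 1, 4] p :=
  close (u := [0, 2, 0, 1, 8, 5]) (w := [3, 1]) (r7_1_4 H) (step (f2078 H) (step (f1918 H) (step (f2031 H) (step (f2020 H) (step (f1936 H) (step (f1950 H) rfl)))))) (step (H.back (i := 8) (by decide) (f1592 H)) (step (H.back (i := 6) (by decide) (f1562 H)) rfl))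

theorem f2093 : g 6 • path g [8, 1, 4] p = path g [4, 8, 6, 4] p :=
  (congrArg (g 6 • ·) (f2088 H).symm).trans (f1954 H)

theorem f2094 : path g [8, 1, 4, 6] p = path g [4, 8, 6, 4] p :=
  (f1894 H).symm.trans (f2093 H)

theorem f2098 : g 6 • path g [4, 8, 6, 4] p = path g [8, 1, 4, 1] p :=
  (congrArg (g 6 • ·) (f2094 H).symm).trans (f1896 H)

theorem f2100 : g 1 • path g [8, 1, 4, 1] p = path g [4, 8, 6, 4] p :=
  H.back (i := 6) (by decide) (f2098 H)

theorem f2107 : path g [8, 1, 9, 5] p = path g [3, 6, 4] p :=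
  close (u := [0, 2, 0, 1, 3, 7, 5]) (w := [8, 1]) (r8_0_4 H) (step (f2078 H) (step (f1918 H) (step (f2031 H) (step (f2020 H) (step (f1937 H) (step (f966 H) (step (f1907 H) rfl))))))) (step (H.back (i := 3) (by decide) (f1571 H)) (step (H.back (i := 6) (by decide) (f1562 H)) rfl))

theorem f2110 : g 7 • path g [3, 6, 4] p = path g [3, 1, 9, 0] p :=
  (congrArg (g 7 • ·) (f2107 H).symm).trans (f1909 H)

theorem f2111 : path g [3, 6, 4, 7] p = path g [3, 1, 9, 0] p :=
  (f1703 H).symm.trans (f2110 H)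

theorem f2118 : path g [8, 6, 9, 0] p = path g [3, 6, 9, 5] p :=
  close (u := [0, 2, 0, 1, 0]) (w := [0, 8, 7, 3, 0, 1]) (r6_1_5 H) (step (f2078 H) (step (f1918 H) (step (f2031 H) (step (f2020 H) (step (f1946 H) rfl))))) (step (H.back (i := 5) (by decide) (f1708 H)) (step (H.back (i := 3) (by decide) (f1573 H)) (step (H.back (i := 2) (by decide) (f936 H)) (step (H.back (i := 8) (by decide) (f1598 H)) (step (H.back (i := 5) (by decide) (f2039 H)) (step (H.back (i := 6) (by decide) (f1562 H)) rfl))))))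

theorem f2119 : g 5 • path g [3, 6, 9, 5] p = path g [8, 6, 9] p :=
  (congrArg (g 5 • ·) (f2118 H).symm).trans (f1947 H)

theorem f2121 : g 0 • path g [8, 6, 9] p = path g [3, 6, 9, 5] p :=
  H.back (i := 5) (by decide) (f2119 H)

theorem f2122 : g 2 • path g [3, 6, 9, 5] p = path g [3, 6, 9, 5] p :=
  (congrArg (g 2 • ·) (f2118 H).symm).trans (f1948 H)

theorem f2125 : g 1 • path g [3, 6, 9, 5] p = path g [3, 9, 6, 4] p :=
  (congrArg (g 1 • ·) (f2118 H).symm).trans (f1964 H)

theorem f2129 : g 7 • path g [3, 1, 4] p = path g [3, 1, 4] p :=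
  (f1582 H).trans (f2054 H)

theorem f2130 : path g [3, 6, 9, 5] p = path g [3, 6, 4] p :=
  close (u := [0, 2, 0, 1, 0]) (w := [9, 5, 7, 5, 4, 2, 1]) (r11_1_7 H) (step (f2078 H) (step (f1918 H) (step (f2031 H) (step (f2020 H) (step (f2121 H) rfl))))) (step (H.back (i := 4) (by decide) (f216 H)) (step (H.back (i := 0) (by decide) (f1500 H)) (step (H.back (i := 2) (by decide) (f75 H)) (step (H.back (i := 0) (by decide) (f1565 H)) (step (H.back (i := 9) (by decide) (f133 H)) (step (H.back (i := 7) (by decide) (f2129 H)) (step (H.back (i := 6) (by decide) (f1562 H)) rfl)))))))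

theorem f2136 : g 7 • path g [3, 6, 4] p = path g [3, 1, 9, 0] p :=
  (f1703 H).trans (f2111 H)

theorem f2138 : g 5 • path g [3, 6, 4] p = path g [8, 6, 9] p :=
  (congrArg (g 5 • ·) (f2130 H).symm).trans (f2119 H)

theorem f2139 : path g [3, 6, 4, 5] p = path g [8, 6, 9] p :=
  (f1697 H).symm.trans (f2138 H)

theorem f2140 : g 2 • path g [3, 6, 9, 5] p = path g [3, 6, 4] p :=
  (f2122 H).trans (f2130 H)

theorem f2141 : g 2 • path g [3, 6, 4] p = path g [3, 6, 4] p :=
  (congrArg (g 2 • ·) (f2130 H).symm).trans (f2140 H)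

theorem f2142 : path g [3, 6, 4, 2] p = path g [3, 6, 4] p :=
  (f1695 H).symm.trans (f2141 H)

theorem f2143 : g 1 • path g [3, 6, 4] p = path g [3, 9, 6, 4] p :=
  (congrArg (g 1 • ·) (f2130 H).symm).trans (f2125 H)

theorem f2144 : path g [3, 6, 4, 1] p = path g [3, 9, 6, 4] p :=
  (f1693 H).symm.trans (f2143 H)

theorem f2145 : path g [3, 9, 6, 4] p = path g [3, 6, 4, 1] p :=
  (f2144 H).symm

theorem f2158 : g 0 • path g [3, 6, 4, 1] p = path g [3, 1, 9, 1] p :=
  (congrArg (g 0 • ·) (f2145 H).symm).trans (f1968 H)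

theorem f2161 : g 7 • path g [3, 6, 4] p = path g [3, 6, 4] p :=
  (congrArg (g 7 • ·) (f2142 H).symm).trans (f1696 H)

theorem f2162 : path g [3, 1, 9, 0] p = path g [3, 6, 4] p :=
  (f2136 H).symm.trans (f2161 H)

theorem f2163 : g 5 • path g [3, 6, 4] p = path g [3, 1, 9] p :=
  (congrArg (g 5 • ·) (f2162 H).symm).trans (f1602 H)

theorem f2164 : path g [3, 6, 4, 5] p = path g [3, 1, 9] p :=
  (f1697 H).symm.trans (f2163 H)

theorem f2171 : path g [3, 1, 9] p = path g [8, 6, 9] p :=
  (f2164 H).symm.trans (f2139 H)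

theorem f2172 : path g [8, 6, 9] p = path g [3, 1, 9] p :=
  (f2171 H).symm

theorem f2194 : g 6 • path g [3, 1, 9] p = path g [4, 8, 1, 9] p :=
  (congrArg (g 6 • ·) (f2172 H).symm).trans (f2022 H)

theorem f2195 : path g [3, 1, 9, 6] p = path g [4, 8, 1, 9] p :=
  (f1608 H).symm.trans (f2194 H)

theorem f2196 : path g [4, 8, 1, 9] p = path g [3, 1, 9, 6] p :=
  (f2195 H).symm

theorem f2211 : g 0 • path g [3, 1, 9, 6] p = path g [3, 1, 9, 6] p :=
  (congrArg (g 0 • ·) (f2196 H).symm).trans (f2032 H)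

theorem f2212 : path g [3, 4, 1, 9] p = path g [3, 1, 9, 6] p :=
  (f2005 H).symm.trans (f2211 H)

theorem f2227 : g 0 • path g [3, 1, 9, 6] p = path g [8, 1, 9, 6] p :=
  (congrArg (g 0 • ·) (f2212 H).symm).trans (f2006 H)

theorem f2228 : g 0 • path g [3, 1, 9, 6] p = path g [3, 1, 9, 6] p :=
  (f2005 H).trans (f2212 H)

theorem f2229 : path g [3, 1, 9, 6] p = path g [8, 1, 9, 6] p :=
  (f2228 H).symm.trans (f2227 H)

theorem f2230 : path g [8, 1, 9, 6] p = path g [3, 1, 9, 6] p :=
  (f2229 H).symm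

theorem f2245 : g 9 • path g [3, 1, 9, 6] p = path g [8, 9, 1] p :=
  (congrArg (g 9 • ·) (f2230 H).symm).trans (f2016 H)

theorem f2246 : path g [3, 9, 1] p = path g [8, 9, 1] p :=
  (f1971 H).symm.trans (f2245 H)

theorem f2247 : path g [8, 9, 1] p = path g [3, 9, 1] p :=
  (f2246 H).symm

theorem f2260 : g 8 • path g [3, 9, 1] p = path g [4, 6, 3, 6] p :=
  (congrArg (g 8 • ·) (f2247 H).symm).trans (f1824 H)

theorem f2261 : path g [3, 9, 1, 8] p = path g [4, 6, 3, 6] p :=
  (f1723 H).symm.trans (f2260 H)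

theorem f2265 : path g [4, 6, 3, 6] p = path g [3, 9, 1, 8] p :=
  (f2261 H).symm

theorem f2281 : g 0 • path g [3, 9, 1, 8] p = path g [4, 8, 6, 8] p :=
  (congrArg (g 0 • ·) (f2265 H).symm).trans (f1876 H)

theorem f2282 : path g [3, 4, 6, 8] p = path g [4, 8, 6, 8] p :=
  (f1727 H).symm.trans (f2281 H)

theorem f2283 : path g [4, 8, 6, 8] p = path g [3, 4, 6, 8] p :=
  (f2282 H).symm

theorem f2295 : g 7 • path g [3, 4, 6, 8] p = path g [3, 4, 1, 8] p :=
  (congrArg (g 7 • ·) (f2283 H).symm).trans (f1879 H)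

theorem f2296 : path g [4, 8, 1, 8] p = path g [3, 4, 1, 8] p :=
  (f1858 H).symm.trans (f2295 H)

theorem f2299 : g 8 • path g [3, 4, 1, 8] p = path g [4, 8, 1, 3] p :=
  (congrArg (g 8 • ·) (f2296 H).symm).trans (f1855 H)

theorem f2300 : path g [3, 4, 1, 3] p = path g [4, 8, 1, 3] p :=
  (f1671 H).symm.trans (f2299 H)

theorem f2302 : g 2 • path g [3, 4, 1, 8] p = path g [3, 4, 6, 8] p :=
  (f1880 H).trans (f2283 H)

theorem f2310 : path g [4, 8, 1, 3] p = path g [3, 4, 1, 3] p :=
  (f2300 H).symm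

theorem f2311 : g 8 • path g [3, 4, 1, 3] p = path g [4, 8, 1] p :=
  (congrArg (g 8 • ·) (f2310 H).symm).trans (f1850 H)

theorem f2312 : path g [3, 4, 1] p = path g [4, 8, 1] p :=
  (f1662 H).symm.trans (f2311 H)

theorem f2316 : path g [4, 8, 1] p = path g [3, 4, 1] p :=
  (f2312 H).symm

theorem f2334 : g 4 • path g [3, 4, 1] p = path g [4, 8, 1, 4] p :=
  (congrArg (g 4 • ·) (f2316 H).symm).trans (f1851 H)

theorem f2335 : path g [3, 4, 1, 4] p = path g [4, 8, 1, 4] p :=
  (f1663 H).symm.trans (f2334 H)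

theorem f2343 : path g [4, 8, 1, 4] p = path g [3, 4, 1, 4] p :=
  (f2335 H).symm

theorem f2349 : g 4 • path g [3, 4, 1, 4] p = path g [3, 1, 9, 6] p :=
  (f1676 H).trans (f2212 H)

theorem f2354 : g 6 • path g [4, 8, 1, 4] p = path g [3, 1, 9] p :=
  (f1922 H).trans (f2172 H)

theorem f2355 : g 6 • path g [3, 4, 1, 4] p = path g [3, 1, 9] p :=
  (congrArg (g 6 • ·) (f2343 H).symm).trans (f2354 H)

theorem f2356 : path g [3, 6, 9] p = path g [3, 1, 9] p :=
  (f1668 H).symm.trans (f2355 H)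

theorem f2364 : g 5 • path g [3, 4, 1, 4] p = path g [3, 1, 4, 1] p :=
  (congrArg (g 5 • ·) (f2343 H).symm).trans (f2080 H)

theorem f2366 : g 0 • path g [3, 1, 4, 1] p = path g [3, 4, 1, 4] p :=
  H.back (i := 5) (by decide) (f2364 H)

theorem f2386 : g 5 • path g [3, 6, 9] p = path g [3, 6, 4] p :=
  (f1708 H).trans (f2130 H)

theorem f2387 : g 5 • path g [3, 1, 9] p = path g [3, 6, 4] p :=
  (congrArg (g 5 • ·) (f2356 H).symm).trans (f2386 H)

theorem f2388 : path g [3, 1, 4] p = path g [3, 6, 4] p :=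
  (f2060 H).symm.trans (f2387 H)

theorem f2392 : path g [3, 6, 4] p = path g [3, 1, 4] p :=
  (f2388 H).symm

theorem f2414 : g 6 • path g [3, 1, 4] p = path g [3, 6, 4, 6] p :=
  (congrArg (g 6 • ·) (f2392 H).symm).trans (f1699 H)

theorem f2415 : path g [3, 1, 4, 6] p = path g [3, 6, 4, 6] p :=
  (f1578 H).symm.trans (f2414 H)

theorem f2420 : path g [3, 6, 4, 6] p = path g [3, 1, 4, 6] p :=
  (f2415 H).symm

theorem f2424 : g 6 • path g [3, 1, 4, 6] p = path g [3, 6, 4, 1] p :=
  (congrArg (g 6 • ·) (f2420 H).symm).trans (f1701 H)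

theorem f2425 : path g [3, 1, 4, 1] p = path g [3, 6, 4, 1] p :=
  (f1580 H).symm.trans (f2424 H)

theorem f2426 : path g [3, 6, 4, 1] p = path g [3, 1, 4, 1] p :=
  (f2425 H).symm

theorem f2439 : g 0 • path g [3, 1, 4, 1] p = path g [3, 1, 9, 1] p :=
  (congrArg (g 0 • ·) (f2426 H).symm).trans (f2158 H)

theorem f2440 : path g [3, 4, 1, 4] p = path g [3, 1, 9, 1] p :=
  (f2366 H).symm.trans (f2439 H)

theorem f2450 : g 4 • path g [3, 1, 9, 1] p = path g [3, 1, 9, 6] p :=
  (congrArg (g 4 • ·) (f2440 H).symm).trans (f2349 H)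

theorem f2451 : path g [3, 9, 6] p = path g [3, 1, 9, 6] p :=
  (f1980 H).symm.trans (f2450 H)

theorem f2457 : g 0 • path g [3, 1, 9, 1] p = path g [3, 1, 4, 1] p :=
  (congrArg (g 0 • ·) (f2440 H).symm).trans (f2084 H)

theorem f2463 : path g [3, 1, 9, 6] p = path g [3, 9, 6] p :=
  (f2451 H).symm

theorem f2482 : g 2 • path g [3, 1, 9, 6] p = path g [3, 1, 9, 1] p :=
  (f2012 H).trans (f2440 H)

theorem f2483 : g 2 • path g [3, 9, 6] p = path g [3, 1, 9, 1] p :=
  (congrArg (g 2 • ·) (f2463 H).symm).trans (f2482 H)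

theorem f2484 : path g [3, 9, 1] p = path g [3, 1, 9, 1] p :=
  (f1655 H).symm.trans (f2483 H)

theorem f2485 : path g [3, 1, 9, 1] p = path g [3, 9, 1] p :=
  (f2484 H).symm

theorem f2505 : g 0 • path g [3, 9, 1] p = path g [3, 1, 4, 1] p :=
  (congrArg (g 0 • ·) (f2485 H).symm).trans (f2457 H)

theorem f2506 : g 0 • path g [3, 9, 1] p = path g [3, 4, 1] p :=
  (f1622 H).trans (f2316 H)

theorem f2507 : path g [3, 4, 1] p = path g [3, 1, 4, 1] p :=
  (f2506 H).symm.trans (f2505 H)

theorem f2508 : path g [3, 1, 4, 1] p = path g [3, 4, 1] p :=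
  (f2507 H).symm

theorem f2523 : g 7 • path g [3, 4, 1] p = path g [3, 1, 4, 6] p :=
  (congrArg (g 7 • ·) (f2508 H).symm).trans (f2072 H)

theorem f2524 : path g [3, 4, 6] p = path g [3, 1, 4, 6] p :=
  (f1652 H).symm.trans (f2523 H)

theorem f2531 : path g [3, 1, 4, 6] p = path g [3, 4, 6] p :=
  (f2524 H).symm

theorem f2548 : g 0 • path g [3, 4, 6] p = path g [4, 8, 6, 4] p :=
  (congrArg (g 0 • ·) (f2531 H).symm).trans (f2087 H)

theorem f2549 : path g [4, 8, 6] p = path g [4, 8, 6, 4] p :=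
  (f1640 H).symm.trans (f2548 H)

theorem f2550 : path g [4, 8, 6, 4] p = path g [4, 8, 6] p :=
  (f2549 H).symm

theorem f2561 : g 6 • path g [4, 8, 6] p = path g [8, 1, 4, 1] p :=
  (congrArg (g 6 • ·) (f2550 H).symm).trans (f2098 H)

theorem f2562 : g 6 • path g [4, 8, 6] p = path g [3, 4, 1] p :=
  (f603 H).trans (f2316 H)

theorem f2563 : path g [3, 4, 1] p = path g [8, 1, 4, 1] p :=
  (f2562 H).symm.trans (f2561 H)

theorem f2564 : path g [8, 1, 4, 1] p = path g [3, 4, 1] p :=
  (f2563 H).symm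

theorem f2567 : g 1 • path g [8, 1, 4, 1] p = path g [4, 8, 6] p :=
  (f2100 H).trans (f2550 H)

theorem f2568 : g 1 • path g [3, 4, 1] p = path g [4, 8, 6] p :=
  (congrArg (g 1 • ·) (f2564 H).symm).trans (f2567 H)

theorem f2569 : path g [3, 4, 6] p = path g [4, 8, 6] p :=
  (f183 H).symm.trans (f2568 H)

theorem f2570 : path g [4, 8, 6] p = path g [3, 4, 6] p :=
  (f2569 H).symm

theorem f2571 : g 1 • path g [3, 4, 6] p = path g [4, 8] p :=
  (congrArg (g 1 • ·) (f2570 H).symm).trans (f602 H)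

theorem f2572 : path g [3, 4] p = path g [4, 8] p :=
  (f181 H).symm.trans (f2571 H)

theorem f2618 : path g [4, 8] p = path g [3, 4] p :=
  (f2572 H).symm

theorem f2630 : g 5 • path g [3, 4] p = path g [8, 9] p :=
  (congrArg (g 5 • ·) (f2618 H).symm).trans (f1134 H)

theorem f2631 : path g [3, 9] p = path g [8, 9] p :=
  (f1635 H).symm.trans (f2630 H)

theorem f2644 : path g [8, 9] p = path g [3, 9] p :=
  (f2631 H).symm

theorem f2652 : g 3 • path g [3, 9] p = path g [9] p :=
  (congrArg (g 3 • ·) (f2644 H).symm).trans (f82 H)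

theorem f2653 : g 3 • path g [3, 9] p = path g [3, 9] p :=
  (f81 H).trans (f2644 H)

theorem f2654 : path g [3, 9] p = path g [9] p :=
  (f2653 H).symm.trans (f2652 H)

theorem f2712 : g 6 • path g [9] p = path g [3, 9, 6] p :=
  (congrArg (g 6 • ·) (f2654 H).symm).trans (f242 H)

theorem f2713 : path g [9, 6] p = path g [3, 9, 6] p :=
  (f94 H).symm.trans (f2712 H)

theorem f2717 : path g [3, 9, 6] p = path g [9, 6] p :=
  (f2713 H).symm

theorem f2740 : g 9 • path g [3, 9, 6] p = path g [3, 9, 1] p :=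
  (f1982 H).trans (f2485 H)

theorem f2741 : g 9 • path g [9, 6] p = path g [3, 9, 1] p :=
  (congrArg (g 9 • ·) (f2717 H).symm).trans (f2740 H)

theorem f2742 : path g [9, 1] p = path g [3, 9, 1] p :=
  (f1294 H).symm.trans (f2741 H)

theorem f2743 : path g [3, 9, 1] p = path g [9, 1] p :=
  (f2742 H).symm

theorem f2767 : g 9 • path g [3, 9, 1] p = path g [3, 4, 1] p :=
  (f2065 H).trans (f2508 H)

theorem f2768 : g 9 • path g [9, 1] p = path g [3, 4, 1] p :=
  (congrArg (g 9 • ·) (f2743 H).symm).trans (f2767 H)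

theorem f2769 : path g [4, 1] p = path g [3, 4, 1] p :=
  (f461 H).symm.trans (f2768 H)

theorem f2770 : path g [3, 4, 1] p = path g [4, 1] p :=
  (f2769 H).symm

theorem f2790 : g 8 • path g [4, 1] p = path g [3, 4, 1, 8] p :=
  (congrArg (g 8 • ·) (f2770 H).symm).trans (f1669 H)

theorem f2791 : path g [4, 1, 8] p = path g [3, 4, 1, 8] p :=
  (f286 H).symm.trans (f2790 H)

theorem f2795 : path g [3, 4, 1, 8] p = path g [4, 1, 8] p :=
  (f2791 H).symm

theorem f2807 : g 2 • path g [4, 1, 8] p = path g [3, 4, 6, 8] p :=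
  (congrArg (g 2 • ·) (f2795 H).symm).trans (f2302 H)

theorem f2808 : path g [4, 6, 8] p = path g [3, 4, 6, 8] p :=
  (f594 H).symm.trans (f2807 H)

theorem f2809 : path g [3, 4, 6, 8] p = path g [4, 6, 8] p :=
  (f2808 H).symm

theorem f2812 : g 8 • path g [4, 6, 8] p = path g [3, 4, 6, 3] p :=
  (congrArg (g 8 • ·) (f2809 H).symm).trans (f1683 H)

theorem f2813 : path g [4, 6, 3] p = path g [3, 4, 6, 3] p :=
  (f587 H).symm.trans (f2812 H)

theorem f2910 : path g [3, 4, 6, 3] p = path g [4, 6, 3] p :=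
  (f2813 H).symm

theorem f2911 : g 8 • path g [4, 6, 3] p = path g [3, 4, 6] p :=
  (congrArg (g 8 • ·) (f2910 H).symm).trans (f1678 H)

theorem f2912 : path g [4, 6] p = path g [3, 4, 6] p :=
  (f582 H).symm.trans (f2911 H)

theorem f2916 : path g [3, 4, 6] p = path g [4, 6] p :=
  (f2912 H).symm

theorem f2917 : g 1 • path g [4, 6] p = path g [3, 4] p :=
  (congrArg (g 1 • ·) (f2916 H).symm).trans (f181 H)

theorem f2918 : path g [4] p = path g [3, 4] p :=
  (f57 H).symm.trans (f2917 H)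

theorem f2946 : path g [3, 4] p = path g [4] p :=
  (f2918 H).symm

theorem f2947 : g 9 • path g [4] p = path g [3] p :=
  (congrArg (g 9 • ·) (f2946 H).symm).trans (f33 H)

theorem f2948 : path g [] p = path g [3] p :=
  (f9 H).symm.trans (f2947 H)

theorem f2978 : path g [3] p = path g [] p :=
  (f2948 H).symm

theorem f2982 : g 3 • path g [] p = path g [] p :=
  (f6 H).trans (f2978 H)

theorem collapse : g 3 • p = p :=
  (f2982 H)

end CfsgQS3.Cert010
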