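import Cfsg.Agent.Lib.QS3.Coset
import Cfsg.Agent.Lib.QS3.RelData

/-!
Groups with an involution centraliser `Q.S₃`: a certificate of coset enumeration, case 011.
-/

set_option autoImplicit false
set_option maxRecDepth 10000

namespace CfsgQS3.Cert011

variable {M α : Type*} [Group M] [MulAction M α] {g : ℕ → M} {p : α} (H : CosetData rels011 3 g p)
include H

theorem r0_0_0 : ∀ x : α, path g [7, 6, 5, 7, 5, 2, 0, 2, 0, 1, 1] x = x :=
  trivial_rot 0 (H.trivial_rev (i := 0) (by decide)) (by decide)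

theorem r0_0_1 : ∀ x : α, path g [6, 5, 7, 5, 2, 0, 2, 0, 1, 1, 7] x = x :=
  trivial_rot 1 (H.trivial_rev (i := 0) (by decide)) (by decide)

theorem r0_0_2 : ∀ x : α, path g [5, 7, 5, 2, 0, 2, 0, 1, 1, 7, 6] x = x :=
  trivial_rot 2 (H.trivial_rev (i := 0) (by decide)) (by decide)

theorem r0_0_3 : ∀ x : α, path g [7, 5, 2, 0, 2, 0, 1, 1, 7, 6, 5] x = x :=
  trivial_rot 3 (H.trivial_rev (i := 0) (by decide)) (by decide)

theorem r0_0_6 : ∀ x : α, path g [0, 2, 0, 1, 1, 7, 6, 5, 7, 5, 2] x = x :=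
  trivial_rot 6 (H.trivial_rev (i := 0) (by decide)) (by decide)

theorem r0_0_7 : ∀ x : α, path g [2, 0, 1, 1, 7, 6, 5, 7, 5, 2, 0] x = x :=
  trivial_rot 7 (H.trivial_rev (i := 0) (by decide)) (by decide)

theorem r0_0_9 : ∀ x : α, path g [1, 1, 7, 6, 5, 7, 5, 2, 0, 2, 0] x = x :=
  trivial_rot 9 (H.trivial_rev (i := 0) (by decide)) (by decide)

theorem r0_1_0 : ∀ x : α, path g [6, 6, 5, 7, 5, 7, 0, 2, 0, 1, 2] x = x :=
  trivial_rot 0 (H.trivial_inv (i := 0) (by decide) (by decide)) (by decide)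

theorem r0_1_3 : ∀ x : α, path g [7, 5, 7, 0, 2, 0, 1, 2, 6, 6, 5] x = x :=
  trivial_rot 3 (H.trivial_inv (i := 0) (by decide) (by decide)) (by decide)

theorem r0_1_4 : ∀ x : α, path g [5, 7, 0, 2, 0, 1, 2, 6, 6, 5, 7] x = x :=
  trivial_rot 4 (H.trivial_inv (i := 0) (by decide) (by decide)) (by decide)

theorem r0_1_7 : ∀ x : α, path g [2, 0, 1, 2, 6, 6, 5, 7, 5, 7, 0] x = x :=
  trivial_rot 7 (H.trivial_inv (i := 0) (by decide) (by decide)) (by decide)

theorem r0_1_10 : ∀ x : α, path g [2, 6, 6, 5, 7, 5, 7, 0, 2, 0, 1] x = x :=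
  trivial_rot 10 (H.trivial_inv (i := 0) (by decide) (by decide)) (by decide)

theorem r1_0_3 : ∀ x : α, path g [7, 5, 7, 0, 2, 0, 2, 0, 0, 5, 5, 5] x = x :=
  trivial_rot 3 (H.trivial_rev (i := 1) (by decide)) (by decide)

theorem r1_0_7 : ∀ x : α, path g [2, 0, 2, 0, 0, 5, 5, 5, 7, 5, 7, 0] x = x :=
  trivial_rot 7 (H.trivial_rev (i := 1) (by decide)) (by decide)

theorem r1_1_2 : ∀ x : α, path g [7, 5, 7, 5, 2, 0, 2, 0, 0, 0, 5, 5] x = x :=
  trivial_rot 2 (H.trivial_inv (i := 1) (by decide) (by decide)) (by decide)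

theorem r1_1_7 : ∀ x : α, path g [0, 2, 0, 0, 0, 5, 5, 7, 5, 7, 5, 2] x = x :=
  trivial_rot 7 (H.trivial_inv (i := 1) (by decide) (by decide)) (by decide)

theorem r2_0_0 : ∀ x : α, path g [5, 5, 7, 5, 7, 1, 2, 1, 0, 2, 0, 0] x = x :=
  trivial_rot 0 (H.trivial_rev (i := 2) (by decide)) (by decide)

theorem r2_0_1 : ∀ x : α, path g [5, 7, 5, 7, 1, 2, 1, 0, 2, 0, 0, 5] x = x :=
  trivial_rot 1 (H.trivial_rev (i := 2) (by decide)) (by decide)

theorem r2_0_3 : ∀ x : α, path g [5, 7, 1, 2, 1, 0, 2, 0, 0, 5, 5, 7] x = x :=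
  trivial_rot 3 (H.trivial_rev (i := 2) (by decide)) (by decide)

theorem r2_0_5 : ∀ x : α, path g [1, 2, 1, 0, 2, 0, 0, 5, 5, 7, 5, 7] x = x :=
  trivial_rot 5 (H.trivial_rev (i := 2) (by decide)) (by decide)

theorem r2_0_6 : ∀ x : α, path g [2, 1, 0, 2, 0, 0, 5, 5, 7, 5, 7, 1] x = x :=
  trivial_rot 6 (H.trivial_rev (i := 2) (by decide)) (by decide)

theorem r2_0_7 : ∀ x : α, path g [1, 0, 2, 0, 0, 5, 5, 7, 5, 7, 1, 2] x = x :=
  trivial_rot 7 (H.trivial_rev (i := 2) (by decide)) (by decide)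

theorem r2_0_8 : ∀ x : α, path g [0, 2, 0, 0, 5, 5, 7, 5, 7, 1, 2, 1] x = x :=
  trivial_rot 8 (H.trivial_rev (i := 2) (by decide)) (by decide)

theorem r2_0_10 : ∀ x : α, path g [0, 0, 5, 5, 7, 5, 7, 1, 2, 1, 0, 2] x = x :=
  trivial_rot 10 (H.trivial_rev (i := 2) (by decide)) (by decide)

theorem r2_1_4 : ∀ x : α, path g [6, 7, 6, 2, 0, 2, 0, 0, 5, 5, 7, 5] x = x :=
  trivial_rot 4 (H.trivial_inv (i := 2) (by decide) (by decide)) (by decide)

theorem r2_1_6 : ∀ x : α, path g [6, 2, 0, 2, 0, 0, 5, 5, 7, 5, 6, 7] x = x :=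
  trivial_rot 6 (H.trivial_inv (i := 2) (by decide) (by decide)) (by decide)

theorem r3_0_0 : ∀ x : α, path g [5, 5, 7, 5, 6, 2, 2, 1, 0, 2, 0, 0] x = x :=
  trivial_rot 0 (H.trivial_rev (i := 3) (by decide)) (by decide)

theorem r3_0_4 : ∀ x : α, path g [6, 2, 2, 1, 0, 2, 0, 0, 5, 5, 7, 5] x = x :=
  trivial_rot 4 (H.trivial_rev (i := 3) (by decide)) (by decide)

theorem r3_0_5 : ∀ x : α, path g [2, 2, 1, 0, 2, 0, 0, 5, 5, 7, 5, 6] x = x :=
  trivial_rot 5 (H.trivial_rev (i := 3) (by decide)) (by decide)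

theorem r3_0_6 : ∀ x : α, path g [2, 1, 0, 2, 0, 0, 5, 5, 7, 5, 6, 2] x = x :=
  trivial_rot 6 (H.trivial_rev (i := 3) (by decide)) (by decide)

theorem r3_0_7 : ∀ x : α, path g [1, 0, 2, 0, 0, 5, 5, 7, 5, 6, 2, 2] x = x :=
  trivial_rot 7 (H.trivial_rev (i := 3) (by decide)) (by decide)

theorem r3_0_8 : ∀ x : α, path g [0, 2, 0, 0, 5, 5, 7, 5, 6, 2, 2, 1] x = x :=
  trivial_rot 8 (H.trivial_rev (i := 3) (by decide)) (by decide)

theorem r4_0_1 : ∀ x : α, path g [5, 6, 7, 5, 1, 0, 1, 0, 2, 0, 0, 5] x = x :=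
  trivial_rot 1 (H.trivial_rev (i := 4) (by decide)) (by decide)

theorem r4_0_2 : ∀ x : α, path g [6, 7, 5, 1, 0, 1, 0, 2, 0, 0, 5, 5] x = x :=
  trivial_rot 2 (H.trivial_rev (i := 4) (by decide)) (by decide)

theorem r4_0_6 : ∀ x : α, path g [0, 1, 0, 2, 0, 0, 5, 5, 6, 7, 5, 1] x = x :=
  trivial_rot 6 (H.trivial_rev (i := 4) (by decide)) (by decide)

theorem r4_0_7 : ∀ x : α, path g [1, 0, 2, 0, 0, 5, 5, 6, 7, 5, 1, 0] x = x :=
  trivial_rot 7 (H.trivial_rev (i := 4) (by decide)) (by decide)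

theorem r4_0_11 : ∀ x : α, path g [0, 5, 5, 6, 7, 5, 1, 0, 1, 0, 2, 0] x = x :=
  trivial_rot 11 (H.trivial_rev (i := 4) (by decide)) (by decide)

theorem r4_1_2 : ∀ x : α, path g [7, 5, 6, 5, 6, 0, 2, 1, 0, 0, 5, 5] x = x :=
  trivial_rot 2 (H.trivial_inv (i := 4) (by decide) (by decide)) (by decide)

theorem r4_1_3 : ∀ x : α, path g [5, 6, 5, 6, 0, 2, 1, 0, 0, 5, 5, 7] x = x :=
  trivial_rot 3 (H.trivial_inv (i := 4) (by decide) (by decide)) (by decide)

theorem r4_1_5 : ∀ x : α, path g [5, 6, 0, 2, 1, 0, 0, 5, 5, 7, 5, 6] x = x :=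
  trivial_rot 5 (H.trivial_inv (i := 4) (by decide) (by decide)) (by decide)

theorem r5_0_6 : ∀ x : α, path g [0, 0, 1, 1, 0, 2, 5, 5, 7, 5, 6, 6] x = x :=
  trivial_rot 6 (H.trivial_rev (i := 5) (by decide)) (by decide)

theorem r5_0_7 : ∀ x : α, path g [0, 1, 1, 0, 2, 5, 5, 7, 5, 6, 6, 0] x = x :=
  trivial_rot 7 (H.trivial_rev (i := 5) (by decide)) (by decide)

theorem r5_0_10 : ∀ x : α, path g [0, 2, 5, 5, 7, 5, 6, 6, 0, 0, 1, 1] x = x :=
  trivial_rot 10 (H.trivial_rev (i := 5) (by decide)) (by decide)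

theorem r6_0_7 : ∀ x : α, path g [2, 1, 0, 2, 1, 5, 6, 7, 5, 6, 7, 0] x = x :=
  trivial_rot 7 (H.trivial_rev (i := 6) (by decide)) (by decide)

theorem r6_0_8 : ∀ x : α, path g [1, 0, 2, 1, 5, 6, 7, 5, 6, 7, 0, 2] x = x :=
  trivial_rot 8 (H.trivial_rev (i := 6) (by decide)) (by decide)

theorem r6_1_6 : ∀ x : α, path g [2, 1, 0, 2, 1, 0, 6, 7, 5, 6, 7, 5] x = x :=
  trivial_rot 6 (H.trivial_inv (i := 6) (by decide) (by decide)) (by decide)

theorem r6_1_10 : ∀ x : α, path g [1, 0, 6, 7, 5, 6, 7, 5, 2, 1, 0, 2] x = x :=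
  trivial_rot 10 (H.trivial_inv (i := 6) (by decide) (by decide)) (by decide)

theorem r7_0_1 : ∀ x : α, path g [5, 6, 5, 7, 5, 6, 5, 8, 2, 3, 5] x = x :=
  trivial_rot 1 (H.trivial_rev (i := 7) (by decide)) (by decide)

theorem r7_0_3 : ∀ x : α, path g [5, 7, 5, 6, 5, 8, 2, 3, 5, 5, 6] x = x :=
  trivial_rot 3 (H.trivial_rev (i := 7) (by decide)) (by decide)

theorem r7_0_6 : ∀ x : α, path g [6, 5, 8, 2, 3, 5, 5, 6, 5, 7, 5] x = x :=
  trivial_rot 6 (H.trivial_rev (i := 7) (by decide)) (by decide)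

theorem r7_0_8 : ∀ x : α, path g [8, 2, 3, 5, 5, 6, 5, 7, 5, 6, 5] x = x :=
  trivial_rot 8 (H.trivial_rev (i := 7) (by decide)) (by decide)

theorem r7_0_10 : ∀ x : α, path g [3, 5, 5, 6, 5, 7, 5, 6, 5, 8, 2] x = x :=
  trivial_rot 10 (H.trivial_rev (i := 7) (by decide)) (by decide)

theorem r7_1_0 : ∀ x : α, path g [8, 7, 3, 0, 1, 0, 2, 0, 1, 0, 0] x = x :=
  trivial_rot 0 (H.trivial_inv (i := 7) (by decide) (by decide)) (by decide)

theorem r7_1_3 : ∀ x : α, path g [0, 1, 0, 2, 0, 1, 0, 0, 8, 7, 3] x = x :=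
  trivial_rot 3 (H.trivial_inv (i := 7) (by decide) (by decide)) (by decide)

theorem r7_1_4 : ∀ x : α, path g [1, 0, 2, 0, 1, 0, 0, 8, 7, 3, 0] x = x :=
  trivial_rot 4 (H.trivial_inv (i := 7) (by decide) (by decide)) (by decide)

theorem r7_1_5 : ∀ x : α, path g [0, 2, 0, 1, 0, 0, 8, 7, 3, 0, 1] x = x :=
  trivial_rot 5 (H.trivial_inv (i := 7) (by decide) (by decide)) (by decide)

theorem r7_1_6 : ∀ x : α, path g [2, 0, 1, 0, 0, 8, 7, 3, 0, 1, 0] x = x :=
  trivial_rot 6 (H.trivial_inv (i := 7) (by decide) (by decide)) (by decide)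

theorem r8_0_0 : ∀ x : α, path g [6, 5, 7, 5, 6, 8, 0, 3] x = x :=
  trivial_rot 0 (H.trivial_rev (i := 8) (by decide)) (by decide)

theorem r8_0_1 : ∀ x : α, path g [5, 7, 5, 6, 8, 0, 3, 6] x = x :=
  trivial_rot 1 (H.trivial_rev (i := 8) (by decide)) (by decide)

theorem r8_0_2 : ∀ x : α, path g [7, 5, 6, 8, 0, 3, 6, 5] x = x :=
  trivial_rot 2 (H.trivial_rev (i := 8) (by decide)) (by decide)

theorem r8_0_3 : ∀ x : α, path g [5, 6, 8, 0, 3, 6, 5, 7] x = x :=
  trivial_rot 3 (H.trivial_rev (i := 8) (by decide)) (by decide)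

theorem r8_0_4 : ∀ x : α, path g [6, 8, 0, 3, 6, 5, 7, 5] x = x :=
  trivial_rot 4 (H.trivial_rev (i := 8) (by decide)) (by decide)

theorem r8_0_5 : ∀ x : α, path g [8, 0, 3, 6, 5, 7, 5, 6] x = x :=
  trivial_rot 5 (H.trivial_rev (i := 8) (by decide)) (by decide)

theorem r8_0_6 : ∀ x : α, path g [0, 3, 6, 5, 7, 5, 6, 8] x = x :=
  trivial_rot 6 (H.trivial_rev (i := 8) (by decide)) (by decide)

theorem r8_0_7 : ∀ x : α, path g [3, 6, 5, 7, 5, 6, 8, 0] x = x :=
  trivial_rot 7 (H.trivial_rev (i := 8) (by decide)) (by decide)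

theorem r8_1_0 : ∀ x : α, path g [8, 5, 3, 1, 0, 2, 0, 1] x = x :=
  trivial_rot 0 (H.trivial_inv (i := 8) (by decide) (by decide)) (by decide)

theorem r8_1_1 : ∀ x : α, path g [5, 3, 1, 0, 2, 0, 1, 8] x = x :=
  trivial_rot 1 (H.trivial_inv (i := 8) (by decide) (by decide)) (by decide)

theorem r8_1_4 : ∀ x : α, path g [0, 2, 0, 1, 8, 5, 3, 1] x = x :=
  trivial_rot 4 (H.trivial_inv (i := 8) (by decide) (by decide)) (by decide)

theorem r8_1_5 : ∀ x : α, path g [2, 0, 1, 8, 5, 3, 1, 0] x = x :=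
  trivial_rot 5 (H.trivial_inv (i := 8) (by decide) (by decide)) (by decide)

theorem r8_1_6 : ∀ x : α, path g [0, 1, 8, 5, 3, 1, 0, 2] x = x :=
  trivial_rot 6 (H.trivial_inv (i := 8) (by decide) (by decide)) (by decide)

theorem r8_1_7 : ∀ x : α, path g [1, 8, 5, 3, 1, 0, 2, 0] x = x :=
  trivial_rot 7 (H.trivial_inv (i := 8) (by decide) (by decide)) (by decide)

theorem r9_0_0 : ∀ x : α, path g [7, 5, 8, 1, 0, 2, 0, 1, 3] x = x :=
  trivial_rot 0 (H.trivial_rev (i := 9) (by decide)) (by decide)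

theorem r9_0_1 : ∀ x : α, path g [5, 8, 1, 0, 2, 0, 1, 3, 7] x = x :=
  trivial_rot 1 (H.trivial_rev (i := 9) (by decide)) (by decide)

theorem r9_0_5 : ∀ x : α, path g [2, 0, 1, 3, 7, 5, 8, 1, 0] x = x :=
  trivial_rot 5 (H.trivial_rev (i := 9) (by decide)) (by decide)

theorem r9_0_6 : ∀ x : α, path g [0, 1, 3, 7, 5, 8, 1, 0, 2] x = x :=
  trivial_rot 6 (H.trivial_rev (i := 9) (by decide)) (by decide)

theorem r9_0_7 : ∀ x : α, path g [1, 3, 7, 5, 8, 1, 0, 2, 0] x = x :=
  trivial_rot 7 (H.trivial_rev (i := 9) (by decide)) (by decide)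

theorem r9_1_2 : ∀ x : α, path g [5, 7, 5, 6, 3, 0, 2, 8, 6] x = x :=
  trivial_rot 2 (H.trivial_inv (i := 9) (by decide) (by decide)) (by decide)

theorem r9_1_5 : ∀ x : α, path g [6, 3, 0, 2, 8, 6, 5, 7, 5] x = x :=
  trivial_rot 5 (H.trivial_inv (i := 9) (by decide) (by decide)) (by decide)

theorem r9_1_6 : ∀ x : α, path g [3, 0, 2, 8, 6, 5, 7, 5, 6] x = x :=
  trivial_rot 6 (H.trivial_inv (i := 9) (by decide) (by decide)) (by decide)

theorem r9_1_7 : ∀ x : α, path g [0, 2, 8, 6, 5, 7, 5, 6, 3] x = x :=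
  trivial_rot 7 (H.trivial_inv (i := 9) (by decide) (by decide)) (by decide)

theorem r9_1_8 : ∀ x : α, path g [2, 8, 6, 5, 7, 5, 6, 3, 0] x = x :=
  trivial_rot 8 (H.trivial_inv (i := 9) (by decide) (by decide)) (by decide)

theorem r10_0_0 : ∀ x : α, path g [3, 3, 3] x = x :=
  trivial_rot 0 (H.trivial_rev (i := 10) (by decide)) (by decide)

theorem r10_1_0 : ∀ x : α, path g [8, 8, 8] x = x :=
  trivial_rot 0 (H.trivial_inv (i := 10) (by decide) (by decide)) (by decide)

theorem r11_0_0 : ∀ x : α, path g [5, 5, 5, 7, 5, 9, 2, 4] x = x :=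
  trivial_rot 0 (H.trivial_rev (i := 11) (by decide)) (by decide)

theorem r11_0_1 : ∀ x : α, path g [5, 5, 7, 5, 9, 2, 4, 5] x = x :=
  trivial_rot 1 (H.trivial_rev (i := 11) (by decide)) (by decide)

theorem r11_0_2 : ∀ x : α, path g [5, 7, 5, 9, 2, 4, 5, 5] x = x :=
  trivial_rot 2 (H.trivial_rev (i := 11) (by decide)) (by decide)

theorem r11_0_3 : ∀ x : α, path g [7, 5, 9, 2, 4, 5, 5, 5] x = x :=
  trivial_rot 3 (H.trivial_rev (i := 11) (by decide)) (by decide)

theorem r11_0_4 : ∀ x : α, path g [5, 9, 2, 4, 5, 5, 5, 7] x = x :=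
  trivial_rot 4 (H.trivial_rev (i := 11) (by decide)) (by decide)

theorem r11_0_5 : ∀ x : α, path g [9, 2, 4, 5, 5, 5, 7, 5] x = x :=
  trivial_rot 5 (H.trivial_rev (i := 11) (by decide)) (by decide)

theorem r11_0_7 : ∀ x : α, path g [4, 5, 5, 5, 7, 5, 9, 2] x = x :=
  trivial_rot 7 (H.trivial_rev (i := 11) (by decide)) (by decide)

theorem r11_1_0 : ∀ x : α, path g [9, 7, 4, 0, 2, 0, 0, 0] x = x :=
  trivial_rot 0 (H.trivial_inv (i := 11) (by decide) (by decide)) (by decide)

theorem r11_1_2 : ∀ x : α, path g [4, 0, 2, 0, 0, 0, 9, 7] x = x :=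
  trivial_rot 2 (H.trivial_inv (i := 11) (by decide) (by decide)) (by decide)

theorem r11_1_4 : ∀ x : α, path g [2, 0, 0, 0, 9, 7, 4, 0] x = x :=
  trivial_rot 4 (H.trivial_inv (i := 11) (by decide) (by decide)) (by decide)

theorem r11_1_5 : ∀ x : α, path g [0, 0, 0, 9, 7, 4, 0, 2] x = x :=
  trivial_rot 5 (H.trivial_inv (i := 11) (by decide) (by decide)) (by decide)

theorem r12_0_8 : ∀ x : α, path g [0, 2, 0, 4, 5, 6, 5, 7, 5, 6, 7, 9] x = x :=
  trivial_rot 8 (H.trivial_rev (i := 12) (by decide)) (by decide)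

theorem r12_0_10 : ∀ x : α, path g [0, 4, 5, 6, 5, 7, 5, 6, 7, 9, 0, 2] x = x :=
  trivial_rot 10 (H.trivial_rev (i := 12) (by decide)) (by decide)

theorem r12_1_1 : ∀ x : α, path g [5, 7, 5, 4, 2, 1, 0, 2, 0, 1, 0, 9] x = x :=
  trivial_rot 1 (H.trivial_inv (i := 12) (by decide) (by decide)) (by decide)

theorem r12_1_2 : ∀ x : α, path g [7, 5, 4, 2, 1, 0, 2, 0, 1, 0, 9, 5] x = x :=
  trivial_rot 2 (H.trivial_inv (i := 12) (by decide) (by decide)) (by decide)

theorem r12_1_6 : ∀ x : α, path g [1, 0, 2, 0, 1, 0, 9, 5, 7, 5, 4, 2] x = x :=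
  trivial_rot 6 (H.trivial_inv (i := 12) (by decide) (by decide)) (by decide)

theorem r12_1_8 : ∀ x : α, path g [2, 0, 1, 0, 9, 5, 7, 5, 4, 2, 1, 0] x = x :=
  trivial_rot 8 (H.trivial_inv (i := 12) (by decide) (by decide)) (by decide)

theorem r12_1_9 : ∀ x : α, path g [0, 1, 0, 9, 5, 7, 5, 4, 2, 1, 0, 2] x = x :=
  trivial_rot 9 (H.trivial_inv (i := 12) (by decide) (by decide)) (by decide)

theorem r13_0_1 : ∀ x : α, path g [6, 7, 5, 6, 9, 1, 1, 0, 1, 4, 5] x = x :=
  trivial_rot 1 (H.trivial_rev (i := 13) (by decide)) (by decide)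

theorem r13_0_2 : ∀ x : α, path g [7, 5, 6, 9, 1, 1, 0, 1, 4, 5, 6] x = x :=
  trivial_rot 2 (H.trivial_rev (i := 13) (by decide)) (by decide)

theorem r13_0_7 : ∀ x : α, path g [1, 0, 1, 4, 5, 6, 7, 5, 6, 9, 1] x = x :=
  trivial_rot 7 (H.trivial_rev (i := 13) (by decide)) (by decide)

theorem r13_0_8 : ∀ x : α, path g [0, 1, 4, 5, 6, 7, 5, 6, 9, 1, 1] x = x :=
  trivial_rot 8 (H.trivial_rev (i := 13) (by decide)) (by decide)

theorem r13_0_9 : ∀ x : α, path g [1, 4, 5, 6, 7, 5, 6, 9, 1, 1, 0] x = x :=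
  trivial_rot 9 (H.trivial_rev (i := 13) (by decide)) (by decide)

theorem r13_1_0 : ∀ x : α, path g [9, 6, 5, 6, 6, 4, 1, 0, 2, 1, 0] x = x :=
  trivial_rot 0 (H.trivial_inv (i := 13) (by decide) (by decide)) (by decide)

theorem r13_1_1 : ∀ x : α, path g [6, 5, 6, 6, 4, 1, 0, 2, 1, 0, 9] x = x :=
  trivial_rot 1 (H.trivial_inv (i := 13) (by decide) (by decide)) (by decide)

theorem r13_1_7 : ∀ x : α, path g [0, 2, 1, 0, 9, 6, 5, 6, 6, 4, 1] x = x :=
  trivial_rot 7 (H.trivial_inv (i := 13) (by decide) (by decide)) (by decide)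

theorem r13_1_8 : ∀ x : α, path g [2, 1, 0, 9, 6, 5, 6, 6, 4, 1, 0] x = x :=
  trivial_rot 8 (H.trivial_inv (i := 13) (by decide) (by decide)) (by decide)

theorem r13_1_9 : ∀ x : α, path g [1, 0, 9, 6, 5, 6, 6, 4, 1, 0, 2] x = x :=
  trivial_rot 9 (H.trivial_inv (i := 13) (by decide) (by decide)) (by decide)

theorem r13_1_10 : ∀ x : α, path g [0, 9, 6, 5, 6, 6, 4, 1, 0, 2, 1] x = x :=
  trivial_rot 10 (H.trivial_inv (i := 13) (by decide) (by decide)) (by decide)

theorem r14_0_0 : ∀ x : α, path g [4, 4, 4] x = x :=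
  trivial_rot 0 (H.trivial_rev (i := 14) (by decide)) (by decide)

theorem r14_1_0 : ∀ x : α, path g [9, 9, 9] x = x :=
  trivial_rot 0 (H.trivial_inv (i := 14) (by decide) (by decide)) (by decide)

theorem r15_0_0 : ∀ x : α, path g [9, 8, 4, 3] x = x :=
  trivial_rot 0 (H.trivial_rev (i := 15) (by decide)) (by decide)

theorem r15_0_1 : ∀ x : α, path g [8, 4, 3, 9] x = x :=
  trivial_rot 1 (H.trivial_rev (i := 15) (by decide)) (by decide)

theorem r15_0_3 : ∀ x : α, path g [3, 9, 8, 4] x = x :=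
  trivial_rot 3 (H.trivial_rev (i := 15) (by decide)) (by decide)

theorem r15_1_0 : ∀ x : α, path g [8, 9, 3, 4] x = x :=
  trivial_rot 0 (H.trivial_inv (i := 15) (by decide) (by decide)) (by decide)

theorem r15_1_1 : ∀ x : α, path g [9, 3, 4, 8] x = x :=
  trivial_rot 1 (H.trivial_inv (i := 15) (by decide) (by decide)) (by decide)

theorem r15_1_2 : ∀ x : α, path g [3, 4, 8, 9] x = x :=
  trivial_rot 2 (H.trivial_inv (i := 15) (by decide) (by decide)) (by decide)

theorem r15_1_3 : ∀ x : α, path g [4, 8, 9, 3] x = x :=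
  trivial_rot 3 (H.trivial_inv (i := 15) (by decide) (by decide)) (by decide)

theorem r16_0_0 : ∀ x : α, path g [1, 3, 1, 3, 1, 3, 1, 3, 1, 3, 1, 3, 1, 3] x = x :=
  trivial_rot 0 (H.trivial_rev (i := 16) (by decide)) (by decide)

theorem r16_0_1 : ∀ x : α, path g [3, 1, 3, 1, 3, 1, 3, 1, 3, 1, 3, 1, 3, 1] x = x :=
  trivial_rot 1 (H.trivial_rev (i := 16) (by decide)) (by decide)

theorem r16_1_1 : ∀ x : α, path g [6, 8, 6, 8, 6, 8, 6, 8, 6, 8, 6, 8, 6, 8] x = x :=
  trivial_rot 1 (H.trivial_inv (i := 16) (by decide) (by decide)) (by decide)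

theorem r17_1_1 : ∀ x : α, path g [6, 9, 6, 9, 6, 9, 6, 9, 6, 9, 6, 9, 6, 9] x = x :=
  trivial_rot 1 (H.trivial_inv (i := 17) (by decide) (by decide)) (by decide)

theorem r18_0_7 : ∀ x : α, path g [1, 3, 0, 1, 3, 0, 1, 3, 6, 5, 7, 5, 6, 7, 0] x = x :=
  trivial_rot 7 (H.trivial_rev (i := 18) (by decide)) (by decide)

theorem r18_0_8 : ∀ x : α, path g [3, 0, 1, 3, 0, 1, 3, 6, 5, 7, 5, 6, 7, 0, 1] x = x :=
  trivial_rot 8 (H.trivial_rev (i := 18) (by decide)) (by decide)

theorem r18_0_9 : ∀ x : α, path g [0, 1, 3, 0, 1, 3, 6, 5, 7, 5, 6, 7, 0, 1, 3] x = x :=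
  trivial_rot 9 (H.trivial_rev (i := 18) (by decide)) (by decide)

theorem r18_1_0 : ∀ x : α, path g [8, 6, 5, 8, 6, 5, 8, 6, 5, 2, 1, 0, 2, 0, 1] x = x :=
  trivial_rot 0 (H.trivial_inv (i := 18) (by decide) (by decide)) (by decide)

theorem r18_1_1 : ∀ x : α, path g [6, 5, 8, 6, 5, 8, 6, 5, 2, 1, 0, 2, 0, 1, 8] x = x :=
  trivial_rot 1 (H.trivial_inv (i := 18) (by decide) (by decide)) (by decide)

theorem r18_1_2 : ∀ x : α, path g [5, 8, 6, 5, 8, 6, 5, 2, 1, 0, 2, 0, 1, 8, 6] x = x :=
  trivial_rot 2 (H.trivial_inv (i := 18) (by decide) (by decide)) (by decide)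

theorem r18_1_8 : ∀ x : α, path g [5, 2, 1, 0, 2, 0, 1, 8, 6, 5, 8, 6, 5, 8, 6] x = x :=
  trivial_rot 8 (H.trivial_inv (i := 18) (by decide) (by decide)) (by decide)

theorem r19_0_3 : ∀ x : α, path g [6, 7, 5, 6, 7, 2, 1, 4, 2, 1, 4, 2, 1, 4, 5, 5, 5] x = x :=
  trivial_rot 3 (H.trivial_rev (i := 19) (by decide)) (by decide)

theorem r19_0_11 : ∀ x : α, path g [2, 1, 4, 2, 1, 4, 5, 5, 5, 6, 7, 5, 6, 7, 2, 1, 4] x = x :=
  trivial_rot 11 (H.trivial_rev (i := 19) (by decide)) (by decide)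

theorem r19_0_12 : ∀ x : α, path g [1, 4, 2, 1, 4, 5, 5, 5, 6, 7, 5, 6, 7, 2, 1, 4, 2] x = x :=
  trivial_rot 12 (H.trivial_rev (i := 19) (by decide)) (by decide)

theorem r19_1_1 : ∀ x : α, path g [6, 7, 9, 6, 7, 9, 6, 7, 2, 1, 0, 2, 1, 0, 0, 0, 9] x = x :=
  trivial_rot 1 (H.trivial_inv (i := 19) (by decide) (by decide)) (by decide)

theorem r19_1_2 : ∀ x : α, path g [7, 9, 6, 7, 9, 6, 7, 2, 1, 0, 2, 1, 0, 0, 0, 9, 6] x = x :=
  trivial_rot 2 (H.trivial_inv (i := 19) (by decide) (by decide)) (by decide)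

theorem f0 : g 0 • path g [] p = path g [] p :=
  H.base (i := 0) (by decide)

theorem f1 : g 5 • path g [] p = path g [] p :=
  H.back (i := 0) (by decide) (f0 H)

theorem f2 : g 1 • path g [] p = path g [] p :=
  H.base (i := 1) (by decide)

theorem f3 : g 6 • path g [] p = path g [] p :=
  H.back (i := 1) (by decide) (f2 H)

theorem f4 : g 2 • path g [] p = path g [] p :=
  H.base (i := 2) (by decide)

theorem f5 : g 7 • path g [] p = path g [] p :=
  H.back (i := 2) (by decide) (f4 H)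

theorem f6 : g 3 • path g [] p = path g [3] p :=
  rfl

theorem f7 : g 8 • path g [3] p = path g [] p :=
  H.back (i := 3) (by decide) (f6 H)

theorem f8 : g 4 • path g [] p = path g [4] p :=
  rfl

theorem f9 : g 9 • path g [4] p = path g [] p :=
  H.back (i := 4) (by decide) (f8 H)

theorem f10 : g 8 • path g [] p = path g [8] p :=
  rfl

theorem f11 : g 3 • path g [8] p = path g [] p :=
  H.back (i := 8) (by decide) (f10 H)

theorem f12 : g 8 • path g [8] p = path g [3] p :=
  scan (u := [8]) (w := [8]) (i := 8) (r10_1_0 H) (step (f10 H) rfl) (step (H.back (i := 3) (by decide) (f6 H)) rfl)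

theorem f14 : g 0 • path g [8] p = path g [8] p :=
  scan (u := [8]) (w := [3, 6, 5, 7, 5, 6]) (i := 0) (r8_0_5 H) (step (f10 H) rfl) (step (H.back (i := 8) (by decide) (f10 H)) (step (H.back (i := 1) (by decide) (f2 H)) (step (H.back (i := 0) (by decide) (f0 H)) (step (H.back (i := 2) (by decide) (f4 H)) (step (H.back (i := 0) (by decide) (f0 H)) (step (H.back (i := 1) (by decide) (f2 H)) rfl))))))

theorem f15 : g 5 • path g [8] p = path g [8] p :=
  H.back (i := 0) (by decide) (f14 H)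

theorem f16 : g 2 • path g [8] p = path g [8] p :=
  scan (u := [8]) (w := [3, 5, 5, 6, 5, 7, 5, 6, 5]) (i := 2) (r7_0_8 H) (step (f10 H) rfl) (step (H.back (i := 8) (by decide) (f10 H)) (step (H.back (i := 0) (by decide) (f0 H)) (step (H.back (i := 0) (by decide) (f0 H)) (step (H.back (i := 1) (by decide) (f2 H)) (step (H.back (i := 0) (by decide) (f0 H)) (step (H.back (i := 2) (by decide) (f4 H)) (step (H.back (i := 0) (by decide) (f0 H)) (step (H.back (i := 1) (by decide) (f2 H)) (step (H.back (i := 0) (by decide) (f0 H)) rfl)))))))))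

theorem f17 : g 7 • path g [8] p = path g [8] p :=
  H.back (i := 2) (by decide) (f16 H)

theorem f18 : g 9 • path g [] p = path g [9] p :=
  rfl

theorem f19 : g 4 • path g [9] p = path g [] p :=
  H.back (i := 9) (by decide) (f18 H)

theorem f20 : g 9 • path g [9] p = path g [4] p :=
  scan (u := [9]) (w := [9]) (i := 9) (r14_1_0 H) (step (f18 H) rfl) (step (H.back (i := 4) (by decide) (f8 H)) rfl)

theorem f21 : g 4 • path g [4] p = path g [9] p :=
  H.back (i := 9) (by decide) (f20 H)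

theorem f22 : g 2 • path g [9] p = path g [9] p :=
  scan (u := [9]) (w := [4, 5, 5, 5, 7, 5]) (i := 2) (r11_0_5 H) (step (f18 H) rfl) (step (H.back (i := 9) (by decide) (f18 H)) (step (H.back (i := 0) (by decide) (f0 H)) (step (H.back (i := 0) (by decide) (f0 H)) (step (H.back (i := 0) (by decide) (f0 H)) (step (H.back (i := 2) (by decide) (f4 H)) (step (H.back (i := 0) (by decide) (f0 H)) rfl))))))

theorem f23 : g 7 • path g [9] p = path g [9] p :=
  H.back (i := 2) (by decide) (f22 H)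

theorem f24 : g 0 • path g [3] p = path g [3, 0] p :=
  rfl

theorem f25 : g 5 • path g [3, 0] p = path g [3] p :=
  H.back (i := 0) (by decide) (f24 H)

theorem f26 : g 2 • path g [3, 0] p = path g [3] p :=
  scan (u := [0]) (w := [8, 6, 5, 7, 5, 6, 3]) (i := 2) (r9_1_7 H) (step (f24 H) rfl) (step (H.back (i := 3) (by decide) (f6 H)) (step (H.back (i := 1) (by decide) (f2 H)) (step (H.back (i := 0) (by decide) (f0 H)) (step (H.back (i := 2) (by decide) (f4 H)) (step (H.back (i := 0) (by decide) (f0 H)) (step (H.back (i := 1) (by decide) (f2 H)) (step (H.back (i := 8) (by decide) (f7 H)) rfl)))))))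

theorem f27 : g 7 • path g [3] p = path g [3, 0] p :=
  H.back (i := 2) (by decide) (f26 H)

theorem f28 : g 1 • path g [3] p = path g [3, 1] p :=
  rfl

theorem f29 : g 6 • path g [3, 1] p = path g [3] p :=
  H.back (i := 1) (by decide) (f28 H)

theorem f30 : g 2 • path g [3] p = path g [3, 2] p :=
  rfl

theorem f31 : g 7 • path g [3, 2] p = path g [3] p :=
  H.back (i := 2) (by decide) (f30 H)

theorem f32 : g 4 • path g [3] p = path g [3, 4] p :=
  rfl

theorem f33 : g 9 • path g [3, 4] p = path g [3] p :=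
  H.back (i := 4) (by decide) (f32 H)

theorem f34 : g 8 • path g [3, 4] p = path g [4] p :=
  scan (u := [4]) (w := [9, 3]) (i := 8) (r15_1_3 H) (step (f32 H) rfl) (step (H.back (i := 4) (by decide) (f8 H)) (step (H.back (i := 8) (by decide) (f7 H)) rfl))

theorem f35 : g 3 • path g [4] p = path g [3, 4] p :=
  H.back (i := 8) (by decide) (f34 H)

theorem f36 : g 5 • path g [3] p = path g [3, 5] p :=
  rfl

theorem f37 : g 0 • path g [3, 5] p = path g [3] p :=
  H.back (i := 5) (by decide) (f36 H)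

theorem f38 : g 6 • path g [3] p = path g [3, 6] p :=
  rfl

theorem f39 : g 1 • path g [3, 6] p = path g [3] p :=
  H.back (i := 6) (by decide) (f38 H)

theorem f40 : g 9 • path g [3] p = path g [3, 9] p :=
  rfl

theorem f42 : g 9 • path g [3, 9] p = path g [3, 4] p :=
  scan (u := [9]) (w := [9]) (i := 9) (r14_1_0 H) (step (f40 H) rfl) (step (H.back (i := 4) (by decide) (f32 H)) rfl)

theorem f44 : g 8 • path g [3, 9] p = path g [9] p :=
  scan (u := [9]) (w := [4, 3]) (i := 8) (r15_0_0 H) (step (f40 H) rfl) (step (H.back (i := 9) (by decide) (f18 H)) (step (H.back (i := 8) (by decide) (f7 H)) rfl))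

theorem f45 : g 3 • path g [9] p = path g [3, 9] p :=
  H.back (i := 8) (by decide) (f44 H)

theorem f46 : g 0 • path g [4] p = path g [4, 0] p :=
  rfl

theorem f47 : g 5 • path g [4, 0] p = path g [4] p :=
  H.back (i := 0) (by decide) (f46 H)

theorem f48 : g 1 • path g [4] p = path g [4, 1] p :=
  rfl

theorem f49 : g 6 • path g [4, 1] p = path g [4] p :=
  H.back (i := 1) (by decide) (f48 H)

theorem f50 : g 2 • path g [4] p = path g [4, 2] p :=
  rfl

theorem f51 : g 7 • path g [4, 2] p = path g [4] p :=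
  H.back (i := 2) (by decide) (f50 H)

theorem f52 : g 5 • path g [4] p = path g [4, 5] p :=
  rfl

theorem f53 : g 0 • path g [4, 5] p = path g [4] p :=
  H.back (i := 5) (by decide) (f52 H)

theorem f54 : g 6 • path g [4] p = path g [4, 6] p :=
  rfl

theorem f55 : g 1 • path g [4, 6] p = path g [4] p :=
  H.back (i := 6) (by decide) (f54 H)

theorem f56 : g 7 • path g [4] p = path g [4, 7] p :=
  rfl

theorem f58 : g 8 • path g [4] p = path g [4, 8] p :=
  rfl

theorem f60 : g 8 • path g [4, 8] p = path g [3, 4] p :=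
  scan (u := [8]) (w := [8]) (i := 8) (r10_1_0 H) (step (f58 H) rfl) (step (H.back (i := 3) (by decide) (f35 H)) rfl)

theorem f62 : g 9 • path g [4, 8] p = path g [8] p :=
  scan (u := [8]) (w := [3, 4]) (i := 9) (r15_1_0 H) (step (f58 H) rfl) (step (H.back (i := 8) (by decide) (f10 H)) (step (H.back (i := 9) (by decide) (f9 H)) rfl))

theorem f63 : g 4 • path g [8] p = path g [4, 8] p :=
  H.back (i := 9) (by decide) (f62 H)

theorem f64 : g 1 • path g [8] p = path g [8, 1] p :=
  rfl

theorem f65 : g 6 • path g [8, 1] p = path g [8] p :=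
  H.back (i := 1) (by decide) (f64 H)

theorem f66 : g 6 • path g [8] p = path g [8, 6] p :=
  rfl

theorem f67 : g 1 • path g [8, 6] p = path g [8] p :=
  H.back (i := 6) (by decide) (f66 H)

theorem f68 : g 7 • path g [8, 6] p = path g [8, 1] p :=
  scan (u := [6]) (w := [6, 2, 0, 2, 0, 0, 5, 5, 7, 5]) (i := 7) (r2_1_4 H) (step (f66 H) rfl) (step (H.back (i := 1) (by decide) (f64 H)) (step (H.back (i := 7) (by decide) (f17 H)) (step (H.back (i := 5) (by decide) (f15 H)) (step (H.back (i := 7) (by decide) (f17 H)) (step (H.back (i := 5) (by decide) (f15 H)) (step (H.back (i := 5) (by decide) (f15 H)) (step (H.back (i := 0) (by decide) (f14 H)) (step (H.back (i := 0) (by decide) (f14 H)) (step (H.back (i := 2) (by decide) (f16 H)) (step (H.back (i := 0) (by decide) (f14 H)) rfl))))))))))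

theorem f69 : g 2 • path g [8, 1] p = path g [8, 6] p :=
  H.back (i := 7) (by decide) (f68 H)

theorem f70 : g 2 • path g [8, 6] p = path g [8, 1] p :=
  scan (u := [6]) (w := [2, 1, 0, 2, 0, 0, 5, 5, 7, 5]) (i := 2) (r3_0_4 H) (step (f66 H) rfl) (step (H.back (i := 7) (by decide) (f68 H)) (step (H.back (i := 6) (by decide) (f66 H)) (step (H.back (i := 5) (by decide) (f15 H)) (step (H.back (i := 7) (by decide) (f17 H)) (step (H.back (i := 5) (by decide) (f15 H)) (step (H.back (i := 5) (by decide) (f15 H)) (step (H.back (i := 0) (by decide) (f14 H)) (step (H.back (i := 0) (by decide) (f14 H)) (step (H.back (i := 2) (by decide) (f16 H)) (step (H.back (i := 0) (by decide) (f14 H)) rfl))))))))))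

theorem f71 : g 7 • path g [8, 1] p = path g [8, 6] p :=
  H.back (i := 2) (by decide) (f70 H)

theorem f72 : g 1 • path g [8, 1] p = path g [8, 6] p :=
  scan (u := [7, 6, 5, 7, 5, 2, 0, 2, 0, 1]) (w := []) (i := 1) (r0_0_0 H) (step (f68 H) (step (f65 H) (step (f15 H) (step (f17 H) (step (f15 H) (step (f16 H) (step (f14 H) (step (f16 H) (step (f14 H) (step (f64 H) rfl)))))))))) rfl

theorem f73 : g 6 • path g [8, 6] p = path g [8, 1] p :=
  H.back (i := 1) (by decide) (f72 H)

theorem f74 : g 9 • path g [8] p = path g [8, 9] p :=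
  rfl

theorem f75 : g 4 • path g [8, 9] p = path g [8] p :=
  H.back (i := 9) (by decide) (f74 H)

theorem f76 : g 9 • path g [8, 9] p = path g [4, 8] p :=
  scan (u := [9]) (w := [9]) (i := 9) (r14_1_0 H) (step (f74 H) rfl) (step (H.back (i := 4) (by decide) (f63 H)) rfl)

theorem f80 : g 3 • path g [8, 9] p = path g [9] p :=
  scan (u := [9]) (w := [4, 8]) (i := 3) (r15_1_1 H) (step (f74 H) rfl) (step (H.back (i := 9) (by decide) (f18 H)) (step (H.back (i := 3) (by decide) (f11 H)) rfl))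

theorem f81 : g 8 • path g [9] p = path g [8, 9] p :=
  H.back (i := 3) (by decide) (f80 H)

theorem f82 : g 2 • path g [8, 9] p = path g [8, 9] p :=
  scan (u := [9]) (w := [4, 5, 5, 5, 7, 5]) (i := 2) (r11_0_5 H) (step (f74 H) rfl) (step (H.back (i := 9) (by decide) (f74 H)) (step (H.back (i := 0) (by decide) (f14 H)) (step (H.back (i := 0) (by decide) (f14 H)) (step (H.back (i := 0) (by decide) (f14 H)) (step (H.back (i := 2) (by decide) (f16 H)) (step (H.back (i := 0) (by decide) (f14 H)) rfl))))))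

theorem f83 : g 7 • path g [8, 9] p = path g [8, 9] p :=
  H.back (i := 2) (by decide) (f82 H)

theorem f84 : g 0 • path g [9] p = path g [9, 0] p :=
  rfl

theorem f85 : g 5 • path g [9, 0] p = path g [9] p :=
  H.back (i := 0) (by decide) (f84 H)

theorem f86 : g 1 • path g [9] p = path g [9, 1] p :=
  rfl

theorem f87 : g 6 • path g [9, 1] p = path g [9] p :=
  H.back (i := 1) (by decide) (f86 H)

theorem f88 : g 5 • path g [9] p = path g [9, 5] p :=
  rfl

theorem f89 : g 0 • path g [9, 5] p = path g [9] p :=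
  H.back (i := 5) (by decide) (f88 H)

theorem f90 : g 7 • path g [9, 5] p = path g [9, 0] p :=
  scan (u := [5]) (w := [5, 4, 2, 1, 0, 2, 0, 1, 0, 9]) (i := 7) (r12_1_1 H) (step (f88 H) rfl) (step (H.back (i := 0) (by decide) (f84 H)) (step (H.back (i := 9) (by decide) (f18 H)) (step (H.back (i := 7) (by decide) (f5 H)) (step (H.back (i := 6) (by decide) (f3 H)) (step (H.back (i := 5) (by decide) (f1 H)) (step (H.back (i := 7) (by decide) (f5 H)) (step (H.back (i := 5) (by decide) (f1 H)) (step (H.back (i := 6) (by decide) (f3 H)) (step (H.back (i := 5) (by decide) (f1 H)) (step (H.back (i := 4) (by decide) (f19 H)) rfl))))))))))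

theorem f91 : g 2 • path g [9, 0] p = path g [9, 5] p :=
  H.back (i := 7) (by decide) (f90 H)

theorem f92 : g 6 • path g [9] p = path g [9, 6] p :=
  rfl

theorem f93 : g 1 • path g [9, 6] p = path g [9] p :=
  H.back (i := 6) (by decide) (f92 H)

theorem f94 : g 7 • path g [9, 6] p = path g [9, 1] p :=
  scan (u := [6]) (w := [6, 2, 0, 2, 0, 0, 5, 5, 7, 5]) (i := 7) (r2_1_4 H) (step (f92 H) rfl) (step (H.back (i := 1) (by decide) (f86 H)) (step (H.back (i := 7) (by decide) (f23 H)) (step (H.back (i := 5) (by decide) (f85 H)) (step (H.back (i := 7) (by decide) (f90 H)) (step (H.back (i := 5) (by decide) (f88 H)) (step (H.back (i := 5) (by decide) (f85 H)) (step (H.back (i := 0) (by decide) (f84 H)) (step (H.back (i := 0) (by decide) (f89 H)) (step (H.back (i := 2) (by decide) (f91 H)) (step (H.back (i := 0) (by decide) (f84 H)) rfl))))))))))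

theorem f95 : g 2 • path g [9, 1] p = path g [9, 6] p :=
  H.back (i := 7) (by decide) (f94 H)

theorem f96 : g 2 • path g [9, 6] p = path g [9, 1] p :=
  scan (u := [6]) (w := [2, 1, 0, 2, 0, 0, 5, 5, 7, 5]) (i := 2) (r3_0_4 H) (step (f92 H) rfl) (step (H.back (i := 7) (by decide) (f94 H)) (step (H.back (i := 6) (by decide) (f92 H)) (step (H.back (i := 5) (by decide) (f85 H)) (step (H.back (i := 7) (by decide) (f90 H)) (step (H.back (i := 5) (by decide) (f88 H)) (step (H.back (i := 5) (by decide) (f85 H)) (step (H.back (i := 0) (by decide) (f84 H)) (step (H.back (i := 0) (by decide) (f89 H)) (step (H.back (i := 2) (by decide) (f91 H)) (step (H.back (i := 0) (by decide) (f84 H)) rfl))))))))))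

theorem f97 : g 7 • path g [9, 1] p = path g [9, 6] p :=
  H.back (i := 2) (by decide) (f96 H)

theorem f98 : g 1 • path g [9, 1] p = path g [9, 6] p :=
  scan (u := [7, 6, 5, 7, 5, 2, 0, 2, 0, 1]) (w := []) (i := 1) (r0_0_0 H) (step (f94 H) (step (f87 H) (step (f88 H) (step (f90 H) (step (f85 H) (step (f22 H) (step (f84 H) (step (f91 H) (step (f89 H) (step (f86 H) rfl)))))))))) rfl

theorem f99 : g 6 • path g [9, 6] p = path g [9, 1] p :=
  H.back (i := 1) (by decide) (f98 H)

theorem f100 : g 0 • path g [9, 6] p = path g [9, 6] p :=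
  scan (u := [1]) (w := [1, 4, 5, 6, 7, 5, 6, 9, 1]) (i := 0) (r13_0_7 H) (step (f98 H) rfl) (step (H.back (i := 6) (by decide) (f92 H)) (step (H.back (i := 9) (by decide) (f18 H)) (step (H.back (i := 0) (by decide) (f0 H)) (step (H.back (i := 1) (by decide) (f2 H)) (step (H.back (i := 2) (by decide) (f4 H)) (step (H.back (i := 0) (by decide) (f0 H)) (step (H.back (i := 1) (by decide) (f2 H)) (step (H.back (i := 4) (by decide) (f19 H)) (step (H.back (i := 6) (by decide) (f87 H)) rfl)))))))))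

theorem f101 : g 5 • path g [9, 6] p = path g [9, 6] p :=
  H.back (i := 0) (by decide) (f100 H)

theorem f102 : g 0 • path g [3, 0] p = path g [3, 0, 0] p :=
  rfl

theorem f103 : g 5 • path g [3, 0, 0] p = path g [3, 0] p :=
  H.back (i := 0) (by decide) (f102 H)

theorem f104 : g 1 • path g [3, 0] p = path g [3, 0, 1] p :=
  rfl

theorem f106 : g 2 • path g [3, 0, 1] p = path g [3, 6] p :=
  scan (u := [1]) (w := [1, 0, 2, 0, 0, 5, 5, 7, 5, 7]) (i := 2) (r2_0_5 H) (step (f104 H) rfl) (step (H.back (i := 6) (by decide) (f38 H)) (step (H.back (i := 5) (by decide) (f25 H)) (step (H.back (i := 7) (by decide) (f27 H)) (step (H.back (i := 5) (by decide) (f25 H)) (step (H.back (i := 5) (by decide) (f103 H)) (step (H.back (i := 0) (by decide) (f102 H)) (step (H.back (i := 0) (by decide) (f24 H)) (step (H.back (i := 2) (by decide) (f26 H)) (step (H.back (i := 0) (by decide) (f24 H)) (step (H.back (i := 2) (by decide) (f26 H)) rfl))))))))))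

theorem f107 : g 7 • path g [3, 6] p = path g [3, 0, 1] p :=
  H.back (i := 2) (by decide) (f106 H)

theorem f108 : g 2 • path g [3, 6] p = path g [3, 0, 1] p :=
  scan (u := [2, 1, 0, 2, 0, 0, 5, 5, 7, 5, 6]) (w := []) (i := 2) (r3_0_6 H) (step (f106 H) (step (f39 H) (step (f24 H) (step (f26 H) (step (f24 H) (step (f102 H) (step (f103 H) (step (f25 H) (step (f27 H) (step (f25 H) (step (f38 H) rfl))))))))))) rfl

theorem f110 : g 3 • path g [3, 0] p = path g [3, 0, 3] p :=
  rfl

theorem f114 : g 6 • path g [3, 0] p = path g [3, 0, 6] p :=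
  rfl

theorem f118 : g 8 • path g [3, 0] p = path g [3, 0, 8] p :=
  rfl

theorem f119 : g 3 • path g [3, 0, 8] p = path g [3, 0] p :=
  H.back (i := 8) (by decide) (f118 H)

theorem f120 : g 8 • path g [3, 0, 8] p = path g [3, 0, 3] p :=
  scan (u := [8]) (w := [8]) (i := 8) (r10_1_0 H) (step (f118 H) rfl) (step (H.back (i := 3) (by decide) (f110 H)) rfl)

theorem f121 : g 3 • path g [3, 0, 3] p = path g [3, 0, 8] p :=
  H.back (i := 8) (by decide) (f120 H)

theorem f126 : g 0 • path g [3, 1] p = path g [3, 1, 0] p :=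
  rfl

theorem f127 : g 5 • path g [3, 1, 0] p = path g [3, 1] p :=
  H.back (i := 0) (by decide) (f126 H)

theorem f128 : g 1 • path g [3, 1] p = path g [3, 1, 1] p :=
  rfl

theorem f129 : g 6 • path g [3, 1, 1] p = path g [3, 1] p :=
  H.back (i := 1) (by decide) (f128 H)

theorem f130 : g 2 • path g [3, 1] p = path g [3, 1, 2] p :=
  rfl

theorem f131 : g 7 • path g [3, 1, 2] p = path g [3, 1] p :=
  H.back (i := 2) (by decide) (f130 H)

theorem f132 : g 3 • path g [3, 1] p = path g [3, 1, 3] p :=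
  rfl

theorem f133 : g 8 • path g [3, 1, 3] p = path g [3, 1] p :=
  H.back (i := 3) (by decide) (f132 H)

theorem f134 : g 4 • path g [3, 1] p = path g [3, 1, 4] p :=
  rfl

theorem f135 : g 9 • path g [3, 1, 4] p = path g [3, 1] p :=
  H.back (i := 4) (by decide) (f134 H)

theorem f136 : g 5 • path g [3, 1] p = path g [3, 1, 5] p :=
  rfl

theorem f137 : g 0 • path g [3, 1, 5] p = path g [3, 1] p :=
  H.back (i := 5) (by decide) (f136 H)

theorem f138 : g 7 • path g [3, 1] p = path g [3, 1, 7] p :=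
  rfl

theorem f139 : g 2 • path g [3, 1, 7] p = path g [3, 1] p :=
  H.back (i := 7) (by decide) (f138 H)

theorem f140 : g 8 • path g [3, 1] p = path g [3, 1, 8] p :=
  rfl

theorem f142 : g 8 • path g [3, 1, 8] p = path g [3, 1, 3] p :=
  scan (u := [8]) (w := [8]) (i := 8) (r10_1_0 H) (step (f140 H) rfl) (step (H.back (i := 3) (by decide) (f132 H)) rfl)

theorem f143 : g 3 • path g [3, 1, 3] p = path g [3, 1, 8] p :=
  H.back (i := 8) (by decide) (f142 H)

theorem f144 : g 9 • path g [3, 1] p = path g [3, 1, 9] p :=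
  rfl

theorem f146 : g 9 • path g [3, 1, 9] p = path g [3, 1, 4] p :=
  scan (u := [9]) (w := [9]) (i := 9) (r14_1_0 H) (step (f144 H) rfl) (step (H.back (i := 4) (by decide) (f134 H)) rfl)

theorem f147 : g 4 • path g [3, 1, 4] p = path g [3, 1, 9] p :=
  H.back (i := 9) (by decide) (f146 H)

theorem f148 : g 0 • path g [3, 2] p = path g [3, 2, 0] p :=
  rfl

theorem f149 : g 5 • path g [3, 2, 0] p = path g [3, 2] p :=
  H.back (i := 0) (by decide) (f148 H)

theorem f150 : g 2 • path g [3, 2, 0] p = path g [3, 5] p :=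
  scan (u := [0]) (w := [0, 0, 0, 5, 5, 7, 5, 7, 5, 2]) (i := 2) (r1_1_7 H) (step (f148 H) rfl) (step (H.back (i := 5) (by decide) (f36 H)) (step (H.back (i := 5) (by decide) (f25 H)) (step (H.back (i := 5) (by decide) (f103 H)) (step (H.back (i := 0) (by decide) (f102 H)) (step (H.back (i := 0) (by decide) (f24 H)) (step (H.back (i := 2) (by decide) (f26 H)) (step (H.back (i := 0) (by decide) (f24 H)) (step (H.back (i := 2) (by decide) (f26 H)) (step (H.back (i := 0) (by decide) (f24 H)) (step (H.back (i := 7) (by decide) (f31 H)) rfl))))))))))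

theorem f151 : g 7 • path g [3, 5] p = path g [3, 2, 0] p :=
  H.back (i := 2) (by decide) (f150 H)

theorem f152 : g 1 • path g [3, 1, 2] p = path g [3, 2] p :=
  scan (u := [0, 2, 0, 0, 5, 5, 7, 5, 7, 1, 2]) (w := []) (i := 1) (r2_0_8 H) (step (f148 H) (step (f150 H) (step (f37 H) (step (f24 H) (step (f25 H) (step (f36 H) (step (f151 H) (step (f149 H) (step (f31 H) (step (f28 H) (step (f130 H) rfl))))))))))) rfl

theorem f153 : g 6 • path g [3, 2] p = path g [3, 1, 2] p :=
  H.back (i := 1) (by decide) (f152 H)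

theorem f154 : path g [3, 1, 2] p = path g [3, 1, 7] p :=
  close (u := [0, 2, 0, 0, 5, 5, 7, 5, 6]) (w := [2, 2, 1]) (r3_0_8 H) (step (f148 H) (step (f150 H) (step (f37 H) (step (f24 H) (step (f25 H) (step (f36 H) (step (f151 H) (step (f149 H) (step (f153 H) rfl))))))))) (step (H.back (i := 7) (by decide) (f138 H)) (step (H.back (i := 7) (by decide) (f131 H)) (step (H.back (i := 6) (by decide) (f153 H)) rfl)))

theorem f155 : path g [3, 1, 7] p = path g [3, 1, 2] p :=
  (f154 H).symm

theorem f156 : g 2 • path g [3, 1, 2] p = path g [3, 1] p :=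
  (congrArg (g 2 • ·) (f155 H).symm).trans (f139 H)

theorem f158 : g 7 • path g [3, 1] p = path g [3, 1, 2] p :=
  H.back (i := 2) (by decide) (f156 H)

theorem f159 : path g [3, 6] p = path g [3, 1, 1] p :=
  close (u := [5, 7, 0, 2, 0, 1, 2]) (w := [6, 6, 5, 7]) (r0_1_4 H) (step (f149 H) (step (f31 H) (step (f24 H) (step (f26 H) (step (f24 H) (step (f104 H) (step (f106 H) rfl))))))) (step (H.back (i := 1) (by decide) (f128 H)) (step (H.back (i := 1) (by decide) (f28 H)) (step (H.back (i := 0) (by decide) (f37 H)) (step (H.back (i := 2) (by decide) (f150 H)) rfl))))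

theorem f160 : path g [3, 1, 1] p = path g [3, 6] p :=
  (f159 H).symm

theorem f161 : g 6 • path g [3, 6] p = path g [3, 1] p :=
  (congrArg (g 6 • ·) (f160 H).symm).trans (f129 H)

theorem f163 : g 1 • path g [3, 1] p = path g [3, 6] p :=
  H.back (i := 6) (by decide) (f161 H)

theorem f166 : g 2 • path g [3, 2] p = path g [3, 2, 2] p :=
  rfl

theorem f167 : g 7 • path g [3, 2, 2] p = path g [3, 2] p :=
  H.back (i := 2) (by decide) (f166 H)

theorem f182 : g 0 • path g [3, 4] p = path g [3, 4, 0] p :=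
  rfl

theorem f184 : g 1 • path g [3, 4] p = path g [3, 4, 1] p :=
  rfl

theorem f185 : g 6 • path g [3, 4, 1] p = path g [3, 4] p :=
  H.back (i := 1) (by decide) (f184 H)

theorem f186 : g 2 • path g [3, 4] p = path g [3, 4, 2] p :=
  rfl

theorem f188 : g 5 • path g [3, 4] p = path g [3, 4, 5] p :=
  rfl

theorem f190 : g 6 • path g [3, 4] p = path g [3, 4, 6] p :=
  rfl

theorem f191 : g 1 • path g [3, 4, 6] p = path g [3, 4] p :=
  H.back (i := 6) (by decide) (f190 H)

theorem f192 : g 7 • path g [3, 4] p = path g [3, 4, 7] p :=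
  rfl

theorem f193 : g 2 • path g [3, 4, 7] p = path g [3, 4] p :=
  H.back (i := 7) (by decide) (f192 H)

theorem f214 : g 0 • path g [3, 6] p = path g [3, 6, 0] p :=
  rfl

theorem f215 : g 5 • path g [3, 6, 0] p = path g [3, 6] p :=
  H.back (i := 0) (by decide) (f214 H)

theorem f216 : g 3 • path g [3, 6] p = path g [3, 6, 3] p :=
  rfl

theorem f218 : g 4 • path g [3, 6] p = path g [3, 6, 4] p :=
  rfl

theorem f219 : g 9 • path g [3, 6, 4] p = path g [3, 6] p :=
  H.back (i := 4) (by decide) (f218 H)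

theorem f220 : g 5 • path g [3, 6] p = path g [3, 6, 5] p :=
  rfl

theorem f221 : g 0 • path g [3, 6, 5] p = path g [3, 6] p :=
  H.back (i := 5) (by decide) (f220 H)

theorem f222 : g 7 • path g [3, 6, 5] p = path g [3, 1, 0] p :=
  scan (u := [5]) (w := [5, 6, 8, 0, 3, 6]) (i := 7) (r8_0_1 H) (step (f220 H) rfl) (step (H.back (i := 0) (by decide) (f126 H)) (step (H.back (i := 1) (by decide) (f28 H)) (step (H.back (i := 3) (by decide) (f6 H)) (step (H.back (i := 5) (by decide) (f1 H)) (step (H.back (i := 8) (by decide) (f7 H)) (step (H.back (i := 1) (by decide) (f39 H)) rfl))))))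

theorem f224 : path g [3, 2, 2] p = path g [3] p :=
  close (u := [5, 7, 5, 7, 1, 2]) (w := [1, 0, 2, 0, 0, 5]) (r2_0_1 H) (step (f220 H) (step (f222 H) (step (f127 H) (step (f158 H) (step (f152 H) (step (f166 H) rfl)))))) (step (H.back (i := 6) (by decide) (f29 H)) (step (H.back (i := 5) (by decide) (f127 H)) (step (H.back (i := 7) (by decide) (f222 H)) (step (H.back (i := 5) (by decide) (f220 H)) (step (H.back (i := 5) (by decide) (f215 H)) (step (H.back (i := 0) (by decide) (f214 H)) rfl))))))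

theorem f225 : g 7 • path g [3] p = path g [3, 2] p :=
  (congrArg (g 7 • ·) (f224 H).symm).trans (f167 H)

theorem f226 : path g [3, 0] p = path g [3, 2] p :=
  (f27 H).symm.trans (f225 H)

theorem f227 : path g [3, 2] p = path g [3, 0] p :=
  (f226 H).symm

theorem f230 : g 0 • path g [3, 0] p = path g [3, 2, 0] p :=
  (congrArg (g 0 • ·) (f227 H).symm).trans (f148 H)

theorem f231 : path g [3, 0, 0] p = path g [3, 2, 0] p :=
  (f102 H).symm.trans (f230 H)

theorem f232 : g 6 • path g [3, 0] p = path g [3, 1, 2] p :=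
  (congrArg (g 6 • ·) (f227 H).symm).trans (f153 H)

theorem f233 : path g [3, 0, 6] p = path g [3, 1, 2] p :=
  (f114 H).symm.trans (f232 H)

theorem f283 : path g [3, 1, 2] p = path g [3, 0, 6] p :=
  (f233 H).symm

theorem f284 : g 7 • path g [3, 0, 6] p = path g [3, 1] p :=
  (congrArg (g 7 • ·) (f283 H).symm).trans (f131 H)

theorem f286 : g 2 • path g [3, 1] p = path g [3, 0, 6] p :=
  H.back (i := 7) (by decide) (f284 H)

theorem f290 : g 2 • path g [3, 0, 6] p = path g [3, 1] p :=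
  (congrArg (g 2 • ·) (f283 H).symm).trans (f156 H)

theorem f292 : g 7 • path g [3, 1] p = path g [3, 0, 6] p :=
  H.back (i := 2) (by decide) (f290 H)

theorem f293 : path g [3, 2, 0] p = path g [3, 0, 0] p :=
  (f231 H).symm

theorem f297 : g 2 • path g [3, 0, 0] p = path g [3, 5] p :=
  (congrArg (g 2 • ·) (f293 H).symm).trans (f150 H)

theorem f301 : g 2 • path g [3] p = path g [3, 0] p :=
  (f30 H).trans (f227 H)

theorem f304 : g 6 • path g [3, 0, 6] p = path g [3, 0, 1] p :=
  scan (u := [2, 0, 1, 2]) (w := [6, 5, 7, 5, 7, 0]) (i := 6) (r0_1_7 H) (step (f297 H) (step (f37 H) (step (f28 H) (step (f286 H) rfl)))) (step (H.back (i := 1) (by decide) (f104 H)) (step (H.back (i := 0) (by decide) (f24 H)) (step (H.back (i := 2) (by decide) (f26 H)) (step (H.back (i := 0) (by decide) (f24 H)) (step (H.back (i := 2) (by decide) (f26 H)) (step (H.back (i := 5) (by decide) (f103 H)) rfl))))))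

theorem f306 : g 8 • path g [3, 6] p = path g [3, 6, 8] p :=
  rfl

theorem f308 : g 8 • path g [3, 6, 8] p = path g [3, 6, 3] p :=
  scan (u := [8]) (w := [8]) (i := 8) (r10_1_0 H) (step (f306 H) rfl) (step (H.back (i := 3) (by decide) (f216 H)) rfl)

theorem f310 : g 9 • path g [3, 6] p = path g [3, 6, 9] p :=
  rfl

theorem f312 : g 9 • path g [3, 6, 9] p = path g [3, 6, 4] p :=
  scan (u := [9]) (w := [9]) (i := 9) (r14_1_0 H) (step (f310 H) rfl) (step (H.back (i := 4) (by decide) (f218 H)) rfl)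

theorem f313 : g 4 • path g [3, 6, 4] p = path g [3, 6, 9] p :=
  H.back (i := 9) (by decide) (f312 H)

theorem f314 : g 0 • path g [3, 9] p = path g [3, 9, 0] p :=
  rfl

theorem f315 : g 5 • path g [3, 9, 0] p = path g [3, 9] p :=
  H.back (i := 0) (by decide) (f314 H)

theorem f316 : g 1 • path g [3, 9] p = path g [3, 9, 1] p :=
  rfl

theorem f318 : g 2 • path g [3, 9] p = path g [3, 9, 2] p :=
  rfl

theorem f320 : g 5 • path g [3, 9] p = path g [3, 9, 5] p :=
  rfl

theorem f321 : g 0 • path g [3, 9, 5] p = path g [3, 9] p :=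
  H.back (i := 5) (by decide) (f320 H)

theorem f322 : g 6 • path g [3, 9] p = path g [3, 9, 6] p :=
  rfl

theorem f323 : g 1 • path g [3, 9, 6] p = path g [3, 9] p :=
  H.back (i := 6) (by decide) (f322 H)

theorem f324 : g 7 • path g [3, 9] p = path g [3, 9, 7] p :=
  rfl

theorem f325 : g 2 • path g [3, 9, 7] p = path g [3, 9] p :=
  H.back (i := 7) (by decide) (f324 H)

theorem f326 : g 0 • path g [4, 0] p = path g [4, 0, 0] p :=
  rfl

theorem f328 : g 1 • path g [4, 0] p = path g [4, 0, 1] p :=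
  rfl

theorem f329 : g 6 • path g [4, 0, 1] p = path g [4, 0] p :=
  H.back (i := 1) (by decide) (f328 H)

theorem f330 : g 2 • path g [4, 0] p = path g [4, 0, 2] p :=
  rfl

theorem f331 : g 7 • path g [4, 0, 2] p = path g [4, 0] p :=
  H.back (i := 2) (by decide) (f330 H)

theorem f334 : g 4 • path g [4, 0] p = path g [4, 0, 4] p :=
  rfl

theorem f335 : g 9 • path g [4, 0, 4] p = path g [4, 0] p :=
  H.back (i := 4) (by decide) (f334 H)

theorem f336 : g 6 • path g [4, 0] p = path g [4, 0, 6] p :=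
  rfl

theorem f337 : g 1 • path g [4, 0, 6] p = path g [4, 0] p :=
  H.back (i := 6) (by decide) (f336 H)

theorem f338 : g 7 • path g [4, 0] p = path g [4, 0, 7] p :=
  rfl

theorem f340 : g 8 • path g [4, 0] p = path g [4, 0, 8] p :=
  rfl

theorem f344 : g 9 • path g [4, 0] p = path g [4, 0, 9] p :=
  rfl

theorem f345 : g 4 • path g [4, 0, 9] p = path g [4, 0] p :=
  H.back (i := 9) (by decide) (f344 H)

theorem f346 : g 9 • path g [4, 0, 9] p = path g [4, 0, 4] p :=
  scan (u := [9]) (w := [9]) (i := 9) (r14_1_0 H) (step (f344 H) rfl) (step (H.back (i := 4) (by decide) (f334 H)) rfl)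

theorem f348 : g 0 • path g [4, 1] p = path g [4, 1, 0] p :=
  rfl

theorem f349 : g 5 • path g [4, 1, 0] p = path g [4, 1] p :=
  H.back (i := 0) (by decide) (f348 H)

theorem f350 : g 1 • path g [4, 1] p = path g [4, 1, 1] p :=
  rfl

theorem f351 : g 6 • path g [4, 1, 1] p = path g [4, 1] p :=
  H.back (i := 1) (by decide) (f350 H)

theorem f352 : g 2 • path g [4, 1] p = path g [4, 1, 2] p :=
  rfl

theorem f354 : g 3 • path g [4, 1] p = path g [4, 1, 3] p :=
  rfl

theorem f355 : g 8 • path g [4, 1, 3] p = path g [4, 1] p :=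
  H.back (i := 3) (by decide) (f354 H)

theorem f356 : g 4 • path g [4, 1] p = path g [4, 1, 4] p :=
  rfl

theorem f358 : g 5 • path g [4, 1] p = path g [4, 1, 5] p :=
  rfl

theorem f359 : g 0 • path g [4, 1, 5] p = path g [4, 1] p :=
  H.back (i := 5) (by decide) (f358 H)

theorem f360 : g 7 • path g [4, 1] p = path g [4, 1, 7] p :=
  rfl

theorem f362 : g 8 • path g [4, 1] p = path g [4, 1, 8] p :=
  rfl

theorem f363 : g 3 • path g [4, 1, 8] p = path g [4, 1] p :=
  H.back (i := 8) (by decide) (f362 H)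

theorem f364 : g 8 • path g [4, 1, 8] p = path g [4, 1, 3] p :=
  scan (u := [8]) (w := [8]) (i := 8) (r10_1_0 H) (step (f362 H) rfl) (step (H.back (i := 3) (by decide) (f354 H)) rfl)

theorem f372 : g 1 • path g [4, 2] p = path g [4, 2, 1] p :=
  rfl

theorem f374 : g 4 • path g [4, 2, 1] p = path g [9, 1] p :=
  scan (u := [1]) (w := [2, 1, 4, 5, 5, 5, 6, 7, 5, 6, 7, 2, 1, 4, 2]) (i := 4) (r19_0_12 H) (step (f372 H) rfl) (step (H.back (i := 7) (by decide) (f94 H)) (step (H.back (i := 6) (by decide) (f92 H)) (step (H.back (i := 9) (by decide) (f18 H)) (step (H.back (i := 0) (by decide) (f0 H)) (step (H.back (i := 0) (by decide) (f0 H)) (step (H.back (i := 0) (by decide) (f0 H)) (step (H.back (i := 1) (by decide) (f2 H)) (step (H.back (i := 2) (by decide) (f4 H)) (step (H.back (i := 0) (by decide) (f0 H)) (step (H.back (i := 1) (by decide) (f2 H)) (step (H.back (i := 2) (by decide) (f4 H)) (step (H.back (i := 7) (by decide) (f5 H)) (step (H.back (i := 6) (by decide) (f3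 H)) (step (H.back (i := 9) (by decide) (f9 H)) (step (H.back (i := 7) (by decide) (f51 H)) rfl)))))))))))))))

theorem f375 : g 9 • path g [9, 1] p = path g [4, 2, 1] p :=
  H.back (i := 4) (by decide) (f374 H)

theorem f376 : g 2 • path g [4, 2] p = path g [4, 2, 2] p :=
  rfl

theorem f377 : g 7 • path g [4, 2, 2] p = path g [4, 2] p :=
  H.back (i := 2) (by decide) (f376 H)

theorem f380 : g 4 • path g [4, 2] p = path g [4, 2, 4] p :=
  rfl

theorem f382 : g 5 • path g [4, 2, 4] p = path g [9, 0] p :=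
  scan (u := [4]) (w := [5, 5, 7, 5, 9, 2]) (i := 5) (r11_0_7 H) (step (f380 H) rfl) (step (H.back (i := 0) (by decide) (f84 H)) (step (H.back (i := 0) (by decide) (f89 H)) (step (H.back (i := 2) (by decide) (f91 H)) (step (H.back (i := 0) (by decide) (f84 H)) (step (H.back (i := 4) (by decide) (f21 H)) (step (H.back (i := 7) (by decide) (f51 H)) rfl))))))

theorem f383 : g 0 • path g [9, 0] p = path g [4, 2, 4] p :=
  H.back (i := 5) (by decide) (f382 H)

theorem f392 : g 9 • path g [4, 2] p = path g [4, 2, 9] p :=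
  rfl

theorem f393 : g 4 • path g [4, 2, 9] p = path g [4, 2] p :=
  H.back (i := 9) (by decide) (f392 H)

theorem f394 : g 9 • path g [4, 2, 9] p = path g [4, 2, 4] p :=
  scan (u := [9]) (w := [9]) (i := 9) (r14_1_0 H) (step (f392 H) rfl) (step (H.back (i := 4) (by decide) (f380 H)) rfl)

theorem f395 : g 4 • path g [4, 2, 4] p = path g [4, 2, 9] p :=
  H.back (i := 9) (by decide) (f394 H)

theorem f398 : g 2 • path g [4, 5] p = path g [4, 5, 2] p :=
  rfl

theorem f399 : g 7 • path g [4, 5, 2] p = path g [4, 5] p :=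
  H.back (i := 2) (by decide) (f398 H)

theorem f404 : g 5 • path g [4, 5] p = path g [4, 5, 5] p :=
  rfl

theorem f405 : g 0 • path g [4, 5, 5] p = path g [4, 5] p :=
  H.back (i := 5) (by decide) (f404 H)

theorem f406 : g 5 • path g [4, 5, 5] p = path g [4, 0, 2] p :=
  scan (u := [5]) (w := [7, 5, 9, 2, 4, 5]) (i := 5) (r11_0_1 H) (step (f404 H) rfl) (step (H.back (i := 2) (by decide) (f330 H)) (step (H.back (i := 0) (by decide) (f46 H)) (step (H.back (i := 4) (by decide) (f8 H)) (step (H.back (i := 7) (by decide) (f5 H)) (step (H.back (i := 9) (by decide) (f9 H)) (step (H.back (i := 0) (by decide) (f53 H)) rfl))))))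

theorem f407 : g 0 • path g [4, 0, 2] p = path g [4, 5, 5] p :=
  H.back (i := 5) (by decide) (f406 H)

theorem f408 : g 6 • path g [4, 5] p = path g [4, 5, 6] p :=
  rfl

theorem f409 : g 1 • path g [4, 5, 6] p = path g [4, 5] p :=
  H.back (i := 6) (by decide) (f408 H)

theorem f410 : g 7 • path g [4, 5, 6] p = path g [4, 1, 0] p :=
  scan (u := [6]) (w := [5, 6, 9, 1, 1, 0, 1, 4, 5]) (i := 7) (r13_0_1 H) (step (f408 H) rfl) (step (H.back (i := 0) (by decide) (f348 H)) (step (H.back (i := 1) (by decide) (f48 H)) (step (H.back (i := 4) (by decide) (f8 H)) (step (H.back (i := 6) (by decide) (f3 H)) (step (H.back (i := 6) (by decide) (f3 H)) (step (H.back (i := 5) (by decide) (f1 H)) (step (H.back (i := 6) (by decide) (f3 H)) (step (H.back (i := 9) (by decide) (f9 H)) (step (H.back (i := 0) (by decide) (f53 H)) rfl)))))))))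

theorem f411 : g 2 • path g [4, 1, 0] p = path g [4, 5, 6] p :=
  H.back (i := 7) (by decide) (f410 H)

theorem f422 : g 0 • path g [4, 6] p = path g [4, 6, 0] p :=
  rfl

theorem f423 : g 5 • path g [4, 6, 0] p = path g [4, 6] p :=
  H.back (i := 0) (by decide) (f422 H)

theorem f424 : g 2 • path g [4, 6] p = path g [4, 6, 2] p :=
  rfl

theorem f425 : g 7 • path g [4, 6, 2] p = path g [4, 6] p :=
  H.back (i := 2) (by decide) (f424 H)

theorem f426 : g 2 • path g [4, 6, 2] p = path g [4, 6] p :=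
  scan (u := [2]) (w := [1, 0, 2, 0, 0, 5, 5, 7, 5, 6]) (i := 2) (r3_0_5 H) (step (f424 H) rfl) (step (H.back (i := 6) (by decide) (f54 H)) (step (H.back (i := 5) (by decide) (f47 H)) (step (H.back (i := 7) (by decide) (f331 H)) (step (H.back (i := 5) (by decide) (f406 H)) (step (H.back (i := 5) (by decide) (f404 H)) (step (H.back (i := 0) (by decide) (f405 H)) (step (H.back (i := 0) (by decide) (f407 H)) (step (H.back (i := 2) (by decide) (f330 H)) (step (H.back (i := 0) (by decide) (f46 H)) (step (H.back (i := 1) (by decide) (f55 H)) rfl))))))))))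

theorem f427 : g 7 • path g [4, 6] p = path g [4, 6, 2] p :=
  H.back (i := 2) (by decide) (f426 H)

theorem f428 : g 1 • path g [4, 7] p = path g [4, 6, 2] p :=
  scan (u := [2, 1, 0, 2, 0, 0, 5, 5, 7, 5, 7]) (w := []) (i := 1) (r2_0_6 H) (step (f426 H) (step (f55 H) (step (f46 H) (step (f330 H) (step (f407 H) (step (f405 H) (step (f404 H) (step (f406 H) (step (f331 H) (step (f47 H) (step (f56 H) rfl))))))))))) rfl

theorem f430 : g 3 • path g [4, 6] p = path g [4, 6, 3] p :=
  rfl

theorem f431 : g 8 • path g [4, 6, 3] p = path g [4, 6] p :=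
  H.back (i := 3) (by decide) (f430 H)

theorem f432 : g 4 • path g [4, 6] p = path g [4, 6, 4] p :=
  rfl

theorem f434 : g 5 • path g [4, 6] p = path g [4, 6, 5] p :=
  rfl

theorem f435 : g 0 • path g [4, 6, 5] p = path g [4, 6] p :=
  H.back (i := 5) (by decide) (f434 H)

theorem f436 : g 6 • path g [4, 6] p = path g [4, 6, 6] p :=
  rfl

theorem f438 : g 8 • path g [4, 6] p = path g [4, 6, 8] p :=
  rfl

theorem f439 : g 3 • path g [4, 6, 8] p = path g [4, 6] p :=
  H.back (i := 8) (by decide) (f438 H)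

theorem f440 : g 8 • path g [4, 6, 8] p = path g [4, 6, 3] p :=
  scan (u := [8]) (w := [8]) (i := 8) (r10_1_0 H) (step (f438 H) rfl) (step (H.back (i := 3) (by decide) (f430 H)) rfl)

theorem f442 : g 9 • path g [4, 6] p = path g [4, 6, 9] p :=
  rfl

theorem f444 : g 9 • path g [4, 6, 9] p = path g [4, 6, 4] p :=
  scan (u := [9]) (w := [9]) (i := 9) (r14_1_0 H) (step (f442 H) rfl) (step (H.back (i := 4) (by decide) (f432 H)) rfl)

theorem f466 : g 0 • path g [4, 8] p = path g [4, 8, 0] p :=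
  rfl

theorem f467 : g 5 • path g [4, 8, 0] p = path g [4, 8] p :=
  H.back (i := 0) (by decide) (f466 H)

theorem f468 : g 1 • path g [4, 8] p = path g [4, 8, 1] p :=
  rfl

theorem f469 : g 6 • path g [4, 8, 1] p = path g [4, 8] p :=
  H.back (i := 1) (by decide) (f468 H)

theorem f470 : g 2 • path g [4, 8] p = path g [4, 8, 2] p :=
  rfl

theorem f471 : g 7 • path g [4, 8, 2] p = path g [4, 8] p :=
  H.back (i := 2) (by decide) (f470 H)

theorem f472 : g 5 • path g [4, 8] p = path g [4, 8, 5] p :=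
  rfl

theorem f474 : g 6 • path g [4, 8] p = path g [4, 8, 6] p :=
  rfl

theorem f475 : g 1 • path g [4, 8, 6] p = path g [4, 8] p :=
  H.back (i := 6) (by decide) (f474 H)

theorem f476 : g 7 • path g [4, 8] p = path g [4, 8, 7] p :=
  rfl

theorem f478 : g 0 • path g [8, 1] p = path g [8, 1, 0] p :=
  rfl

theorem f479 : g 5 • path g [8, 1, 0] p = path g [8, 1] p :=
  H.back (i := 0) (by decide) (f478 H)

theorem f480 : g 0 • path g [8, 1, 0] p = path g [8, 1] p :=
  scan (u := [0]) (w := [1, 1, 0, 2, 5, 5, 7, 5, 6, 6]) (i := 0) (r5_0_6 H) (step (f478 H) rfl) (step (H.back (i := 6) (by decide) (f73 H)) (step (H.back (i := 6) (by decide) (f66 H)) (step (H.back (i := 5) (by decide) (f15 H)) (step (H.back (i := 7) (by decide) (f17 H)) (step (H.back (i := 0) (by decide) (f14 H)) (step (H.back (i := 0) (by decide) (f14 H)) (step (H.back (i := 2) (by decide) (f16 H)) (step (H.back (i := 0) (by decide) (f14 H)) (step (H.back (i := 1) (by decide) (f67 H)) (step (H.back (i :=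 1) (by decide) (f72 H)) rfl))))))))))

theorem f481 : g 5 • path g [8, 1] p = path g [8, 1, 0] p :=
  H.back (i := 0) (by decide) (f480 H)

theorem f482 : g 3 • path g [8, 1] p = path g [8, 1, 3] p :=
  rfl

theorem f483 : g 8 • path g [8, 1, 3] p = path g [8, 1] p :=
  H.back (i := 3) (by decide) (f482 H)

theorem f484 : g 4 • path g [8, 1] p = path g [8, 1, 4] p :=
  rfl

theorem f485 : g 9 • path g [8, 1, 4] p = path g [8, 1] p :=
  H.back (i := 4) (by decide) (f484 H)

theorem f486 : g 8 • path g [8, 1] p = path g [8, 1, 8] p :=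
  rfl

theorem f488 : g 8 • path g [8, 1, 8] p = path g [8, 1, 3] p :=
  scan (u := [8]) (w := [8]) (i := 8) (r10_1_0 H) (step (f486 H) rfl) (step (H.back (i := 3) (by decide) (f482 H)) rfl)

theorem f490 : g 9 • path g [8, 1] p = path g [8, 1, 9] p :=
  rfl

theorem f491 : g 4 • path g [8, 1, 9] p = path g [8, 1] p :=
  H.back (i := 9) (by decide) (f490 H)

theorem f492 : g 9 • path g [8, 1, 9] p = path g [8, 1, 4] p :=
  scan (u := [9]) (w := [9]) (i := 9) (r14_1_0 H) (step (f490 H) rfl) (step (H.back (i := 4) (by decide) (f484 H)) rfl)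

theorem f493 : g 4 • path g [8, 1, 4] p = path g [8, 1, 9] p :=
  H.back (i := 9) (by decide) (f492 H)

theorem f494 : g 0 • path g [8, 6] p = path g [8, 6, 0] p :=
  rfl

theorem f495 : g 5 • path g [8, 6, 0] p = path g [8, 6] p :=
  H.back (i := 0) (by decide) (f494 H)

theorem f496 : g 3 • path g [8, 6] p = path g [8, 6, 3] p :=
  rfl

theorem f497 : g 8 • path g [8, 6, 3] p = path g [8, 6] p :=
  H.back (i := 3) (by decide) (f496 H)

theorem f498 : g 4 • path g [8, 6] p = path g [8, 6, 4] p :=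
  rfl

theorem f499 : g 9 • path g [8, 6, 4] p = path g [8, 6] p :=
  H.back (i := 4) (by decide) (f498 H)

theorem f500 : g 5 • path g [8, 6] p = path g [8, 6, 5] p :=
  rfl

theorem f501 : g 0 • path g [8, 6, 5] p = path g [8, 6] p :=
  H.back (i := 5) (by decide) (f500 H)

theorem f502 : g 7 • path g [8, 6, 5] p = path g [8, 1, 0] p :=
  scan (u := [5]) (w := [5, 6, 3, 0, 2, 8, 6]) (i := 7) (r9_1_2 H) (step (f500 H) rfl) (step (H.back (i := 0) (by decide) (f478 H)) (step (H.back (i := 1) (by decide) (f64 H)) (step (H.back (i := 8) (by decide) (f10 H)) (step (H.back (i := 5) (by decide) (f1 H)) (step (H.back (i := 7) (by decide) (f5 H)) (step (H.back (i := 3) (by decide) (f11 H)) (step (H.back (i := 1) (by decide) (f67 H)) rfl)))))))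

theorem f504 : g 2 • path g [8, 6, 0] p = path g [8, 1, 0] p :=
  scan (u := [5, 7, 5, 2, 0]) (w := [0, 1, 1, 7, 6]) (i := 2) (r0_0_2 H) (step (f500 H) (step (f502 H) (step (f479 H) (step (f69 H) (step (f494 H) rfl))))) (step (H.back (i := 5) (by decide) (f481 H)) (step (H.back (i := 6) (by decide) (f73 H)) (step (H.back (i := 6) (by decide) (f66 H)) (step (H.back (i := 2) (by decide) (f16 H)) (step (H.back (i := 1) (by decide) (f67 H)) rfl)))))

theorem f505 : g 7 • path g [8, 1, 0] p = path g [8, 6, 0] p :=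
  H.back (i := 2) (by decide) (f504 H)

theorem f506 : path g [3, 0, 3] p = path g [8] p :=
  close (u := [5, 7, 5, 6, 5, 8, 2, 3]) (w := [5, 5, 6]) (r7_0_3 H) (step (f500 H) (step (f502 H) (step (f479 H) (step (f65 H) (step (f15 H) (step (f12 H) (step (f301 H) (step (f110 H) rfl)))))))) (step (H.back (i := 0) (by decide) (f14 H)) (step (H.back (i := 0) (by decide) (f14 H)) (step (H.back (i := 1) (by decide) (f67 H)) rfl)))

theorem f509 : g 3 • path g [8] p = path g [3, 0, 8] p :=
  (congrArg (g 3 • ·) (f506 H).symm).trans (f121 H)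

theorem f510 : path g [] p = path g [3, 0, 8] p :=
  (f11 H).symm.trans (f509 H)

theorem f511 : path g [3, 0, 8] p = path g [] p :=
  (f510 H).symm

theorem f512 : g 3 • path g [] p = path g [3, 0] p :=
  (congrArg (g 3 • ·) (f511 H).symm).trans (f119 H)

theorem f513 : path g [3] p = path g [3, 0] p :=
  (f6 H).symm.trans (f512 H)

theorem f517 : path g [3, 0] p = path g [3] p :=
  (f513 H).symm

theorem f521 : g 2 • path g [3] p = path g [3] p :=
  (f301 H).trans (f517 H)

theorem f523 : g 0 • path g [3] p = path g [3, 0, 0] p :=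
  (congrArg (g 0 • ·) (f517 H).symm).trans (f102 H)

theorem f524 : g 0 • path g [3] p = path g [3] p :=
  (f24 H).trans (f517 H)

theorem f525 : path g [3] p = path g [3, 0, 0] p :=
  (f524 H).symm.trans (f523 H)

theorem f533 : g 6 • path g [3] p = path g [3, 0, 6] p :=
  (congrArg (g 6 • ·) (f517 H).symm).trans (f114 H)

theorem f534 : path g [3, 6] p = path g [3, 0, 6] p :=
  (f38 H).symm.trans (f533 H)

theorem f536 : g 7 • path g [3] p = path g [3] p :=
  (f27 H).trans (f517 H)

theorem f556 : path g [3, 0, 6] p = path g [3, 6] p :=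
  (f534 H).symm

theorem f564 : g 6 • path g [3, 6] p = path g [3, 0, 1] p :=
  (congrArg (g 6 • ·) (f556 H).symm).trans (f304 H)

theorem f565 : path g [3, 1] p = path g [3, 0, 1] p :=
  (f161 H).symm.trans (f564 H)

theorem f566 : path g [3, 0, 1] p = path g [3, 1] p :=
  (f565 H).symm

theorem f571 : g 2 • path g [3, 1] p = path g [3, 6] p :=
  (f286 H).trans (f556 H)

theorem f574 : g 7 • path g [3, 1] p = path g [3, 6] p :=
  (f292 H).trans (f556 H)

theorem f579 : path g [3, 0, 0] p = path g [3] p :=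
  (f525 H).symm

theorem f583 : g 2 • path g [3] p = path g [3, 5] p :=
  (congrArg (g 2 • ·) (f579 H).symm).trans (f297 H)

theorem f584 : path g [3] p = path g [3, 5] p :=
  (f521 H).symm.trans (f583 H)

theorem f585 : path g [3, 5] p = path g [3] p :=
  (f584 H).symm

theorem f600 : g 5 • path g [3] p = path g [3] p :=
  (f36 H).trans (f585 H)

theorem f650 : g 6 • path g [8, 6, 5] p = path g [8, 1, 0] p :=
  scan (u := [5]) (w := [7, 5, 1, 0, 1, 0, 2, 0, 0, 5]) (i := 6) (r4_0_1 H) (step (f500 H) rfl) (step (H.back (i := 2) (by decide) (f504 H)) (step (H.back (i := 0) (by decide) (f494 H)) (step (H.back (i := 6) (by decide) (f66 H)) (step (H.back (i := 5) (by decide) (f15 H)) (step (H.back (i := 6) (by decide) (f65 H)) (step (H.back (i := 5) (by decide) (f479 H)) (step (H.back (i := 7) (by decide) (f502 H)) (step (H.back (i := 5) (by decide) (f500 H)) (step (H.back (i := 5) (by decide) (f495 H)) (step (H.back (i := 0) (by decide) (f494 H)) rfl))))))))))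

theorem f652 : path g [8, 6, 5] p = path g [3, 1, 3] p :=
  close (u := [5]) (w := [8, 6, 5, 8, 6, 5, 2, 1, 0, 2, 0, 1, 8, 6]) (r18_1_2 H) (step (f500 H) rfl) (step (H.back (i := 3) (by decide) (f132 H)) (step (H.back (i := 1) (by decide) (f28 H)) (step (H.back (i := 0) (by decide) (f524 H)) (step (H.back (i := 3) (by decide) (f6 H)) (step (H.back (i := 1) (by decide) (f2 H)) (step (H.back (i := 0) (by decide) (f0 H)) (step (H.back (i := 7) (by decide) (f5 H)) (step (H.back (i := 6) (by decide) (f3 H)) (step (H.back (i := 5) (by decide) (f1 H)) (step (H.back (i := 7) (by decide) (f5 H)) (step (H.back (i := 5) (by decide) (f1 H)) (step (H.back (i := 6) (by decide) (f3 H)) (step (H.back (i := 3) (by decide) (f11 H)) (step (H.back (i := 1) (by decide) (f67 H)) rfl))))))))))))))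

theorem f653 : g 0 • path g [3, 1, 3] p = path g [8, 6] p :=
  (congrArg (g 0 • ·) (f652 H).symm).trans (f501 H)

theorem f655 : g 5 • path g [8, 6] p = path g [3, 1, 3] p :=
  H.back (i := 0) (by decide) (f653 H)

theorem f656 : g 7 • path g [3, 1, 3] p = path g [8, 1, 0] p :=
  (congrArg (g 7 • ·) (f652 H).symm).trans (f502 H)

theorem f659 : g 6 • path g [3, 1, 3] p = path g [8, 1, 0] p :=
  (congrArg (g 6 • ·) (f652 H).symm).trans (f650 H)

theorem f661 : g 1 • path g [8, 1, 0] p = path g [3, 1, 3] p :=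
  H.back (i := 6) (by decide) (f659 H)

theorem f662 : path g [3, 1, 3] p = path g [8, 6, 0] p :=
  close (u := [5]) (w := [2, 1, 0, 2, 0, 1, 8, 6, 5, 8, 6, 5, 8, 6]) (r18_1_8 H) (step (f655 H) rfl) (step (H.back (i := 7) (by decide) (f505 H)) (step (H.back (i := 6) (by decide) (f659 H)) (step (H.back (i := 5) (by decide) (f655 H)) (step (H.back (i := 7) (by decide) (f71 H)) (step (H.back (i := 5) (by decide) (f479 H)) (step (H.back (i := 6) (by decide) (f659 H)) (step (H.back (i := 3) (by decide) (f132 H)) (step (H.back (i := 1) (by decide) (f28 H)) (step (H.back (i := 0) (by decide) (f524 H)) (step (H.back (i := 3) (by decide) (f6 H)) (step (H.back (i := 1) (by decide) (f2 H)) (step (H.back (i := 0) (by decide) (f0 H)) (step (H.back (i := 3) (by decide) (f11 H)) (step (H.back (i := 1) (by decide) (f67 H)) rfl))))))))))))))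

theorem f663 : path g [8, 6, 0] p = path g [3, 1, 3] p :=
  (f662 H).symm

theorem f664 : g 5 • path g [3, 1, 3] p = path g [8, 6] p :=
  (congrArg (g 5 • ·) (f663 H).symm).trans (f495 H)

theorem f666 : g 0 • path g [8, 6] p = path g [3, 1, 3] p :=
  H.back (i := 5) (by decide) (f664 H)

theorem f667 : g 2 • path g [3, 1, 3] p = path g [8, 1, 0] p :=
  (congrArg (g 2 • ·) (f663 H).symm).trans (f504 H)

theorem f669 : g 7 • path g [8, 1, 0] p = path g [3, 1, 3] p :=
  H.back (i := 2) (by decide) (f667 H)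

theorem f670 : g 3 • path g [3, 1, 5] p = path g [8, 1, 0] p :=
  scan (u := [0, 2, 0, 1, 8, 5]) (w := [1]) (i := 3) (r8_1_4 H) (step (f653 H) (step (f70 H) (step (f478 H) (step (f661 H) (step (f133 H) (step (f136 H) rfl)))))) (step (H.back (i := 6) (by decide) (f659 H)) rfl)

theorem f671 : g 8 • path g [8, 1, 0] p = path g [3, 1, 5] p :=
  H.back (i := 3) (by decide) (f670 H)

theorem f672 : path g [8, 1, 8] p = path g [3, 6] p :=
  close (u := [0, 1, 0, 2, 0, 1, 0, 0, 8]) (w := [7, 3]) (r7_1_3 H) (step (f653 H) (step (f67 H) (step (f14 H) (step (f16 H) (step (f14 H) (step (f64 H) (step (f478 H) (step (f480 H) (step (f486 H) rfl))))))))) (step (H.back (i := 2) (by decide) (f571 H)) (step (H.back (i := 8) (by decide) (f133 H)) rfl))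

theorem f675 : g 8 • path g [3, 6] p = path g [8, 1, 3] p :=
  (congrArg (g 8 • ·) (f672 H).symm).trans (f488 H)

theorem f676 : path g [3, 6, 8] p = path g [8, 1, 3] p :=
  (f306 H).symm.trans (f675 H)

theorem f677 : path g [8, 1, 3] p = path g [3, 6, 8] p :=
  (f676 H).symm

theorem f678 : g 8 • path g [3, 6, 8] p = path g [8, 1] p :=
  (congrArg (g 8 • ·) (f677 H).symm).trans (f483 H)

theorem f679 : path g [3, 6, 3] p = path g [8, 1] p :=
  (f308 H).symm.trans (f678 H)

theorem f684 : g 8 • path g [8, 1] p = path g [3, 6] p :=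
  (f486 H).trans (f672 H)

theorem f687 : g 3 • path g [8, 1] p = path g [3, 6, 8] p :=
  (f482 H).trans (f677 H)

theorem f689 : g 3 • path g [3, 6] p = path g [8, 1] p :=
  (f216 H).trans (f679 H)

theorem f690 : g 8 • path g [8, 6] p = path g [3, 6, 0] p :=
  scan (u := [2, 0, 1]) (w := [5, 3, 1, 0]) (i := 8) (r8_1_5 H) (step (f667 H) (step (f480 H) (step (f72 H) rfl))) (step (H.back (i := 0) (by decide) (f214 H)) (step (H.back (i := 8) (by decide) (f684 H)) (step (H.back (i := 6) (by decide) (f73 H)) (step (H.back (i := 5) (by decide) (f664 H)) rfl))))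

theorem f691 : g 3 • path g [3, 6, 0] p = path g [8, 6] p :=
  H.back (i := 8) (by decide) (f690 H)

theorem f692 : g 7 • path g [3, 6, 0] p = path g [3, 1, 5] p :=
  scan (u := [2, 0, 1, 0, 0, 8]) (w := [3, 0, 1, 0]) (i := 7) (r7_1_6 H) (step (f667 H) (step (f480 H) (step (f72 H) (step (f666 H) (step (f653 H) (step (f690 H) rfl)))))) (step (H.back (i := 8) (by decide) (f671 H)) (step (H.back (i := 5) (by decide) (f481 H)) (step (H.back (i := 6) (by decide) (f73 H)) (step (H.back (i := 5) (by decide) (f664 H)) rfl))))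

theorem f694 : g 8 • path g [3, 6, 0] p = path g [8, 6, 3] p :=
  scan (u := [8]) (w := [8]) (i := 8) (r10_1_0 H) (step (f690 H) rfl) (step (H.back (i := 3) (by decide) (f496 H)) rfl)

theorem f695 : g 3 • path g [8, 6, 3] p = path g [3, 6, 0] p :=
  H.back (i := 8) (by decide) (f694 H)

theorem f696 : path g [3, 6, 0] p = path g [3, 6, 5] p :=
  close (u := [8]) (w := [0, 3, 6, 5, 7, 5, 6]) (r8_0_5 H) (step (f690 H) rfl) (step (H.back (i := 5) (by decide) (f220 H)) (step (H.back (i := 8) (by decide) (f684 H)) (step (H.back (i := 1) (by decide) (f64 H)) (step (H.back (i := 0) (by decide) (f14 H)) (step (H.back (i := 2) (by decide) (f16 H)) (step (H.back (i := 0) (by decide) (f14 H)) (step (H.back (i := 1) (by decide) (f67 H)) rfl)))))))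

theorem f697 : path g [3, 6, 5] p = path g [3, 6, 0] p :=
  (f696 H).symm

theorem f698 : g 0 • path g [3, 6, 0] p = path g [3, 6] p :=
  (congrArg (g 0 • ·) (f697 H).symm).trans (f221 H)

theorem f700 : g 5 • path g [3, 6] p = path g [3, 6, 0] p :=
  H.back (i := 0) (by decide) (f698 H)

theorem f701 : g 7 • path g [3, 6, 0] p = path g [3, 1, 0] p :=
  (congrArg (g 7 • ·) (f697 H).symm).trans (f222 H)

theorem f702 : path g [3, 1, 5] p = path g [3, 1, 0] p :=
  (f692 H).symm.trans (f701 H)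

theorem f703 : g 0 • path g [3, 1, 0] p = path g [3, 1] p :=
  (congrArg (g 0 • ·) (f702 H).symm).trans (f137 H)

theorem f705 : g 5 • path g [3, 1] p = path g [3, 1, 0] p :=
  H.back (i := 0) (by decide) (f703 H)

theorem f706 : g 3 • path g [3, 1, 0] p = path g [8, 1, 0] p :=
  (congrArg (g 3 • ·) (f702 H).symm).trans (f670 H)

theorem f712 : g 7 • path g [3, 6, 0] p = path g [3, 1, 0] p :=
  (f692 H).trans (f702 H)

theorem f713 : g 2 • path g [3, 6, 0] p = path g [3, 1, 0] p :=
  scan (u := [0, 1, 3, 7, 5, 8, 1, 0]) (w := []) (i := 2) (r9_0_6 H) (step (f703 H) (step (f163 H) (step (f689 H) (step (f71 H) (step (f655 H) (step (f133 H) (step (f163 H) (step (f214 H) rfl)))))))) rfl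

theorem f714 : g 7 • path g [3, 1, 0] p = path g [3, 6, 0] p :=
  H.back (i := 2) (by decide) (f713 H)

theorem f715 : g 2 • path g [3, 6] p = path g [3, 1] p :=
  (f108 H).trans (f566 H)

theorem f718 : g 7 • path g [3, 6] p = path g [3, 1] p :=
  (f107 H).trans (f566 H)

theorem f719 : g 1 • path g [3, 1, 0] p = path g [3, 6, 0] p :=
  scan (u := [0, 5, 5, 6, 7, 5, 1, 0]) (w := [0, 2, 0]) (i := 1) (r4_0_11 H) (step (f703 H) (step (f705 H) (step (f127 H) (step (f29 H) (step (f536 H) (step (f600 H) (step (f28 H) (step (f126 H) rfl)))))))) (step (H.back (i := 5) (by decide) (f700 H)) (step (H.back (i := 7) (by decide) (f574 H)) (step (H.back (i := 5) (by decide) (f127 H)) rfl)))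

theorem f720 : g 6 • path g [3, 6, 0] p = path g [3, 1, 0] p :=
  H.back (i := 1) (by decide) (f719 H)

theorem f721 : g 0 • path g [3, 1, 8] p = path g [3, 6, 8] p :=
  scan (u := [5, 7, 5, 6, 8]) (w := [3, 6]) (i := 0) (r8_0_1 H) (step (f705 H) (step (f714 H) (step (f215 H) (step (f161 H) (step (f140 H) rfl))))) (step (H.back (i := 8) (by decide) (f306 H)) (step (H.back (i := 1) (by decide) (f163 H)) rfl))

theorem f723 : g 2 • path g [3, 6, 9] p = path g [3, 1, 9] p :=
  scan (u := [5, 5, 5, 7, 5, 9]) (w := [4]) (i := 2) (r11_0_0 H) (step (f705 H) (step (f127 H) (step (f705 H) (step (f714 H) (step (f215 H) (step (f310 H) rfl)))))) (step (H.back (i := 9) (by decide) (f144 H)) rfl)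

theorem f724 : g 7 • path g [3, 1, 9] p = path g [3, 6, 9] p :=
  H.back (i := 2) (by decide) (f723 H)

theorem f725 : g 8 • path g [3, 6, 8] p = path g [8, 1] p :=
  (f308 H).trans (f679 H)

theorem f726 : g 7 • path g [8, 6, 3] p = path g [3, 1, 8] p :=
  scan (u := [1, 0, 2, 0, 1, 0, 0, 8]) (w := [3, 0]) (i := 7) (r7_1_4 H) (step (f719 H) (step (f698 H) (step (f715 H) (step (f126 H) (step (f719 H) (step (f698 H) (step (f214 H) (step (f694 H) rfl)))))))) (step (H.back (i := 8) (by decide) (f140 H)) (step (H.back (i := 5) (by decide) (f127 H)) rfl))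

theorem f728 : g 5 • path g [3, 1, 8] p = path g [3, 6, 8] p :=
  scan (u := [7]) (w := [8, 1, 0, 2, 0, 1, 3]) (i := 5) (r9_0_0 H) (step (f726 H) rfl) (step (H.back (i := 3) (by decide) (f687 H)) (step (H.back (i := 6) (by decide) (f73 H)) (step (H.back (i := 5) (by decide) (f664 H)) (step (H.back (i := 7) (by decide) (f669 H)) (step (H.back (i := 5) (by decide) (f481 H)) (step (H.back (i := 6) (by decide) (f73 H)) (step (H.back (i := 8) (by decide) (f497 H)) rfl)))))))

theorem f729 : g 0 • path g [3, 6, 8] p = path g [3, 1, 8] p :=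
  H.back (i := 5) (by decide) (f728 H)

theorem f730 : g 6 • path g [8, 6, 3] p = path g [3, 1, 8] p :=
  scan (u := [5, 8, 6, 5, 8, 6, 5, 2, 1, 0, 2, 0, 1, 8]) (w := []) (i := 6) (r18_1_2 H) (step (f728 H) (step (f725 H) (step (f65 H) (step (f15 H) (step (f12 H) (step (f38 H) (step (f700 H) (step (f713 H) (step (f719 H) (step (f698 H) (step (f715 H) (step (f126 H) (step (f719 H) (step (f694 H) rfl)))))))))))))) rfl

theorem f731 : g 1 • path g [3, 1, 8] p = path g [8, 6, 3] p :=
  H.back (i := 6) (by decide) (f730 H)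

theorem f732 : g 7 • path g [3, 6, 9] p = path g [3, 1, 9] p :=
  scan (u := [0, 0, 0, 9]) (w := [4, 0, 2]) (i := 7) (r11_1_5 H) (step (f698 H) (step (f214 H) (step (f698 H) (step (f310 H) rfl)))) (step (H.back (i := 9) (by decide) (f144 H)) (step (H.back (i := 5) (by decide) (f127 H)) (step (H.back (i := 7) (by decide) (f712 H)) rfl)))

theorem f734 : g 7 • path g [3, 9, 5] p = path g [3, 9, 0] p :=
  scan (u := [0, 1, 0, 9, 5]) (w := [5, 4, 2, 1, 0, 2]) (i := 7) (r12_1_9 H) (step (f698 H) (step (f39 H) (step (f524 H) (step (f40 H) (step (f320 H) rfl))))) (step (H.back (i := 0) (by decide) (f314 H)) (step (H.back (i := 9) (by decide) (f40 H)) (step (H.back (i := 7) (by decide) (f536 H)) (step (H.back (i := 6) (by decide) (f29 H)) (step (H.back (i := 5) (by decide) (f127 H)) (step (H.back (i := 7) (by decide) (f712 H)) rfl))))))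

theorem f735 : g 2 • path g [3, 9, 0] p = path g [3, 9, 5] p :=
  H.back (i := 7) (by decide) (f734 H)

theorem f736 : g 9 • path g [8, 6] p = path g [8, 6, 9] p :=
  rfl

theorem f737 : g 4 • path g [8, 6, 9] p = path g [8, 6] p :=
  H.back (i := 9) (by decide) (f736 H)

theorem f740 : g 2 • path g [8, 6, 9] p = path g [8, 1, 9] p :=
  scan (u := [9]) (w := [4, 5, 5, 5, 7, 5]) (i := 2) (r11_0_5 H) (step (f736 H) rfl) (step (H.back (i := 9) (by decide) (f490 H)) (step (H.back (i := 0) (by decide) (f480 H)) (step (H.back (i := 0) (by decide) (f478 H)) (step (H.back (i := 0) (by decide) (f480 H)) (step (H.back (i := 2) (by decide) (f667 H)) (step (H.back (i := 0) (by decide) (f666 H)) rfl))))))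

theorem f741 : g 7 • path g [8, 1, 9] p = path g [8, 6, 9] p :=
  H.back (i := 2) (by decide) (f740 H)

theorem f744 : g 0 • path g [8, 9] p = path g [8, 9, 0] p :=
  rfl

theorem f745 : g 5 • path g [8, 9, 0] p = path g [8, 9] p :=
  H.back (i := 0) (by decide) (f744 H)

theorem f746 : g 1 • path g [8, 9] p = path g [8, 9, 1] p :=
  rfl

theorem f747 : g 6 • path g [8, 9, 1] p = path g [8, 9] p :=
  H.back (i := 1) (by decide) (f746 H)

theorem f748 : g 5 • path g [8, 9] p = path g [8, 9, 5] p :=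
  rfl

theorem f749 : g 0 • path g [8, 9, 5] p = path g [8, 9] p :=
  H.back (i := 5) (by decide) (f748 H)

theorem f750 : g 7 • path g [8, 9, 5] p = path g [8, 9, 0] p :=
  scan (u := [5]) (w := [5, 4, 2, 1, 0, 2, 0, 1, 0, 9]) (i := 7) (r12_1_1 H) (step (f748 H) rfl) (step (H.back (i := 0) (by decide) (f744 H)) (step (H.back (i := 9) (by decide) (f74 H)) (step (H.back (i := 7) (by decide) (f17 H)) (step (H.back (i := 6) (by decide) (f65 H)) (step (H.back (i := 5) (by decide) (f479 H)) (step (H.back (i := 7) (by decide) (f656 H)) (step (H.back (i := 5) (by decide) (f655 H)) (step (H.back (i := 6) (by decide) (f66 H)) (step (H.back (i := 5) (by decide) (f15 H)) (step (H.back (i := 4) (by decide) (f75 H)) rfl))))))))))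

theorem f751 : g 2 • path g [8, 9, 0] p = path g [8, 9, 5] p :=
  H.back (i := 7) (by decide) (f750 H)

theorem f752 : g 6 • path g [8, 9] p = path g [8, 9, 6] p :=
  rfl

theorem f753 : g 1 • path g [8, 9, 6] p = path g [8, 9] p :=
  H.back (i := 6) (by decide) (f752 H)

theorem f754 : g 7 • path g [8, 9, 6] p = path g [8, 9, 1] p :=
  scan (u := [6]) (w := [6, 2, 0, 2, 0, 0, 5, 5, 7, 5]) (i := 7) (r2_1_4 H) (step (f752 H) rfl) (step (H.back (i := 1) (by decide) (f746 H)) (step (H.back (i := 7) (by decide) (f83 H)) (step (H.back (i := 5) (by decide) (f745 H)) (step (H.back (i := 7) (by decide) (f750 H)) (step (H.back (i := 5) (by decide) (f748 H)) (step (H.back (i := 5) (by decide) (f745 H)) (step (H.back (i := 0) (by decide) (f744 H)) (step (H.back (i := 0) (by decide) (f749 H)) (step (H.back (i := 2) (by decide) (f751 H)) (step (H.back (i := 0) (by decide) (f744 H)) rfl))))))))))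

theorem f755 : g 2 • path g [8, 9, 1] p = path g [8, 9, 6] p :=
  H.back (i := 7) (by decide) (f754 H)

theorem f756 : g 2 • path g [8, 9, 6] p = path g [8, 9, 1] p :=
  scan (u := [6]) (w := [2, 1, 0, 2, 0, 0, 5, 5, 7, 5]) (i := 2) (r3_0_4 H) (step (f752 H) rfl) (step (H.back (i := 7) (by decide) (f754 H)) (step (H.back (i := 6) (by decide) (f752 H)) (step (H.back (i := 5) (by decide) (f745 H)) (step (H.back (i := 7) (by decide) (f750 H)) (step (H.back (i := 5) (by decide) (f748 H)) (step (H.back (i := 5) (by decide) (f745 H)) (step (H.back (i := 0) (by decide) (f744 H)) (step (H.back (i := 0) (by decide) (f749 H)) (step (H.back (i := 2) (by decide) (f751 H)) (step (H.back (i := 0) (by decide) (f744 H)) rfl))))))))))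

theorem f757 : g 7 • path g [8, 9, 1] p = path g [8, 9, 6] p :=
  H.back (i := 2) (by decide) (f756 H)

theorem f758 : g 1 • path g [8, 9, 1] p = path g [8, 9, 6] p :=
  scan (u := [7, 6, 5, 7, 5, 2, 0, 2, 0, 1]) (w := []) (i := 1) (r0_0_0 H) (step (f754 H) (step (f747 H) (step (f748 H) (step (f750 H) (step (f745 H) (step (f82 H) (step (f744 H) (step (f751 H) (step (f749 H) (step (f746 H) rfl)))))))))) rfl

theorem f759 : g 6 • path g [8, 9, 6] p = path g [8, 9, 1] p :=
  H.back (i := 1) (by decide) (f758 H)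

theorem f760 : g 1 • path g [9, 0] p = path g [9, 0, 1] p :=
  rfl

theorem f761 : g 6 • path g [9, 0, 1] p = path g [9, 0] p :=
  H.back (i := 1) (by decide) (f760 H)

theorem f762 : g 0 • path g [9, 0, 1] p = path g [9, 1] p :=
  scan (u := [1]) (w := [2, 0, 0, 5, 5, 6, 7, 5, 1, 0]) (i := 0) (r4_0_7 H) (step (f760 H) rfl) (step (H.back (i := 7) (by decide) (f94 H)) (step (H.back (i := 5) (by decide) (f101 H)) (step (H.back (i := 5) (by decide) (f101 H)) (step (H.back (i := 0) (by decide) (f100 H)) (step (H.back (i := 0) (by decide) (f100 H)) (step (H.back (i := 1) (by decide) (f98 H)) (step (H.back (i := 2) (by decide) (f96 H)) (step (H.back (i := 0) (by decide) (f100 H)) (step (H.back (i := 6) (by decide) (f92 H)) (step (H.back (i := 5) (by decide) (f85 H)) rfl))))))))))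

theorem f763 : g 5 • path g [9, 1] p = path g [9, 0, 1] p :=
  H.back (i := 0) (by decide) (f762 H)

theorem f764 : g 8 • path g [9, 0] p = path g [8, 9, 5] p :=
  scan (u := [6]) (w := [0, 3, 6, 5, 7, 5]) (i := 8) (r8_0_4 H) (step (f761 H) rfl) (step (H.back (i := 5) (by decide) (f748 H)) (step (H.back (i := 8) (by decide) (f81 H)) (step (H.back (i := 1) (by decide) (f93 H)) (step (H.back (i := 0) (by decide) (f100 H)) (step (H.back (i := 2) (by decide) (f95 H)) (step (H.back (i := 0) (by decide) (f762 H)) rfl))))))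

theorem f766 : path g [9, 5] p = path g [9, 0] p :=
  close (u := [6, 5, 8, 2, 3, 5]) (w := [5, 6, 5, 7, 5]) (r7_0_6 H) (step (f761 H) (step (f85 H) (step (f81 H) (step (f82 H) (step (f80 H) (step (f88 H) rfl)))))) (step (H.back (i := 0) (by decide) (f84 H)) (step (H.back (i := 1) (by decide) (f93 H)) (step (H.back (i := 0) (by decide) (f100 H)) (step (H.back (i := 2) (by decide) (f95 H)) (step (H.back (i := 0) (by decide) (f762 H)) rfl)))))

theorem f767 : g 0 • path g [9, 0] p = path g [9] p :=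
  (congrArg (g 0 • ·) (f766 H).symm).trans (f89 H)

theorem f768 : path g [4, 2, 4] p = path g [9] p :=
  (f383 H).symm.trans (f767 H)

theorem f769 : g 7 • path g [9, 0] p = path g [9, 0] p :=
  (congrArg (g 7 • ·) (f766 H).symm).trans (f90 H)

theorem f771 : g 2 • path g [9, 0] p = path g [9, 0] p :=
  H.back (i := 7) (by decide) (f769 H)

theorem f775 : g 5 • path g [9] p = path g [9, 0] p :=
  (f88 H).trans (f766 H)

theorem f777 : g 4 • path g [9] p = path g [4, 2, 9] p :=
  (congrArg (g 4 • ·) (f768 H).symm).trans (f395 H)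

theorem f778 : path g [] p = path g [4, 2, 9] p :=
  (f19 H).symm.trans (f777 H)

theorem f779 : path g [4, 2, 9] p = path g [] p :=
  (f778 H).symm

theorem f780 : g 4 • path g [] p = path g [4, 2] p :=
  (congrArg (g 4 • ·) (f779 H).symm).trans (f393 H)

theorem f781 : path g [4] p = path g [4, 2] p :=
  (f8 H).symm.trans (f780 H)

theorem f785 : path g [4, 2] p = path g [4] p :=
  (f781 H).symm

theorem f790 : g 1 • path g [4] p = path g [4, 2, 1] p :=
  (congrArg (g 1 • ·) (f785 H).symm).trans (f372 H)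

theorem f791 : path g [4, 1] p = path g [4, 2, 1] p :=
  (f48 H).symm.trans (f790 H)

theorem f792 : g 2 • path g [4] p = path g [4, 2, 2] p :=
  (congrArg (g 2 • ·) (f785 H).symm).trans (f376 H)

theorem f793 : g 2 • path g [4] p = path g [4] p :=
  (f50 H).trans (f785 H)

theorem f794 : path g [4] p = path g [4, 2, 2] p :=
  (f793 H).symm.trans (f792 H)

theorem f830 : path g [4, 2, 2] p = path g [4] p :=
  (f794 H).symm

theorem f831 : g 7 • path g [4, 2, 2] p = path g [4] p :=
  (f377 H).trans (f785 H)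

theorem f832 : g 7 • path g [4] p = path g [4] p :=
  (congrArg (g 7 • ·) (f830 H).symm).trans (f831 H)

theorem f833 : path g [4, 7] p = path g [4] p :=
  (f56 H).symm.trans (f832 H)

theorem f836 : g 1 • path g [4] p = path g [4, 6, 2] p :=
  (congrArg (g 1 • ·) (f833 H).symm).trans (f428 H)

theorem f837 : path g [4, 1] p = path g [4, 6, 2] p :=
  (f48 H).symm.trans (f836 H)

theorem f849 : g 7 • path g [4] p = path g [4] p :=
  (f56 H).trans (f833 H)

theorem f897 : path g [4, 6, 2] p = path g [4, 1] p :=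
  (f837 H).symm

theorem f898 : g 7 • path g [4, 1] p = path g [4, 6] p :=
  (congrArg (g 7 • ·) (f897 H).symm).trans (f425 H)

theorem f899 : path g [4, 1, 7] p = path g [4, 6] p :=
  (f360 H).symm.trans (f898 H)

theorem f900 : g 2 • path g [4, 1] p = path g [4, 6] p :=
  (congrArg (g 2 • ·) (f897 H).symm).trans (f426 H)

theorem f901 : path g [4, 1, 2] p = path g [4, 6] p :=
  (f352 H).symm.trans (f900 H)

theorem f906 : g 7 • path g [4, 6] p = path g [4, 1] p :=
  (f427 H).trans (f897 H)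

theorem f909 : g 2 • path g [4, 6] p = path g [4, 1] p :=
  (f424 H).trans (f897 H)

theorem f911 : path g [4, 2, 1] p = path g [4, 1] p :=
  (f791 H).symm

theorem f915 : g 4 • path g [4, 1] p = path g [9, 1] p :=
  (congrArg (g 4 • ·) (f911 H).symm).trans (f374 H)

theorem f916 : path g [4, 1, 4] p = path g [9, 1] p :=
  (f356 H).symm.trans (f915 H)

theorem f918 : g 9 • path g [9, 1] p = path g [4, 1] p :=
  (f375 H).trans (f911 H)

theorem f927 : g 0 • path g [9, 0] p = path g [9] p :=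
  (f383 H).trans (f768 H)

theorem f928 : g 4 • path g [4, 1] p = path g [9, 1] p :=
  (f356 H).trans (f916 H)

theorem f929 : g 5 • path g [9, 0, 1] p = path g [9, 1] p :=
  scan (u := [6, 7, 5, 6, 7, 2, 1, 4, 2, 1, 4, 2, 1, 4, 5]) (w := [5]) (i := 5) (r19_0_3 H) (step (f761 H) (step (f769 H) (step (f85 H) (step (f92 H) (step (f94 H) (step (f95 H) (step (f93 H) (step (f19 H) (step (f4 H) (step (f2 H) (step (f8 H) (step (f793 H) (step (f48 H) (step (f928 H) (step (f763 H) rfl))))))))))))))) (step (H.back (i := 0) (by decide) (f762 H)) rfl)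

theorem f930 : g 0 • path g [9, 1] p = path g [9, 0, 1] p :=
  H.back (i := 5) (by decide) (f929 H)

theorem f931 : g 7 • path g [4, 1] p = path g [4, 6] p :=
  (f360 H).trans (f899 H)

theorem f932 : g 2 • path g [4, 1] p = path g [4, 6] p :=
  (f352 H).trans (f901 H)

theorem f933 : g 3 • path g [9, 0] p = path g [9, 0, 3] p :=
  rfl

theorem f934 : g 8 • path g [9, 0, 3] p = path g [9, 0] p :=
  H.back (i := 3) (by decide) (f933 H)

theorem f935 : g 3 • path g [9, 0, 3] p = path g [8, 9, 5] p :=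
  scan (u := [3]) (w := [3]) (i := 3) (r10_0_0 H) (step (f933 H) rfl) (step (H.back (i := 8) (by decide) (f764 H)) rfl)

theorem f936 : g 8 • path g [8, 9, 5] p = path g [9, 0, 3] p :=
  H.back (i := 3) (by decide) (f935 H)

theorem f937 : g 0 • path g [9, 0, 3] p = path g [3, 9, 7] p :=
  scan (u := [3]) (w := [2, 8, 6, 5, 7, 5, 6]) (i := 0) (r9_1_6 H) (step (f933 H) rfl) (step (H.back (i := 7) (by decide) (f324 H)) (step (H.back (i := 3) (by decide) (f45 H)) (step (H.back (i := 1) (by decide) (f93 H)) (step (H.back (i := 0) (by decide) (f100 H)) (step (H.back (i := 2) (by decide) (f95 H)) (step (H.back (i := 0) (by decide) (f762 H)) (step (H.back (i := 1) (by decide) (f760 H)) rfl)))))))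

theorem f941 : g 6 • path g [9, 0] p = path g [9, 0, 6] p :=
  rfl

theorem f942 : g 1 • path g [9, 0, 6] p = path g [9, 0] p :=
  H.back (i := 6) (by decide) (f941 H)

theorem f943 : g 7 • path g [9, 0, 6] p = path g [9, 0, 1] p :=
  scan (u := [6]) (w := [6, 2, 0, 2, 0, 0, 5, 5, 7, 5]) (i := 7) (r2_1_4 H) (step (f941 H) rfl) (step (H.back (i := 1) (by decide) (f760 H)) (step (H.back (i := 7) (by decide) (f769 H)) (step (H.back (i := 5) (by decide) (f775 H)) (step (H.back (i := 7) (by decide) (f23 H)) (step (H.back (i := 5) (by decide) (f85 H)) (step (H.back (i := 5) (by decide) (f775 H)) (step (H.back (i := 0) (by decide) (f927 H)) (step (H.back (i := 0) (by decide) (f84 H)) (step (H.back (i := 2) (by decide) (f22 H)) (step (H.back (i := 0) (by decide) (f927 H)) rfl))))))))))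

theorem f945 : g 2 • path g [9, 0, 6] p = path g [9, 0, 1] p :=
  scan (u := [6]) (w := [0, 2, 0, 0, 5, 5, 7, 5, 6, 7]) (i := 2) (r2_1_6 H) (step (f941 H) rfl) (step (H.back (i := 5) (by decide) (f763 H)) (step (H.back (i := 7) (by decide) (f94 H)) (step (H.back (i := 5) (by decide) (f101 H)) (step (H.back (i := 5) (by decide) (f101 H)) (step (H.back (i := 0) (by decide) (f100 H)) (step (H.back (i := 0) (by decide) (f100 H)) (step (H.back (i := 2) (by decide) (f95 H)) (step (H.back (i := 0) (by decide) (f762 H)) (step (H.back (i := 1) (by decide) (f760 H)) (step (H.back (i := 2) (by decide) (f771 H)) rfl))))))))))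

theorem f947 : path g [4, 6, 5] p = path g [4, 1, 1] p :=
  close (u := [1, 0, 9, 6, 5]) (w := [6, 6, 4, 1, 0, 2]) (r13_1_9 H) (step (f942 H) (step (f927 H) (step (f20 H) (step (f54 H) (step (f434 H) rfl))))) (step (H.back (i := 1) (by decide) (f350 H)) (step (H.back (i := 1) (by decide) (f48 H)) (step (H.back (i := 9) (by decide) (f20 H)) (step (H.back (i := 6) (by decide) (f87 H)) (step (H.back (i := 5) (by decide) (f929 H)) (step (H.back (i := 7) (by decide) (f943 H)) rfl))))))

theorem f948 : g 0 • path g [4, 1, 1] p = path g [4, 6] p :=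
  (congrArg (g 0 • ·) (f947 H).symm).trans (f435 H)

theorem f950 : g 5 • path g [4, 6] p = path g [4, 1, 1] p :=
  H.back (i := 0) (by decide) (f948 H)

theorem f951 : path g [4, 0, 2] p = path g [4, 5] p :=
  close (u := [0, 1, 0, 2, 0, 0, 5, 5]) (w := [6, 7, 5, 1]) (r4_0_6 H) (step (f948 H) (step (f55 H) (step (f46 H) (step (f330 H) (step (f407 H) (step (f405 H) (step (f404 H) (step (f406 H) rfl)))))))) (step (H.back (i := 1) (by decide) (f409 H)) (step (H.back (i := 2) (by decide) (f411 H)) (step (H.back (i := 0) (by decide) (f348 H)) (step (H.back (i := 6) (by decide) (f351 H)) rfl))))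

theorem f954 : g 0 • path g [4, 5] p = path g [4, 5, 5] p :=
  (congrArg (g 0 • ·) (f951 H).symm).trans (f407 H)

theorem f955 : path g [4] p = path g [4, 5, 5] p :=
  (f53 H).symm.trans (f954 H)

theorem f956 : path g [4, 5, 5] p = path g [4] p :=
  (f955 H).symm

theorem f957 : g 0 • path g [4] p = path g [4, 5] p :=
  (congrArg (g 0 • ·) (f956 H).symm).trans (f405 H)

theorem f958 : path g [4, 0] p = path g [4, 5] p :=
  (f46 H).symm.trans (f957 H)

theorem f962 : path g [4, 5] p = path g [4, 0] p :=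
  (f958 H).symm

theorem f963 : g 0 • path g [4, 0] p = path g [4] p :=
  (congrArg (g 0 • ·) (f962 H).symm).trans (f53 H)

theorem f964 : path g [4, 0, 0] p = path g [4] p :=
  (f326 H).symm.trans (f963 H)

theorem f967 : g 2 • path g [4, 0] p = path g [4, 5, 2] p :=
  (congrArg (g 2 • ·) (f962 H).symm).trans (f398 H)

theorem f968 : path g [4, 0, 2] p = path g [4, 0] p :=
  (f951 H).trans (f962 H)

theorem f969 : g 2 • path g [4, 0] p = path g [4, 0] p :=
  (f330 H).trans (f968 H)

theorem f970 : path g [4, 0] p = path g [4, 5, 2] p :=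
  (f969 H).symm.trans (f967 H)

theorem f978 : g 6 • path g [4, 0] p = path g [4, 5, 6] p :=
  (congrArg (g 6 • ·) (f962 H).symm).trans (f408 H)

theorem f979 : path g [4, 0, 6] p = path g [4, 5, 6] p :=
  (f336 H).symm.trans (f978 H)

theorem f1016 : path g [4, 5, 6] p = path g [4, 0, 6] p :=
  (f979 H).symm

theorem f1020 : g 7 • path g [4, 0, 6] p = path g [4, 1, 0] p :=
  (congrArg (g 7 • ·) (f1016 H).symm).trans (f410 H)

theorem f1022 : g 2 • path g [4, 1, 0] p = path g [4, 0, 6] p :=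
  H.back (i := 7) (by decide) (f1020 H)

theorem f1023 : path g [4, 5, 2] p = path g [4, 0] p :=
  (f970 H).symm

theorem f1024 : g 7 • path g [4, 5, 2] p = path g [4, 0] p :=
  (f399 H).trans (f962 H)

theorem f1025 : g 7 • path g [4, 0] p = path g [4, 0] p :=
  (congrArg (g 7 • ·) (f1023 H).symm).trans (f1024 H)

theorem f1026 : path g [4, 0, 7] p = path g [4, 0] p :=
  (f338 H).symm.trans (f1025 H)

theorem f1034 : g 5 • path g [4] p = path g [4, 0] p :=
  (f52 H).trans (f962 H)

theorem f1037 : path g [4, 1, 5] p = path g [4, 1, 0] p :=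
  close (u := [0, 2, 5]) (w := [5, 7, 5, 6, 6, 0, 0, 1, 1]) (r5_0_10 H) (step (f948 H) (step (f909 H) (step (f358 H) rfl))) (step (H.back (i := 0) (by decide) (f348 H)) (step (H.back (i := 2) (by decide) (f909 H)) (step (H.back (i := 0) (by decide) (f948 H)) (step (H.back (i := 1) (by decide) (f350 H)) (step (H.back (i := 1) (by decide) (f48 H)) (step (H.back (i := 5) (by decide) (f47 H)) (step (H.back (i := 5) (by decide) (f1034 H)) (step (H.back (i := 6) (by decide) (f49 H)) (step (H.back (i := 6) (by decide) (f351 H)) rfl)))))))))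

theorem f1038 : g 0 • path g [4, 1, 0] p = path g [4, 1] p :=
  (congrArg (g 0 • ·) (f1037 H).symm).trans (f359 H)

theorem f1040 : g 5 • path g [4, 1] p = path g [4, 1, 0] p :=
  H.back (i := 0) (by decide) (f1038 H)

theorem f1041 : g 0 • path g [4, 0] p = path g [4] p :=
  (f326 H).trans (f964 H)

theorem f1042 : g 7 • path g [4, 1, 1] p = path g [4, 6, 6] p :=
  scan (u := [5]) (w := [1, 2, 1, 0, 2, 0, 0, 5, 5, 7]) (i := 7) (r2_0_3 H) (step (f950 H) rfl) (step (H.back (i := 6) (by decide) (f436 H)) (step (H.back (i := 7) (by decide) (f931 H)) (step (H.back (i := 6) (by decide) (f351 H)) (step (H.back (i := 5) (by decide) (f950 H)) (step (H.back (i := 7) (by decide) (f931 H)) (step (H.back (i := 5) (by decide) (f349 H)) (step (H.back (i := 5) (by decide) (f1040 H)) (step (H.back (i := 0) (by decide) (f1038 H)) (step (H.back (i := 0) (by decide) (f348 H)) (step (H.back (i := 2) (by decide) (f909 H)) rfl))))))))))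

theorem f1044 : path g [4, 1, 0] p = path g [4, 0, 1] p :=
  close (u := [5, 6, 5]) (w := [6, 0, 2, 1, 0, 0, 5, 5, 7]) (r4_1_3 H) (step (f950 H) (step (f351 H) (step (f1040 H) rfl))) (step (H.back (i := 1) (by decide) (f328 H)) (step (H.back (i := 5) (by decide) (f1034 H)) (step (H.back (i := 7) (by decide) (f849 H)) (step (H.back (i := 6) (by decide) (f49 H)) (step (H.back (i := 5) (by decide) (f349 H)) (step (H.back (i := 5) (by decide) (f1040 H)) (step (H.back (i := 0) (by decide) (f1038 H)) (step (H.back (i := 0) (by decide) (f348 H)) (step (H.back (i := 2) (by decide) (f909 H)) rfl)))))))))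

theorem f1045 : g 5 • path g [4, 0, 1] p = path g [4, 1] p :=
  (congrArg (g 5 • ·) (f1044 H).symm).trans (f349 H)

theorem f1047 : g 0 • path g [4, 1] p = path g [4, 0, 1] p :=
  H.back (i := 5) (by decide) (f1045 H)

theorem f1048 : g 2 • path g [4, 0, 1] p = path g [4, 0, 6] p :=
  (congrArg (g 2 • ·) (f1044 H).symm).trans (f1022 H)

theorem f1050 : g 7 • path g [4, 0, 6] p = path g [4, 0, 1] p :=
  H.back (i := 2) (by decide) (f1048 H)

theorem f1051 : g 0 • path g [4, 0, 1] p = path g [4, 1] p :=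
  (congrArg (g 0 • ·) (f1044 H).symm).trans (f1038 H)

theorem f1053 : g 5 • path g [4, 1] p = path g [4, 0, 1] p :=
  H.back (i := 0) (by decide) (f1051 H)

theorem f1054 : g 7 • path g [4, 0] p = path g [4, 0] p :=
  (f338 H).trans (f1026 H)

theorem f1055 : g 6 • path g [4, 0, 6] p = path g [4, 0, 1] p :=
  scan (u := [2]) (w := [6, 5, 7, 5, 7, 0, 2, 0, 1]) (i := 6) (r0_1_10 H) (step (f1048 H) rfl) (step (H.back (i := 1) (by decide) (f328 H)) (step (H.back (i := 0) (by decide) (f46 H)) (step (H.back (i := 2) (by decide) (f793 H)) (step (H.back (i := 0) (by decide) (f1041 H)) (step (H.back (i := 2) (by decide) (f969 H)) (step (H.back (i := 5) (by decide) (f1034 H)) (step (H.back (i := 7) (by decide) (f849 H)) (step (H.back (i := 5) (by decide) (f47 H)) (step (H.back (i := 6) (by decide) (f329 H)) rfl)))))))))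

theorem f1057 : g 2 • path g [4, 0, 6] p = path g [4, 0, 1] p :=
  scan (u := [2, 1, 0, 2, 0, 0, 5, 5, 7, 5, 6]) (w := []) (i := 2) (r3_0_6 H) (step (f1048 H) (step (f337 H) (step (f1041 H) (step (f793 H) (step (f46 H) (step (f1041 H) (step (f1034 H) (step (f47 H) (step (f849 H) (step (f1034 H) (step (f336 H) rfl))))))))))) rfl

theorem f1059 : g 0 • path g [4, 0, 6] p = path g [4, 0, 6] p :=
  scan (u := [2]) (w := [1, 0, 9, 5, 7, 5, 4, 2, 1, 0]) (i := 0) (r12_1_8 H) (step (f1048 H) rfl) (step (H.back (i := 6) (by decide) (f336 H)) (step (H.back (i := 5) (by decide) (f1034 H)) (step (H.back (i := 4) (by decide) (f8 H)) (step (H.back (i := 0) (by decide) (f0 H)) (step (H.back (i := 2) (by decide) (f4 H)) (step (H.back (i := 0) (by decide) (f0 H)) (step (H.back (i := 9) (by decide) (f9 H)) (step (H.back (i := 7) (by decide) (f849 H)) (step (H.back (i := 6) (by decide) (f49 H)) (step (H.back (i := 5) (by decide) (f1045 H)) rfl))))))))))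

theorem f1061 : path g [4, 8, 0] p = path g [4, 0, 8] p :=
  close (u := [7, 5, 6, 8, 0]) (w := [3, 6, 5]) (r8_0_2 H) (step (f1050 H) (step (f1045 H) (step (f49 H) (step (f58 H) (step (f466 H) rfl))))) (step (H.back (i := 8) (by decide) (f340 H)) (step (H.back (i := 1) (by decide) (f337 H)) (step (H.back (i := 0) (by decide) (f1059 H)) rfl)))

theorem f1062 : g 5 • path g [4, 0, 8] p = path g [4, 8] p :=
  (congrArg (g 5 • ·) (f1061 H).symm).trans (f467 H)

theorem f1064 : g 0 • path g [4, 8] p = path g [4, 0, 8] p :=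
  H.back (i := 5) (by decide) (f1062 H)

theorem f1067 : path g [4, 6, 0] p = path g [4, 6] p :=
  close (u := [7, 5, 2, 0]) (w := [2, 0, 1, 1, 7, 6, 5]) (r0_0_3 H) (step (f1050 H) (step (f1045 H) (step (f932 H) (step (f422 H) rfl)))) (step (H.back (i := 7) (by decide) (f931 H)) (step (H.back (i := 5) (by decide) (f1045 H)) (step (H.back (i := 6) (by decide) (f1055 H)) (step (H.back (i := 6) (by decide) (f336 H)) (step (H.back (i := 2) (by decide) (f969 H)) (step (H.back (i := 1) (by decide) (f337 H)) (step (H.back (i := 0) (by decide) (f1059 H)) rfl)))))))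

theorem f1068 : g 5 • path g [4, 6] p = path g [4, 6] p :=
  (congrArg (g 5 • ·) (f1067 H).symm).trans (f423 H)

theorem f1069 : path g [4, 1, 1] p = path g [4, 6] p :=
  (f950 H).symm.trans (f1068 H)

theorem f1073 : g 0 • path g [4, 6] p = path g [4, 6] p :=
  (f422 H).trans (f1067 H)

theorem f1075 : g 7 • path g [4, 6] p = path g [4, 6, 6] p :=
  (congrArg (g 7 • ·) (f1069 H).symm).trans (f1042 H)

theorem f1076 : path g [4, 1] p = path g [4, 6, 6] p :=
  (f906 H).symm.trans (f1075 H)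

theorem f1077 : path g [4, 6, 6] p = path g [4, 1] p :=
  (f1076 H).symm

theorem f1079 : g 1 • path g [4, 1] p = path g [4, 6] p :=
  (f350 H).trans (f1069 H)

theorem f1084 : g 6 • path g [4, 6] p = path g [4, 1] p :=
  (f436 H).trans (f1077 H)

theorem f1087 : g 5 • path g [4, 6] p = path g [4, 6] p :=
  (f950 H).trans (f1069 H)

theorem f1088 : g 9 • path g [9, 0, 1] p = path g [4, 0, 6] p :=
  scan (u := [7, 5, 4, 2, 1, 0, 2, 0, 1, 0]) (w := [5]) (i := 9) (r12_1_2 H) (step (f1050 H) (step (f1045 H) (step (f928 H) (step (f95 H) (step (f93 H) (step (f84 H) (step (f771 H) (step (f927 H) (step (f86 H) (step (f930 H) rfl)))))))))) (step (H.back (i := 0) (by decide) (f1059 H)) rfl)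

theorem f1090 : g 4 • path g [4, 0, 1] p = path g [9, 6] p :=
  scan (u := [9, 2]) (w := [5, 5, 5, 7, 5]) (i := 4) (r11_0_5 H) (step (f1088 H) (step (f1057 H) rfl)) (step (H.back (i := 0) (by decide) (f100 H)) (step (H.back (i := 0) (by decide) (f100 H)) (step (H.back (i := 0) (by decide) (f100 H)) (step (H.back (i := 2) (by decide) (f95 H)) (step (H.back (i := 0) (by decide) (f762 H)) rfl)))))

theorem f1091 : g 9 • path g [9, 6] p = path g [4, 0, 1] p :=
  H.back (i := 4) (by decide) (f1090 H)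

theorem f1092 : path g [4, 6, 4] p = path g [9, 0, 6] p :=
  close (u := [9, 6, 5, 6, 6, 4]) (w := [1, 0, 2, 1, 0]) (r13_1_0 H) (step (f1088 H) (step (f1055 H) (step (f1045 H) (step (f49 H) (step (f54 H) (step (f432 H) rfl)))))) (step (H.back (i := 6) (by decide) (f941 H)) (step (H.back (i := 5) (by decide) (f775 H)) (step (H.back (i := 7) (by decide) (f23 H)) (step (H.back (i := 6) (by decide) (f87 H)) (step (H.back (i := 5) (by decide) (f929 H)) rfl)))))

theorem f1093 : path g [9, 0, 6] p = path g [4, 6, 4] p :=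
  (f1092 H).symm

theorem f1094 : g 1 • path g [4, 6, 4] p = path g [9, 0] p :=
  (congrArg (g 1 • ·) (f1093 H).symm).trans (f942 H)

theorem f1096 : g 6 • path g [9, 0] p = path g [4, 6, 4] p :=
  H.back (i := 1) (by decide) (f1094 H)

theorem f1097 : g 7 • path g [4, 6, 4] p = path g [9, 0, 1] p :=
  (congrArg (g 7 • ·) (f1093 H).symm).trans (f943 H)

theorem f1100 : g 2 • path g [4, 6, 4] p = path g [9, 0, 1] p :=
  (congrArg (g 2 • ·) (f1093 H).symm).trans (f945 H)

theorem f1103 : g 0 • path g [4, 6, 4] p = path g [4, 6, 4] p :=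
  scan (u := [2, 0, 0, 0, 9, 7, 4]) (w := []) (i := 0) (r11_1_4 H) (step (f1100 H) (step (f762 H) (step (f930 H) (step (f762 H) (step (f918 H) (step (f931 H) (step (f432 H) rfl))))))) rfl

theorem f1104 : g 5 • path g [4, 6, 4] p = path g [4, 6, 4] p :=
  H.back (i := 0) (by decide) (f1103 H)

theorem f1105 : g 1 • path g [9, 0, 1] p = path g [4, 6, 4] p :=
  scan (u := [2, 6, 6, 5, 7, 5, 7, 0, 2, 0]) (w := []) (i := 1) (r0_1_10 H) (step (f1100 H) (step (f761 H) (step (f1096 H) (step (f1104 H) (step (f1097 H) (step (f929 H) (step (f97 H) (step (f100 H) (step (f96 H) (step (f930 H) rfl)))))))))) rfl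

theorem f1106 : g 6 • path g [4, 6, 4] p = path g [9, 0, 1] p :=
  H.back (i := 1) (by decide) (f1105 H)

theorem f1107 : path g [8, 9, 5] p = path g [8, 9, 0] p :=
  close (u := [0, 1, 8]) (w := [5, 3, 1, 0, 2]) (r8_1_6 H) (step (f1103 H) (step (f1094 H) (step (f764 H) rfl))) (step (H.back (i := 0) (by decide) (f744 H)) (step (H.back (i := 8) (by decide) (f81 H)) (step (H.back (i := 6) (by decide) (f87 H)) (step (H.back (i := 5) (by decide) (f929 H)) (step (H.back (i := 7) (by decide) (f1097 H)) rfl)))))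

theorem f1108 : g 0 • path g [8, 9, 0] p = path g [8, 9] p :=
  (congrArg (g 0 • ·) (f1107 H).symm).trans (f749 H)

theorem f1110 : g 5 • path g [8, 9] p = path g [8, 9, 0] p :=
  H.back (i := 0) (by decide) (f1108 H)

theorem f1111 : g 7 • path g [8, 9, 0] p = path g [8, 9, 0] p :=
  (congrArg (g 7 • ·) (f1107 H).symm).trans (f750 H)

theorem f1117 : g 8 • path g [8, 9, 0] p = path g [9, 0, 3] p :=
  (congrArg (g 8 • ·) (f1107 H).symm).trans (f936 H)

theorem f1119 : g 3 • path g [9, 0, 3] p = path g [8, 9, 0] p :=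
  H.back (i := 8) (by decide) (f1117 H)

theorem f1120 : path g [9, 0, 3] p = path g [3, 9, 5] p :=
  close (u := [0, 1, 3]) (w := [7, 5, 8, 1, 0, 2]) (r9_0_6 H) (step (f1103 H) (step (f1094 H) (step (f933 H) rfl))) (step (H.back (i := 2) (by decide) (f735 H)) (step (H.back (i := 0) (by decide) (f314 H)) (step (H.back (i := 3) (by decide) (f45 H)) (step (H.back (i := 6) (by decide) (f87 H)) (step (H.back (i := 5) (by decide) (f929 H)) (step (H.back (i := 7) (by decide) (f1097 H)) rfl))))))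

theorem f1121 : g 8 • path g [3, 9, 5] p = path g [9, 0] p :=
  (congrArg (g 8 • ·) (f1120 H).symm).trans (f934 H)

theorem f1124 : g 3 • path g [3, 9, 5] p = path g [8, 9, 0] p :=
  (congrArg (g 3 • ·) (f1120 H).symm).trans (f1119 H)

theorem f1126 : g 8 • path g [8, 9, 0] p = path g [3, 9, 5] p :=
  H.back (i := 3) (by decide) (f1124 H)

theorem f1127 : g 0 • path g [3, 9, 5] p = path g [3, 9, 7] p :=
  (congrArg (g 0 • ·) (f1120 H).symm).trans (f937 H)

theorem f1128 : path g [3, 9] p = path g [3, 9, 7] p :=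
  (f321 H).symm.trans (f1127 H)

theorem f1129 : path g [3, 9, 7] p = path g [3, 9] p :=
  (f1128 H).symm

theorem f1130 : g 2 • path g [3, 9] p = path g [3, 9] p :=
  (congrArg (g 2 • ·) (f1129 H).symm).trans (f325 H)

theorem f1131 : path g [3, 9, 2] p = path g [3, 9] p :=
  (f318 H).symm.trans (f1130 H)

theorem f1136 : g 7 • path g [3, 9] p = path g [3, 9] p :=
  (f324 H).trans (f1129 H)

theorem f1138 : g 2 • path g [3, 9] p = path g [3, 9] p :=
  (f318 H).trans (f1131 H)

theorem f1139 : path g [4, 8, 2] p = path g [4, 8] p :=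
  close (u := [7, 5, 9, 2]) (w := [4, 5, 5, 5]) (r11_0_3 H) (step (f1111 H) (step (f745 H) (step (f76 H) (step (f470 H) rfl)))) (step (H.back (i := 9) (by decide) (f76 H)) (step (H.back (i := 0) (by decide) (f1108 H)) (step (H.back (i := 0) (by decide) (f744 H)) (step (H.back (i := 0) (by decide) (f1108 H)) rfl))))

theorem f1140 : g 7 • path g [4, 8] p = path g [4, 8] p :=
  (congrArg (g 7 • ·) (f1139 H).symm).trans (f471 H)

theorem f1141 : path g [4, 8, 7] p = path g [4, 8] p :=
  (f476 H).symm.trans (f1140 H)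

theorem f1143 : g 2 • path g [4, 8] p = path g [4, 8] p :=
  (f470 H).trans (f1139 H)

theorem f1145 : g 7 • path g [4, 8] p = path g [4, 8] p :=
  (f476 H).trans (f1141 H)

theorem f1146 : g 7 • path g [4, 6, 8] p = path g [4, 1, 8] p :=
  scan (u := [0, 2, 0, 1, 0, 0, 8]) (w := [3, 0, 1]) (i := 7) (r7_1_5 H) (step (f1059 H) (step (f1057 H) (step (f1051 H) (step (f1079 H) (step (f1073 H) (step (f1073 H) (step (f438 H) rfl))))))) (step (H.back (i := 8) (by decide) (f362 H)) (step (H.back (i := 5) (by decide) (f1045 H)) (step (H.back (i := 6) (by decide) (f1055 H)) rfl)))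

theorem f1147 : g 2 • path g [4, 1, 8] p = path g [4, 6, 8] p :=
  H.back (i := 7) (by decide) (f1146 H)

theorem f1148 : g 2 • path g [4, 6, 8] p = path g [4, 1, 8] p :=
  scan (u := [5, 6, 5, 7, 5, 6, 5, 8]) (w := [3, 5]) (i := 2) (r7_0_1 H) (step (f1045 H) (step (f49 H) (step (f1034 H) (step (f1054 H) (step (f47 H) (step (f54 H) (step (f1087 H) (step (f438 H) rfl)))))))) (step (H.back (i := 8) (by decide) (f362 H)) (step (H.back (i := 0) (by decide) (f1051 H)) rfl))

theorem f1149 : g 7 • path g [4, 1, 8] p = path g [4, 6, 8] p :=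
  H.back (i := 2) (by decide) (f1148 H)

theorem f1156 : g 3 • path g [9, 1] p = path g [9, 1, 3] p :=
  rfl

theorem f1157 : g 8 • path g [9, 1, 3] p = path g [9, 1] p :=
  H.back (i := 3) (by decide) (f1156 H)

theorem f1160 : g 8 • path g [9, 1] p = path g [9, 1, 8] p :=
  rfl

theorem f1162 : g 8 • path g [9, 1, 8] p = path g [9, 1, 3] p :=
  scan (u := [8]) (w := [8]) (i := 8) (r10_1_0 H) (step (f1160 H) rfl) (step (H.back (i := 3) (by decide) (f1156 H)) rfl)

theorem f1164 : g 9 • path g [9, 1, 8] p = path g [4, 1, 8] p :=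
  scan (u := [8]) (w := [3, 4]) (i := 9) (r15_1_0 H) (step (f1160 H) rfl) (step (H.back (i := 8) (by decide) (f362 H)) (step (H.back (i := 9) (by decide) (f918 H)) rfl))

theorem f1166 : g 3 • path g [9, 6] p = path g [9, 6, 3] p :=
  rfl

theorem f1168 : g 4 • path g [9, 6] p = path g [9, 6, 4] p :=
  rfl

theorem f1169 : g 9 • path g [9, 6, 4] p = path g [9, 6] p :=
  H.back (i := 4) (by decide) (f1168 H)

theorem f1170 : g 4 • path g [9, 6, 4] p = path g [4, 0, 1] p :=
  scan (u := [4]) (w := [4]) (i := 4) (r14_0_0 H) (step (f1168 H) rfl) (step (H.back (i := 9) (by decide) (f1091 H)) rfl)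

theorem f1171 : g 9 • path g [4, 0, 1] p = path g [9, 6, 4] p :=
  H.back (i := 4) (by decide) (f1170 H)

theorem f1174 : g 7 • path g [4, 6, 9] p = path g [9, 6, 4] p :=
  scan (u := [4, 0, 2, 0, 0, 0, 9]) (w := []) (i := 7) (r11_1_2 H) (step (f1170 H) (step (f1051 H) (step (f932 H) (step (f1073 H) (step (f1073 H) (step (f1073 H) (step (f442 H) rfl))))))) rfl

theorem f1175 : g 2 • path g [9, 6, 4] p = path g [4, 6, 9] p :=
  H.back (i := 7) (by decide) (f1174 H)

theorem f1176 : g 6 • path g [4, 0, 9] p = path g [4, 6, 9] p :=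
  scan (u := [7, 9, 6, 7, 9, 6, 7, 2, 1, 0, 2, 1, 0, 0, 0, 9]) (w := []) (i := 6) (r19_1_2 H) (step (f1174 H) (step (f1169 H) (step (f99 H) (step (f97 H) (step (f1091 H) (step (f329 H) (step (f1054 H) (step (f969 H) (step (f328 H) (step (f1051 H) (step (f932 H) (step (f55 H) (step (f46 H) (step (f1041 H) (step (f46 H) (step (f344 H) rfl)))))))))))))))) rfl

theorem f1177 : g 1 • path g [4, 6, 9] p = path g [4, 0, 9] p :=
  H.back (i := 6) (by decide) (f1176 H)

theorem f1178 : path g [9, 6, 4] p = path g [4, 1] p :=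
  close (u := [6, 9, 6, 9, 6, 9]) (w := [6, 9, 6, 9, 6, 9, 6, 9]) (r17_1_1 H) (step (f1176 H) (step (f444 H) (step (f1106 H) (step (f1088 H) (step (f1055 H) (step (f1171 H) rfl)))))) (step (H.back (i := 1) (by decide) (f48 H)) (step (H.back (i := 4) (by decide) (f8 H)) (step (H.back (i := 1) (by decide) (f2 H)) (step (H.back (i := 4) (by decide) (f19 H)) (step (H.back (i := 1) (by decide) (f93 H)) (step (H.back (i := 4) (by decide) (f1090 H)) (step (H.back (i := 1) (by decide) (f328 H)) (step (H.back (i := 4) (by decide) (f345 H)) rfl))))))))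

theorem f1185 : g 2 • path g [4, 1] p = path g [4, 6, 9] p :=
  (congrArg (g 2 • ·) (f1178 H).symm).trans (f1175 H)

theorem f1186 : path g [4, 6] p = path g [4, 6, 9] p :=
  (f932 H).symm.trans (f1185 H)

theorem f1187 : path g [4, 6, 9] p = path g [4, 6] p :=
  (f1186 H).symm

theorem f1199 : g 1 • path g [4, 6] p = path g [4, 0, 9] p :=
  (congrArg (g 1 • ·) (f1187 H).symm).trans (f1177 H)

theorem f1200 : path g [4] p = path g [4, 0, 9] p :=
  (f55 H).symm.trans (f1199 H)

theorem f1201 : path g [4, 0, 9] p = path g [4] p :=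
  (f1200 H).symm

theorem f1204 : g 9 • path g [4] p = path g [4, 0, 4] p :=
  (congrArg (g 9 • ·) (f1201 H).symm).trans (f346 H)

theorem f1205 : path g [] p = path g [4, 0, 4] p :=
  (f9 H).symm.trans (f1204 H)

theorem f1209 : path g [4, 0, 4] p = path g [] p :=
  (f1205 H).symm

theorem f1210 : g 9 • path g [] p = path g [4, 0] p :=
  (congrArg (g 9 • ·) (f1209 H).symm).trans (f335 H)

theorem f1211 : path g [9] p = path g [4, 0] p :=
  (f18 H).symm.trans (f1210 H)

theorem f1215 : path g [4, 0] p = path g [9] p :=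
  (f1211 H).symm

theorem f1235 : g 8 • path g [9] p = path g [4, 0, 8] p :=
  (congrArg (g 8 • ·) (f1215 H).symm).trans (f340 H)

theorem f1236 : path g [8, 9] p = path g [4, 0, 8] p :=
  (f81 H).symm.trans (f1235 H)

theorem f1240 : path g [4, 0, 8] p = path g [8, 9] p :=
  (f1236 H).symm

theorem f1246 : g 5 • path g [8, 9] p = path g [4, 8] p :=
  (congrArg (g 5 • ·) (f1240 H).symm).trans (f1062 H)

theorem f1247 : path g [8, 9, 0] p = path g [4, 8] p :=
  (f1110 H).symm.trans (f1246 H)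

theorem f1254 : g 5 • path g [4, 8] p = path g [8, 9] p :=
  (congrArg (g 5 • ·) (f1247 H).symm).trans (f745 H)

theorem f1255 : path g [4, 8, 5] p = path g [8, 9] p :=
  (f472 H).symm.trans (f1254 H)

theorem f1260 : g 0 • path g [4, 8] p = path g [8, 9] p :=
  (f1064 H).trans (f1240 H)

theorem f1267 : g 8 • path g [4, 8] p = path g [3, 9, 5] p :=
  (congrArg (g 8 • ·) (f1247 H).symm).trans (f1126 H)

theorem f1268 : path g [3, 4] p = path g [3, 9, 5] p :=
  (f60 H).symm.trans (f1267 H)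

theorem f1269 : path g [3, 9, 5] p = path g [3, 4] p :=
  (f1268 H).symm

theorem f1270 : g 0 • path g [3, 4] p = path g [3, 9] p :=
  (congrArg (g 0 • ·) (f1269 H).symm).trans (f321 H)

theorem f1271 : path g [3, 4, 0] p = path g [3, 9] p :=
  (f182 H).symm.trans (f1270 H)

theorem f1272 : g 7 • path g [3, 4] p = path g [3, 9, 0] p :=
  (congrArg (g 7 • ·) (f1269 H).symm).trans (f734 H)

theorem f1273 : path g [3, 4, 7] p = path g [3, 9, 0] p :=
  (f192 H).symm.trans (f1272 H)

theorem f1274 : g 8 • path g [3, 4] p = path g [9, 0] p :=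
  (congrArg (g 8 • ·) (f1269 H).symm).trans (f1121 H)

theorem f1275 : path g [4] p = path g [9, 0] p :=
  (f34 H).symm.trans (f1274 H)

theorem f1279 : path g [9, 0] p = path g [4] p :=
  (f1275 H).symm

theorem f1281 : g 5 • path g [4] p = path g [9] p :=
  (f1034 H).trans (f1215 H)

theorem f1287 : g 0 • path g [4] p = path g [9] p :=
  (f46 H).trans (f1215 H)

theorem f1302 : g 6 • path g [4] p = path g [4, 6, 4] p :=
  (congrArg (g 6 • ·) (f1279 H).symm).trans (f1096 H)

theorem f1303 : path g [4, 6] p = path g [4, 6, 4] p :=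
  (f54 H).symm.trans (f1302 H)

theorem f1325 : path g [4, 6, 4] p = path g [4, 6] p :=
  (f1303 H).symm

theorem f1345 : g 6 • path g [4, 6] p = path g [9, 0, 1] p :=
  (congrArg (g 6 • ·) (f1325 H).symm).trans (f1106 H)

theorem f1346 : path g [4, 1] p = path g [9, 0, 1] p :=
  (f1084 H).symm.trans (f1345 H)

theorem f1347 : path g [9, 0, 1] p = path g [4, 1] p :=
  (f1346 H).symm

theorem f1353 : g 5 • path g [4, 1] p = path g [9, 1] p :=
  (congrArg (g 5 • ·) (f1347 H).symm).trans (f929 H)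

theorem f1354 : path g [4, 0, 1] p = path g [9, 1] p :=
  (f1053 H).symm.trans (f1353 H)

theorem f1376 : g 5 • path g [9, 1] p = path g [4, 1] p :=
  (f763 H).trans (f1347 H)

theorem f1381 : g 0 • path g [9, 1] p = path g [4, 1] p :=
  (f930 H).trans (f1347 H)

theorem f1411 : g 4 • path g [9, 6] p = path g [4, 1] p :=
  (f1168 H).trans (f1178 H)

theorem f1414 : g 9 • path g [9, 6] p = path g [9, 1] p :=
  (f1091 H).trans (f1354 H)

theorem f1416 : path g [3, 9, 0] p = path g [3, 4, 7] p :=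
  (f1273 H).symm

theorem f1417 : g 5 • path g [3, 4, 7] p = path g [3, 9] p :=
  (congrArg (g 5 • ·) (f1416 H).symm).trans (f315 H)

theorem f1419 : g 0 • path g [3, 9] p = path g [3, 4, 7] p :=
  H.back (i := 5) (by decide) (f1417 H)

theorem f1424 : g 5 • path g [3, 9] p = path g [3, 4] p :=
  (f320 H).trans (f1269 H)

theorem f1439 : g 0 • path g [8, 9] p = path g [4, 8] p :=
  (f744 H).trans (f1247 H)

theorem f1442 : g 0 • path g [3, 4] p = path g [3, 9] p :=
  (f182 H).trans (f1271 H)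

theorem f1443 : g 5 • path g [3, 4, 5] p = path g [3, 4, 7] p :=
  scan (u := [5, 7, 5, 9, 2, 4, 5]) (w := []) (i := 5) (r11_0_2 H) (step (f1417 H) (step (f1136 H) (step (f1424 H) (step (f33 H) (step (f521 H) (step (f32 H) (step (f188 H) rfl))))))) rfl

theorem f1444 : g 0 • path g [3, 4, 7] p = path g [3, 4, 5] p :=
  H.back (i := 5) (by decide) (f1443 H)

theorem f1445 : g 4 • path g [3, 4, 2] p = path g [3, 4, 5] p :=
  scan (u := [5, 9, 2]) (w := [5, 5, 5, 7]) (i := 4) (r11_0_4 H) (step (f1417 H) (step (f42 H) (step (f186 H) rfl))) (step (H.back (i := 0) (by decide) (f1444 H)) (step (H.back (i := 0) (by decide) (f1419 H)) (step (H.back (i := 0) (by decide) (f1442 H)) (step (H.back (i := 2) (by decide) (f193 H)) rfl))))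

theorem f1446 : g 9 • path g [3, 4, 5] p = path g [3, 4, 2] p :=
  H.back (i := 4) (by decide) (f1445 H)

theorem f1447 : g 2 • path g [3, 9, 1] p = path g [3, 9, 6] p :=
  scan (u := [5, 5, 7, 5, 7, 1]) (w := [1, 0, 2, 0, 0]) (i := 2) (r2_0_0 H) (step (f1417 H) (step (f1424 H) (step (f192 H) (step (f1417 H) (step (f1136 H) (step (f316 H) rfl)))))) (step (H.back (i := 6) (by decide) (f322 H)) (step (H.back (i := 5) (by decide) (f1417 H)) (step (H.back (i := 7) (by decide) (f192 H)) (step (H.back (i := 5) (by decide) (f1424 H)) (step (H.back (i := 5) (by decide) (f1417 H)) rfl)))))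

theorem f1448 : g 7 • path g [3, 9, 6] p = path g [3, 9, 1] p :=
  H.back (i := 2) (by decide) (f1447 H)

theorem f1449 : g 2 • path g [3, 9, 6] p = path g [3, 9, 1] p :=
  scan (u := [5, 5, 7, 5, 6]) (w := [2, 1, 0, 2, 0, 0]) (i := 2) (r3_0_0 H) (step (f1417 H) (step (f1424 H) (step (f192 H) (step (f1417 H) (step (f322 H) rfl))))) (step (H.back (i := 7) (by decide) (f1448 H)) (step (H.back (i := 6) (by decide) (f322 H)) (step (H.back (i := 5) (by decide) (f1417 H)) (step (H.back (i := 7) (by decide) (f192 H)) (step (H.back (i := 5) (by decide) (f1424 H)) (step (H.back (i := 5) (by decide) (f1417 H)) rfl))))))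

theorem f1450 : g 7 • path g [3, 9, 1] p = path g [3, 9, 6] p :=
  H.back (i := 2) (by decide) (f1449 H)

theorem f1451 : g 5 • path g [4, 1] p = path g [9, 1] p :=
  (f1053 H).trans (f1354 H)

theorem f1452 : g 1 • path g [3, 9, 1] p = path g [3, 9, 6] p :=
  scan (u := [0, 2, 0, 1]) (w := [7, 6, 5, 7, 5, 2]) (i := 1) (r0_0_6 H) (step (f1419 H) (step (f193 H) (step (f1442 H) (step (f316 H) rfl)))) (step (H.back (i := 2) (by decide) (f1447 H)) (step (H.back (i := 1) (by decide) (f316 H)) (step (H.back (i := 0) (by decide) (f1442 H)) (step (H.back (i := 2) (by decide) (f193 H)) (step (H.back (i := 0) (by decide) (f1419 H)) (step (H.back (i := 7) (by decide) (f1136 H)) rfl))))))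

theorem f1453 : g 6 • path g [3, 9, 6] p = path g [3, 9, 1] p :=
  H.back (i := 1) (by decide) (f1452 H)

theorem f1454 : g 8 • path g [9, 6] p = path g [9, 6, 8] p :=
  rfl

theorem f1456 : g 8 • path g [9, 6, 8] p = path g [9, 6, 3] p :=
  scan (u := [8]) (w := [8]) (i := 8) (r10_1_0 H) (step (f1454 H) rfl) (step (H.back (i := 3) (by decide) (f1166 H)) rfl)

theorem f1457 : g 3 • path g [9, 6, 3] p = path g [9, 6, 8] p :=
  H.back (i := 8) (by decide) (f1456 H)

theorem f1458 : g 4 • path g [9, 6, 8] p = path g [4, 1, 8] p :=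
  scan (u := [8]) (w := [3, 9]) (i := 4) (r15_0_1 H) (step (f1454 H) rfl) (step (H.back (i := 8) (by decide) (f362 H)) (step (H.back (i := 4) (by decide) (f1411 H)) rfl))

theorem f1459 : g 9 • path g [4, 1, 8] p = path g [9, 6, 8] p :=
  H.back (i := 4) (by decide) (f1458 H)

theorem f1460 : g 9 • path g [9, 6, 8] p = path g [9, 1, 8] p :=
  scan (u := [8]) (w := [3, 4]) (i := 9) (r15_1_0 H) (step (f1454 H) rfl) (step (H.back (i := 8) (by decide) (f1160 H)) (step (H.back (i := 9) (by decide) (f1414 H)) rfl))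

theorem f1461 : g 4 • path g [9, 1, 8] p = path g [9, 6, 8] p :=
  H.back (i := 9) (by decide) (f1460 H)

theorem f1462 : g 0 • path g [9] p = path g [4] p :=
  (f84 H).trans (f1279 H)

theorem f1463 : g 0 • path g [9, 6, 8] p = path g [9, 1, 8] p :=
  scan (u := [8]) (w := [3, 6, 5, 7, 5, 6]) (i := 0) (r8_0_5 H) (step (f1454 H) rfl) (step (H.back (i := 8) (by decide) (f1160 H)) (step (H.back (i := 1) (by decide) (f86 H)) (step (H.back (i := 0) (by decide) (f1287 H)) (step (H.back (i := 2) (by decide) (f793 H)) (step (H.back (i := 0) (by decide) (f1462 H)) (step (H.back (i := 1) (by decide) (f93 H)) rfl))))))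

theorem f1465 : g 5 • path g [9, 6, 8] p = path g [4, 1, 8] p :=
  scan (u := [8]) (w := [3, 1, 0, 2, 0, 1]) (i := 5) (r8_1_0 H) (step (f1454 H) rfl) (step (H.back (i := 8) (by decide) (f362 H)) (step (H.back (i := 6) (by decide) (f1084 H)) (step (H.back (i := 5) (by decide) (f1087 H)) (step (H.back (i := 7) (by decide) (f931 H)) (step (H.back (i := 5) (by decide) (f1376 H)) (step (H.back (i := 6) (by decide) (f99 H)) rfl))))))

theorem f1466 : g 0 • path g [4, 1, 8] p = path g [9, 6, 8] p :=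
  H.back (i := 5) (by decide) (f1465 H)

theorem f1467 : g 0 • path g [4, 1] p = path g [9, 1] p :=
  (f1047 H).trans (f1354 H)

theorem f1468 : g 2 • path g [9, 6, 8] p = path g [9, 1, 8] p :=
  scan (u := [8]) (w := [3, 5, 5, 6, 5, 7, 5, 6, 5]) (i := 2) (r7_0_8 H) (step (f1454 H) rfl) (step (H.back (i := 8) (by decide) (f1160 H)) (step (H.back (i := 0) (by decide) (f1467 H)) (step (H.back (i := 0) (by decide) (f1381 H)) (step (H.back (i := 1) (by decide) (f86 H)) (step (H.back (i := 0) (by decide) (f1287 H)) (step (H.back (i := 2) (by decide) (f793 H)) (step (H.back (i := 0) (by decide) (f1462 H)) (step (H.back (i := 1) (by decide) (f93 H)) (step (H.back (i := 0) (by decide) (f100 H)) rfl)))))))))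

theorem f1469 : g 7 • path g [9, 1, 8] p = path g [9, 6, 8] p :=
  H.back (i := 2) (by decide) (f1468 H)

theorem f1470 : g 7 • path g [9, 6, 8] p = path g [9, 1, 8] p :=
  scan (u := [8]) (w := [3, 0, 1, 0, 2, 0, 1, 0, 0]) (i := 7) (r7_1_0 H) (step (f1454 H) rfl) (step (H.back (i := 8) (by decide) (f1160 H)) (step (H.back (i := 5) (by decide) (f1451 H)) (step (H.back (i := 6) (by decide) (f1084 H)) (step (H.back (i := 5) (by decide) (f1087 H)) (step (H.back (i := 7) (by decide) (f931 H)) (step (H.back (i := 5) (by decide) (f1376 H)) (step (H.back (i := 6) (by decide) (f99 H)) (step (H.back (i := 5) (by decide) (f101 H)) (step (H.back (i := 5) (by decide) (f101 H)) rfl)))))))))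

theorem f1471 : g 2 • path g [9, 1, 8] p = path g [9, 6, 8] p :=
  H.back (i := 7) (by decide) (f1470 H)

theorem f1472 : g 5 • path g [9] p = path g [4] p :=
  (f775 H).trans (f1279 H)

theorem f1473 : g 4 • path g [9, 1, 3] p = path g [9, 6, 3] p :=
  scan (u := [9, 8]) (w := [3]) (i := 4) (r15_0_0 H) (step (f1460 H) (step (f1162 H) rfl)) (step (H.back (i := 8) (by decide) (f1456 H)) rfl)

theorem f1481 : g 6 • path g [3, 1, 0] p = path g [3, 1, 0, 6] p :=
  rfl

theorem f1482 : g 1 • path g [3, 1, 0, 6] p = path g [3, 1, 0] p :=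
  H.back (i := 6) (by decide) (f1481 H)

theorem f1483 : g 6 • path g [3, 1, 0, 6] p = path g [3, 6, 0] p :=
  scan (u := [6]) (w := [5, 7, 5, 7, 0, 2, 0, 1, 2]) (i := 6) (r0_1_0 H) (step (f1481 H) rfl) (step (H.back (i := 0) (by decide) (f214 H)) (step (H.back (i := 2) (by decide) (f571 H)) (step (H.back (i := 0) (by decide) (f703 H)) (step (H.back (i := 2) (by decide) (f713 H)) (step (H.back (i := 5) (by decide) (f700 H)) (step (H.back (i := 7) (by decide) (f574 H)) (step (H.back (i := 5) (by decide) (f127 H)) (step (H.back (i := 6) (by decide) (f720 H)) (step (H.back (i := 7) (by decide) (f714 H)) rfl)))))))))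

theorem f1484 : g 1 • path g [3, 6, 0] p = path g [3, 1, 0, 6] p :=
  H.back (i := 6) (by decide) (f1483 H)

theorem f1485 : g 7 • path g [3, 1, 0, 6] p = path g [3, 1, 0, 6] p :=
  scan (u := [6]) (w := [6, 2, 0, 2, 0, 0, 5, 5, 7, 5]) (i := 7) (r2_1_4 H) (step (f1481 H) rfl) (step (H.back (i := 1) (by decide) (f1484 H)) (step (H.back (i := 7) (by decide) (f714 H)) (step (H.back (i := 5) (by decide) (f705 H)) (step (H.back (i := 7) (by decide) (f718 H)) (step (H.back (i := 5) (by decide) (f215 H)) (step (H.back (i := 5) (by decide) (f700 H)) (step (H.back (i := 0) (by decide) (f698 H)) (step (H.back (i := 0) (by decide) (f214 H)) (step (H.back (i := 2) (by decide) (f571 H)) (step (H.back (i := 0) (by decide) (f703 H)) rfl))))))))))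

theorem f1487 : g 5 • path g [3, 1, 0, 6] p = path g [3, 1, 0, 6] p :=
  scan (u := [6, 7]) (w := [1, 0, 1, 0, 2, 0, 0, 5, 5]) (i := 5) (r4_0_2 H) (step (f1481 H) (step (f1485 H) rfl)) (step (H.back (i := 6) (by decide) (f1481 H)) (step (H.back (i := 5) (by decide) (f705 H)) (step (H.back (i := 6) (by decide) (f161 H)) (step (H.back (i := 5) (by decide) (f215 H)) (step (H.back (i := 7) (by decide) (f714 H)) (step (H.back (i := 5) (by decide) (f705 H)) (step (H.back (i := 5) (by decide) (f127 H)) (step (H.back (i := 0) (by decide) (f126 H)) (step (H.back (i := 0) (by decide) (f703 H)) rfl)))))))))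

theorem f1489 : g 8 • path g [3, 1, 0] p = path g [3, 1, 0, 8] p :=
  rfl

theorem f1490 : g 3 • path g [3, 1, 0, 8] p = path g [3, 1, 0] p :=
  H.back (i := 8) (by decide) (f1489 H)

theorem f1491 : g 8 • path g [3, 1, 0, 8] p = path g [8, 1, 0] p :=
  scan (u := [8]) (w := [8]) (i := 8) (r10_1_0 H) (step (f1489 H) rfl) (step (H.back (i := 3) (by decide) (f706 H)) rfl)

theorem f1492 : g 3 • path g [8, 1, 0] p = path g [3, 1, 0, 8] p :=
  H.back (i := 8) (by decide) (f1491 H)

theorem f1501 : g 6 • path g [3, 1, 0, 8] p = path g [3, 6, 8] p :=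
  scan (u := [8]) (w := [5, 8, 6, 5, 8, 6, 5, 2, 1, 0, 2, 0, 1]) (i := 6) (r18_1_0 H) (step (f1489 H) rfl) (step (H.back (i := 0) (by decide) (f721 H)) (step (H.back (i := 3) (by decide) (f143 H)) (step (H.back (i := 1) (by decide) (f661 H)) (step (H.back (i := 0) (by decide) (f478 H)) (step (H.back (i := 3) (by decide) (f689 H)) (step (H.back (i := 1) (by decide) (f163 H)) (step (H.back (i := 0) (by decide) (f703 H)) (step (H.back (i := 7) (by decide) (f712 H)) (step (H.back (i := 6) (by decide) (f1483 H)) (step (H.back (i := 5) (by decide) (f1487 H)) (step (H.back (i := 7) (by decide) (f1485 H)) (step (H.back (i := 5) (by decide) (f1487 H)) (step (H.back (i := 6) (by decide) (f1481 H)) rfl)))))))))))))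

theorem f1503 : path g [3, 1, 3] p = path g [3, 6] p :=
  close (u := [3, 1, 3, 1, 3, 1, 3, 1, 3]) (w := [1, 3, 1, 3, 1]) (r16_0_1 H) (step (f1490 H) (step (f719 H) (step (f691 H) (step (f67 H) (step (f11 H) (step (f2 H) (step (f6 H) (step (f28 H) (step (f132 H) rfl))))))))) (step (H.back (i := 6) (by decide) (f38 H)) (step (H.back (i := 8) (by decide) (f12 H)) (step (H.back (i := 6) (by decide) (f65 H)) (step (H.back (i := 8) (by decide) (f725 H)) (step (H.back (i := 6) (by decide) (f1501 H)) rfl)))))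

theorem f1516 : g 2 • path g [3, 6] p = path g [8, 1, 0] p :=
  (congrArg (g 2 • ·) (f1503 H).symm).trans (f667 H)

theorem f1517 : path g [3, 1] p = path g [8, 1, 0] p :=
  (f715 H).symm.trans (f1516 H)

theorem f1518 : path g [8, 1, 0] p = path g [3, 1] p :=
  (f1517 H).symm

theorem f1534 : g 3 • path g [3, 1] p = path g [3, 1, 0, 8] p :=
  (congrArg (g 3 • ·) (f1518 H).symm).trans (f1492 H)

theorem f1535 : g 3 • path g [3, 1] p = path g [3, 6] p :=
  (f132 H).trans (f1503 H)

theorem f1536 : path g [3, 6] p = path g [3, 1, 0, 8] p :=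
  (f1535 H).symm.trans (f1534 H)

theorem f1537 : path g [3, 1, 0, 8] p = path g [3, 6] p :=
  (f1536 H).symm

theorem f1551 : g 6 • path g [3, 6] p = path g [3, 6, 8] p :=
  (congrArg (g 6 • ·) (f1537 H).symm).trans (f1501 H)

theorem f1552 : path g [3, 1] p = path g [3, 6, 8] p :=
  (f161 H).symm.trans (f1551 H)

theorem f1553 : path g [3, 6, 8] p = path g [3, 1] p :=
  (f1552 H).symm

theorem f1560 : g 0 • path g [3, 1] p = path g [3, 1, 8] p :=
  (congrArg (g 0 • ·) (f1553 H).symm).trans (f729 H)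

theorem f1561 : path g [3, 1, 0] p = path g [3, 1, 8] p :=
  (f126 H).symm.trans (f1560 H)

theorem f1571 : path g [3, 1, 8] p = path g [3, 1, 0] p :=
  (f1561 H).symm

theorem f1589 : g 1 • path g [3, 1, 0] p = path g [8, 6, 3] p :=
  (congrArg (g 1 • ·) (f1571 H).symm).trans (f731 H)

theorem f1590 : path g [3, 6, 0] p = path g [8, 6, 3] p :=
  (f719 H).symm.trans (f1589 H)

theorem f1591 : path g [8, 6, 3] p = path g [3, 6, 0] p :=
  (f1590 H).symm

theorem f1595 : g 3 • path g [3, 6, 0] p = path g [3, 6, 0] p :=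
  (congrArg (g 3 • ·) (f1591 H).symm).trans (f695 H)

theorem f1596 : path g [8, 6] p = path g [3, 6, 0] p :=
  (f691 H).symm.trans (f1595 H)

theorem f1612 : path g [3, 6, 0] p = path g [8, 6] p :=
  (f1596 H).symm

theorem f1614 : g 5 • path g [8, 6] p = path g [3, 6] p :=
  (f655 H).trans (f1503 H)

theorem f1627 : g 0 • path g [8, 6] p = path g [3, 6] p :=
  (f666 H).trans (f1503 H)

theorem f1633 : g 1 • path g [8, 6] p = path g [3, 1, 0, 6] p :=
  (congrArg (g 1 • ·) (f1612 H).symm).trans (f1484 H)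

theorem f1634 : path g [8] p = path g [3, 1, 0, 6] p :=
  (f67 H).symm.trans (f1633 H)

theorem f1635 : path g [3, 1, 0, 6] p = path g [8] p :=
  (f1634 H).symm

theorem f1636 : g 1 • path g [8] p = path g [3, 1, 0] p :=
  (congrArg (g 1 • ·) (f1635 H).symm).trans (f1482 H)

theorem f1637 : path g [8, 1] p = path g [3, 1, 0] p :=
  (f64 H).symm.trans (f1636 H)

theorem f1653 : path g [3, 1, 0] p = path g [8, 1] p :=
  (f1637 H).symm

theorem f1655 : g 5 • path g [8, 1] p = path g [3, 1] p :=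
  (f481 H).trans (f1518 H)

theorem f1661 : g 0 • path g [8, 1] p = path g [3, 1] p :=
  (f478 H).trans (f1518 H)

theorem f1664 : g 3 • path g [8, 1] p = path g [3, 1] p :=
  (f687 H).trans (f1553 H)

theorem f1683 : path g [3, 1, 8] p = path g [8, 1] p :=
  (f1571 H).trans (f1653 H)

theorem f1685 : g 0 • path g [3, 1, 4] p = path g [3, 1, 4, 0] p :=
  rfl

theorem f1687 : g 1 • path g [3, 1, 4] p = path g [3, 1, 4, 1] p :=
  rfl

theorem f1688 : g 6 • path g [3, 1, 4, 1] p = path g [3, 1, 4] p :=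
  H.back (i := 1) (by decide) (f1687 H)

theorem f1689 : g 2 • path g [3, 1, 4] p = path g [3, 1, 4, 2] p :=
  rfl

theorem f1690 : g 7 • path g [3, 1, 4, 2] p = path g [3, 1, 4] p :=
  H.back (i := 2) (by decide) (f1689 H)

theorem f1691 : g 0 • path g [3, 1] p = path g [8, 1] p :=
  (f126 H).trans (f1653 H)

theorem f1692 : g 3 • path g [3, 1, 4] p = path g [3, 1, 4, 3] p :=
  rfl

theorem f1693 : g 8 • path g [3, 1, 4, 3] p = path g [3, 1, 4] p :=
  H.back (i := 3) (by decide) (f1692 H)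

theorem f1694 : path g [3, 1, 4, 3] p = path g [3, 6, 4] p :=
  close (u := [3]) (w := [9, 8, 4]) (r15_0_3 H) (step (f1692 H) rfl) (step (H.back (i := 4) (by decide) (f218 H)) (step (H.back (i := 3) (by decide) (f1535 H)) (step (H.back (i := 9) (by decide) (f135 H)) rfl)))

theorem f1695 : g 8 • path g [3, 6, 4] p = path g [3, 1, 4] p :=
  (congrArg (g 8 • ·) (f1694 H).symm).trans (f1693 H)

theorem f1697 : g 3 • path g [3, 1, 4] p = path g [3, 6, 4] p :=
  H.back (i := 8) (by decide) (f1695 H)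

theorem f1698 : g 8 • path g [3, 6, 9] p = path g [3, 1, 9] p :=
  scan (u := [3, 4]) (w := [9]) (i := 8) (r15_1_2 H) (step (f1697 H) (step (f313 H) rfl)) (step (H.back (i := 4) (by decide) (f147 H)) rfl)

theorem f1699 : g 3 • path g [3, 1, 9] p = path g [3, 6, 9] p :=
  H.back (i := 8) (by decide) (f1698 H)

theorem f1700 : g 8 • path g [3, 6] p = path g [3, 1] p :=
  (f306 H).trans (f1553 H)

theorem f1703 : g 5 • path g [3, 1] p = path g [8, 1] p :=
  (f705 H).trans (f1653 H)

theorem f1704 : g 6 • path g [3, 1, 4] p = path g [3, 1, 4, 6] p :=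
  rfl

theorem f1705 : g 1 • path g [3, 1, 4, 6] p = path g [3, 1, 4] p :=
  H.back (i := 6) (by decide) (f1704 H)

theorem f1706 : g 7 • path g [3, 1, 4] p = path g [3, 1, 4, 7] p :=
  rfl

theorem f1707 : g 2 • path g [3, 1, 4, 7] p = path g [3, 1, 4] p :=
  H.back (i := 7) (by decide) (f1706 H)

theorem f1708 : g 8 • path g [3, 1, 4] p = path g [3, 1, 4, 8] p :=
  rfl

theorem f1709 : g 3 • path g [3, 1, 4, 8] p = path g [3, 1, 4] p :=
  H.back (i := 8) (by decide) (f1708 H)

theorem f1710 : g 8 • path g [3, 1, 4, 8] p = path g [3, 6, 4] p :=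
  scan (u := [8]) (w := [8]) (i := 8) (r10_1_0 H) (step (f1708 H) rfl) (step (H.back (i := 3) (by decide) (f1697 H)) rfl)

theorem f1712 : g 8 • path g [3, 1] p = path g [8, 1] p :=
  (f140 H).trans (f1683 H)

theorem f1713 : path g [3, 1, 4, 8] p = path g [8, 1, 4] p :=
  close (u := [8]) (w := [9, 3, 4]) (r15_1_0 H) (step (f1708 H) rfl) (step (H.back (i := 4) (by decide) (f484 H)) (step (H.back (i := 8) (by decide) (f1712 H)) (step (H.back (i := 9) (by decide) (f135 H)) rfl)))

theorem f1714 : g 3 • path g [8, 1, 4] p = path g [3, 1, 4] p :=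
  (congrArg (g 3 • ·) (f1713 H).symm).trans (f1709 H)

theorem f1716 : g 8 • path g [3, 1, 4] p = path g [8, 1, 4] p :=
  H.back (i := 3) (by decide) (f1714 H)

theorem f1717 : g 8 • path g [8, 1, 4] p = path g [3, 6, 4] p :=
  (congrArg (g 8 • ·) (f1713 H).symm).trans (f1710 H)

theorem f1719 : g 3 • path g [3, 6, 4] p = path g [8, 1, 4] p :=
  H.back (i := 8) (by decide) (f1717 H)

theorem f1720 : g 8 • path g [3, 1, 9] p = path g [8, 1, 9] p :=
  scan (u := [3, 4]) (w := [9]) (i := 8) (r15_1_2 H) (step (f1714 H) (step (f147 H) rfl)) (step (H.back (i := 4) (by decide) (f493 H)) rfl)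

theorem f1721 : g 3 • path g [8, 1, 9] p = path g [3, 1, 9] p :=
  H.back (i := 8) (by decide) (f1720 H)

theorem f1722 : g 8 • path g [8, 1, 9] p = path g [3, 6, 9] p :=
  scan (u := [8]) (w := [8]) (i := 8) (r10_1_0 H) (step (f1720 H) rfl) (step (H.back (i := 3) (by decide) (f1699 H)) rfl)

theorem f1723 : g 3 • path g [3, 6, 9] p = path g [8, 1, 9] p :=
  H.back (i := 8) (by decide) (f1722 H)

theorem f1726 : g 0 • path g [3, 1, 9] p = path g [3, 1, 9, 0] p :=
  rfl

theorem f1727 : g 5 • path g [3, 1, 9, 0] p = path g [3, 1, 9] p :=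
  H.back (i := 0) (by decide) (f1726 H)

theorem f1728 : g 1 • path g [3, 1, 9] p = path g [3, 1, 9, 1] p :=
  rfl

theorem f1730 : g 0 • path g [3, 6] p = path g [8, 6] p :=
  (f214 H).trans (f1612 H)

theorem f1731 : g 5 • path g [3, 1, 9] p = path g [3, 1, 9, 5] p :=
  rfl

theorem f1732 : g 0 • path g [3, 1, 9, 5] p = path g [3, 1, 9] p :=
  H.back (i := 5) (by decide) (f1731 H)

theorem f1733 : g 6 • path g [3, 1, 9] p = path g [3, 1, 9, 6] p :=
  rfl

theorem f1741 : g 0 • path g [3, 4, 1] p = path g [3, 4, 1, 0] p :=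
  rfl

theorem f1742 : g 5 • path g [3, 4, 1, 0] p = path g [3, 4, 1] p :=
  H.back (i := 0) (by decide) (f1741 H)

theorem f1743 : g 5 • path g [4, 8] p = path g [8, 9] p :=
  (f472 H).trans (f1255 H)

theorem f1744 : path g [3, 4, 1, 0] p = path g [8, 9, 1] p :=
  close (u := [0]) (w := [2, 1, 0, 9, 6, 5, 6, 6, 4, 1]) (r13_1_7 H) (step (f1741 H) rfl) (step (H.back (i := 7) (by decide) (f754 H)) (step (H.back (i := 6) (by decide) (f752 H)) (step (H.back (i := 5) (by decide) (f1743 H)) (step (H.back (i := 4) (by decide) (f63 H)) (step (H.back (i := 1) (by decide) (f67 H)) (step (H.back (i := 0) (by decide) (f1730 H)) (step (H.back (i := 1) (by decide) (f163 H)) (step (H.back (i := 1) (by decide) (f28 H)) (step (H.back (i := 9) (by decide) (f33 H)) (step (H.back (i := 6) (by decide) (f185 H)) rfl))))))))))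

theorem f1745 : g 5 • path g [8, 9, 1] p = path g [3, 4, 1] p :=
  (congrArg (g 5 • ·) (f1744 H).symm).trans (f1742 H)

theorem f1747 : g 0 • path g [3, 4, 1] p = path g [8, 9, 1] p :=
  H.back (i := 5) (by decide) (f1745 H)

theorem f1748 : g 5 • path g [8, 9] p = path g [4, 8] p :=
  (f1110 H).trans (f1247 H)

theorem f1749 : g 0 • path g [8, 9, 1] p = path g [3, 4, 1] p :=
  scan (u := [0, 1, 1, 0, 2, 5, 5, 7, 5, 6, 6]) (w := []) (i := 0) (r5_0_7 H) (step (f1747 H) (step (f758 H) (step (f753 H) (step (f1439 H) (step (f1143 H) (step (f1743 H) (step (f1748 H) (step (f1145 H) (step (f1743 H) (step (f752 H) (step (f759 H) rfl))))))))))) rfl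

theorem f1750 : g 5 • path g [3, 4, 1] p = path g [8, 9, 1] p :=
  H.back (i := 0) (by decide) (f1749 H)

theorem f1751 : g 5 • path g [3, 9, 6] p = path g [8, 9, 6] p :=
  scan (u := [5, 6, 8, 0, 3, 6]) (w := [7]) (i := 5) (r8_0_3 H) (step (f1745 H) (step (f185 H) (step (f34 H) (step (f1287 H) (step (f45 H) (step (f322 H) rfl)))))) (step (H.back (i := 2) (by decide) (f755 H)) rfl)

theorem f1752 : g 0 • path g [8, 9, 6] p = path g [3, 9, 6] p :=
  H.back (i := 5) (by decide) (f1751 H)

theorem f1753 : g 2 • path g [3, 4, 1] p = path g [3, 4, 6] p :=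
  scan (u := [5, 6, 0]) (w := [1, 0, 0, 5, 5, 7, 5, 6]) (i := 2) (r4_1_5 H) (step (f1751 H) (step (f759 H) (step (f1749 H) rfl))) (step (H.back (i := 6) (by decide) (f190 H)) (step (H.back (i := 5) (by decide) (f1424 H)) (step (H.back (i := 5) (by decide) (f1417 H)) (step (H.back (i := 0) (by decide) (f1419 H)) (step (H.back (i := 0) (by decide) (f1442 H)) (step (H.back (i := 2) (by decide) (f193 H)) (step (H.back (i := 0) (by decide) (f1419 H)) (step (H.back (i := 1) (by decide) (f323 H)) rfl))))))))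

theorem f1754 : g 7 • path g [3, 4, 6] p = path g [3, 4, 1] p :=
  H.back (i := 2) (by decide) (f1753 H)

theorem f1755 : g 0 • path g [3, 4, 6] p = path g [4, 8, 6] p :=
  scan (u := [2]) (w := [1, 3, 7, 5, 8, 1, 0]) (i := 0) (r9_0_5 H) (step (f1753 H) rfl) (step (H.back (i := 6) (by decide) (f474 H)) (step (H.back (i := 8) (by decide) (f58 H)) (step (H.back (i := 2) (by decide) (f793 H)) (step (H.back (i := 0) (by decide) (f1462 H)) (step (H.back (i := 3) (by decide) (f80 H)) (step (H.back (i := 6) (by decide) (f747 H)) (step (H.back (i := 5) (by decide) (f1750 H)) rfl)))))))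

theorem f1756 : g 5 • path g [4, 8, 6] p = path g [3, 4, 6] p :=
  H.back (i := 0) (by decide) (f1755 H)

theorem f1757 : path g [3, 4, 7] p = path g [3, 4] p :=
  close (u := [2, 0, 1, 0, 0, 8, 7]) (w := [3, 0, 1, 0]) (r7_1_6 H) (step (f1753 H) (step (f1755 H) (step (f475 H) (step (f1260 H) (step (f1439 H) (step (f60 H) (step (f192 H) rfl))))))) (step (H.back (i := 8) (by decide) (f60 H)) (step (H.back (i := 5) (by decide) (f1748 H)) (step (H.back (i := 6) (by decide) (f747 H)) (step (H.back (i := 5) (by decide) (f1750 H)) rfl))))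

theorem f1762 : g 0 • path g [3, 4] p = path g [3, 4, 5] p :=
  (congrArg (g 0 • ·) (f1757 H).symm).trans (f1444 H)

theorem f1763 : path g [3, 9] p = path g [3, 4, 5] p :=
  (f1442 H).symm.trans (f1762 H)

theorem f1764 : path g [3, 4, 5] p = path g [3, 9] p :=
  (f1763 H).symm

theorem f1766 : g 0 • path g [3, 9] p = path g [3, 4] p :=
  (f1419 H).trans (f1757 H)

theorem f1771 : g 9 • path g [3, 9] p = path g [3, 4, 2] p :=
  (congrArg (g 9 • ·) (f1764 H).symm).trans (f1446 H)

theorem f1772 : path g [3, 4] p = path g [3, 4, 2] p :=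
  (f42 H).symm.trans (f1771 H)

theorem f1773 : path g [3, 4, 2] p = path g [3, 4] p :=
  (f1772 H).symm

theorem f1780 : g 5 • path g [3, 4] p = path g [3, 9] p :=
  (f188 H).trans (f1764 H)

theorem f1781 : g 2 • path g [3, 4, 6] p = path g [3, 4, 1] p :=
  scan (u := [2, 1, 0, 2, 0, 0, 5, 5, 7, 5, 6]) (w := []) (i := 2) (r3_0_6 H) (step (f1753 H) (step (f191 H) (step (f1442 H) (step (f1138 H) (step (f1766 H) (step (f1442 H) (step (f1424 H) (step (f1780 H) (step (f1136 H) (step (f1424 H) (step (f190 H) rfl))))))))))) rfl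

theorem f1783 : g 5 • path g [3, 9, 1] p = path g [4, 8, 1] p :=
  scan (u := [2, 1, 0, 2, 1]) (w := [6, 7, 5, 6, 7, 0]) (i := 5) (r6_0_7 H) (step (f1753 H) (step (f191 H) (step (f1442 H) (step (f1138 H) (step (f316 H) rfl))))) (step (H.back (i := 1) (by decide) (f468 H)) (step (H.back (i := 2) (by decide) (f1143 H)) (step (H.back (i := 0) (by decide) (f1439 H)) (step (H.back (i := 1) (by decide) (f753 H)) (step (H.back (i := 2) (by decide) (f755 H)) (step (H.back (i := 5) (by decide) (f1750 H)) rfl))))))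

theorem f1784 : g 0 • path g [4, 8, 1] p = path g [3, 9, 1] p :=
  H.back (i := 5) (by decide) (f1783 H)

theorem f1785 : g 0 • path g [3, 9, 1] p = path g [4, 8, 1] p :=
  scan (u := [2, 1, 0, 2, 1]) (w := [6, 7, 5, 6, 7, 5]) (i := 0) (r6_1_6 H) (step (f1753 H) (step (f191 H) (step (f1442 H) (step (f1138 H) (step (f316 H) rfl))))) (step (H.back (i := 1) (by decide) (f468 H)) (step (H.back (i := 2) (by decide) (f1143 H)) (step (H.back (i := 0) (by decide) (f1439 H)) (step (H.back (i := 1) (by decide) (f753 H)) (step (H.back (i := 2) (by decide) (f755 H)) (step (H.back (i := 0) (by decide) (f1747 H)) rfl))))))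

theorem f1786 : g 5 • path g [4, 8, 1] p = path g [3, 9, 1] p :=
  H.back (i := 0) (by decide) (f1785 H)

theorem f1787 : g 2 • path g [3, 4] p = path g [3, 4] p :=
  (f186 H).trans (f1773 H)

theorem f1788 : g 1 • path g [3, 4, 1] p = path g [3, 4, 6] p :=
  scan (u := [7, 6, 5, 7, 5, 2, 0, 2, 0, 1]) (w := []) (i := 1) (r0_0_0 H) (step (f1754 H) (step (f185 H) (step (f1780 H) (step (f1136 H) (step (f1424 H) (step (f1787 H) (step (f1442 H) (step (f1138 H) (step (f1766 H) (step (f184 H) rfl)))))))))) rfl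

theorem f1789 : g 6 • path g [3, 4, 6] p = path g [3, 4, 1] p :=
  H.back (i := 1) (by decide) (f1788 H)

theorem f1790 : g 1 • path g [4, 8, 1] p = path g [4, 8, 6] p :=
  scan (u := [7, 5, 2, 0, 2, 0]) (w := [1, 7, 6, 5]) (i := 1) (r0_0_3 H) (step (f1754 H) (step (f1750 H) (step (f755 H) (step (f1752 H) (step (f1449 H) (step (f1785 H) rfl)))))) (step (H.back (i := 6) (by decide) (f474 H)) (step (H.back (i := 2) (by decide) (f1143 H)) (step (H.back (i := 1) (by decide) (f475 H)) (step (H.back (i := 0) (by decide) (f1755 H)) rfl))))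

theorem f1791 : g 6 • path g [4, 8, 6] p = path g [4, 8, 1] p :=
  H.back (i := 1) (by decide) (f1790 H)

theorem f1792 : g 2 • path g [4, 8, 6] p = path g [4, 8, 1] p :=
  scan (u := [7, 5, 7, 0, 2, 0, 1]) (w := [6, 6, 5]) (i := 2) (r0_1_3 H) (step (f1754 H) (step (f1750 H) (step (f757 H) (step (f1752 H) (step (f1449 H) (step (f1785 H) (step (f1790 H) rfl))))))) (step (H.back (i := 1) (by decide) (f468 H)) (step (H.back (i := 1) (by decide) (f475 H)) (step (H.back (i := 0) (by decide) (f1755 H)) rfl)))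

theorem f1793 : g 7 • path g [4, 8, 1] p = path g [4, 8, 6] p :=
  H.back (i := 2) (by decide) (f1792 H)

theorem f1794 : g 0 • path g [4, 8, 6] p = path g [3, 4, 6] p :=
  scan (u := [7, 5, 6, 9, 1, 1]) (w := [1, 4, 5, 6]) (i := 0) (r13_0_2 H) (step (f1754 H) (step (f1750 H) (step (f747 H) (step (f76 H) (step (f468 H) (step (f1790 H) rfl)))))) (step (H.back (i := 6) (by decide) (f190 H)) (step (H.back (i := 9) (by decide) (f42 H)) (step (H.back (i := 0) (by decide) (f1442 H)) (step (H.back (i := 1) (by decide) (f191 H)) rfl))))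

theorem f1795 : g 5 • path g [3, 4, 6] p = path g [4, 8, 6] p :=
  H.back (i := 0) (by decide) (f1794 H)

theorem f1796 : g 2 • path g [4, 8, 1] p = path g [4, 8, 6] p :=
  scan (u := [7, 5, 7, 0, 2, 0]) (w := [0, 0, 5, 5, 5]) (i := 2) (r1_0_3 H) (step (f1754 H) (step (f1750 H) (step (f757 H) (step (f1752 H) (step (f1449 H) (step (f1785 H) rfl)))))) (step (H.back (i := 5) (by decide) (f1795 H)) (step (H.back (i := 5) (by decide) (f1756 H)) (step (H.back (i := 0) (by decide) (f1755 H)) (step (H.back (i := 0) (by decide) (f1794 H)) (step (H.back (i := 0) (by decide) (f1755 H)) rfl)))))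

theorem f1797 : g 7 • path g [4, 8, 6] p = path g [4, 8, 1] p :=
  H.back (i := 2) (by decide) (f1796 H)

theorem f1798 : g 5 • path g [8, 9, 6] p = path g [3, 9, 6] p :=
  scan (u := [7, 5, 7]) (w := [2, 0, 2, 0, 0, 0, 5, 5]) (i := 5) (r1_1_2 H) (step (f1754 H) (step (f1750 H) (step (f757 H) rfl))) (step (H.back (i := 7) (by decide) (f1450 H)) (step (H.back (i := 5) (by decide) (f1786 H)) (step (H.back (i := 7) (by decide) (f1797 H)) (step (H.back (i := 5) (by decide) (f1795 H)) (step (H.back (i := 5) (by decide) (f1756 H)) (step (H.back (i := 5) (by decide) (f1795 H)) (step (H.back (i := 0) (by decide) (f1794 H)) (step (H.back (i := 0) (by decide) (f1755 H)) rfl))))))))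

theorem f1799 : g 0 • path g [3, 9, 6] p = path g [8, 9, 6] p :=
  H.back (i := 5) (by decide) (f1798 H)

theorem f1801 : g 3 • path g [3, 4, 1] p = path g [3, 4, 1, 3] p :=
  rfl

theorem f1802 : g 8 • path g [3, 4, 1, 3] p = path g [3, 4, 1] p :=
  H.back (i := 3) (by decide) (f1801 H)

theorem f1803 : g 4 • path g [3, 4, 1] p = path g [3, 4, 1, 4] p :=
  rfl

theorem f1804 : g 9 • path g [3, 4, 1, 4] p = path g [3, 4, 1] p :=
  H.back (i := 4) (by decide) (f1803 H)

theorem f1805 : g 8 • path g [3, 4, 1] p = path g [3, 4, 1, 8] p :=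
  rfl

theorem f1807 : g 8 • path g [3, 4, 1, 8] p = path g [3, 4, 1, 3] p :=
  scan (u := [8]) (w := [8]) (i := 8) (r10_1_0 H) (step (f1805 H) rfl) (step (H.back (i := 3) (by decide) (f1801 H)) rfl)

theorem f1808 : g 3 • path g [3, 4, 1, 3] p = path g [3, 4, 1, 8] p :=
  H.back (i := 8) (by decide) (f1807 H)

theorem f1809 : g 9 • path g [3, 4, 1] p = path g [3, 4, 1, 9] p :=
  rfl

theorem f1811 : g 9 • path g [3, 4, 1, 9] p = path g [3, 4, 1, 4] p :=
  scan (u := [9]) (w := [9]) (i := 9) (r14_1_0 H) (step (f1809 H) rfl) (step (H.back (i := 4) (by decide) (f1803 H)) rfl)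

theorem f1813 : g 3 • path g [3, 4, 6] p = path g [3, 4, 6, 3] p :=
  rfl

theorem f1814 : g 8 • path g [3, 4, 6, 3] p = path g [3, 4, 6] p :=
  H.back (i := 3) (by decide) (f1813 H)

theorem f1817 : g 8 • path g [3, 4, 6] p = path g [3, 4, 6, 8] p :=
  rfl

theorem f1818 : g 3 • path g [3, 4, 6, 8] p = path g [3, 4, 6] p :=
  H.back (i := 8) (by decide) (f1817 H)

theorem f1821 : g 0 • path g [3, 4, 6, 8] p = path g [3, 4, 1, 8] p :=
  scan (u := [8]) (w := [3, 6, 5, 7, 5, 6]) (i := 0) (r8_0_5 H) (step (f1817 H) rfl) (step (H.back (i := 8) (by decide) (f1805 H)) (step (H.back (i := 1) (by decide) (f184 H)) (step (H.back (i := 0) (by decide) (f1766 H)) (step (H.back (i := 2) (by decide) (f1138 H)) (step (H.back (i := 0) (by decide) (f1442 H)) (step (H.back (i := 1) (by decide) (f191 H)) rfl))))))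

theorem f1822 : g 5 • path g [3, 4, 1, 8] p = path g [3, 4, 6, 8] p :=
  H.back (i := 0) (by decide) (f1821 H)

theorem f1823 : g 9 • path g [3, 4, 6] p = path g [3, 4, 6, 9] p :=
  rfl

theorem f1827 : g 0 • path g [3, 6, 4] p = path g [3, 6, 4, 0] p :=
  rfl

theorem f1829 : g 1 • path g [3, 6, 4] p = path g [3, 6, 4, 1] p :=
  rfl

theorem f1830 : g 6 • path g [3, 6, 4, 1] p = path g [3, 6, 4] p :=
  H.back (i := 1) (by decide) (f1829 H)

theorem f1831 : g 2 • path g [3, 6, 4] p = path g [3, 6, 4, 2] p :=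
  rfl

theorem f1833 : g 5 • path g [3, 6, 4] p = path g [3, 6, 4, 5] p :=
  rfl

theorem f1834 : g 0 • path g [3, 6, 4, 5] p = path g [3, 6, 4] p :=
  H.back (i := 5) (by decide) (f1833 H)

theorem f1835 : g 6 • path g [3, 6, 4] p = path g [3, 6, 4, 6] p :=
  rfl

theorem f1837 : g 7 • path g [3, 6, 4] p = path g [3, 6, 4, 7] p :=
  rfl

theorem f1838 : g 2 • path g [3, 6, 4, 7] p = path g [3, 6, 4] p :=
  H.back (i := 7) (by decide) (f1837 H)

theorem f1840 : g 0 • path g [3, 6, 9] p = path g [3, 6, 9, 0] p :=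
  rfl

theorem f1841 : g 5 • path g [3, 6, 9, 0] p = path g [3, 6, 9] p :=
  H.back (i := 0) (by decide) (f1840 H)

theorem f1842 : g 1 • path g [3, 6, 9] p = path g [3, 6, 9, 1] p :=
  rfl

theorem f1843 : g 6 • path g [3, 6, 9, 1] p = path g [3, 6, 9] p :=
  H.back (i := 1) (by decide) (f1842 H)

theorem f1846 : g 6 • path g [3, 6, 9] p = path g [3, 6, 9, 6] p :=
  rfl

theorem f1847 : g 1 • path g [3, 6, 9, 6] p = path g [3, 6, 9] p :=
  H.back (i := 6) (by decide) (f1846 H)

theorem f1849 : g 3 • path g [3, 9, 1] p = path g [3, 9, 1, 3] p :=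
  rfl

theorem f1851 : g 4 • path g [3, 9, 1] p = path g [3, 9, 1, 4] p :=
  rfl

theorem f1852 : g 9 • path g [3, 9, 1, 4] p = path g [3, 9, 1] p :=
  H.back (i := 4) (by decide) (f1851 H)

theorem f1853 : g 8 • path g [3, 9, 1] p = path g [3, 9, 1, 8] p :=
  rfl

theorem f1855 : g 8 • path g [3, 9, 1, 8] p = path g [3, 9, 1, 3] p :=
  scan (u := [8]) (w := [8]) (i := 8) (r10_1_0 H) (step (f1853 H) rfl) (step (H.back (i := 3) (by decide) (f1849 H)) rfl)

theorem f1857 : g 0 • path g [3, 9, 1, 8] p = path g [3, 4, 6, 8] p :=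
  scan (u := [8]) (w := [3, 6, 5, 7, 5, 6]) (i := 0) (r8_0_5 H) (step (f1853 H) rfl) (step (H.back (i := 8) (by decide) (f1817 H)) (step (H.back (i := 1) (by decide) (f1788 H)) (step (H.back (i := 0) (by decide) (f1749 H)) (step (H.back (i := 2) (by decide) (f756 H)) (step (H.back (i := 0) (by decide) (f1799 H)) (step (H.back (i := 1) (by decide) (f1452 H)) rfl))))))

theorem f1858 : g 5 • path g [3, 4, 6, 8] p = path g [3, 9, 1, 8] p :=
  H.back (i := 0) (by decide) (f1857 H)

theorem f1859 : g 9 • path g [3, 9, 1] p = path g [3, 9, 1, 9] p :=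
  rfl

theorem f1861 : g 9 • path g [3, 9, 1, 9] p = path g [3, 9, 1, 4] p :=
  scan (u := [9]) (w := [9]) (i := 9) (r14_1_0 H) (step (f1859 H) rfl) (step (H.back (i := 4) (by decide) (f1851 H)) rfl)

theorem f1863 : g 2 • path g [3, 9, 1, 9] p = path g [3, 4, 6, 9] p :=
  scan (u := [9]) (w := [4, 5, 5, 5, 7, 5]) (i := 2) (r11_0_5 H) (step (f1859 H) rfl) (step (H.back (i := 9) (by decide) (f1823 H)) (step (H.back (i := 0) (by decide) (f1794 H)) (step (H.back (i := 0) (by decide) (f1755 H)) (step (H.back (i := 0) (by decide) (f1794 H)) (step (H.back (i := 2) (by decide) (f1796 H)) (step (H.back (i := 0) (by decide) (f1785 H)) rfl))))))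

theorem f1864 : g 7 • path g [3, 4, 6, 9] p = path g [3, 9, 1, 9] p :=
  H.back (i := 2) (by decide) (f1863 H)

theorem f1865 : g 7 • path g [3, 9, 1, 9] p = path g [3, 4, 6, 9] p :=
  scan (u := [9]) (w := [4, 0, 2, 0, 0, 0]) (i := 7) (r11_1_0 H) (step (f1859 H) rfl) (step (H.back (i := 9) (by decide) (f1823 H)) (step (H.back (i := 5) (by decide) (f1756 H)) (step (H.back (i := 7) (by decide) (f1793 H)) (step (H.back (i := 5) (by decide) (f1783 H)) (step (H.back (i := 5) (by decide) (f1786 H)) (step (H.back (i := 5) (by decide) (f1783 H)) rfl))))))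

theorem f1866 : g 2 • path g [3, 4, 6, 9] p = path g [3, 9, 1, 9] p :=
  H.back (i := 7) (by decide) (f1865 H)

theorem f1867 : g 3 • path g [3, 9, 6] p = path g [3, 9, 6, 3] p :=
  rfl

theorem f1868 : g 8 • path g [3, 9, 6, 3] p = path g [3, 9, 6] p :=
  H.back (i := 3) (by decide) (f1867 H)

theorem f1871 : g 8 • path g [3, 9, 6] p = path g [3, 9, 6, 8] p :=
  rfl

theorem f1873 : g 8 • path g [3, 9, 6, 8] p = path g [3, 9, 6, 3] p :=
  scan (u := [8]) (w := [8]) (i := 8) (r10_1_0 H) (step (f1871 H) rfl) (step (H.back (i := 3) (by decide) (f1867 H)) rfl)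

theorem f1875 : g 0 • path g [3, 9, 6, 8] p = path g [3, 9, 1, 8] p :=
  scan (u := [8]) (w := [3, 6, 5, 7, 5, 6]) (i := 0) (r8_0_5 H) (step (f1871 H) rfl) (step (H.back (i := 8) (by decide) (f1853 H)) (step (H.back (i := 1) (by decide) (f316 H)) (step (H.back (i := 0) (by decide) (f1442 H)) (step (H.back (i := 2) (by decide) (f1787 H)) (step (H.back (i := 0) (by decide) (f1766 H)) (step (H.back (i := 1) (by decide) (f323 H)) rfl))))))

theorem f1876 : g 5 • path g [3, 9, 1, 8] p = path g [3, 9, 6, 8] p :=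
  H.back (i := 0) (by decide) (f1875 H)

theorem f1877 : g 5 • path g [3, 9, 6, 8] p = path g [3, 4, 1, 8] p :=
  scan (u := [8]) (w := [3, 1, 0, 2, 0, 1]) (i := 5) (r8_1_0 H) (step (f1871 H) rfl) (step (H.back (i := 8) (by decide) (f1805 H)) (step (H.back (i := 6) (by decide) (f1789 H)) (step (H.back (i := 5) (by decide) (f1756 H)) (step (H.back (i := 7) (by decide) (f1793 H)) (step (H.back (i := 5) (by decide) (f1783 H)) (step (H.back (i := 6) (by decide) (f1453 H)) rfl))))))

theorem f1878 : g 0 • path g [3, 4, 1, 8] p = path g [3, 9, 6, 8] p :=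
  H.back (i := 5) (by decide) (f1877 H)

theorem f1879 : g 9 • path g [3, 9, 6] p = path g [3, 9, 6, 9] p :=
  rfl

theorem f1885 : g 7 • path g [3, 9, 6, 9] p = path g [3, 4, 1, 9] p :=
  scan (u := [9]) (w := [4, 0, 2, 0, 0, 0]) (i := 7) (r11_1_0 H) (step (f1879 H) rfl) (step (H.back (i := 9) (by decide) (f1809 H)) (step (H.back (i := 5) (by decide) (f1745 H)) (step (H.back (i := 7) (by decide) (f754 H)) (step (H.back (i := 5) (by decide) (f1751 H)) (step (H.back (i := 5) (by decide) (f1798 H)) (step (H.back (i := 5) (by decide) (f1751 H)) rfl))))))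

theorem f1890 : g 0 • path g [4, 1, 3] p = path g [4, 1, 3, 0] p :=
  rfl

theorem f1891 : g 5 • path g [4, 1, 3, 0] p = path g [4, 1, 3] p :=
  H.back (i := 0) (by decide) (f1890 H)

theorem f1892 : g 2 • path g [4, 1, 3, 0] p = path g [9, 6, 3] p :=
  scan (u := [0]) (w := [8, 6, 5, 7, 5, 6, 3]) (i := 2) (r9_1_7 H) (step (f1890 H) rfl) (step (H.back (i := 3) (by decide) (f1166 H)) (step (H.back (i := 1) (by decide) (f98 H)) (step (H.back (i := 0) (by decide) (f1467 H)) (step (H.back (i := 2) (by decide) (f909 H)) (step (H.back (i := 0) (by decide) (f1073 H)) (step (H.back (i := 1) (by decide) (f1079 H)) (step (H.back (i := 8) (by decide) (f355 H)) rfl)))))))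

theorem f1893 : g 7 • path g [9, 6, 3] p = path g [4, 1, 3, 0] p :=
  H.back (i := 2) (by decide) (f1892 H)

theorem f1894 : g 1 • path g [4, 1, 3, 0] p = path g [3, 4, 6, 8] p :=
  scan (u := [0]) (w := [3, 0, 1, 3, 6, 5, 7, 5, 6, 7, 0, 1, 3]) (i := 1) (r18_0_9 H) (step (f1890 H) rfl) (step (H.back (i := 8) (by decide) (f1817 H)) (step (H.back (i := 5) (by decide) (f1756 H)) (step (H.back (i := 6) (by decide) (f474 H)) (step (H.back (i := 8) (by decide) (f58 H)) (step (H.back (i := 1) (by decide) (f55 H)) (step (H.back (i := 0) (by decide) (f1073 H)) (step (H.back (i := 2) (by decide) (f932 H)) (step (H.back (i := 0) (by decide) (f1381 H)) (step (H.back (i := 1) (by decide) (f86 H)) (step (H.back (i := 2) (by decide) (f22 H)) (step (H.back (i := 5) (by decide) (f1281 H)) (step (H.back (i := 6) (by decide) (f49 H)) (step (H.back (i := 8) (by decide) (f355 H)) rfl)))))))))))))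

theorem f1896 : g 1 • path g [4, 1, 3] p = path g [4, 1, 3, 1] p :=
  rfl

theorem f1897 : g 6 • path g [4, 1, 3, 1] p = path g [4, 1, 3] p :=
  H.back (i := 1) (by decide) (f1896 H)

theorem f1898 : g 2 • path g [4, 1, 3] p = path g [4, 1, 3, 2] p :=
  rfl

theorem f1900 : g 5 • path g [4, 1, 3] p = path g [4, 1, 3, 5] p :=
  rfl

theorem f1902 : g 6 • path g [4, 1, 3] p = path g [4, 1, 3, 6] p :=
  rfl

theorem f1903 : g 1 • path g [4, 1, 3, 6] p = path g [4, 1, 3] p :=
  H.back (i := 6) (by decide) (f1902 H)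

theorem f1904 : g 7 • path g [4, 1, 3] p = path g [4, 1, 3, 7] p :=
  rfl

theorem f1905 : g 2 • path g [4, 1, 3, 7] p = path g [4, 1, 3] p :=
  H.back (i := 7) (by decide) (f1904 H)

theorem f1906 : g 5 • path g [4, 1, 3, 7] p = path g [4, 6, 3] p :=
  scan (u := [7]) (w := [8, 1, 0, 2, 0, 1, 3]) (i := 5) (r9_0_0 H) (step (f1904 H) rfl) (step (H.back (i := 3) (by decide) (f430 H)) (step (H.back (i := 6) (by decide) (f54 H)) (step (H.back (i := 5) (by decide) (f1472 H)) (step (H.back (i := 7) (by decide) (f23 H)) (step (H.back (i := 5) (by decide) (f1281 H)) (step (H.back (i := 6) (by decide) (f49 H)) (step (H.back (i := 8) (by decide) (f355 H)) rfl)))))))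

theorem f1907 : g 0 • path g [4, 6, 3] p = path g [4, 1, 3, 7] p :=
  H.back (i := 5) (by decide) (f1906 H)

theorem f1909 : g 1 • path g [4, 1, 8] p = path g [4, 1, 8, 1] p :=
  rfl

theorem f1910 : g 6 • path g [4, 1, 8, 1] p = path g [4, 1, 8] p :=
  H.back (i := 1) (by decide) (f1909 H)

theorem f1911 : g 5 • path g [4, 1, 8] p = path g [4, 1, 8, 5] p :=
  rfl

theorem f1912 : g 0 • path g [4, 1, 8, 5] p = path g [4, 1, 8] p :=
  H.back (i := 5) (by decide) (f1911 H)

theorem f1913 : path g [4, 1, 8, 5] p = path g [4, 6, 8] p :=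
  close (u := [5]) (w := [3, 1, 0, 2, 0, 1, 8]) (r8_1_1 H) (step (f1911 H) rfl) (step (H.back (i := 8) (by decide) (f438 H)) (step (H.back (i := 6) (by decide) (f54 H)) (step (H.back (i := 5) (by decide) (f1472 H)) (step (H.back (i := 7) (by decide) (f23 H)) (step (H.back (i := 5) (by decide) (f1281 H)) (step (H.back (i := 6) (by decide) (f49 H)) (step (H.back (i := 3) (by decide) (f363 H)) rfl)))))))

theorem f1914 : g 0 • path g [4, 6, 8] p = path g [4, 1, 8] p :=
  (congrArg (g 0 • ·) (f1913 H).symm).trans (f1912 H)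

theorem f1916 : g 5 • path g [4, 1, 8] p = path g [4, 6, 8] p :=
  H.back (i := 0) (by decide) (f1914 H)

theorem f1917 : g 5 • path g [4, 6, 8] p = path g [9, 1, 8] p :=
  scan (u := [5]) (w := [5, 7, 5, 9, 2, 4]) (i := 5) (r11_0_0 H) (step (f1916 H) rfl) (step (H.back (i := 0) (by decide) (f1463 H)) (step (H.back (i := 2) (by decide) (f1471 H)) (step (H.back (i := 0) (by decide) (f1463 H)) (step (H.back (i := 4) (by decide) (f1461 H)) (step (H.back (i := 7) (by decide) (f1470 H)) (step (H.back (i := 9) (by decide) (f1459 H)) rfl))))))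

theorem f1918 : g 0 • path g [9, 1, 8] p = path g [4, 6, 8] p :=
  H.back (i := 5) (by decide) (f1917 H)

theorem f1919 : g 9 • path g [4, 6, 8] p = path g [4, 6, 8] p :=
  scan (u := [5, 7, 5]) (w := [2, 4, 5, 5]) (i := 9) (r11_0_2 H) (step (f1916 H) (step (f1146 H) (step (f1916 H) rfl))) (step (H.back (i := 7) (by decide) (f1149 H)) (step (H.back (i := 9) (by decide) (f1164 H)) (step (H.back (i := 0) (by decide) (f1463 H)) (step (H.back (i := 0) (by decide) (f1466 H)) rfl))))

theorem f1920 : g 4 • path g [4, 6, 8] p = path g [4, 6, 8] p :=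
  H.back (i := 9) (by decide) (f1919 H)

theorem f1923 : g 6 • path g [4, 1, 8] p = path g [4, 1, 8, 6] p :=
  rfl

theorem f1924 : g 1 • path g [4, 1, 8, 6] p = path g [4, 1, 8] p :=
  H.back (i := 6) (by decide) (f1923 H)

theorem f1938 : g 2 • path g [4, 6, 3] p = path g [4, 6, 3, 2] p :=
  rfl

theorem f1940 : g 5 • path g [4, 6, 3] p = path g [4, 6, 3, 5] p :=
  rfl

theorem f1941 : g 0 • path g [4, 6, 3, 5] p = path g [4, 6, 3] p :=
  H.back (i := 5) (by decide) (f1940 H)

theorem f1942 : g 6 • path g [4, 6, 3] p = path g [4, 6, 3, 6] p :=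
  rfl

theorem f1944 : g 3 • path g [4, 6, 3, 6] p = path g [8, 9, 1] p :=
  scan (u := [6]) (w := [0, 2, 8, 6, 5, 7, 5]) (i := 3) (r9_1_5 H) (step (f1942 H) rfl) (step (H.back (i := 5) (by decide) (f1750 H)) (step (H.back (i := 7) (by decide) (f1754 H)) (step (H.back (i := 3) (by decide) (f1818 H)) (step (H.back (i := 1) (by decide) (f1894 H)) (step (H.back (i := 0) (by decide) (f1890 H)) (step (H.back (i := 2) (by decide) (f1905 H)) (step (H.back (i := 0) (by decide) (f1907 H)) rfl)))))))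

theorem f1945 : g 8 • path g [8, 9, 1] p = path g [4, 6, 3, 6] p :=
  H.back (i := 3) (by decide) (f1944 H)

theorem f1946 : g 2 • path g [3, 9, 6, 8] p = path g [4, 6, 3, 6] p :=
  scan (u := [3, 5, 5, 6, 5, 7, 5, 6, 5, 8]) (w := []) (i := 2) (r7_0_10 H) (step (f1944 H) (step (f1745 H) (step (f1750 H) (step (f747 H) (step (f1748 H) (step (f1145 H) (step (f1743 H) (step (f752 H) (step (f1798 H) (step (f1871 H) rfl)))))))))) rfl

theorem f1947 : g 7 • path g [4, 6, 3, 6] p = path g [3, 9, 6, 8] p :=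
  H.back (i := 2) (by decide) (f1946 H)

theorem f1950 : g 7 • path g [4, 6, 3] p = path g [4, 6, 3, 7] p :=
  rfl

theorem f1951 : g 2 • path g [4, 6, 3, 7] p = path g [4, 6, 3] p :=
  H.back (i := 7) (by decide) (f1950 H)

theorem f1952 : g 5 • path g [4, 6, 3, 7] p = path g [9, 1, 3] p :=
  scan (u := [7]) (w := [8, 1, 0, 2, 0, 1, 3]) (i := 5) (r9_0_0 H) (step (f1950 H) rfl) (step (H.back (i := 3) (by decide) (f1156 H)) (step (H.back (i := 6) (by decide) (f99 H)) (step (H.back (i := 5) (by decide) (f101 H)) (step (H.back (i := 7) (by decide) (f97 H)) (step (H.back (i := 5) (by decide) (f1451 H)) (step (H.back (i := 6) (by decide) (f1084 H)) (step (H.back (i := 8) (by decide) (f431 H)) rfl)))))))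

theorem f1953 : g 0 • path g [9, 1, 3] p = path g [4, 6, 3, 7] p :=
  H.back (i := 5) (by decide) (f1952 H)

theorem f1954 : g 6 • path g [3, 9, 6, 8] p = path g [4, 6, 3, 7] p :=
  scan (u := [5, 8, 6, 5, 8, 6, 5, 2, 1, 0, 2, 0, 1, 8]) (w := []) (i := 6) (r18_1_2 H) (step (f1952 H) (step (f1157 H) (step (f87 H) (step (f1472 H) (step (f58 H) (step (f474 H) (step (f1756 H) (step (f1781 H) (step (f1788 H) (step (f1755 H) (step (f1792 H) (step (f1784 H) (step (f1452 H) (step (f1871 H) rfl)))))))))))))) rfl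

theorem f1955 : g 1 • path g [4, 6, 3, 7] p = path g [3, 9, 6, 8] p :=
  H.back (i := 6) (by decide) (f1954 H)

theorem f1957 : g 1 • path g [4, 6, 8] p = path g [4, 6, 8, 1] p :=
  rfl

theorem f1958 : g 6 • path g [4, 6, 8, 1] p = path g [4, 6, 8] p :=
  H.back (i := 1) (by decide) (f1957 H)

theorem f1959 : g 2 • path g [4, 6, 8, 1] p = path g [4, 1, 8, 6] p :=
  scan (u := [1]) (w := [1, 0, 2, 0, 0, 5, 5, 7, 5, 7]) (i := 2) (r2_0_5 H) (step (f1957 H) rfl) (step (H.back (i := 6) (by decide) (f1923 H)) (step (H.back (i := 5) (by decide) (f1465 H)) (step (H.back (i := 7) (by decide) (f1469 H)) (step (H.back (i := 5) (by decide) (f1917 H)) (step (H.back (i := 5) (by decide) (f1916 H)) (step (H.back (i := 0) (by decide) (f1914 H)) (step (H.back (i := 0) (by decide) (f1918 H)) (step (H.back (i := 2) (by decide) (f1468 H)) (step (H.back (i := 0) (by decide) (f1466 H)) (step (H.back (i := 2) (by decide) (f1148 H)) rfl))))))))))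

theorem f1961 : g 1 • path g [4, 1, 8, 1] p = path g [4, 1, 8, 6] p :=
  scan (u := [6, 5, 7, 5, 2, 0, 2, 0, 1]) (w := [7]) (i := 1) (r0_0_1 H) (step (f1958 H) (step (f1917 H) (step (f1469 H) (step (f1465 H) (step (f1147 H) (step (f1914 H) (step (f1147 H) (step (f1914 H) (step (f1909 H) rfl))))))))) (step (H.back (i := 2) (by decide) (f1959 H)) rfl)

theorem f1963 : g 2 • path g [4, 1, 8, 6] p = path g [4, 6, 8, 1] p :=
  scan (u := [2, 1, 0, 2, 0, 0, 5, 5, 7, 5, 6]) (w := []) (i := 2) (r3_0_6 H) (step (f1959 H) (step (f1924 H) (step (f1466 H) (step (f1468 H) (step (f1918 H) (step (f1914 H) (step (f1916 H) (step (f1917 H) (step (f1469 H) (step (f1465 H) (step (f1923 H) rfl))))))))))) rfl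

theorem f1964 : g 7 • path g [4, 6, 8, 1] p = path g [4, 1, 8, 6] p :=
  H.back (i := 2) (by decide) (f1963 H)

theorem f1965 : g 6 • path g [4, 6, 8] p = path g [4, 6, 8, 6] p :=
  rfl

theorem f1966 : g 1 • path g [4, 6, 8, 6] p = path g [4, 6, 8] p :=
  H.back (i := 6) (by decide) (f1965 H)

theorem f1967 : g 7 • path g [4, 6, 8, 6] p = path g [4, 1, 8, 1] p :=
  scan (u := [6]) (w := [6, 2, 0, 2, 0, 0, 5, 5, 7, 5]) (i := 7) (r2_1_4 H) (step (f1965 H) rfl) (step (H.back (i := 1) (by decide) (f1909 H)) (step (H.back (i := 7) (by decide) (f1146 H)) (step (H.back (i := 5) (by decide) (f1916 H)) (step (H.back (i := 7) (by decide) (f1146 H)) (step (H.back (i := 5) (by decide) (f1916 H)) (step (H.back (i := 5) (by decide) (f1465 H)) (step (H.back (i := 0) (by decide) (f1466 H)) (step (H.back (i := 0) (by decide) (f1914 H)) (step (H.back (i := 2) (by decide) (f1147 H)) (step (H.back (i := 0) (by decide) (f1914 H)) rfl))))))))))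

theorem f1968 : g 2 • path g [4, 1, 8, 1] p = path g [4, 6, 8, 6] p :=
  H.back (i := 7) (by decide) (f1967 H)

theorem f1969 : g 2 • path g [4, 6, 8, 6] p = path g [4, 1, 8, 1] p :=
  scan (u := [6]) (w := [2, 1, 0, 2, 0, 0, 5, 5, 7, 5]) (i := 2) (r3_0_4 H) (step (f1965 H) rfl) (step (H.back (i := 7) (by decide) (f1967 H)) (step (H.back (i := 6) (by decide) (f1965 H)) (step (H.back (i := 5) (by decide) (f1916 H)) (step (H.back (i := 7) (by decide) (f1146 H)) (step (H.back (i := 5) (by decide) (f1916 H)) (step (H.back (i := 5) (by decide) (f1465 H)) (step (H.back (i := 0) (by decide) (f1466 H)) (step (H.back (i := 0) (by decide) (f1914 H)) (step (H.back (i := 2) (by decide) (f1147 H)) (step (H.back (i := 0) (by decide) (f1914 H)) rfl))))))))))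

theorem f1971 : g 5 • path g [4, 6, 8, 6] p = path g [3, 4, 1, 3] p :=
  scan (u := [6]) (w := [8, 6, 5, 8, 6, 5, 2, 1, 0, 2, 0, 1, 8]) (i := 5) (r18_1_1 H) (step (f1965 H) rfl) (step (H.back (i := 3) (by decide) (f1801 H)) (step (H.back (i := 1) (by decide) (f184 H)) (step (H.back (i := 0) (by decide) (f1766 H)) (step (H.back (i := 3) (by decide) (f45 H)) (step (H.back (i := 1) (by decide) (f93 H)) (step (H.back (i := 0) (by decide) (f100 H)) (step (H.back (i := 7) (by decide) (f97 H)) (step (H.back (i := 6) (by decide) (f99 H)) (step (H.back (i := 5) (by decide) (f101 H)) (step (H.back (i := 7) (by decide) (f97 H)) (step (H.back (i := 5) (by decide) (f1451 H)) (step (H.back (i := 6) (by decide) (f1084 H)) (step (H.back (i := 3) (by decide) (f439 H)) rfl)))))))))))))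

theorem f1972 : g 0 • path g [3, 4, 1, 3] p = path g [4, 6, 8, 6] p :=
  H.back (i := 5) (by decide) (f1971 H)

theorem f1973 : path g [3, 9, 6, 3] p = path g [4, 1, 8, 1] p :=
  close (u := [5, 8, 1, 0, 2, 0, 1, 3]) (w := [7]) (r9_0_1 H) (step (f1971 H) (step (f1802 H) (step (f1788 H) (step (f1755 H) (step (f1792 H) (step (f1784 H) (step (f1452 H) (step (f1867 H) rfl)))))))) (step (H.back (i := 2) (by decide) (f1969 H)) rfl)

theorem f1974 : path g [4, 1, 8, 1] p = path g [3, 9, 6, 3] p :=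
  (f1973 H).symm

theorem f1975 : g 6 • path g [3, 9, 6, 3] p = path g [4, 1, 8] p :=
  (congrArg (g 6 • ·) (f1974 H).symm).trans (f1910 H)

theorem f1977 : g 1 • path g [4, 1, 8] p = path g [3, 9, 6, 3] p :=
  H.back (i := 6) (by decide) (f1975 H)

theorem f1978 : g 1 • path g [3, 9, 6, 3] p = path g [4, 1, 8, 6] p :=
  (congrArg (g 1 • ·) (f1974 H).symm).trans (f1961 H)

theorem f1980 : g 6 • path g [4, 1, 8, 6] p = path g [3, 9, 6, 3] p :=
  H.back (i := 1) (by decide) (f1978 H)

theorem f1981 : g 2 • path g [3, 9, 6, 3] p = path g [4, 6, 8, 6] p :=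
  (congrArg (g 2 • ·) (f1974 H).symm).trans (f1968 H)

theorem f1983 : g 7 • path g [4, 6, 8, 6] p = path g [3, 9, 6, 3] p :=
  H.back (i := 2) (by decide) (f1981 H)

theorem f1987 : g 6 • path g [4, 6, 8, 6] p = path g [4, 6, 8, 1] p :=
  scan (u := [2]) (w := [6, 5, 7, 5, 7, 0, 2, 0, 1]) (i := 6) (r0_1_10 H) (step (f1981 H) rfl) (step (H.back (i := 1) (by decide) (f1957 H)) (step (H.back (i := 0) (by decide) (f1918 H)) (step (H.back (i := 2) (by decide) (f1468 H)) (step (H.back (i := 0) (by decide) (f1466 H)) (step (H.back (i := 2) (by decide) (f1148 H)) (step (H.back (i := 5) (by decide) (f1916 H)) (step (H.back (i := 7) (by decide) (f1146 H)) (step (H.back (i := 5) (by decide) (f1916 H)) (step (H.back (i := 6) (by decide) (f1975 H)) rfl)))))))))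

theorem f1988 : g 1 • path g [4, 6, 8, 1] p = path g [4, 6, 8, 6] p :=
  H.back (i := 6) (by decide) (f1987 H)

theorem f1989 : g 8 • path g [4, 6, 8, 6] p = path g [8, 9, 6] p :=
  scan (u := [6, 5, 7, 5, 6]) (w := [0, 3]) (i := 8) (r8_0_0 H) (step (f1975 H) (step (f1916 H) (step (f1146 H) (step (f1916 H) (step (f1965 H) rfl))))) (step (H.back (i := 5) (by decide) (f1751 H)) (step (H.back (i := 8) (by decide) (f1868 H)) rfl))

theorem f1990 : g 3 • path g [8, 9, 6] p = path g [4, 6, 8, 6] p :=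
  H.back (i := 8) (by decide) (f1989 H)

theorem f1994 : g 3 • path g [4, 8, 1] p = path g [4, 8, 1, 3] p :=
  rfl

theorem f1995 : g 8 • path g [4, 8, 1, 3] p = path g [4, 8, 1] p :=
  H.back (i := 3) (by decide) (f1994 H)

theorem f1996 : g 0 • path g [4, 8, 1, 3] p = path g [3, 9, 6, 3] p :=
  scan (u := [3]) (w := [2, 8, 6, 5, 7, 5, 6]) (i := 0) (r9_1_6 H) (step (f1994 H) rfl) (step (H.back (i := 7) (by decide) (f1983 H)) (step (H.back (i := 3) (by decide) (f1990 H)) (step (H.back (i := 1) (by decide) (f758 H)) (step (H.back (i := 0) (by decide) (f1747 H)) (step (H.back (i := 2) (by decide) (f1781 H)) (step (H.back (i := 0) (by decide) (f1794 H)) (step (H.back (i := 1) (by decide) (f1790 H)) rfl)))))))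

theorem f1997 : g 5 • path g [3, 9, 6, 3] p = path g [4, 8, 1, 3] p :=
  H.back (i := 0) (by decide) (f1996 H)

theorem f1998 : g 3 • path g [4, 1, 8, 6] p = path g [4, 8, 6] p :=
  scan (u := [3, 0, 1]) (w := [0, 1, 3, 6, 5, 7, 5, 6, 7, 0, 1]) (i := 3) (r18_0_8 H) (step (f1994 H) (step (f1996 H) (step (f1978 H) rfl))) (step (H.back (i := 5) (by decide) (f1795 H)) (step (H.back (i := 6) (by decide) (f190 H)) (step (H.back (i := 8) (by decide) (f60 H)) (step (H.back (i := 1) (by decide) (f475 H)) (step (H.back (i := 0) (by decide) (f1755 H)) (step (H.back (i := 2) (by decide) (f1753 H)) (step (H.back (i := 0) (by decide) (f1749 H)) (step (H.back (i := 1) (by decide) (f746 H)) (step (H.back (i := 2) (by decide) (f82 H)) (step (H.back (i := 5) (by decide) (f1743 H)) (step (H.back (i := 6) (by decide) (f469 H)) rfl)))))))))))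

theorem f2000 : g 0 • path g [4, 6, 3, 6] p = path g [4, 1, 8, 6] p :=
  scan (u := [3, 6, 5, 7, 5, 6, 8]) (w := []) (i := 0) (r8_0_7 H) (step (f1998 H) (step (f1791 H) (step (f1786 H) (step (f1450 H) (step (f1751 H) (step (f759 H) (step (f1945 H) rfl))))))) rfl

theorem f2001 : g 5 • path g [4, 1, 8, 6] p = path g [4, 6, 3, 6] p :=
  H.back (i := 0) (by decide) (f2000 H)

theorem f2002 : path g [3, 4, 1, 8] p = path g [4, 6, 8, 1] p :=
  close (u := [3, 0, 2, 8]) (w := [6, 5, 7, 5, 6]) (r9_1_6 H) (step (f1998 H) (step (f1794 H) (step (f1781 H) (step (f1805 H) rfl)))) (step (H.back (i := 1) (by decide) (f1957 H)) (step (H.back (i := 0) (by decide) (f1918 H)) (step (H.back (i := 2) (by decide) (f1468 H)) (step (H.back (i := 0) (by decide) (f1466 H)) (step (H.back (i := 1) (by decide) (f1924 H)) rfl)))))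

theorem f2003 : path g [4, 6, 8, 1] p = path g [3, 4, 1, 8] p :=
  (f2002 H).symm

theorem f2004 : g 6 • path g [3, 4, 1, 8] p = path g [4, 6, 8] p :=
  (congrArg (g 6 • ·) (f2003 H).symm).trans (f1958 H)

theorem f2006 : g 1 • path g [4, 6, 8] p = path g [3, 4, 1, 8] p :=
  H.back (i := 6) (by decide) (f2004 H)

theorem f2007 : g 2 • path g [3, 4, 1, 8] p = path g [4, 1, 8, 6] p :=
  (congrArg (g 2 • ·) (f2003 H).symm).trans (f1959 H)

theorem f2010 : g 7 • path g [3, 4, 1, 8] p = path g [4, 1, 8, 6] p :=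
  (congrArg (g 7 • ·) (f2003 H).symm).trans (f1964 H)

theorem f2013 : g 1 • path g [3, 4, 1, 8] p = path g [4, 6, 8, 6] p :=
  (congrArg (g 1 • ·) (f2003 H).symm).trans (f1988 H)

theorem f2015 : g 6 • path g [4, 6, 8, 6] p = path g [3, 4, 1, 8] p :=
  H.back (i := 1) (by decide) (f2013 H)

theorem f2016 : g 6 • path g [4, 6, 3, 6] p = path g [3, 9, 6, 8] p :=
  scan (u := [7, 5]) (w := [5, 6, 0, 2, 1, 0, 0, 5, 5]) (i := 6) (r4_1_2 H) (step (f2010 H) (step (f2001 H) rfl)) (step (H.back (i := 0) (by decide) (f1878 H)) (step (H.back (i := 1) (by decide) (f2006 H)) (step (H.back (i := 5) (by decide) (f1916 H)) (step (H.back (i := 7) (by decide) (f1146 H)) (step (H.back (i := 6) (by decide) (f2004 H)) (step (H.back (i := 5) (by decide) (f1877 H)) (step (H.back (i := 5) (by decide) (f1876 H)) (step (H.back (i := 0) (by decide) (f1875 H)) (step (H.back (i := 0) (by decide) (f1878 H)) rfl)))))))))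

theorem f2017 : g 1 • path g [3, 9, 6, 8] p = path g [4, 6, 3, 6] p :=
  H.back (i := 6) (by decide) (f2016 H)

theorem f2018 : path g [4, 1, 3, 6] p = path g [3, 4, 1, 3] p :=
  close (u := [6, 8, 6, 8, 6]) (w := [8, 6, 8, 6, 8, 6, 8, 6, 8]) (r16_1_1 H) (step (f2016 H) (step (f1873 H) (step (f1975 H) (step (f364 H) (step (f1902 H) rfl))))) (step (H.back (i := 3) (by decide) (f1801 H)) (step (H.back (i := 1) (by decide) (f184 H)) (step (H.back (i := 3) (by decide) (f35 H)) (step (H.back (i := 1) (by decide) (f55 H)) (step (H.back (i := 3) (by decide) (f439 H)) (step (H.back (i := 1) (by decide) (f1966 H)) (step (H.back (i := 3) (by decide) (f1990 H)) (step (H.back (i := 1) (by decide) (f758 H)) (step (H.back (i := 3) (by decide) (f1944 H)) rfl)))))))))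

theorem f2019 : g 1 • path g [3, 4, 1, 3] p = path g [4, 1, 3] p :=
  (congrArg (g 1 • ·) (f2018 H).symm).trans (f1903 H)

theorem f2021 : g 6 • path g [4, 1, 3] p = path g [3, 4, 1, 3] p :=
  H.back (i := 1) (by decide) (f2019 H)

theorem f2022 : path g [4, 1, 3, 7] p = path g [4, 1, 3] p :=
  close (u := [6, 8, 0]) (w := [3, 6, 5, 7, 5]) (r8_0_4 H) (step (f2004 H) (step (f440 H) (step (f1907 H) rfl))) (step (H.back (i := 8) (by decide) (f364 H)) (step (H.back (i := 1) (by decide) (f1924 H)) (step (H.back (i := 0) (by decide) (f2000 H)) (step (H.back (i := 2) (by decide) (f1946 H)) (step (H.back (i := 0) (by decide) (f1878 H)) rfl)))))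

theorem f2023 : g 2 • path g [4, 1, 3] p = path g [4, 1, 3] p :=
  (congrArg (g 2 • ·) (f2022 H).symm).trans (f1905 H)

theorem f2024 : path g [4, 1, 3, 2] p = path g [4, 1, 3] p :=
  (f1898 H).symm.trans (f2023 H)

theorem f2025 : g 5 • path g [4, 1, 3] p = path g [4, 6, 3] p :=
  (congrArg (g 5 • ·) (f2022 H).symm).trans (f1906 H)

theorem f2026 : path g [4, 1, 3, 5] p = path g [4, 6, 3] p :=
  (f1900 H).symm.trans (f2025 H)

theorem f2028 : g 0 • path g [4, 6, 3] p = path g [4, 1, 3] p :=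
  (f1907 H).trans (f2022 H)

theorem f2033 : g 2 • path g [9, 1, 3] p = path g [9, 1, 3] p :=
  scan (u := [6, 5, 8]) (w := [3, 5, 5, 6, 5, 7, 5]) (i := 2) (r7_0_6 H) (step (f2004 H) (step (f1917 H) (step (f1162 H) rfl))) (step (H.back (i := 8) (by decide) (f1162 H)) (step (H.back (i := 0) (by decide) (f1463 H)) (step (H.back (i := 0) (by decide) (f1466 H)) (step (H.back (i := 1) (by decide) (f1924 H)) (step (H.back (i := 0) (by decide) (f2000 H)) (step (H.back (i := 2) (by decide) (f1946 H)) (step (H.back (i := 0) (by decide) (f1878 H)) rfl)))))))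

theorem f2034 : g 7 • path g [9, 1, 3] p = path g [9, 1, 3] p :=
  H.back (i := 2) (by decide) (f2033 H)

theorem f2035 : g 5 • path g [4, 1, 3] p = path g [4, 6, 3] p :=
  (f1900 H).trans (f2026 H)

theorem f2036 : g 0 • path g [9, 6, 3] p = path g [9, 1, 3] p :=
  scan (u := [2, 8, 6, 5, 7, 5, 6, 3]) (w := []) (i := 0) (r9_1_8 H) (step (f2033 H) (step (f1157 H) (step (f87 H) (step (f1472 H) (step (f849 H) (step (f1281 H) (step (f92 H) (step (f1166 H) rfl)))))))) rfl

theorem f2037 : g 5 • path g [9, 1, 3] p = path g [9, 6, 3] p :=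
  H.back (i := 0) (by decide) (f2036 H)

theorem f2038 : path g [9, 6, 3] p = path g [4, 1, 3, 0] p :=
  close (u := [2, 0, 1, 1, 7, 6, 5, 7, 5]) (w := [2, 0]) (r0_0_7 H) (step (f2033 H) (step (f1953 H) (step (f1955 H) (step (f2017 H) (step (f1947 H) (step (f1954 H) (step (f1952 H) (step (f2034 H) (step (f2037 H) rfl))))))))) (step (H.back (i := 7) (by decide) (f1893 H)) (step (H.back (i := 5) (by decide) (f2037 H)) rfl))

theorem f2039 : path g [4, 1, 3, 0] p = path g [9, 6, 3] p :=
  (f2038 H).symm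

theorem f2040 : g 5 • path g [9, 6, 3] p = path g [4, 1, 3] p :=
  (congrArg (g 5 • ·) (f2039 H).symm).trans (f1891 H)

theorem f2042 : g 0 • path g [4, 1, 3] p = path g [9, 6, 3] p :=
  H.back (i := 5) (by decide) (f2040 H)

theorem f2043 : g 2 • path g [9, 6, 3] p = path g [9, 6, 3] p :=
  (congrArg (g 2 • ·) (f2039 H).symm).trans (f1892 H)

theorem f2045 : g 7 • path g [9, 6, 3] p = path g [9, 6, 3] p :=
  H.back (i := 2) (by decide) (f2043 H)

theorem f2046 : g 1 • path g [9, 6, 3] p = path g [3, 4, 6, 8] p :=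
  (congrArg (g 1 • ·) (f2039 H).symm).trans (f1894 H)

theorem f2049 : path g [4, 6, 3, 5] p = path g [9, 1, 3] p :=
  close (u := [2, 0, 2, 0, 0, 5, 5, 5]) (w := [7, 5, 7, 0]) (r1_0_7 H) (step (f2033 H) (step (f1953 H) (step (f1951 H) (step (f2028 H) (step (f2042 H) (step (f2040 H) (step (f2035 H) (step (f1940 H) rfl)))))))) (step (H.back (i := 2) (by decide) (f2033 H)) (step (H.back (i := 0) (by decide) (f2036 H)) (step (H.back (i := 2) (by decide) (f2043 H)) (step (H.back (i := 5) (by decide) (f2037 H)) rfl))))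

theorem f2050 : g 0 • path g [9, 1, 3] p = path g [4, 6, 3] p :=
  (congrArg (g 0 • ·) (f2049 H).symm).trans (f1941 H)

theorem f2051 : path g [4, 6, 3, 7] p = path g [4, 6, 3] p :=
  (f1953 H).symm.trans (f2050 H)

theorem f2052 : g 2 • path g [4, 6, 3] p = path g [4, 6, 3] p :=
  (congrArg (g 2 • ·) (f2051 H).symm).trans (f1951 H)

theorem f2053 : path g [4, 6, 3, 2] p = path g [4, 6, 3] p :=
  (f1938 H).symm.trans (f2052 H)

theorem f2055 : g 5 • path g [4, 6, 3] p = path g [9, 1, 3] p :=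
  (f1940 H).trans (f2049 H)

theorem f2063 : g 7 • path g [4, 6, 3] p = path g [4, 6, 3] p :=
  (f1950 H).trans (f2051 H)

theorem f2065 : g 0 • path g [9, 1, 3] p = path g [4, 6, 3] p :=
  (f1953 H).trans (f2051 H)

theorem f2066 : g 2 • path g [4, 6, 3] p = path g [4, 6, 3] p :=
  (f1938 H).trans (f2053 H)

theorem f2068 : g 2 • path g [4, 1, 3] p = path g [4, 1, 3] p :=
  (f1898 H).trans (f2024 H)

theorem f2069 : path g [4, 8, 1, 3] p = path g [4, 1, 3, 1] p :=
  close (u := [1, 0, 2, 1, 5, 6, 7, 5]) (w := [6, 7, 0, 2]) (r6_0_8 H) (step (f2046 H) (step (f1821 H) (step (f2007 H) (step (f1924 H) (step (f1916 H) (step (f1965 H) (step (f1983 H) (step (f1997 H) rfl)))))))) (step (H.back (i := 1) (by decide) (f1896 H)) (step (H.back (i := 2) (by decide) (f2068 H)) (step (H.back (i := 5) (by decide) (f2040 H)) (step (H.back (i := 7) (by decide) (f2045 H)) rfl))))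

theorem f2070 : g 8 • path g [4, 1, 3, 1] p = path g [4, 8, 1] p :=
  (congrArg (g 8 • ·) (f2069 H).symm).trans (f1995 H)

theorem f2072 : g 3 • path g [4, 8, 1] p = path g [4, 1, 3, 1] p :=
  H.back (i := 8) (by decide) (f2070 H)

theorem f2073 : g 0 • path g [4, 1, 3, 1] p = path g [3, 9, 6, 3] p :=
  (congrArg (g 0 • ·) (f2069 H).symm).trans (f1996 H)

theorem f2075 : g 5 • path g [3, 9, 6, 3] p = path g [4, 1, 3, 1] p :=
  H.back (i := 0) (by decide) (f2073 H)

theorem f2076 : g 2 • path g [4, 1, 3, 1] p = path g [3, 4, 1, 3] p :=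
  scan (u := [1, 0, 6, 7, 5, 6, 7, 5]) (w := [1, 0, 2]) (i := 2) (r6_1_10 H) (step (f2046 H) (step (f1821 H) (step (f2004 H) (step (f1146 H) (step (f1916 H) (step (f1965 H) (step (f1983 H) (step (f2075 H) rfl)))))))) (step (H.back (i := 6) (by decide) (f2021 H)) (step (H.back (i := 5) (by decide) (f2040 H)) (step (H.back (i := 7) (by decide) (f2045 H)) rfl)))

theorem f2077 : g 7 • path g [3, 4, 1, 3] p = path g [4, 1, 3, 1] p :=
  H.back (i := 2) (by decide) (f2076 H)

theorem f2078 : g 0 • path g [3, 4, 6, 3] p = path g [4, 1, 3, 1] p :=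
  scan (u := [2, 8, 6, 5, 7, 5, 6, 3]) (w := []) (i := 0) (r9_1_8 H) (step (f2076 H) (step (f1802 H) (step (f185 H) (step (f1780 H) (step (f1136 H) (step (f1424 H) (step (f190 H) (step (f1813 H) rfl)))))))) rfl

theorem f2079 : g 5 • path g [4, 1, 3, 1] p = path g [3, 4, 6, 3] p :=
  H.back (i := 0) (by decide) (f2078 H)

theorem f2080 : g 6 • path g [3, 4, 1, 3] p = path g [4, 1, 3, 1] p :=
  scan (u := [2]) (w := [6, 5, 7, 5, 7, 0, 2, 0, 1]) (i := 6) (r0_1_10 H) (step (f2076 H) rfl) (step (H.back (i := 1) (by decide) (f1896 H)) (step (H.back (i := 0) (by decide) (f2028 H)) (step (H.back (i := 2) (by decide) (f2066 H)) (step (H.back (i := 0) (by decide) (f2065 H)) (step (H.back (i := 2) (by decide) (f2033 H)) (step (H.back (i := 5) (by decide) (f2055 H)) (step (H.back (i := 7) (by decide) (f2063 H)) (step (H.back (i := 5) (by decide) (f2035 H)) (step (H.back (i := 6) (by decide) (f1897 H)) rfl)))))))))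

theorem f2081 : g 1 • path g [4, 1, 3, 1] p = path g [3, 4, 1, 3] p :=
  H.back (i := 6) (by decide) (f2080 H)

theorem f2082 : g 1 • path g [9, 1, 8] p = path g [3, 4, 6, 3] p :=
  scan (u := [2, 0, 1, 0, 0, 8, 7, 3, 0]) (w := [0]) (i := 1) (r7_1_6 H) (step (f2076 H) (step (f1972 H) (step (f1966 H) (step (f1914 H) (step (f1466 H) (step (f1456 H) (step (f2045 H) (step (f1457 H) (step (f1463 H) rfl))))))))) (step (H.back (i := 5) (by decide) (f2079 H)) rfl)

theorem f2083 : g 6 • path g [3, 4, 6, 3] p = path g [9, 1, 8] p :=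
  H.back (i := 1) (by decide) (f2082 H)

theorem f2084 : g 2 • path g [3, 4, 1, 3] p = path g [4, 1, 3, 1] p :=
  scan (u := [2, 1, 0, 2, 0, 0, 5, 5, 7, 5, 6]) (w := []) (i := 2) (r3_0_6 H) (step (f2076 H) (step (f2019 H) (step (f2042 H) (step (f2043 H) (step (f2036 H) (step (f2065 H) (step (f2055 H) (step (f2037 H) (step (f2045 H) (step (f2040 H) (step (f2021 H) rfl))))))))))) rfl

theorem f2085 : g 7 • path g [4, 1, 3, 1] p = path g [3, 4, 1, 3] p :=
  H.back (i := 2) (by decide) (f2084 H)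

theorem f2086 : g 1 • path g [3, 9, 1, 3] p = path g [9, 1, 3] p :=
  scan (u := [8, 5, 3]) (w := [0, 2, 0, 1]) (i := 1) (r8_1_0 H) (step (f2070 H) (step (f1786 H) (step (f1849 H) rfl))) (step (H.back (i := 5) (by decide) (f2055 H)) (step (H.back (i := 7) (by decide) (f2063 H)) (step (H.back (i := 5) (by decide) (f2035 H)) (step (H.back (i := 6) (by decide) (f1897 H)) rfl))))

theorem f2087 : g 6 • path g [9, 1, 3] p = path g [3, 9, 1, 3] p :=
  H.back (i := 1) (by decide) (f2086 H)

theorem f2088 : g 0 • path g [4, 6, 8, 6] p = path g [3, 9, 1, 3] p :=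
  scan (u := [1, 8, 5, 3, 1, 0, 2]) (w := []) (i := 0) (r8_1_7 H) (step (f2086 H) (step (f1157 H) (step (f1376 H) (step (f354 H) (step (f1896 H) (step (f2073 H) (step (f1981 H) rfl))))))) rfl

theorem f2089 : g 5 • path g [3, 9, 1, 3] p = path g [4, 6, 8, 6] p :=
  H.back (i := 0) (by decide) (f2088 H)

theorem f2090 : path g [4, 1, 8, 6] p = path g [4, 6, 8, 6] p :=
  close (u := [1, 4, 5, 6, 7, 5, 6, 9, 1, 1]) (w := [0]) (r13_0_9 H) (step (f2086 H) (step (f1473 H) (step (f2040 H) (step (f2021 H) (step (f2077 H) (step (f2079 H) (step (f2083 H) (step (f1164 H) (step (f1977 H) (step (f1978 H) rfl)))))))))) (step (H.back (i := 5) (by decide) (f2089 H)) rfl)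

theorem f2091 : path g [4, 6, 8, 6] p = path g [4, 1, 8, 6] p :=
  (f2090 H).symm

theorem f2100 : g 6 • path g [4, 1, 8, 6] p = path g [3, 4, 1, 8] p :=
  (congrArg (g 6 • ·) (f2091 H).symm).trans (f2015 H)

theorem f2101 : path g [3, 9, 6, 3] p = path g [3, 4, 1, 8] p :=
  (f1980 H).symm.trans (f2100 H)

theorem f2102 : g 8 • path g [4, 1, 8, 6] p = path g [8, 9, 6] p :=
  (congrArg (g 8 • ·) (f2091 H).symm).trans (f1989 H)

theorem f2105 : g 0 • path g [4, 1, 8, 6] p = path g [3, 9, 1, 3] p :=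
  (congrArg (g 0 • ·) (f2091 H).symm).trans (f2088 H)

theorem f2107 : g 5 • path g [3, 9, 1, 3] p = path g [4, 1, 8, 6] p :=
  H.back (i := 0) (by decide) (f2105 H)

theorem f2123 : g 5 • path g [3, 4, 1, 8] p = path g [4, 1, 3, 1] p :=
  (congrArg (g 5 • ·) (f2101 H).symm).trans (f2075 H)

theorem f2124 : path g [3, 4, 6, 8] p = path g [4, 1, 3, 1] p :=
  (f1822 H).symm.trans (f2123 H)

theorem f2125 : path g [4, 1, 3, 1] p = path g [3, 4, 6, 8] p :=
  (f2124 H).symm

theorem f2136 : g 5 • path g [3, 4, 6, 8] p = path g [3, 4, 6, 3] p :=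
  (congrArg (g 5 • ·) (f2125 H).symm).trans (f2079 H)

theorem f2137 : path g [3, 9, 1, 8] p = path g [3, 4, 6, 3] p :=
  (f1858 H).symm.trans (f2136 H)

theorem f2138 : g 1 • path g [3, 4, 6, 8] p = path g [3, 4, 1, 3] p :=
  (congrArg (g 1 • ·) (f2125 H).symm).trans (f2081 H)

theorem f2141 : g 7 • path g [3, 4, 6, 8] p = path g [3, 4, 1, 3] p :=
  (congrArg (g 7 • ·) (f2125 H).symm).trans (f2085 H)

theorem f2146 : g 8 • path g [3, 4, 6, 3] p = path g [3, 9, 1, 3] p :=
  (congrArg (g 8 • ·) (f2137 H).symm).trans (f1855 H)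

theorem f2147 : path g [3, 4, 6] p = path g [3, 9, 1, 3] p :=
  (f1814 H).symm.trans (f2146 H)

theorem f2151 : g 5 • path g [3, 4, 6, 3] p = path g [3, 9, 6, 8] p :=
  (congrArg (g 5 • ·) (f2137 H).symm).trans (f1876 H)

theorem f2154 : path g [3, 9, 1, 3] p = path g [3, 4, 6] p :=
  (f2147 H).symm

theorem f2162 : g 5 • path g [3, 4, 6] p = path g [4, 1, 8, 6] p :=
  (congrArg (g 5 • ·) (f2154 H).symm).trans (f2107 H)

theorem f2163 : path g [4, 8, 6] p = path g [4, 1, 8, 6] p :=
  (f1795 H).symm.trans (f2162 H)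

theorem f2164 : path g [4, 1, 8, 6] p = path g [4, 8, 6] p :=
  (f2163 H).symm

theorem f2174 : g 3 • path g [4, 8, 6] p = path g [4, 8, 6] p :=
  (congrArg (g 3 • ·) (f2164 H).symm).trans (f1998 H)

theorem f2176 : g 8 • path g [4, 8, 6] p = path g [4, 8, 6] p :=
  H.back (i := 3) (by decide) (f2174 H)

theorem f2179 : g 8 • path g [4, 8, 6] p = path g [8, 9, 6] p :=
  (congrArg (g 8 • ·) (f2164 H).symm).trans (f2102 H)

theorem f2180 : path g [4, 8, 6] p = path g [8, 9, 6] p :=
  (f2176 H).symm.trans (f2179 H)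

theorem f2184 : path g [8, 9, 6] p = path g [4, 8, 6] p :=
  (f2180 H).symm

theorem f2195 : g 5 • path g [4, 8, 6] p = path g [3, 9, 6] p :=
  (congrArg (g 5 • ·) (f2184 H).symm).trans (f1798 H)

theorem f2196 : path g [3, 4, 6] p = path g [3, 9, 6] p :=
  (f1756 H).symm.trans (f2195 H)

theorem f2200 : path g [3, 9, 6] p = path g [3, 4, 6] p :=
  (f2196 H).symm

theorem f2222 : g 9 • path g [3, 4, 6] p = path g [3, 9, 6, 9] p :=
  (congrArg (g 9 • ·) (f2200 H).symm).trans (f1879 H)

theorem f2223 : path g [3, 4, 6, 9] p = path g [3, 9, 6, 9] p :=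
  (f1823 H).symm.trans (f2222 H)

theorem f2224 : path g [3, 9, 6, 9] p = path g [3, 4, 6, 9] p :=
  (f2223 H).symm

theorem f2232 : g 7 • path g [3, 4, 6, 9] p = path g [3, 4, 1, 9] p :=
  (congrArg (g 7 • ·) (f2224 H).symm).trans (f1885 H)

theorem f2233 : path g [3, 9, 1, 9] p = path g [3, 4, 1, 9] p :=
  (f1864 H).symm.trans (f2232 H)

theorem f2236 : g 9 • path g [3, 4, 1, 9] p = path g [3, 9, 1, 4] p :=
  (congrArg (g 9 • ·) (f2233 H).symm).trans (f1861 H)

theorem f2237 : path g [3, 4, 1, 4] p = path g [3, 9, 1, 4] p :=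
  (f1811 H).symm.trans (f2236 H)

theorem f2244 : path g [3, 9, 1, 4] p = path g [3, 4, 1, 4] p :=
  (f2237 H).symm

theorem f2245 : g 9 • path g [3, 4, 1, 4] p = path g [3, 9, 1] p :=
  (congrArg (g 9 • ·) (f2244 H).symm).trans (f1852 H)

theorem f2246 : path g [3, 4, 1] p = path g [3, 9, 1] p :=
  (f1804 H).symm.trans (f2245 H)

theorem f2250 : path g [3, 9, 1] p = path g [3, 4, 1] p :=
  (f2246 H).symm

theorem f2272 : g 8 • path g [3, 9, 1] p = path g [3, 4, 6, 3] p :=
  (f1853 H).trans (f2137 H)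

theorem f2273 : g 8 • path g [3, 4, 1] p = path g [3, 4, 6, 3] p :=
  (congrArg (g 8 • ·) (f2250 H).symm).trans (f2272 H)

theorem f2274 : path g [3, 4, 1, 8] p = path g [3, 4, 6, 3] p :=
  (f1805 H).symm.trans (f2273 H)

theorem f2278 : path g [3, 4, 6, 3] p = path g [3, 4, 1, 8] p :=
  (f2274 H).symm

theorem f2287 : g 5 • path g [3, 4, 1, 8] p = path g [3, 9, 6, 8] p :=
  (congrArg (g 5 • ·) (f2278 H).symm).trans (f2151 H)

theorem f2288 : path g [3, 4, 6, 8] p = path g [3, 9, 6, 8] p :=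
  (f1822 H).symm.trans (f2287 H)

theorem f2289 : path g [3, 9, 6, 8] p = path g [3, 4, 6, 8] p :=
  (f2288 H).symm

theorem f2310 : g 1 • path g [3, 4, 6, 8] p = path g [4, 6, 3, 6] p :=
  (congrArg (g 1 • ·) (f2289 H).symm).trans (f2017 H)

theorem f2311 : path g [3, 4, 1, 3] p = path g [4, 6, 3, 6] p :=
  (f2138 H).symm.trans (f2310 H)

theorem f2312 : path g [4, 6, 3, 6] p = path g [3, 4, 1, 3] p :=
  (f2311 H).symm

theorem f2315 : g 3 • path g [3, 4, 1, 3] p = path g [8, 9, 1] p :=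
  (congrArg (g 3 • ·) (f2312 H).symm).trans (f1944 H)

theorem f2316 : path g [3, 4, 1, 8] p = path g [8, 9, 1] p :=
  (f1808 H).symm.trans (f2315 H)

theorem f2342 : g 6 • path g [8, 9, 1] p = path g [4, 6, 8] p :=
  (congrArg (g 6 • ·) (f2316 H).symm).trans (f2004 H)

theorem f2343 : path g [8, 9] p = path g [4, 6, 8] p :=
  (f747 H).symm.trans (f2342 H)

theorem f2356 : path g [4, 6, 8] p = path g [8, 9] p :=
  (f2343 H).symm

theorem f2372 : g 4 • path g [4, 6, 8] p = path g [8, 9] p :=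
  (f1920 H).trans (f2356 H)

theorem f2373 : g 4 • path g [8, 9] p = path g [8, 9] p :=
  (congrArg (g 4 • ·) (f2356 H).symm).trans (f2372 H)

theorem f2374 : path g [8] p = path g [8, 9] p :=
  (f75 H).symm.trans (f2373 H)

theorem f2380 : g 6 • path g [8, 9] p = path g [4, 8, 6] p :=
  (f752 H).trans (f2184 H)

theorem f2382 : path g [8, 9] p = path g [8] p :=
  (f2374 H).symm

theorem f2404 : g 6 • path g [8] p = path g [4, 8, 6] p :=
  (congrArg (g 6 • ·) (f2382 H).symm).trans (f2380 H)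

theorem f2405 : path g [8, 6] p = path g [4, 8, 6] p :=
  (f66 H).symm.trans (f2404 H)

theorem f2406 : path g [4, 8, 6] p = path g [8, 6] p :=
  (f2405 H).symm

theorem f2417 : g 7 • path g [8, 6] p = path g [4, 8, 1] p :=
  (congrArg (g 7 • ·) (f2406 H).symm).trans (f1797 H)

theorem f2418 : path g [8, 1] p = path g [4, 8, 1] p :=
  (f68 H).symm.trans (f2417 H)

theorem f2425 : path g [4, 8, 1] p = path g [8, 1] p :=
  (f2418 H).symm

theorem f2443 : g 3 • path g [4, 8, 1] p = path g [3, 4, 6, 8] p :=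
  (f2072 H).trans (f2125 H)

theorem f2444 : g 3 • path g [8, 1] p = path g [3, 4, 6, 8] p :=
  (congrArg (g 3 • ·) (f2425 H).symm).trans (f2443 H)

theorem f2445 : path g [3, 1] p = path g [3, 4, 6, 8] p :=
  (f1664 H).symm.trans (f2444 H)

theorem f2446 : path g [3, 4, 6, 8] p = path g [3, 1] p :=
  (f2445 H).symm

theorem f2464 : g 7 • path g [3, 1] p = path g [3, 4, 1, 3] p :=
  (congrArg (g 7 • ·) (f2446 H).symm).trans (f2141 H)

theorem f2465 : path g [3, 6] p = path g [3, 4, 1, 3] p :=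
  (f574 H).symm.trans (f2464 H)

theorem f2466 : path g [3, 4, 1, 3] p = path g [3, 6] p :=
  (f2465 H).symm

theorem f2475 : g 1 • path g [3, 6] p = path g [4, 1, 3] p :=
  (congrArg (g 1 • ·) (f2466 H).symm).trans (f2019 H)

theorem f2476 : path g [3] p = path g [4, 1, 3] p :=
  (f39 H).symm.trans (f2475 H)

theorem f2486 : path g [4, 1, 3] p = path g [3] p :=
  (f2476 H).symm

theorem f2504 : g 5 • path g [3] p = path g [4, 6, 3] p :=
  (congrArg (g 5 • ·) (f2486 H).symm).trans (f2035 H)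

theorem f2505 : path g [3] p = path g [4, 6, 3] p :=
  (f600 H).symm.trans (f2504 H)

theorem f2512 : path g [4, 6, 3] p = path g [3] p :=
  (f2505 H).symm

theorem f2535 : g 5 • path g [3] p = path g [9, 1, 3] p :=
  (congrArg (g 5 • ·) (f2512 H).symm).trans (f2055 H)

theorem f2536 : path g [3] p = path g [9, 1, 3] p :=
  (f600 H).symm.trans (f2535 H)

theorem f2544 : path g [9, 1, 3] p = path g [3] p :=
  (f2536 H).symm

theorem f2565 : g 6 • path g [9, 1, 3] p = path g [3, 4, 6] p :=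
  (f2087 H).trans (f2154 H)

theorem f2566 : g 6 • path g [3] p = path g [3, 4, 6] p :=
  (congrArg (g 6 • ·) (f2544 H).symm).trans (f2565 H)

theorem f2567 : path g [3, 6] p = path g [3, 4, 6] p :=
  (f38 H).symm.trans (f2566 H)

theorem f2568 : path g [3, 4, 6] p = path g [3, 6] p :=
  (f2567 H).symm

theorem f2592 : g 9 • path g [3, 6] p = path g [3, 4, 6, 9] p :=
  (congrArg (g 9 • ·) (f2568 H).symm).trans (f1823 H)

theorem f2593 : path g [3, 6, 9] p = path g [3, 4, 6, 9] p :=
  (f310 H).symm.trans (f2592 H)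

theorem f2594 : path g [3, 4, 6, 9] p = path g [3, 6, 9] p :=
  (f2593 H).symm

theorem f2603 : g 2 • path g [3, 4, 6, 9] p = path g [3, 4, 1, 9] p :=
  (f1866 H).trans (f2233 H)

theorem f2604 : g 2 • path g [3, 6, 9] p = path g [3, 4, 1, 9] p :=
  (congrArg (g 2 • ·) (f2594 H).symm).trans (f2603 H)

theorem f2605 : path g [3, 1, 9] p = path g [3, 4, 1, 9] p :=
  (f723 H).symm.trans (f2604 H)

theorem f2606 : path g [3, 4, 1, 9] p = path g [3, 1, 9] p :=
  (f2605 H).symm

theorem f2609 : g 9 • path g [3, 1, 9] p = path g [3, 4, 1, 4] p :=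
  (congrArg (g 9 • ·) (f2606 H).symm).trans (f1811 H)

theorem f2610 : path g [3, 1, 4] p = path g [3, 4, 1, 4] p :=
  (f146 H).symm.trans (f2609 H)

theorem f2617 : path g [3, 4, 1, 4] p = path g [3, 1, 4] p :=
  (f2610 H).symm

theorem f2618 : g 9 • path g [3, 1, 4] p = path g [3, 4, 1] p :=
  (congrArg (g 9 • ·) (f2617 H).symm).trans (f1804 H)

theorem f2619 : path g [3, 1] p = path g [3, 4, 1] p :=
  (f135 H).symm.trans (f2618 H)

theorem f2623 : path g [3, 4, 1] p = path g [3, 1] p :=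
  (f2619 H).symm

theorem f2624 : g 6 • path g [3, 1] p = path g [3, 4] p :=
  (congrArg (g 6 • ·) (f2623 H).symm).trans (f185 H)

theorem f2625 : path g [3] p = path g [3, 4] p :=
  (f29 H).symm.trans (f2624 H)

theorem f2675 : path g [3, 4] p = path g [3] p :=
  (f2625 H).symm

theorem f2681 : g 4 • path g [3] p = path g [3] p :=
  (f32 H).trans (f2675 H)

theorem f2693 : g 5 • path g [3] p = path g [3, 9] p :=
  (congrArg (g 5 • ·) (f2675 H).symm).trans (f1780 H)

theorem f2694 : path g [3] p = path g [3, 9] p :=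
  (f600 H).symm.trans (f2693 H)

theorem f2701 : path g [3, 9] p = path g [3] p :=
  (f2694 H).symm

theorem f2706 : g 9 • path g [3] p = path g [3] p :=
  (f40 H).trans (f2701 H)

theorem f3060 : g 1 • path g [8, 1, 4] p = path g [8, 1, 4, 1] p :=
  rfl

theorem f3061 : g 6 • path g [8, 1, 4, 1] p = path g [8, 1, 4] p :=
  H.back (i := 1) (by decide) (f3060 H)

theorem f3062 : g 2 • path g [8, 1, 4] p = path g [8, 1, 4, 2] p :=
  rfl

theorem f3063 : g 7 • path g [8, 1, 4, 2] p = path g [8, 1, 4] p :=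
  H.back (i := 2) (by decide) (f3062 H)

theorem f3064 : path g [8, 1, 4, 2] p = path g [3, 1, 9, 6] p :=
  close (u := [2]) (w := [1, 4, 2, 1, 4, 5, 5, 5, 6, 7, 5, 6, 7, 2, 1, 4]) (r19_0_11 H) (step (f3062 H) rfl) (step (H.back (i := 6) (by decide) (f1733 H)) (step (H.back (i := 9) (by decide) (f144 H)) (step (H.back (i := 7) (by decide) (f718 H)) (step (H.back (i := 6) (by decide) (f38 H)) (step (H.back (i := 9) (by decide) (f2706 H)) (step (H.back (i := 0) (by decide) (f524 H)) (step (H.back (i := 0) (by decide) (f524 H)) (step (H.back (i := 0) (by decide) (f524 H)) (step (H.back (i := 1) (by decide) (f39 H)) (step (H.back (i := 2) (by decide) (f571 H)) (step (H.back (i := 0) (by decide) (f1661 H)) (step (H.back (i := 1) (by decide) (f64 H)) (step (H.back (i := 2) (by decide) (f16 H)) (step (H.back (i := 7) (by decide) (f17 H)) (step (H.back (i := 6) (by decide) (f65 H)) (step (H.back (i := 9) (by decide) (f485 H)) rfl))))))))))))))))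

theorem f3065 : g 7 • path g [3, 1, 9, 6] p = path g [8, 1, 4] p :=
  (congrArg (g 7 • ·) (f3064 H).symm).trans (f3063 H)

theorem f3067 : g 2 • path g [8, 1, 4] p = path g [3, 1, 9, 6] p :=
  H.back (i := 7) (by decide) (f3065 H)

theorem f3068 : g 5 • path g [8, 1, 4] p = path g [8, 1, 4, 5] p :=
  rfl

theorem f3069 : g 0 • path g [8, 1, 4, 5] p = path g [8, 1, 4] p :=
  H.back (i := 5) (by decide) (f3068 H)

theorem f3070 : g 6 • path g [8, 1, 4] p = path g [8, 1, 4, 6] p :=
  rfl

theorem f3074 : g 0 • path g [8, 1, 9] p = path g [8, 1, 9, 0] p :=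
  rfl

theorem f3075 : g 5 • path g [8, 1, 9, 0] p = path g [8, 1, 9] p :=
  H.back (i := 0) (by decide) (f3074 H)

theorem f3076 : g 2 • path g [8, 1, 9, 0] p = path g [3, 1, 9, 5] p :=
  scan (u := [0]) (w := [0, 4, 5, 6, 5, 7, 5, 6, 7, 9]) (i := 2) (r12_0_8 H) (step (f3074 H) rfl) (step (H.back (i := 5) (by decide) (f1731 H)) (step (H.back (i := 9) (by decide) (f144 H)) (step (H.back (i := 0) (by decide) (f1661 H)) (step (H.back (i := 1) (by decide) (f64 H)) (step (H.back (i := 0) (by decide) (f14 H)) (step (H.back (i := 2) (by decide) (f16 H)) (step (H.back (i := 0) (by decide) (f14 H)) (step (H.back (i := 1) (by decide) (f67 H)) (step (H.back (i := 2) (by decide) (f69 H)) (step (H.back (i := 4) (by decide) (f491 H)) rfl))))))))))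

theorem f3077 : g 7 • path g [3, 1, 9, 5] p = path g [8, 1, 9, 0] p :=
  H.back (i := 2) (by decide) (f3076 H)

theorem f3078 : g 1 • path g [8, 1, 9] p = path g [8, 1, 9, 1] p :=
  rfl

theorem f3079 : g 6 • path g [8, 1, 9, 1] p = path g [8, 1, 9] p :=
  H.back (i := 1) (by decide) (f3078 H)

theorem f3080 : g 5 • path g [8, 1, 9] p = path g [8, 1, 9, 5] p :=
  rfl

theorem f3081 : g 0 • path g [8, 1, 9, 5] p = path g [8, 1, 9] p :=
  H.back (i := 5) (by decide) (f3080 H)

theorem f3082 : g 7 • path g [8, 1, 9, 5] p = path g [3, 1, 9, 0] p :=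
  scan (u := [5]) (w := [5, 4, 2, 1, 0, 2, 0, 1, 0, 9]) (i := 7) (r12_1_1 H) (step (f3080 H) rfl) (step (H.back (i := 0) (by decide) (f1726 H)) (step (H.back (i := 9) (by decide) (f144 H)) (step (H.back (i := 7) (by decide) (f718 H)) (step (H.back (i := 6) (by decide) (f38 H)) (step (H.back (i := 5) (by decide) (f600 H)) (step (H.back (i := 7) (by decide) (f536 H)) (step (H.back (i := 5) (by decide) (f600 H)) (step (H.back (i := 6) (by decide) (f29 H)) (step (H.back (i := 5) (by decide) (f1655 H)) (step (H.back (i := 4) (by decide) (f491 H)) rfl))))))))))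

theorem f3083 : g 2 • path g [3, 1, 9, 0] p = path g [8, 1, 9, 5] p :=
  H.back (i := 7) (by decide) (f3082 H)

theorem f3084 : path g [3, 6, 9, 1] p = path g [8, 1, 4] p :=
  close (u := [0, 0, 5, 5, 7, 5, 7, 1]) (w := [2, 1, 0, 2]) (r2_0_10 H) (step (f3081 H) (step (f3074 H) (step (f3075 H) (step (f3080 H) (step (f3082 H) (step (f1727 H) (step (f724 H) (step (f1842 H) rfl)))))))) (step (H.back (i := 7) (by decide) (f3065 H)) (step (H.back (i := 6) (by decide) (f1733 H)) (step (H.back (i := 5) (by decide) (f1727 H)) (step (H.back (i := 7) (by decide) (f3082 H)) rfl))))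

theorem f3085 : g 6 • path g [8, 1, 4] p = path g [3, 6, 9] p :=
  (congrArg (g 6 • ·) (f3084 H).symm).trans (f1843 H)

theorem f3086 : path g [8, 1, 4, 6] p = path g [3, 6, 9] p :=
  (f3070 H).symm.trans (f3085 H)

theorem f3088 : g 1 • path g [3, 6, 9] p = path g [8, 1, 4] p :=
  (f1842 H).trans (f3084 H)

theorem f3090 : g 6 • path g [8, 1, 4] p = path g [3, 6, 9] p :=
  (f3070 H).trans (f3086 H)

theorem f3096 : g 0 • path g [8, 1, 9, 1] p = path g [8, 6, 4] p :=
  scan (u := [0, 1]) (w := [9, 5, 7, 5, 4, 2, 1, 0, 2]) (i := 0) (r12_1_9 H) (step (f3081 H) (step (f3078 H) rfl)) (step (H.back (i := 4) (by decide) (f498 H)) (step (H.back (i := 0) (by decide) (f1730 H)) (step (H.back (i := 2) (by decide) (f571 H)) (step (H.back (i := 0) (by decide) (f1661 H)) (step (H.back (i := 9) (by decide) (f485 H)) (step (H.back (i := 7) (by decide) (f3065 H)) (step (H.back (i := 6) (by decide) (f1733 H)) (step (H.back (i := 5) (by decide) (f1727 H)) (step (H.back (i := 7) (by decide)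 (f3082 H)) rfl)))))))))

theorem f3098 : g 0 • path g [3, 6, 4, 1] p = path g [8, 6, 9] p :=
  scan (u := [0, 9, 6, 5, 6, 6, 4, 1]) (w := [2, 1]) (i := 0) (r13_1_10 H) (step (f3096 H) (step (f499 H) (step (f73 H) (step (f1655 H) (step (f29 H) (step (f38 H) (step (f218 H) (step (f1829 H) rfl)))))))) (step (H.back (i := 7) (by decide) (f741 H)) (step (H.back (i := 6) (by decide) (f3079 H)) rfl))

theorem f3099 : g 5 • path g [8, 6, 9] p = path g [3, 6, 4, 1] p :=
  H.back (i := 0) (by decide) (f3098 H)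

theorem f3100 : g 2 • path g [3, 6, 9, 0] p = path g [3, 6, 4, 1] p :=
  scan (u := [0, 4, 5, 6, 5, 7, 5, 6, 7, 9, 0]) (w := []) (i := 2) (r12_0_10 H) (step (f3098 H) (step (f737 H) (step (f1614 H) (step (f161 H) (step (f1703 H) (step (f71 H) (step (f1614 H) (step (f161 H) (step (f574 H) (step (f310 H) (step (f1840 H) rfl))))))))))) rfl

theorem f3101 : g 7 • path g [3, 6, 4, 1] p = path g [3, 6, 9, 0] p :=
  H.back (i := 2) (by decide) (f3100 H)

theorem f3102 : g 6 • path g [8, 1, 9] p = path g [8, 1, 9, 6] p :=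
  rfl

theorem f3103 : g 1 • path g [8, 1, 9, 6] p = path g [8, 1, 9] p :=
  H.back (i := 6) (by decide) (f3102 H)

theorem f3104 : g 5 • path g [8, 1, 9, 6] p = path g [8, 1, 4, 1] p :=
  scan (u := [6]) (w := [6, 6, 4, 1, 0, 2, 1, 0, 9]) (i := 5) (r13_1_1 H) (step (f3102 H) rfl) (step (H.back (i := 1) (by decide) (f3060 H)) (step (H.back (i := 1) (by decide) (f3088 H)) (step (H.back (i := 9) (by decide) (f310 H)) (step (H.back (i := 6) (by decide) (f38 H)) (step (H.back (i := 5) (by decide) (f600 H)) (step (H.back (i := 7) (by decide) (f536 H)) (step (H.back (i := 6) (by decide) (f29 H)) (step (H.back (i := 5) (by decide) (f1655 H)) (step (H.back (i := 4) (by decide) (f491 H)) rfl)))))))))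

theorem f3106 : path g [8, 1, 9, 6] p = path g [3, 1, 4, 2] p :=
  close (u := [6]) (w := [7, 9, 6, 7, 9, 6, 7, 2, 1, 0, 2, 1, 0, 0, 0, 9]) (r19_1_1 H) (step (f3102 H) rfl) (step (H.back (i := 2) (by decide) (f1689 H)) (step (H.back (i := 4) (by decide) (f134 H)) (step (H.back (i := 1) (by decide) (f28 H)) (step (H.back (i := 2) (by decide) (f521 H)) (step (H.back (i := 4) (by decide) (f2681 H)) (step (H.back (i := 1) (by decide) (f39 H)) (step (H.back (i := 2) (by decide) (f571 H)) (step (H.back (i := 7) (by decide) (f718 H)) (step (H.back (i := 6) (by decide) (f38 H)) (step (H.back (i := 5) (by decide) (f600 H)) (step (H.back (i := 7) (by decide) (f536 H)) (step (H.back (i := 6) (by decide) (f29 H)) (step (H.back (i := 5) (by decide) (f1655 H)) (step (H.back (i := 5) (by decide) (f1703 H)) (step (H.back (i := 5) (by decide) (f1655 H)) (step (H.back (i := 4) (by decide) (f491 H)) rfl))))))))))))))))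

theorem f3107 : g 1 • path g [3, 1, 4, 2] p = path g [8, 1, 9] p :=
  (congrArg (g 1 • ·) (f3106 H).symm).trans (f3103 H)

theorem f3109 : g 6 • path g [8, 1, 9] p = path g [3, 1, 4, 2] p :=
  H.back (i := 1) (by decide) (f3107 H)

theorem f3110 : g 5 • path g [3, 1, 4, 2] p = path g [8, 1, 4, 1] p :=
  (congrArg (g 5 • ·) (f3106 H).symm).trans (f3104 H)

theorem f3112 : g 0 • path g [8, 1, 4, 1] p = path g [3, 1, 4, 2] p :=
  H.back (i := 5) (by decide) (f3110 H)

theorem f3113 : path g [8, 6, 9] p = path g [3, 1, 4, 6] p :=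
  close (u := [1, 0, 2, 0, 0, 5, 5, 7, 5, 7]) (w := [1, 2]) (r2_0_7 H) (step (f3107 H) (step (f3074 H) (step (f3076 H) (step (f1732 H) (step (f1726 H) (step (f1727 H) (step (f1731 H) (step (f3077 H) (step (f3075 H) (step (f741 H) rfl)))))))))) (step (H.back (i := 6) (by decide) (f1704 H)) (step (H.back (i := 7) (by decide) (f1690 H)) rfl))

theorem f3114 : path g [3, 1, 4, 6] p = path g [8, 6, 9] p :=
  (f3113 H).symm

theorem f3115 : g 1 • path g [8, 6, 9] p = path g [3, 1, 4] p :=
  (congrArg (g 1 • ·) (f3114 H).symm).trans (f1705 H)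

theorem f3117 : g 6 • path g [3, 1, 4] p = path g [8, 6, 9] p :=
  H.back (i := 1) (by decide) (f3115 H)

theorem f3118 : path g [3, 1, 4, 2] p = path g [3, 1, 4, 7] p :=
  close (u := [1, 0, 2, 0, 0, 5, 5, 7, 5, 6]) (w := [2, 2]) (r3_0_7 H) (step (f3107 H) (step (f3074 H) (step (f3076 H) (step (f1732 H) (step (f1726 H) (step (f1727 H) (step (f1731 H) (step (f3077 H) (step (f3075 H) (step (f3109 H) rfl)))))))))) (step (H.back (i := 7) (by decide) (f1706 H)) (step (H.back (i := 7) (by decide) (f1690 H)) rfl))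

theorem f3119 : path g [3, 1, 4, 7] p = path g [3, 1, 4, 2] p :=
  (f3118 H).symm

theorem f3120 : g 2 • path g [3, 1, 4, 2] p = path g [3, 1, 4] p :=
  (congrArg (g 2 • ·) (f3119 H).symm).trans (f1707 H)

theorem f3123 : path g [3, 1, 9, 1] p = path g [3, 6, 4, 5] p :=
  close (u := [1, 0, 2, 0, 1]) (w := [0, 9, 5, 7, 5, 4, 2]) (r12_1_6 H) (step (f3107 H) (step (f3074 H) (step (f3076 H) (step (f1732 H) (step (f1728 H) rfl))))) (step (H.back (i := 5) (by decide) (f1833 H)) (step (H.back (i := 4) (by decide) (f218 H)) (step (H.back (i := 0) (by decide) (f1627 H)) (step (H.back (i := 2) (by decide) (f69 H)) (step (H.back (i := 0) (by decide) (f1691 H)) (step (H.back (i := 9) (by decide) (f135 H)) (step (H.back (i := 7) (by decide) (f1690 H)) rfl)))))))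

theorem f3124 : path g [3, 6, 4, 5] p = path g [3, 1, 9, 1] p :=
  (f3123 H).symm

theorem f3125 : g 0 • path g [3, 1, 9, 1] p = path g [3, 6, 4] p :=
  (congrArg (g 0 • ·) (f3124 H).symm).trans (f1834 H)

theorem f3127 : g 5 • path g [3, 6, 4] p = path g [3, 1, 9, 1] p :=
  H.back (i := 0) (by decide) (f3125 H)

theorem f3130 : path g [3, 1, 4, 1] p = path g [8, 1, 4, 5] p :=
  close (u := [2, 1]) (w := [0, 9, 6, 5, 6, 6, 4, 1, 0]) (r13_1_8 H) (step (f3120 H) (step (f1687 H) rfl)) (step (H.back (i := 5) (by decide) (f3068 H)) (step (H.back (i := 4) (by decide) (f484 H)) (step (H.back (i := 1) (by decide) (f64 H)) (step (H.back (i := 0) (by decide) (f14 H)) (step (H.back (i := 1) (by decide) (f67 H)) (step (H.back (i := 1) (by decide) (f72 H)) (step (H.back (i := 9) (by decide) (f485 H)) (step (H.back (i := 6) (by decide) (f3061 H)) (step (H.back (i := 5) (by decide) (f3110 H)) rfl)))))))))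

theorem f3131 : path g [8, 1, 4, 5] p = path g [3, 1, 4, 1] p :=
  (f3130 H).symm

theorem f3132 : g 0 • path g [3, 1, 4, 1] p = path g [8, 1, 4] p :=
  (congrArg (g 0 • ·) (f3131 H).symm).trans (f3069 H)

theorem f3135 : g 8 • path g [3, 6, 9, 6] p = path g [3, 1, 4, 1] p :=
  scan (u := [0, 3, 6, 5, 7, 5, 6]) (w := []) (i := 8) (r8_0_6 H) (step (f3132 H) (step (f1714 H) (step (f3117 H) (step (f3099 H) (step (f3101 H) (step (f1841 H) (step (f1846 H) rfl))))))) rfl

theorem f3136 : g 3 • path g [3, 1, 4, 1] p = path g [3, 6, 9, 6] p :=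
  H.back (i := 8) (by decide) (f3135 H)

theorem f3137 : path g [8, 1, 4, 1] p = path g [3, 1, 9] p :=
  close (u := [0, 1]) (w := [4, 5, 6, 7, 5, 6, 9, 1, 1]) (r13_0_8 H) (step (f3132 H) (step (f3060 H) rfl)) (step (H.back (i := 9) (by decide) (f144 H)) (step (H.back (i := 0) (by decide) (f1661 H)) (step (H.back (i := 1) (by decide) (f64 H)) (step (H.back (i := 2) (by decide) (f16 H)) (step (H.back (i := 0) (by decide) (f14 H)) (step (H.back (i := 1) (by decide) (f67 H)) (step (H.back (i := 4) (by decide) (f737 H)) (step (H.back (i := 6) (by decide) (f3117 H)) (step (H.back (i := 6) (by decide) (f1688 H)) rfl)))))))))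

theorem f3138 : g 6 • path g [3, 1, 9] p = path g [8, 1, 4] p :=
  (congrArg (g 6 • ·) (f3137 H).symm).trans (f3061 H)

theorem f3139 : path g [3, 1, 9, 6] p = path g [8, 1, 4] p :=
  (f1733 H).symm.trans (f3138 H)

theorem f3140 : g 0 • path g [3, 1, 9] p = path g [3, 1, 4, 2] p :=
  (congrArg (g 0 • ·) (f3137 H).symm).trans (f3112 H)

theorem f3141 : path g [3, 1, 9, 0] p = path g [3, 1, 4, 2] p :=
  (f1726 H).symm.trans (f3140 H)

theorem f3145 : g 2 • path g [3, 1, 4, 2] p = path g [8, 1, 9, 5] p :=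
  (congrArg (g 2 • ·) (f3141 H).symm).trans (f3083 H)

theorem f3146 : path g [3, 1, 4] p = path g [8, 1, 9, 5] p :=
  (f3120 H).symm.trans (f3145 H)

theorem f3147 : path g [8, 1, 9, 5] p = path g [3, 1, 4] p :=
  (f3146 H).symm

theorem f3148 : g 0 • path g [3, 1, 4] p = path g [8, 1, 9] p :=
  (congrArg (g 0 • ·) (f3147 H).symm).trans (f3081 H)

theorem f3149 : path g [3, 1, 4, 0] p = path g [8, 1, 9] p :=
  (f1685 H).symm.trans (f3148 H)

theorem f3157 : g 1 • path g [8, 1, 4] p = path g [3, 1, 9] p :=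
  (f3060 H).trans (f3137 H)

theorem f3163 : g 2 • path g [8, 1, 4] p = path g [8, 1, 4] p :=
  (f3067 H).trans (f3139 H)

theorem f3165 : g 0 • path g [3, 1, 9] p = path g [3, 1, 4, 2] p :=
  (f1726 H).trans (f3141 H)

theorem f3166 : path g [3, 1, 4, 2] p = path g [3, 1, 4] p :=
  close (u := [0, 2, 1, 0]) (w := [9, 6, 5, 6, 6, 4, 1]) (r13_1_7 H) (step (f3132 H) (step (f3163 H) (step (f3157 H) (step (f3165 H) rfl)))) (step (H.back (i := 4) (by decide) (f134 H)) (step (H.back (i := 1) (by decide) (f28 H)) (step (H.back (i := 0) (by decide) (f524 H)) (step (H.back (i := 1) (by decide) (f39 H)) (step (H.back (i := 1) (by decide) (f163 H)) (step (H.back (i := 9) (by decide) (f135 H)) (step (H.back (i := 6) (by decide) (f1688 H)) rfl)))))))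

theorem f3170 : g 1 • path g [3, 1, 4] p = path g [8, 1, 9] p :=
  (congrArg (g 1 • ·) (f3166 H).symm).trans (f3107 H)

theorem f3171 : path g [3, 1, 4, 1] p = path g [8, 1, 9] p :=
  (f1687 H).symm.trans (f3170 H)

theorem f3175 : g 2 • path g [3, 1, 4] p = path g [3, 1, 4] p :=
  (f1689 H).trans (f3166 H)

theorem f3178 : g 0 • path g [3, 1, 9] p = path g [3, 1, 4] p :=
  (f3165 H).trans (f3166 H)

theorem f3183 : g 0 • path g [8, 1, 9] p = path g [8, 1, 4] p :=
  (congrArg (g 0 • ·) (f3171 H).symm).trans (f3132 H)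

theorem f3184 : path g [8, 1, 9, 0] p = path g [8, 1, 4] p :=
  (f3074 H).symm.trans (f3183 H)

theorem f3185 : g 3 • path g [8, 1, 9] p = path g [3, 6, 9, 6] p :=
  (congrArg (g 3 • ·) (f3171 H).symm).trans (f3136 H)

theorem f3186 : path g [3, 1, 9] p = path g [3, 6, 9, 6] p :=
  (f1721 H).symm.trans (f3185 H)

theorem f3187 : path g [3, 6, 9, 6] p = path g [3, 1, 9] p :=
  (f3186 H).symm

theorem f3188 : g 1 • path g [3, 1, 9] p = path g [3, 6, 9] p :=
  (congrArg (g 1 • ·) (f3187 H).symm).trans (f1847 H)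

theorem f3189 : path g [3, 1, 9, 1] p = path g [3, 6, 9] p :=
  (f1728 H).symm.trans (f3188 H)

theorem f3194 : g 6 • path g [3, 6, 9] p = path g [3, 1, 9] p :=
  (f1846 H).trans (f3187 H)

theorem f3196 : g 0 • path g [3, 6, 9] p = path g [3, 6, 4] p :=
  (congrArg (g 0 • ·) (f3189 H).symm).trans (f3125 H)

theorem f3197 : path g [3, 6, 9, 0] p = path g [3, 6, 4] p :=
  (f1840 H).symm.trans (f3196 H)

theorem f3199 : g 5 • path g [3, 6, 4] p = path g [3, 6, 9] p :=
  (f3127 H).trans (f3189 H)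

theorem f3201 : g 2 • path g [3, 6, 4] p = path g [3, 6, 4, 1] p :=
  (congrArg (g 2 • ·) (f3197 H).symm).trans (f3100 H)

theorem f3202 : path g [3, 6, 4, 2] p = path g [3, 6, 4, 1] p :=
  (f1831 H).symm.trans (f3201 H)

theorem f3204 : g 7 • path g [3, 6, 4, 1] p = path g [3, 6, 4] p :=
  (f3101 H).trans (f3197 H)

theorem f3209 : g 2 • path g [8, 1, 4] p = path g [3, 1, 9, 5] p :=
  (congrArg (g 2 • ·) (f3184 H).symm).trans (f3076 H)

theorem f3210 : path g [8, 1, 4] p = path g [3, 1, 9, 5] p :=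
  (f3163 H).symm.trans (f3209 H)

theorem f3211 : path g [3, 1, 9, 5] p = path g [8, 1, 4] p :=
  (f3210 H).symm

theorem f3218 : g 5 • path g [3, 1, 9] p = path g [8, 1, 4] p :=
  (f1731 H).trans (f3211 H)

theorem f3220 : g 0 • path g [3, 1, 4] p = path g [8, 1, 9] p :=
  (f1685 H).trans (f3149 H)

theorem f3221 : g 1 • path g [3, 1, 9] p = path g [3, 6, 9] p :=
  (f1728 H).trans (f3189 H)

theorem f3222 : g 0 • path g [3, 6, 9] p = path g [3, 6, 4] p :=
  (f1840 H).trans (f3197 H)

theorem f3223 : g 2 • path g [3, 6, 4] p = path g [3, 6, 4, 1] p :=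
  (f1831 H).trans (f3202 H)

theorem f3224 : path g [3, 6, 4, 7] p = path g [3, 6, 4] p :=
  close (u := [1, 3, 7]) (w := [5, 8, 1, 0, 2, 0]) (r9_0_7 H) (step (f3115 H) (step (f1697 H) (step (f1837 H) rfl))) (step (H.back (i := 0) (by decide) (f3222 H)) (step (H.back (i := 3) (by decide) (f1699 H)) (step (H.back (i := 6) (by decide) (f3194 H)) (step (H.back (i := 5) (by decide) (f3199 H)) (step (H.back (i := 7) (by decide) (f3204 H)) (step (H.back (i := 5) (by decide) (f3099 H)) rfl))))))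

theorem f3225 : g 2 • path g [3, 6, 4] p = path g [3, 6, 4] p :=
  (congrArg (g 2 • ·) (f3224 H).symm).trans (f1838 H)

theorem f3226 : path g [3, 6, 4, 1] p = path g [3, 6, 4] p :=
  (f3223 H).symm.trans (f3225 H)

theorem f3227 : g 6 • path g [3, 6, 4] p = path g [3, 6, 4] p :=
  (congrArg (g 6 • ·) (f3226 H).symm).trans (f1830 H)

theorem f3228 : path g [3, 6, 4, 6] p = path g [3, 6, 4] p :=
  (f1835 H).symm.trans (f3227 H)

theorem f3229 : g 0 • path g [3, 6, 4] p = path g [8, 6, 9] p :=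
  (congrArg (g 0 • ·) (f3226 H).symm).trans (f3098 H)

theorem f3230 : path g [3, 6, 4, 0] p = path g [8, 6, 9] p :=
  (f1827 H).symm.trans (f3229 H)

theorem f3232 : g 7 • path g [3, 6, 4] p = path g [3, 6, 4] p :=
  (f1837 H).trans (f3224 H)

theorem f3235 : g 5 • path g [8, 6, 9] p = path g [3, 6, 4] p :=
  (f3099 H).trans (f3226 H)

theorem f3238 : g 1 • path g [3, 6, 4] p = path g [3, 6, 4] p :=
  (f1829 H).trans (f3226 H)

theorem f3240 : g 1 • path g [3, 1, 4] p = path g [8, 1, 9] p :=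
  (f1687 H).trans (f3171 H)

theorem f3241 : path g [8, 6, 9] p = path g [8, 1, 9, 1] p :=
  close (u := [1, 1, 7]) (w := [6, 5, 7, 5, 2, 0, 2, 0]) (r0_0_9 H) (step (f3115 H) (step (f3240 H) (step (f741 H) rfl))) (step (H.back (i := 1) (by decide) (f3078 H)) (step (H.back (i := 0) (by decide) (f3220 H)) (step (H.back (i := 2) (by decide) (f3175 H)) (step (H.back (i := 0) (by decide) (f3178 H)) (step (H.back (i := 7) (by decide) (f732 H)) (step (H.back (i := 5) (by decide) (f3199 H)) (step (H.back (i := 7) (by decide) (f3232 H)) (step (H.back (i := 5) (by decide) (f3235 H)) rfl))))))))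

theorem f3242 : path g [8, 1, 9, 1] p = path g [8, 6, 9] p :=
  (f3241 H).symm

theorem f3243 : g 6 • path g [8, 6, 9] p = path g [8, 1, 9] p :=
  (congrArg (g 6 • ·) (f3242 H).symm).trans (f3079 H)

theorem f3245 : g 1 • path g [8, 1, 9] p = path g [8, 6, 9] p :=
  H.back (i := 6) (by decide) (f3243 H)

theorem f3251 : g 0 • path g [3, 6, 4] p = path g [8, 6, 9] p :=
  (f1827 H).trans (f3230 H)

theorem f3263 : g 3 • path g [8, 6, 9] p = path g [8, 6, 9] p :=
  scan (u := [1, 3, 1, 3, 1, 3, 1, 3, 1, 3, 1, 3, 1]) (w := []) (i := 3) (r16_0_0 H) (step (f3115 H) (step (f1697 H) (step (f3238 H) (step (f1719 H) (step (f3157 H) (step (f1699 H) (step (f3088 H) (step (f1714 H) (step (f3240 H) (step (f1721 H) (step (f3221 H) (step (f1723 H) (step (f3245 H) rfl))))))))))))) rfl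

theorem f3264 : g 8 • path g [8, 6, 9] p = path g [8, 6, 9] p :=
  H.back (i := 3) (by decide) (f3263 H)

theorem f3265 : g 6 • path g [3, 6, 4] p = path g [3, 6, 4] p :=
  (f1835 H).trans (f3228 H)

theorem f3266 : path g [3, 1, 4] p = path g [8, 6, 9] p :=
  close (u := [1, 3, 0, 1, 3, 0, 1, 3, 6, 5, 7, 5, 6, 7, 0]) (w := []) (r18_0_7 H) (step (f3115 H) (step (f1697 H) (step (f3251 H) (step (f3115 H) (step (f1697 H) (step (f3251 H) (step (f3115 H) (step (f1697 H) (step (f3265 H) (step (f3199 H) (step (f732 H) (step (f3218 H) (step (f3090 H) (step (f732 H) (step (f3178 H) rfl))))))))))))))) rfl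

theorem f3267 : path g [8, 6, 9] p = path g [3, 1, 4] p :=
  (f3266 H).symm

theorem f3281 : g 6 • path g [3, 1, 4] p = path g [3, 1, 4] p :=
  (f3117 H).trans (f3267 H)

theorem f3288 : g 8 • path g [8, 6, 9] p = path g [3, 1, 4] p :=
  (f3264 H).trans (f3267 H)

theorem f3289 : g 8 • path g [3, 1, 4] p = path g [3, 1, 4] p :=
  (congrArg (g 8 • ·) (f3267 H).symm).trans (f3288 H)

theorem f3290 : path g [8, 1, 4] p = path g [3, 1, 4] p :=
  (f1716 H).symm.trans (f3289 H)

theorem f3298 : g 8 • path g [3, 1, 4] p = path g [3, 1, 4] p :=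
  (f1716 H).trans (f3290 H)

theorem f3309 : g 6 • path g [3, 1, 4] p = path g [3, 6, 9] p :=
  (congrArg (g 6 • ·) (f3290 H).symm).trans (f3090 H)

theorem f3310 : path g [3, 1, 4] p = path g [3, 6, 9] p :=
  (f3281 H).symm.trans (f3309 H)

theorem f3314 : path g [3, 6, 9] p = path g [3, 1, 4] p :=
  (f3310 H).symm

theorem f3334 : g 6 • path g [3, 1, 4] p = path g [3, 1, 9] p :=
  (congrArg (g 6 • ·) (f3314 H).symm).trans (f3194 H)

theorem f3335 : path g [3, 1, 4] p = path g [3, 1, 9] p :=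
  (f3281 H).symm.trans (f3334 H)

theorem f3336 : path g [3, 1, 9] p = path g [3, 1, 4] p :=
  (f3335 H).symm

theorem f3355 : g 1 • path g [3, 1, 9] p = path g [3, 1, 4] p :=
  (f3221 H).trans (f3314 H)

theorem f3356 : g 1 • path g [3, 1, 4] p = path g [3, 1, 4] p :=
  (congrArg (g 1 • ·) (f3336 H).symm).trans (f3355 H)

theorem f3357 : path g [8, 1, 9] p = path g [3, 1, 4] p :=
  (f3240 H).symm.trans (f3356 H)

theorem f3376 : g 3 • path g [8, 1, 9] p = path g [3, 1, 4] p :=
  (f1721 H).trans (f3336 H)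

theorem f3377 : g 3 • path g [3, 1, 4] p = path g [3, 1, 4] p :=
  (congrArg (g 3 • ·) (f3357 H).symm).trans (f3376 H)

theorem f3378 : path g [3, 6, 4] p = path g [3, 1, 4] p :=
  (f1697 H).symm.trans (f3377 H)

theorem f3394 : g 9 • path g [3, 1, 4] p = path g [3, 6] p :=
  (congrArg (g 9 • ·) (f3378 H).symm).trans (f219 H)

theorem f3395 : path g [3, 1] p = path g [3, 6] p :=
  (f135 H).symm.trans (f3394 H)

theorem f3423 : path g [3, 6] p = path g [3, 1] p :=
  (f3395 H).symm

theorem f3425 : g 1 • path g [3, 1] p = path g [3, 1] p :=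
  (f163 H).trans (f3423 H)

theorem f3445 : g 8 • path g [3, 1] p = path g [3, 1] p :=
  (congrArg (g 8 • ·) (f3423 H).symm).trans (f1700 H)

theorem f3446 : path g [8, 1] p = path g [3, 1] p :=
  (f1712 H).symm.trans (f3445 H)

theorem f3449 : g 9 • path g [3, 1] p = path g [3, 1, 4] p :=
  (f144 H).trans (f3336 H)

theorem f3457 : g 1 • path g [3, 1] p = path g [8, 6] p :=
  (congrArg (g 1 • ·) (f3446 H).symm).trans (f72 H)

theorem f3458 : path g [3, 1] p = path g [8, 6] p :=
  (f3425 H).symm.trans (f3457 H)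

theorem f3477 : path g [8, 6] p = path g [3, 1] p :=
  (f3458 H).symm

theorem f3486 : g 6 • path g [8, 6] p = path g [3, 1] p :=
  (f73 H).trans (f3446 H)

theorem f3487 : g 6 • path g [3, 1] p = path g [3, 1] p :=
  (congrArg (g 6 • ·) (f3477 H).symm).trans (f3486 H)

theorem f3488 : path g [3] p = path g [3, 1] p :=
  (f29 H).symm.trans (f3487 H)

theorem f3525 : path g [3, 1] p = path g [3] p :=
  (f3488 H).symm

theorem f3554 : g 9 • path g [3] p = path g [3, 1, 4] p :=
  (congrArg (g 9 • ·) (f3525 H).symm).trans (f3449 H)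

theorem f3555 : path g [3] p = path g [3, 1, 4] p :=
  (f2706 H).symm.trans (f3554 H)

theorem f3556 : path g [3, 1, 4] p = path g [3] p :=
  (f3555 H).symm

theorem f3584 : g 8 • path g [3, 1, 4] p = path g [3] p :=
  (f3298 H).trans (f3556 H)

theorem f3585 : g 8 • path g [3] p = path g [3] p :=
  (congrArg (g 8 • ·) (f3556 H).symm).trans (f3584 H)

theorem f3586 : path g [] p = path g [3] p :=
  (f7 H).symm.trans (f3585 H)

theorem f3587 : path g [3] p = path g [] p :=
  (f3586 H).symm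

theorem f3591 : g 3 • path g [] p = path g [] p :=
  (f6 H).trans (f3587 H)

theorem collapse : g 3 • p = p :=
  (f3591 H)

end CfsgQS3.Cert011
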