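import Cfsg.Agent.Lib.QS3.Coset
import Cfsg.Agent.Lib.QS3.RelData

/-!
Groups with an involution centraliser `Q.S₃`: a certificate of coset enumeration, case 100.
-/

set_option autoImplicit false
set_option maxRecDepth 10000

namespace CfsgQS3.Cert100

variable {M α : Type*} [Group M] [MulAction M α] {g : ℕ → M} {p : α} (H : CosetData rels100 3 g p)
include H

theorem r0_0_0 : ∀ x : α, path g [1, 1, 1] x = x :=
  trivial_rot 0 (H.trivial_rev (i := 0) (by decide)) (by decide)

theorem r0_1_0 : ∀ x : α, path g [6, 6, 6] x = x :=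
  trivial_rot 0 (H.trivial_inv (i := 0) (by decide) (by decide)) (by decide)

theorem r1_0_0 : ∀ x : α, path g [2, 1, 2, 1] x = x :=
  trivial_rot 0 (H.trivial_rev (i := 1) (by decide)) (by decide)

theorem r1_0_1 : ∀ x : α, path g [1, 2, 1, 2] x = x :=
  trivial_rot 1 (H.trivial_rev (i := 1) (by decide)) (by decide)

theorem r1_1_0 : ∀ x : α, path g [6, 7, 6, 7] x = x :=
  trivial_rot 0 (H.trivial_inv (i := 1) (by decide) (by decide)) (by decide)

theorem r2_0_1 : ∀ x : α, path g [0, 0, 2, 0, 0, 2] x = x :=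
  trivial_rot 1 (H.trivial_rev (i := 2) (by decide)) (by decide)

theorem r2_0_2 : ∀ x : α, path g [0, 2, 0, 0, 2, 0] x = x :=
  trivial_rot 2 (H.trivial_rev (i := 2) (by decide)) (by decide)

theorem r2_1_0 : ∀ x : α, path g [5, 5, 7, 5, 5, 7] x = x :=
  trivial_rot 0 (H.trivial_inv (i := 2) (by decide) (by decide)) (by decide)

theorem r2_1_1 : ∀ x : α, path g [5, 7, 5, 5, 7, 5] x = x :=
  trivial_rot 1 (H.trivial_inv (i := 2) (by decide) (by decide)) (by decide)

theorem r2_1_2 : ∀ x : α, path g [7, 5, 5, 7, 5, 5] x = x :=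
  trivial_rot 2 (H.trivial_inv (i := 2) (by decide) (by decide)) (by decide)

theorem r3_0_0 : ∀ x : α, path g [1, 5, 1, 0, 1, 0] x = x :=
  trivial_rot 0 (H.trivial_rev (i := 3) (by decide)) (by decide)

theorem r3_0_1 : ∀ x : α, path g [5, 1, 0, 1, 0, 1] x = x :=
  trivial_rot 1 (H.trivial_rev (i := 3) (by decide)) (by decide)

theorem r3_0_3 : ∀ x : α, path g [0, 1, 0, 1, 5, 1] x = x :=
  trivial_rot 3 (H.trivial_rev (i := 3) (by decide)) (by decide)

theorem r3_0_4 : ∀ x : α, path g [1, 0, 1, 5, 1, 0] x = x :=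
  trivial_rot 4 (H.trivial_rev (i := 3) (by decide)) (by decide)

theorem r3_0_5 : ∀ x : α, path g [0, 1, 5, 1, 0, 1] x = x :=
  trivial_rot 5 (H.trivial_rev (i := 3) (by decide)) (by decide)

theorem r3_1_1 : ∀ x : α, path g [6, 5, 6, 0, 6, 5] x = x :=
  trivial_rot 1 (H.trivial_inv (i := 3) (by decide) (by decide)) (by decide)

theorem r3_1_2 : ∀ x : α, path g [5, 6, 0, 6, 5, 6] x = x :=
  trivial_rot 2 (H.trivial_inv (i := 3) (by decide) (by decide)) (by decide)

theorem r3_1_3 : ∀ x : α, path g [6, 0, 6, 5, 6, 5] x = x :=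
  trivial_rot 3 (H.trivial_inv (i := 3) (by decide) (by decide)) (by decide)

theorem r3_1_4 : ∀ x : α, path g [0, 6, 5, 6, 5, 6] x = x :=
  trivial_rot 4 (H.trivial_inv (i := 3) (by decide) (by decide)) (by decide)

theorem r4_0_1 : ∀ x : α, path g [0, 2, 0, 2, 0, 2, 0, 2] x = x :=
  trivial_rot 1 (H.trivial_rev (i := 4) (by decide)) (by decide)

theorem r4_1_0 : ∀ x : α, path g [5, 7, 5, 7, 5, 7, 5, 7] x = x :=
  trivial_rot 0 (H.trivial_inv (i := 4) (by decide) (by decide)) (by decide)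

theorem r4_1_1 : ∀ x : α, path g [7, 5, 7, 5, 7, 5, 7, 5] x = x :=
  trivial_rot 1 (H.trivial_inv (i := 4) (by decide) (by decide)) (by decide)

theorem r5_0_7 : ∀ x : α, path g [2, 1, 0, 2, 1, 5, 6, 7, 5, 6, 7, 0] x = x :=
  trivial_rot 7 (H.trivial_rev (i := 5) (by decide)) (by decide)

theorem r5_0_10 : ∀ x : α, path g [2, 1, 5, 6, 7, 5, 6, 7, 0, 2, 1, 0] x = x :=
  trivial_rot 10 (H.trivial_rev (i := 5) (by decide)) (by decide)

theorem r5_1_2 : ∀ x : α, path g [5, 6, 7, 5, 2, 1, 0, 2, 1, 0, 6, 7] x = x :=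
  trivial_rot 2 (H.trivial_inv (i := 5) (by decide) (by decide)) (by decide)

theorem r5_1_5 : ∀ x : α, path g [5, 2, 1, 0, 2, 1, 0, 6, 7, 5, 6, 7] x = x :=
  trivial_rot 5 (H.trivial_inv (i := 5) (by decide) (by decide)) (by decide)

theorem r6_0_0 : ∀ x : α, path g [5, 5, 6, 5, 7, 5, 6, 5, 8, 2, 3] x = x :=
  trivial_rot 0 (H.trivial_rev (i := 6) (by decide)) (by decide)

theorem r6_0_1 : ∀ x : α, path g [5, 6, 5, 7, 5, 6, 5, 8, 2, 3, 5] x = x :=
  trivial_rot 1 (H.trivial_rev (i := 6) (by decide)) (by decide)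

theorem r6_0_3 : ∀ x : α, path g [5, 7, 5, 6, 5, 8, 2, 3, 5, 5, 6] x = x :=
  trivial_rot 3 (H.trivial_rev (i := 6) (by decide)) (by decide)

theorem r6_0_4 : ∀ x : α, path g [7, 5, 6, 5, 8, 2, 3, 5, 5, 6, 5] x = x :=
  trivial_rot 4 (H.trivial_rev (i := 6) (by decide)) (by decide)

theorem r6_0_7 : ∀ x : α, path g [5, 8, 2, 3, 5, 5, 6, 5, 7, 5, 6] x = x :=
  trivial_rot 7 (H.trivial_rev (i := 6) (by decide)) (by decide)

theorem r6_0_8 : ∀ x : α, path g [8, 2, 3, 5, 5, 6, 5, 7, 5, 6, 5] x = x :=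
  trivial_rot 8 (H.trivial_rev (i := 6) (by decide)) (by decide)

theorem r6_0_10 : ∀ x : α, path g [3, 5, 5, 6, 5, 7, 5, 6, 5, 8, 2] x = x :=
  trivial_rot 10 (H.trivial_rev (i := 6) (by decide)) (by decide)

theorem r6_1_0 : ∀ x : α, path g [8, 7, 3, 0, 1, 0, 2, 0, 1, 0, 0] x = x :=
  trivial_rot 0 (H.trivial_inv (i := 6) (by decide) (by decide)) (by decide)

theorem r6_1_2 : ∀ x : α, path g [3, 0, 1, 0, 2, 0, 1, 0, 0, 8, 7] x = x :=
  trivial_rot 2 (H.trivial_inv (i := 6) (by decide) (by decide)) (by decide)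

theorem r6_1_3 : ∀ x : α, path g [0, 1, 0, 2, 0, 1, 0, 0, 8, 7, 3] x = x :=
  trivial_rot 3 (H.trivial_inv (i := 6) (by decide) (by decide)) (by decide)

theorem r6_1_5 : ∀ x : α, path g [0, 2, 0, 1, 0, 0, 8, 7, 3, 0, 1] x = x :=
  trivial_rot 5 (H.trivial_inv (i := 6) (by decide) (by decide)) (by decide)

theorem r6_1_6 : ∀ x : α, path g [2, 0, 1, 0, 0, 8, 7, 3, 0, 1, 0] x = x :=
  trivial_rot 6 (H.trivial_inv (i := 6) (by decide) (by decide)) (by decide)

theorem r7_0_1 : ∀ x : α, path g [5, 7, 5, 6, 8, 0, 3, 6] x = x :=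
  trivial_rot 1 (H.trivial_rev (i := 7) (by decide)) (by decide)

theorem r7_0_2 : ∀ x : α, path g [7, 5, 6, 8, 0, 3, 6, 5] x = x :=
  trivial_rot 2 (H.trivial_rev (i := 7) (by decide)) (by decide)

theorem r7_0_5 : ∀ x : α, path g [8, 0, 3, 6, 5, 7, 5, 6] x = x :=
  trivial_rot 5 (H.trivial_rev (i := 7) (by decide)) (by decide)

theorem r7_1_0 : ∀ x : α, path g [8, 5, 3, 1, 0, 2, 0, 1] x = x :=
  trivial_rot 0 (H.trivial_inv (i := 7) (by decide) (by decide)) (by decide)

theorem r7_1_1 : ∀ x : α, path g [5, 3, 1, 0, 2, 0, 1, 8] x = x :=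
  trivial_rot 1 (H.trivial_inv (i := 7) (by decide) (by decide)) (by decide)

theorem r7_1_2 : ∀ x : α, path g [3, 1, 0, 2, 0, 1, 8, 5] x = x :=
  trivial_rot 2 (H.trivial_inv (i := 7) (by decide) (by decide)) (by decide)

theorem r7_1_3 : ∀ x : α, path g [1, 0, 2, 0, 1, 8, 5, 3] x = x :=
  trivial_rot 3 (H.trivial_inv (i := 7) (by decide) (by decide)) (by decide)

theorem r7_1_4 : ∀ x : α, path g [0, 2, 0, 1, 8, 5, 3, 1] x = x :=
  trivial_rot 4 (H.trivial_inv (i := 7) (by decide) (by decide)) (by decide)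

theorem r7_1_5 : ∀ x : α, path g [2, 0, 1, 8, 5, 3, 1, 0] x = x :=
  trivial_rot 5 (H.trivial_inv (i := 7) (by decide) (by decide)) (by decide)

theorem r8_0_0 : ∀ x : α, path g [7, 5, 8, 1, 0, 2, 0, 1, 3] x = x :=
  trivial_rot 0 (H.trivial_rev (i := 8) (by decide)) (by decide)

theorem r8_0_1 : ∀ x : α, path g [5, 8, 1, 0, 2, 0, 1, 3, 7] x = x :=
  trivial_rot 1 (H.trivial_rev (i := 8) (by decide)) (by decide)

theorem r8_0_3 : ∀ x : α, path g [1, 0, 2, 0, 1, 3, 7, 5, 8] x = x :=
  trivial_rot 3 (H.trivial_rev (i := 8) (by decide)) (by decide)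

theorem r8_1_0 : ∀ x : α, path g [8, 6, 5, 7, 5, 6, 3, 0, 2] x = x :=
  trivial_rot 0 (H.trivial_inv (i := 8) (by decide) (by decide)) (by decide)

theorem r8_1_1 : ∀ x : α, path g [6, 5, 7, 5, 6, 3, 0, 2, 8] x = x :=
  trivial_rot 1 (H.trivial_inv (i := 8) (by decide) (by decide)) (by decide)

theorem r8_1_2 : ∀ x : α, path g [5, 7, 5, 6, 3, 0, 2, 8, 6] x = x :=
  trivial_rot 2 (H.trivial_inv (i := 8) (by decide) (by decide)) (by decide)

theorem r8_1_5 : ∀ x : α, path g [6, 3, 0, 2, 8, 6, 5, 7, 5] x = x :=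
  trivial_rot 5 (H.trivial_inv (i := 8) (by decide) (by decide)) (by decide)

theorem r8_1_6 : ∀ x : α, path g [3, 0, 2, 8, 6, 5, 7, 5, 6] x = x :=
  trivial_rot 6 (H.trivial_inv (i := 8) (by decide) (by decide)) (by decide)

theorem r8_1_7 : ∀ x : α, path g [0, 2, 8, 6, 5, 7, 5, 6, 3] x = x :=
  trivial_rot 7 (H.trivial_inv (i := 8) (by decide) (by decide)) (by decide)

theorem r8_1_8 : ∀ x : α, path g [2, 8, 6, 5, 7, 5, 6, 3, 0] x = x :=
  trivial_rot 8 (H.trivial_inv (i := 8) (by decide) (by decide)) (by decide)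

theorem r9_0_0 : ∀ x : α, path g [3, 3, 3] x = x :=
  trivial_rot 0 (H.trivial_rev (i := 9) (by decide)) (by decide)

theorem r9_1_0 : ∀ x : α, path g [8, 8, 8] x = x :=
  trivial_rot 0 (H.trivial_inv (i := 9) (by decide) (by decide)) (by decide)

theorem r10_0_0 : ∀ x : α, path g [5, 5, 5, 7, 5, 9, 2, 4] x = x :=
  trivial_rot 0 (H.trivial_rev (i := 10) (by decide)) (by decide)

theorem r10_0_1 : ∀ x : α, path g [5, 5, 7, 5, 9, 2, 4, 5] x = x :=
  trivial_rot 1 (H.trivial_rev (i := 10) (by decide)) (by decide)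

theorem r10_0_2 : ∀ x : α, path g [5, 7, 5, 9, 2, 4, 5, 5] x = x :=
  trivial_rot 2 (H.trivial_rev (i := 10) (by decide)) (by decide)

theorem r10_0_3 : ∀ x : α, path g [7, 5, 9, 2, 4, 5, 5, 5] x = x :=
  trivial_rot 3 (H.trivial_rev (i := 10) (by decide)) (by decide)

theorem r10_0_5 : ∀ x : α, path g [9, 2, 4, 5, 5, 5, 7, 5] x = x :=
  trivial_rot 5 (H.trivial_rev (i := 10) (by decide)) (by decide)

theorem r10_1_0 : ∀ x : α, path g [9, 7, 4, 0, 2, 0, 0, 0] x = x :=
  trivial_rot 0 (H.trivial_inv (i := 10) (by decide) (by decide)) (by decide)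

theorem r10_1_2 : ∀ x : α, path g [4, 0, 2, 0, 0, 0, 9, 7] x = x :=
  trivial_rot 2 (H.trivial_inv (i := 10) (by decide) (by decide)) (by decide)

theorem r10_1_3 : ∀ x : α, path g [0, 2, 0, 0, 0, 9, 7, 4] x = x :=
  trivial_rot 3 (H.trivial_inv (i := 10) (by decide) (by decide)) (by decide)

theorem r10_1_5 : ∀ x : α, path g [0, 0, 0, 9, 7, 4, 0, 2] x = x :=
  trivial_rot 5 (H.trivial_inv (i := 10) (by decide) (by decide)) (by decide)

theorem r11_0_8 : ∀ x : α, path g [0, 2, 0, 4, 5, 6, 5, 7, 5, 6, 7, 9] x = x :=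
  trivial_rot 8 (H.trivial_rev (i := 11) (by decide)) (by decide)

theorem r11_0_10 : ∀ x : α, path g [0, 4, 5, 6, 5, 7, 5, 6, 7, 9, 0, 2] x = x :=
  trivial_rot 10 (H.trivial_rev (i := 11) (by decide)) (by decide)

theorem r11_1_1 : ∀ x : α, path g [5, 7, 5, 4, 2, 1, 0, 2, 0, 1, 0, 9] x = x :=
  trivial_rot 1 (H.trivial_inv (i := 11) (by decide) (by decide)) (by decide)

theorem r11_1_9 : ∀ x : α, path g [0, 1, 0, 9, 5, 7, 5, 4, 2, 1, 0, 2] x = x :=
  trivial_rot 9 (H.trivial_inv (i := 11) (by decide) (by decide)) (by decide)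

theorem r12_0_6 : ∀ x : α, path g [6, 9, 1, 1, 0, 1, 4, 5, 5, 5, 6, 7, 5] x = x :=
  trivial_rot 6 (H.trivial_rev (i := 12) (by decide)) (by decide)

theorem r12_0_8 : ∀ x : α, path g [1, 1, 0, 1, 4, 5, 5, 5, 6, 7, 5, 6, 9] x = x :=
  trivial_rot 8 (H.trivial_rev (i := 12) (by decide)) (by decide)

theorem r12_0_11 : ∀ x : α, path g [1, 4, 5, 5, 5, 6, 7, 5, 6, 9, 1, 1, 0] x = x :=
  trivial_rot 11 (H.trivial_rev (i := 12) (by decide)) (by decide)

theorem r12_1_1 : ∀ x : α, path g [6, 5, 6, 6, 4, 1, 0, 2, 1, 0, 0, 0, 9] x = x :=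
  trivial_rot 1 (H.trivial_inv (i := 12) (by decide) (by decide)) (by decide)

theorem r12_1_7 : ∀ x : α, path g [0, 2, 1, 0, 0, 0, 9, 6, 5, 6, 6, 4, 1] x = x :=
  trivial_rot 7 (H.trivial_inv (i := 12) (by decide) (by decide)) (by decide)

theorem r12_1_8 : ∀ x : α, path g [2, 1, 0, 0, 0, 9, 6, 5, 6, 6, 4, 1, 0] x = x :=
  trivial_rot 8 (H.trivial_inv (i := 12) (by decide) (by decide)) (by decide)

theorem r12_1_11 : ∀ x : α, path g [0, 0, 9, 6, 5, 6, 6, 4, 1, 0, 2, 1, 0] x = x :=
  trivial_rot 11 (H.trivial_inv (i := 12) (by decide) (by decide)) (by decide)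

theorem r13_0_0 : ∀ x : α, path g [4, 4, 4] x = x :=
  trivial_rot 0 (H.trivial_rev (i := 13) (by decide)) (by decide)

theorem r13_1_0 : ∀ x : α, path g [9, 9, 9] x = x :=
  trivial_rot 0 (H.trivial_inv (i := 13) (by decide) (by decide)) (by decide)

theorem r14_0_0 : ∀ x : α, path g [9, 8, 4, 3] x = x :=
  trivial_rot 0 (H.trivial_rev (i := 14) (by decide)) (by decide)

theorem r14_0_3 : ∀ x : α, path g [3, 9, 8, 4] x = x :=
  trivial_rot 3 (H.trivial_rev (i := 14) (by decide)) (by decide)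

theorem r14_1_0 : ∀ x : α, path g [8, 9, 3, 4] x = x :=
  trivial_rot 0 (H.trivial_inv (i := 14) (by decide) (by decide)) (by decide)

theorem r14_1_1 : ∀ x : α, path g [9, 3, 4, 8] x = x :=
  trivial_rot 1 (H.trivial_inv (i := 14) (by decide) (by decide)) (by decide)

theorem r14_1_2 : ∀ x : α, path g [3, 4, 8, 9] x = x :=
  trivial_rot 2 (H.trivial_inv (i := 14) (by decide) (by decide)) (by decide)

theorem r14_1_3 : ∀ x : α, path g [4, 8, 9, 3] x = x :=
  trivial_rot 3 (H.trivial_inv (i := 14) (by decide) (by decide)) (by decide)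

theorem r15_1_0 : ∀ x : α, path g [8, 6, 8, 6, 8, 6, 8, 6, 8, 6, 8, 6, 8, 6] x = x :=
  trivial_rot 0 (H.trivial_inv (i := 15) (by decide) (by decide)) (by decide)

theorem r16_1_2 : ∀ x : α, path g [7, 9, 6, 7, 9, 6, 7, 9, 6, 7, 9, 6, 7, 9, 6, 7, 9, 6, 7, 9, 6] x = x :=
  trivial_rot 2 (H.trivial_inv (i := 16) (by decide) (by decide)) (by decide)

theorem r17_0_0 : ∀ x : α, path g [0, 1, 3, 0, 1, 3, 0, 1, 3] x = x :=
  trivial_rot 0 (H.trivial_rev (i := 17) (by decide)) (by decide)

theorem r17_0_1 : ∀ x : α, path g [1, 3, 0, 1, 3, 0, 1, 3, 0] x = x :=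
  trivial_rot 1 (H.trivial_rev (i := 17) (by decide)) (by decide)

theorem r17_0_2 : ∀ x : α, path g [3, 0, 1, 3, 0, 1, 3, 0, 1] x = x :=
  trivial_rot 2 (H.trivial_rev (i := 17) (by decide)) (by decide)

theorem r17_1_0 : ∀ x : α, path g [8, 6, 5, 8, 6, 5, 8, 6, 5] x = x :=
  trivial_rot 0 (H.trivial_inv (i := 17) (by decide) (by decide)) (by decide)

theorem r17_1_1 : ∀ x : α, path g [6, 5, 8, 6, 5, 8, 6, 5, 8] x = x :=
  trivial_rot 1 (H.trivial_inv (i := 17) (by decide) (by decide)) (by decide)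

theorem r17_1_2 : ∀ x : α, path g [5, 8, 6, 5, 8, 6, 5, 8, 6] x = x :=
  trivial_rot 2 (H.trivial_inv (i := 17) (by decide) (by decide)) (by decide)

theorem r18_0_1 : ∀ x : α, path g [2, 4, 1, 2, 4, 1, 2, 4, 1] x = x :=
  trivial_rot 1 (H.trivial_rev (i := 18) (by decide)) (by decide)

theorem r18_0_2 : ∀ x : α, path g [4, 1, 2, 4, 1, 2, 4, 1, 2] x = x :=
  trivial_rot 2 (H.trivial_rev (i := 18) (by decide)) (by decide)

theorem r18_1_0 : ∀ x : α, path g [9, 7, 6, 9, 7, 6, 9, 7, 6] x = x :=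
  trivial_rot 0 (H.trivial_inv (i := 18) (by decide) (by decide)) (by decide)

theorem r18_1_1 : ∀ x : α, path g [7, 6, 9, 7, 6, 9, 7, 6, 9] x = x :=
  trivial_rot 1 (H.trivial_inv (i := 18) (by decide) (by decide)) (by decide)

theorem f0 : g 0 • path g [] p = path g [] p :=
  H.base (i := 0) (by decide)

theorem f1 : g 5 • path g [] p = path g [] p :=
  H.back (i := 0) (by decide) (f0 H)

theorem f2 : g 1 • path g [] p = path g [] p :=
  H.base (i := 1) (by decide)

theorem f3 : g 6 • path g [] p = path g [] p :=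
  H.back (i := 1) (by decide) (f2 H)

theorem f4 : g 2 • path g [] p = path g [] p :=
  H.base (i := 2) (by decide)

theorem f5 : g 7 • path g [] p = path g [] p :=
  H.back (i := 2) (by decide) (f4 H)

theorem f6 : g 3 • path g [] p = path g [3] p :=
  rfl

theorem f7 : g 8 • path g [3] p = path g [] p :=
  H.back (i := 3) (by decide) (f6 H)

theorem f8 : g 4 • path g [] p = path g [4] p :=
  rfl

theorem f9 : g 9 • path g [4] p = path g [] p :=
  H.back (i := 4) (by decide) (f8 H)

theorem f10 : g 8 • path g [] p = path g [8] p :=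
  rfl

theorem f11 : g 3 • path g [8] p = path g [] p :=
  H.back (i := 8) (by decide) (f10 H)

theorem f12 : g 8 • path g [8] p = path g [3] p :=
  scan (u := [8]) (w := [8]) (i := 8) (r9_1_0 H) (step (f10 H) rfl) (step (H.back (i := 3) (by decide) (f6 H)) rfl)

theorem f14 : g 0 • path g [8] p = path g [8] p :=
  scan (u := [8]) (w := [3, 6, 5, 7, 5, 6]) (i := 0) (r7_0_5 H) (step (f10 H) rfl) (step (H.back (i := 8) (by decide) (f10 H)) (step (H.back (i := 1) (by decide) (f2 H)) (step (H.back (i := 0) (by decide) (f0 H)) (step (H.back (i := 2) (by decide) (f4 H)) (step (H.back (i := 0) (by decide) (f0 H)) (step (H.back (i := 1) (by decide) (f2 H)) rfl))))))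

theorem f15 : g 5 • path g [8] p = path g [8] p :=
  H.back (i := 0) (by decide) (f14 H)

theorem f16 : g 2 • path g [8] p = path g [8] p :=
  scan (u := [8]) (w := [3, 5, 5, 6, 5, 7, 5, 6, 5]) (i := 2) (r6_0_8 H) (step (f10 H) rfl) (step (H.back (i := 8) (by decide) (f10 H)) (step (H.back (i := 0) (by decide) (f0 H)) (step (H.back (i := 0) (by decide) (f0 H)) (step (H.back (i := 1) (by decide) (f2 H)) (step (H.back (i := 0) (by decide) (f0 H)) (step (H.back (i := 2) (by decide) (f4 H)) (step (H.back (i := 0) (by decide) (f0 H)) (step (H.back (i := 1) (by decide) (f2 H)) (step (H.back (i := 0) (by decide) (f0 H)) rfl)))))))))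

theorem f17 : g 7 • path g [8] p = path g [8] p :=
  H.back (i := 2) (by decide) (f16 H)

theorem f18 : g 9 • path g [] p = path g [9] p :=
  rfl

theorem f19 : g 4 • path g [9] p = path g [] p :=
  H.back (i := 9) (by decide) (f18 H)

theorem f20 : g 9 • path g [9] p = path g [4] p :=
  scan (u := [9]) (w := [9]) (i := 9) (r13_1_0 H) (step (f18 H) rfl) (step (H.back (i := 4) (by decide) (f8 H)) rfl)

theorem f22 : g 2 • path g [9] p = path g [9] p :=
  scan (u := [9]) (w := [4, 5, 5, 5, 7, 5]) (i := 2) (r10_0_5 H) (step (f18 H) rfl) (step (H.back (i := 9) (by decide) (f18 H)) (step (H.back (i := 0) (by decide) (f0 H)) (step (H.back (i := 0) (by decide) (f0 H)) (step (H.back (i := 0) (by decide) (f0 H)) (step (H.back (i := 2) (by decide) (f4 H)) (step (H.back (i := 0) (by decide) (f0 H)) rfl))))))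

theorem f23 : g 7 • path g [9] p = path g [9] p :=
  H.back (i := 2) (by decide) (f22 H)

theorem f24 : g 0 • path g [3] p = path g [3, 0] p :=
  rfl

theorem f25 : g 5 • path g [3, 0] p = path g [3] p :=
  H.back (i := 0) (by decide) (f24 H)

theorem f26 : g 2 • path g [3, 0] p = path g [3] p :=
  scan (u := [0]) (w := [8, 6, 5, 7, 5, 6, 3]) (i := 2) (r8_1_7 H) (step (f24 H) rfl) (step (H.back (i := 3) (by decide) (f6 H)) (step (H.back (i := 1) (by decide) (f2 H)) (step (H.back (i := 0) (by decide) (f0 H)) (step (H.back (i := 2) (by decide) (f4 H)) (step (H.back (i := 0) (by decide) (f0 H)) (step (H.back (i := 1) (by decide) (f2 H)) (step (H.back (i := 8) (by decide) (f7 H)) rfl)))))))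

theorem f27 : g 7 • path g [3] p = path g [3, 0] p :=
  H.back (i := 2) (by decide) (f26 H)

theorem f28 : g 1 • path g [3] p = path g [3, 1] p :=
  rfl

theorem f29 : g 6 • path g [3, 1] p = path g [3] p :=
  H.back (i := 1) (by decide) (f28 H)

theorem f30 : g 2 • path g [3] p = path g [3, 2] p :=
  rfl

theorem f31 : g 7 • path g [3, 2] p = path g [3] p :=
  H.back (i := 2) (by decide) (f30 H)

theorem f32 : g 4 • path g [3] p = path g [3, 4] p :=
  rfl

theorem f33 : g 9 • path g [3, 4] p = path g [3] p :=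
  H.back (i := 4) (by decide) (f32 H)

theorem f34 : g 8 • path g [3, 4] p = path g [4] p :=
  scan (u := [4]) (w := [9, 3]) (i := 8) (r14_1_3 H) (step (f32 H) rfl) (step (H.back (i := 4) (by decide) (f8 H)) (step (H.back (i := 8) (by decide) (f7 H)) rfl))

theorem f35 : g 3 • path g [4] p = path g [3, 4] p :=
  H.back (i := 8) (by decide) (f34 H)

theorem f36 : g 5 • path g [3] p = path g [3, 5] p :=
  rfl

theorem f38 : g 6 • path g [3] p = path g [3, 6] p :=
  rfl

theorem f39 : g 1 • path g [3, 6] p = path g [3] p :=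
  H.back (i := 6) (by decide) (f38 H)

theorem f40 : g 6 • path g [3, 6] p = path g [3, 1] p :=
  scan (u := [6]) (w := [6]) (i := 6) (r0_1_0 H) (step (f38 H) rfl) (step (H.back (i := 1) (by decide) (f28 H)) rfl)

theorem f41 : g 1 • path g [3, 1] p = path g [3, 6] p :=
  H.back (i := 6) (by decide) (f40 H)

theorem f42 : g 9 • path g [3] p = path g [3, 9] p :=
  rfl

theorem f43 : g 4 • path g [3, 9] p = path g [3] p :=
  H.back (i := 9) (by decide) (f42 H)

theorem f44 : g 9 • path g [3, 9] p = path g [3, 4] p :=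
  scan (u := [9]) (w := [9]) (i := 9) (r13_1_0 H) (step (f42 H) rfl) (step (H.back (i := 4) (by decide) (f32 H)) rfl)

theorem f46 : g 8 • path g [3, 9] p = path g [9] p :=
  scan (u := [9]) (w := [4, 3]) (i := 8) (r14_0_0 H) (step (f42 H) rfl) (step (H.back (i := 9) (by decide) (f18 H)) (step (H.back (i := 8) (by decide) (f7 H)) rfl))

theorem f47 : g 3 • path g [9] p = path g [3, 9] p :=
  H.back (i := 8) (by decide) (f46 H)

theorem f48 : g 0 • path g [4] p = path g [4, 0] p :=
  rfl

theorem f49 : g 5 • path g [4, 0] p = path g [4] p :=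
  H.back (i := 0) (by decide) (f48 H)

theorem f50 : g 1 • path g [4] p = path g [4, 1] p :=
  rfl

theorem f51 : g 6 • path g [4, 1] p = path g [4] p :=
  H.back (i := 1) (by decide) (f50 H)

theorem f52 : g 2 • path g [4] p = path g [4, 2] p :=
  rfl

theorem f53 : g 7 • path g [4, 2] p = path g [4] p :=
  H.back (i := 2) (by decide) (f52 H)

theorem f54 : g 5 • path g [4] p = path g [4, 5] p :=
  rfl

theorem f55 : g 0 • path g [4, 5] p = path g [4] p :=
  H.back (i := 5) (by decide) (f54 H)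

theorem f56 : g 6 • path g [4] p = path g [4, 6] p :=
  rfl

theorem f57 : g 1 • path g [4, 6] p = path g [4] p :=
  H.back (i := 6) (by decide) (f56 H)

theorem f58 : g 6 • path g [4, 6] p = path g [4, 1] p :=
  scan (u := [6]) (w := [6]) (i := 6) (r0_1_0 H) (step (f56 H) rfl) (step (H.back (i := 1) (by decide) (f50 H)) rfl)

theorem f59 : g 1 • path g [4, 1] p = path g [4, 6] p :=
  H.back (i := 6) (by decide) (f58 H)

theorem f60 : g 7 • path g [4] p = path g [4, 7] p :=
  rfl

theorem f62 : g 8 • path g [4] p = path g [4, 8] p :=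
  rfl

theorem f63 : g 3 • path g [4, 8] p = path g [4] p :=
  H.back (i := 8) (by decide) (f62 H)

theorem f64 : g 8 • path g [4, 8] p = path g [3, 4] p :=
  scan (u := [8]) (w := [8]) (i := 8) (r9_1_0 H) (step (f62 H) rfl) (step (H.back (i := 3) (by decide) (f35 H)) rfl)

theorem f66 : g 9 • path g [4, 8] p = path g [8] p :=
  scan (u := [8]) (w := [3, 4]) (i := 9) (r14_1_0 H) (step (f62 H) rfl) (step (H.back (i := 8) (by decide) (f10 H)) (step (H.back (i := 9) (by decide) (f9 H)) rfl))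

theorem f67 : g 4 • path g [8] p = path g [4, 8] p :=
  H.back (i := 9) (by decide) (f66 H)

theorem f68 : g 1 • path g [8] p = path g [8, 1] p :=
  rfl

theorem f69 : g 6 • path g [8, 1] p = path g [8] p :=
  H.back (i := 1) (by decide) (f68 H)

theorem f70 : g 6 • path g [8] p = path g [8, 6] p :=
  rfl

theorem f71 : g 1 • path g [8, 6] p = path g [8] p :=
  H.back (i := 6) (by decide) (f70 H)

theorem f72 : g 6 • path g [8, 6] p = path g [8, 1] p :=
  scan (u := [6]) (w := [6]) (i := 6) (r0_1_0 H) (step (f70 H) rfl) (step (H.back (i := 1) (by decide) (f68 H)) rfl)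

theorem f73 : g 1 • path g [8, 1] p = path g [8, 6] p :=
  H.back (i := 6) (by decide) (f72 H)

theorem f74 : g 7 • path g [8, 6] p = path g [8, 1] p :=
  scan (u := [6]) (w := [6, 7]) (i := 7) (r1_1_0 H) (step (f70 H) rfl) (step (H.back (i := 1) (by decide) (f68 H)) (step (H.back (i := 2) (by decide) (f16 H)) rfl))

theorem f75 : g 2 • path g [8, 1] p = path g [8, 6] p :=
  H.back (i := 7) (by decide) (f74 H)

theorem f76 : g 9 • path g [8] p = path g [8, 9] p :=
  rfl

theorem f77 : g 4 • path g [8, 9] p = path g [8] p :=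
  H.back (i := 9) (by decide) (f76 H)

theorem f78 : g 9 • path g [8, 9] p = path g [4, 8] p :=
  scan (u := [9]) (w := [9]) (i := 9) (r13_1_0 H) (step (f76 H) rfl) (step (H.back (i := 4) (by decide) (f67 H)) rfl)

theorem f79 : g 4 • path g [4, 8] p = path g [8, 9] p :=
  H.back (i := 9) (by decide) (f78 H)

theorem f80 : g 8 • path g [8, 9] p = path g [3, 9] p :=
  scan (u := [9]) (w := [4, 3]) (i := 8) (r14_0_0 H) (step (f76 H) rfl) (step (H.back (i := 9) (by decide) (f42 H)) (step (H.back (i := 8) (by decide) (f12 H)) rfl))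

theorem f81 : g 3 • path g [3, 9] p = path g [8, 9] p :=
  H.back (i := 8) (by decide) (f80 H)

theorem f82 : g 3 • path g [8, 9] p = path g [9] p :=
  scan (u := [9]) (w := [4, 8]) (i := 3) (r14_1_1 H) (step (f76 H) rfl) (step (H.back (i := 9) (by decide) (f18 H)) (step (H.back (i := 3) (by decide) (f11 H)) rfl))

theorem f83 : g 8 • path g [9] p = path g [8, 9] p :=
  H.back (i := 3) (by decide) (f82 H)

theorem f84 : g 2 • path g [8, 9] p = path g [8, 9] p :=
  scan (u := [9]) (w := [4, 5, 5, 5, 7, 5]) (i := 2) (r10_0_5 H) (step (f76 H) rfl) (step (H.back (i := 9) (by decide) (f76 H)) (step (H.back (i := 0) (by decide) (f14 H)) (step (H.back (i := 0) (by decide) (f14 H)) (step (H.back (i := 0) (by decide) (f14 H)) (step (H.back (i := 2) (by decide) (f16 H)) (step (H.back (i := 0) (by decide) (f14 H)) rfl))))))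

theorem f85 : g 7 • path g [8, 9] p = path g [8, 9] p :=
  H.back (i := 2) (by decide) (f84 H)

theorem f86 : g 0 • path g [9] p = path g [9, 0] p :=
  rfl

theorem f87 : g 5 • path g [9, 0] p = path g [9] p :=
  H.back (i := 0) (by decide) (f86 H)

theorem f88 : g 1 • path g [9] p = path g [9, 1] p :=
  rfl

theorem f89 : g 6 • path g [9, 1] p = path g [9] p :=
  H.back (i := 1) (by decide) (f88 H)

theorem f90 : g 5 • path g [9] p = path g [9, 5] p :=
  rfl

theorem f91 : g 0 • path g [9, 5] p = path g [9] p :=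
  H.back (i := 5) (by decide) (f90 H)

theorem f92 : g 7 • path g [9, 5] p = path g [9, 0] p :=
  scan (u := [5]) (w := [5, 4, 2, 1, 0, 2, 0, 1, 0, 9]) (i := 7) (r11_1_1 H) (step (f90 H) rfl) (step (H.back (i := 0) (by decide) (f86 H)) (step (H.back (i := 9) (by decide) (f18 H)) (step (H.back (i := 7) (by decide) (f5 H)) (step (H.back (i := 6) (by decide) (f3 H)) (step (H.back (i := 5) (by decide) (f1 H)) (step (H.back (i := 7) (by decide) (f5 H)) (step (H.back (i := 5) (by decide) (f1 H)) (step (H.back (i := 6) (by decide) (f3 H)) (step (H.back (i := 5) (by decide) (f1 H)) (step (H.back (i := 4) (by decide) (f19 H)) rfl))))))))))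

theorem f94 : g 6 • path g [9] p = path g [9, 6] p :=
  rfl

theorem f95 : g 1 • path g [9, 6] p = path g [9] p :=
  H.back (i := 6) (by decide) (f94 H)

theorem f96 : g 6 • path g [9, 6] p = path g [9, 1] p :=
  scan (u := [6]) (w := [6]) (i := 6) (r0_1_0 H) (step (f94 H) rfl) (step (H.back (i := 1) (by decide) (f88 H)) rfl)

theorem f97 : g 1 • path g [9, 1] p = path g [9, 6] p :=
  H.back (i := 6) (by decide) (f96 H)

theorem f98 : g 7 • path g [9, 6] p = path g [9, 1] p :=
  scan (u := [6]) (w := [6, 7]) (i := 7) (r1_1_0 H) (step (f94 H) rfl) (step (H.back (i := 1) (by decide) (f88 H)) (step (H.back (i := 2) (by decide) (f22 H)) rfl))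

theorem f99 : g 2 • path g [9, 1] p = path g [9, 6] p :=
  H.back (i := 7) (by decide) (f98 H)

theorem f100 : g 5 • path g [9, 6] p = path g [9, 6] p :=
  scan (u := [6]) (w := [6, 6, 4, 1, 0, 2, 1, 0, 0, 0, 9]) (i := 5) (r12_1_1 H) (step (f94 H) rfl) (step (H.back (i := 1) (by decide) (f97 H)) (step (H.back (i := 1) (by decide) (f88 H)) (step (H.back (i := 9) (by decide) (f18 H)) (step (H.back (i := 6) (by decide) (f3 H)) (step (H.back (i := 5) (by decide) (f1 H)) (step (H.back (i := 7) (by decide) (f5 H)) (step (H.back (i := 6) (by decide) (f3 H)) (step (H.back (i := 5) (by decide) (f1 H)) (step (H.back (i := 5) (by decide) (f1 H)) (step (H.back (i := 5) (by decide) (f1 H)) (step (H.back (i := 4) (by decide) (f19 H)) rfl)))))))))))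

theorem f101 : g 0 • path g [9, 6] p = path g [9, 6] p :=
  H.back (i := 5) (by decide) (f100 H)

theorem f102 : g 0 • path g [3, 0] p = path g [3, 0, 0] p :=
  rfl

theorem f104 : g 2 • path g [3, 0, 0] p = path g [3, 5] p :=
  scan (u := [0]) (w := [0, 0, 2, 0]) (i := 2) (r2_0_2 H) (step (f102 H) rfl) (step (H.back (i := 5) (by decide) (f36 H)) (step (H.back (i := 5) (by decide) (f25 H)) (step (H.back (i := 7) (by decide) (f27 H)) (step (H.back (i := 5) (by decide) (f25 H)) rfl))))

theorem f106 : g 1 • path g [3, 0] p = path g [3, 0, 1] p :=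
  rfl

theorem f107 : g 6 • path g [3, 0, 1] p = path g [3, 0] p :=
  H.back (i := 1) (by decide) (f106 H)

theorem f112 : g 6 • path g [3, 0] p = path g [3, 0, 6] p :=
  rfl

theorem f114 : g 6 • path g [3, 0, 6] p = path g [3, 0, 1] p :=
  scan (u := [6]) (w := [6]) (i := 6) (r0_1_0 H) (step (f112 H) rfl) (step (H.back (i := 1) (by decide) (f106 H)) rfl)

theorem f116 : g 7 • path g [3, 0, 6] p = path g [3, 1] p :=
  scan (u := [6]) (w := [6, 7]) (i := 7) (r1_1_0 H) (step (f112 H) rfl) (step (H.back (i := 1) (by decide) (f28 H)) (step (H.back (i := 2) (by decide) (f26 H)) rfl))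

theorem f117 : g 2 • path g [3, 1] p = path g [3, 0, 6] p :=
  H.back (i := 7) (by decide) (f116 H)

theorem f128 : g 0 • path g [3, 1] p = path g [3, 1, 0] p :=
  rfl

theorem f129 : g 5 • path g [3, 1, 0] p = path g [3, 1] p :=
  H.back (i := 0) (by decide) (f128 H)

theorem f130 : g 3 • path g [3, 1] p = path g [3, 1, 3] p :=
  rfl

theorem f131 : g 8 • path g [3, 1, 3] p = path g [3, 1] p :=
  H.back (i := 3) (by decide) (f130 H)

theorem f132 : g 4 • path g [3, 1] p = path g [3, 1, 4] p :=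
  rfl

theorem f133 : g 9 • path g [3, 1, 4] p = path g [3, 1] p :=
  H.back (i := 4) (by decide) (f132 H)

theorem f134 : g 5 • path g [3, 1] p = path g [3, 1, 5] p :=
  rfl

theorem f135 : g 0 • path g [3, 1, 5] p = path g [3, 1] p :=
  H.back (i := 5) (by decide) (f134 H)

theorem f136 : g 7 • path g [3, 1] p = path g [3, 1, 7] p :=
  rfl

theorem f138 : g 8 • path g [3, 1] p = path g [3, 1, 8] p :=
  rfl

theorem f140 : g 8 • path g [3, 1, 8] p = path g [3, 1, 3] p :=
  scan (u := [8]) (w := [8]) (i := 8) (r9_1_0 H) (step (f138 H) rfl) (step (H.back (i := 3) (by decide) (f130 H)) rfl)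

theorem f141 : g 3 • path g [3, 1, 3] p = path g [3, 1, 8] p :=
  H.back (i := 8) (by decide) (f140 H)

theorem f142 : g 9 • path g [3, 1] p = path g [3, 1, 9] p :=
  rfl

theorem f144 : g 9 • path g [3, 1, 9] p = path g [3, 1, 4] p :=
  scan (u := [9]) (w := [9]) (i := 9) (r13_1_0 H) (step (f142 H) rfl) (step (H.back (i := 4) (by decide) (f132 H)) rfl)

theorem f145 : g 4 • path g [3, 1, 4] p = path g [3, 1, 9] p :=
  H.back (i := 9) (by decide) (f144 H)

theorem f148 : g 1 • path g [3, 2] p = path g [3, 2, 1] p :=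
  rfl

theorem f150 : g 2 • path g [3, 2, 1] p = path g [3, 6] p :=
  scan (u := [1]) (w := [1, 2]) (i := 2) (r1_0_1 H) (step (f148 H) rfl) (step (H.back (i := 6) (by decide) (f38 H)) (step (H.back (i := 7) (by decide) (f31 H)) rfl))

theorem f154 : g 3 • path g [3, 2] p = path g [3, 2, 3] p :=
  rfl

theorem f160 : g 6 • path g [3, 2] p = path g [3, 2, 6] p :=
  rfl

theorem f162 : g 6 • path g [3, 2, 6] p = path g [3, 2, 1] p :=
  scan (u := [6]) (w := [6]) (i := 6) (r0_1_0 H) (step (f160 H) rfl) (step (H.back (i := 1) (by decide) (f148 H)) rfl)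

theorem f164 : g 8 • path g [3, 2] p = path g [3, 2, 8] p :=
  rfl

theorem f165 : g 3 • path g [3, 2, 8] p = path g [3, 2] p :=
  H.back (i := 8) (by decide) (f164 H)

theorem f166 : g 8 • path g [3, 2, 8] p = path g [3, 2, 3] p :=
  scan (u := [8]) (w := [8]) (i := 8) (r9_1_0 H) (step (f164 H) rfl) (step (H.back (i := 3) (by decide) (f154 H)) rfl)

theorem f167 : g 3 • path g [3, 2, 3] p = path g [3, 2, 8] p :=
  H.back (i := 8) (by decide) (f166 H)

theorem f172 : g 0 • path g [3, 4] p = path g [3, 4, 0] p :=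
  rfl

theorem f174 : g 1 • path g [3, 4] p = path g [3, 4, 1] p :=
  rfl

theorem f175 : g 6 • path g [3, 4, 1] p = path g [3, 4] p :=
  H.back (i := 1) (by decide) (f174 H)

theorem f176 : g 2 • path g [3, 4] p = path g [3, 4, 2] p :=
  rfl

theorem f177 : g 7 • path g [3, 4, 2] p = path g [3, 4] p :=
  H.back (i := 2) (by decide) (f176 H)

theorem f178 : g 5 • path g [3, 4] p = path g [3, 4, 5] p :=
  rfl

theorem f180 : g 6 • path g [3, 4] p = path g [3, 4, 6] p :=
  rfl

theorem f181 : g 1 • path g [3, 4, 6] p = path g [3, 4] p :=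
  H.back (i := 6) (by decide) (f180 H)

theorem f182 : g 6 • path g [3, 4, 6] p = path g [3, 4, 1] p :=
  scan (u := [6]) (w := [6]) (i := 6) (r0_1_0 H) (step (f180 H) rfl) (step (H.back (i := 1) (by decide) (f174 H)) rfl)

theorem f183 : g 1 • path g [3, 4, 1] p = path g [3, 4, 6] p :=
  H.back (i := 6) (by decide) (f182 H)

theorem f184 : g 7 • path g [3, 4] p = path g [3, 4, 7] p :=
  rfl

theorem f208 : g 0 • path g [3, 6] p = path g [3, 6, 0] p :=
  rfl

theorem f209 : g 5 • path g [3, 6, 0] p = path g [3, 6] p :=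
  H.back (i := 0) (by decide) (f208 H)

theorem f210 : g 2 • path g [3, 6] p = path g [3, 6, 2] p :=
  rfl

theorem f212 : g 1 • path g [3, 6, 2] p = path g [3, 1, 7] p :=
  scan (u := [2]) (w := [2, 1]) (i := 1) (r1_0_0 H) (step (f210 H) rfl) (step (H.back (i := 7) (by decide) (f136 H)) (step (H.back (i := 6) (by decide) (f40 H)) rfl))

theorem f213 : g 6 • path g [3, 1, 7] p = path g [3, 6, 2] p :=
  H.back (i := 1) (by decide) (f212 H)

theorem f214 : g 3 • path g [3, 6] p = path g [3, 6, 3] p :=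
  rfl

theorem f216 : g 4 • path g [3, 6] p = path g [3, 6, 4] p :=
  rfl

theorem f217 : g 9 • path g [3, 6, 4] p = path g [3, 6] p :=
  H.back (i := 4) (by decide) (f216 H)

theorem f218 : g 5 • path g [3, 6] p = path g [3, 6, 5] p :=
  rfl

theorem f219 : g 0 • path g [3, 6, 5] p = path g [3, 6] p :=
  H.back (i := 5) (by decide) (f218 H)

theorem f220 : g 7 • path g [3, 6, 5] p = path g [3, 1, 0] p :=
  scan (u := [5]) (w := [5, 6, 8, 0, 3, 6]) (i := 7) (r7_0_1 H) (step (f218 H) rfl) (step (H.back (i := 0) (by decide) (f128 H)) (step (H.back (i := 1) (by decide) (f28 H)) (step (H.back (i := 3) (by decide) (f6 H)) (step (H.back (i := 5) (by decide) (f1 H)) (step (H.back (i := 8) (by decide) (f7 H)) (step (H.back (i := 1) (by decide) (f39 H)) rfl))))))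

theorem f221 : g 2 • path g [3, 1, 0] p = path g [3, 6, 5] p :=
  H.back (i := 7) (by decide) (f220 H)

theorem f222 : g 2 • path g [3, 6, 0] p = path g [3, 1, 5] p :=
  scan (u := [0, 0]) (w := [0, 0, 2]) (i := 2) (r2_0_1 H) (step (f219 H) (step (f208 H) rfl)) (step (H.back (i := 5) (by decide) (f134 H)) (step (H.back (i := 5) (by decide) (f129 H)) (step (H.back (i := 7) (by decide) (f220 H)) rfl)))

theorem f223 : g 7 • path g [3, 1, 5] p = path g [3, 6, 0] p :=
  H.back (i := 2) (by decide) (f222 H)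

theorem f224 : g 8 • path g [3, 6] p = path g [3, 6, 8] p :=
  rfl

theorem f225 : g 3 • path g [3, 6, 8] p = path g [3, 6] p :=
  H.back (i := 8) (by decide) (f224 H)

theorem f226 : g 8 • path g [3, 6, 8] p = path g [3, 6, 3] p :=
  scan (u := [8]) (w := [8]) (i := 8) (r9_1_0 H) (step (f224 H) rfl) (step (H.back (i := 3) (by decide) (f214 H)) rfl)

theorem f227 : g 3 • path g [3, 6, 3] p = path g [3, 6, 8] p :=
  H.back (i := 8) (by decide) (f226 H)

theorem f228 : g 5 • path g [3, 6, 8] p = path g [3, 1, 8] p :=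
  scan (u := [8]) (w := [3, 1, 0, 2, 0, 1]) (i := 5) (r7_1_0 H) (step (f224 H) rfl) (step (H.back (i := 8) (by decide) (f138 H)) (step (H.back (i := 6) (by decide) (f40 H)) (step (H.back (i := 5) (by decide) (f209 H)) (step (H.back (i := 7) (by decide) (f223 H)) (step (H.back (i := 5) (by decide) (f134 H)) (step (H.back (i := 6) (by decide) (f40 H)) rfl))))))

theorem f229 : g 0 • path g [3, 1, 8] p = path g [3, 6, 8] p :=
  H.back (i := 5) (by decide) (f228 H)

theorem f230 : g 9 • path g [3, 6] p = path g [3, 6, 9] p :=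
  rfl

theorem f231 : g 4 • path g [3, 6, 9] p = path g [3, 6] p :=
  H.back (i := 9) (by decide) (f230 H)

theorem f232 : g 9 • path g [3, 6, 9] p = path g [3, 6, 4] p :=
  scan (u := [9]) (w := [9]) (i := 9) (r13_1_0 H) (step (f230 H) rfl) (step (H.back (i := 4) (by decide) (f216 H)) rfl)

theorem f233 : g 4 • path g [3, 6, 4] p = path g [3, 6, 9] p :=
  H.back (i := 9) (by decide) (f232 H)

theorem f234 : g 0 • path g [3, 9] p = path g [3, 9, 0] p :=
  rfl

theorem f235 : g 5 • path g [3, 9, 0] p = path g [3, 9] p :=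
  H.back (i := 0) (by decide) (f234 H)

theorem f236 : g 1 • path g [3, 9] p = path g [3, 9, 1] p :=
  rfl

theorem f237 : g 6 • path g [3, 9, 1] p = path g [3, 9] p :=
  H.back (i := 1) (by decide) (f236 H)

theorem f238 : g 2 • path g [3, 9] p = path g [3, 9, 2] p :=
  rfl

theorem f240 : g 5 • path g [3, 9] p = path g [3, 9, 5] p :=
  rfl

theorem f241 : g 0 • path g [3, 9, 5] p = path g [3, 9] p :=
  H.back (i := 5) (by decide) (f240 H)

theorem f242 : g 6 • path g [3, 9] p = path g [3, 9, 6] p :=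
  rfl

theorem f243 : g 1 • path g [3, 9, 6] p = path g [3, 9] p :=
  H.back (i := 6) (by decide) (f242 H)

theorem f244 : g 6 • path g [3, 9, 6] p = path g [3, 9, 1] p :=
  scan (u := [6]) (w := [6]) (i := 6) (r0_1_0 H) (step (f242 H) rfl) (step (H.back (i := 1) (by decide) (f236 H)) rfl)

theorem f245 : g 1 • path g [3, 9, 1] p = path g [3, 9, 6] p :=
  H.back (i := 6) (by decide) (f244 H)

theorem f246 : g 7 • path g [3, 9] p = path g [3, 9, 7] p :=
  rfl

theorem f247 : g 2 • path g [3, 9, 7] p = path g [3, 9] p :=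
  H.back (i := 7) (by decide) (f246 H)

theorem f248 : g 0 • path g [4, 0] p = path g [4, 0, 0] p :=
  rfl

theorem f249 : g 5 • path g [4, 0, 0] p = path g [4, 0] p :=
  H.back (i := 0) (by decide) (f248 H)

theorem f250 : g 1 • path g [4, 0] p = path g [4, 0, 1] p :=
  rfl

theorem f251 : g 6 • path g [4, 0, 1] p = path g [4, 0] p :=
  H.back (i := 1) (by decide) (f250 H)

theorem f252 : g 2 • path g [4, 0] p = path g [4, 0, 2] p :=
  rfl

theorem f253 : g 7 • path g [4, 0, 2] p = path g [4, 0] p :=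
  H.back (i := 2) (by decide) (f252 H)

theorem f254 : g 3 • path g [4, 0] p = path g [4, 0, 3] p :=
  rfl

theorem f256 : g 4 • path g [4, 0] p = path g [4, 0, 4] p :=
  rfl

theorem f257 : g 9 • path g [4, 0, 4] p = path g [4, 0] p :=
  H.back (i := 4) (by decide) (f256 H)

theorem f258 : g 6 • path g [4, 0] p = path g [4, 0, 6] p :=
  rfl

theorem f259 : g 1 • path g [4, 0, 6] p = path g [4, 0] p :=
  H.back (i := 6) (by decide) (f258 H)

theorem f260 : g 6 • path g [4, 0, 6] p = path g [4, 0, 1] p :=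
  scan (u := [6]) (w := [6]) (i := 6) (r0_1_0 H) (step (f258 H) rfl) (step (H.back (i := 1) (by decide) (f250 H)) rfl)

theorem f261 : g 1 • path g [4, 0, 1] p = path g [4, 0, 6] p :=
  H.back (i := 6) (by decide) (f260 H)

theorem f264 : g 8 • path g [4, 0] p = path g [4, 0, 8] p :=
  rfl

theorem f268 : g 9 • path g [4, 0] p = path g [4, 0, 9] p :=
  rfl

theorem f270 : g 9 • path g [4, 0, 9] p = path g [4, 0, 4] p :=
  scan (u := [9]) (w := [9]) (i := 9) (r13_1_0 H) (step (f268 H) rfl) (step (H.back (i := 4) (by decide) (f256 H)) rfl)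

theorem f272 : g 0 • path g [4, 1] p = path g [4, 1, 0] p :=
  rfl

theorem f273 : g 5 • path g [4, 1, 0] p = path g [4, 1] p :=
  H.back (i := 0) (by decide) (f272 H)

theorem f274 : g 2 • path g [4, 1] p = path g [4, 1, 2] p :=
  rfl

theorem f275 : g 7 • path g [4, 1, 2] p = path g [4, 1] p :=
  H.back (i := 2) (by decide) (f274 H)

theorem f276 : g 1 • path g [4, 1, 2] p = path g [4, 7] p :=
  scan (u := [2]) (w := [2, 1]) (i := 1) (r1_0_0 H) (step (f274 H) rfl) (step (H.back (i := 7) (by decide) (f60 H)) (step (H.back (i := 6) (by decide) (f51 H)) rfl))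

theorem f277 : g 6 • path g [4, 7] p = path g [4, 1, 2] p :=
  H.back (i := 1) (by decide) (f276 H)

theorem f278 : g 4 • path g [4, 1, 2] p = path g [9, 6] p :=
  scan (u := [2]) (w := [1, 2, 4, 1, 2, 4, 1]) (i := 4) (r18_0_1 H) (step (f274 H) rfl) (step (H.back (i := 6) (by decide) (f94 H)) (step (H.back (i := 7) (by decide) (f23 H)) (step (H.back (i := 9) (by decide) (f18 H)) (step (H.back (i := 6) (by decide) (f3 H)) (step (H.back (i := 7) (by decide) (f5 H)) (step (H.back (i := 9) (by decide) (f9 H)) (step (H.back (i := 6) (by decide) (f51 H)) rfl)))))))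

theorem f279 : g 9 • path g [9, 6] p = path g [4, 1, 2] p :=
  H.back (i := 4) (by decide) (f278 H)

theorem f280 : g 3 • path g [4, 1] p = path g [4, 1, 3] p :=
  rfl

theorem f281 : g 8 • path g [4, 1, 3] p = path g [4, 1] p :=
  H.back (i := 3) (by decide) (f280 H)

theorem f282 : g 4 • path g [4, 1] p = path g [4, 1, 4] p :=
  rfl

theorem f283 : g 9 • path g [4, 1, 4] p = path g [4, 1] p :=
  H.back (i := 4) (by decide) (f282 H)

theorem f284 : g 0 • path g [4, 1, 4] p = path g [9, 1] p :=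
  scan (u := [4]) (w := [2, 0, 0, 0, 9, 7]) (i := 0) (r10_1_2 H) (step (f282 H) rfl) (step (H.back (i := 7) (by decide) (f98 H)) (step (H.back (i := 5) (by decide) (f100 H)) (step (H.back (i := 5) (by decide) (f100 H)) (step (H.back (i := 5) (by decide) (f100 H)) (step (H.back (i := 4) (by decide) (f278 H)) (step (H.back (i := 2) (by decide) (f274 H)) rfl))))))

theorem f285 : g 5 • path g [9, 1] p = path g [4, 1, 4] p :=
  H.back (i := 0) (by decide) (f284 H)

theorem f286 : g 1 • path g [9, 5] p = path g [4, 1, 4] p :=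
  scan (u := [0, 1, 0, 1, 5]) (w := []) (i := 1) (r3_0_3 H) (step (f284 H) (step (f97 H) (step (f101 H) (step (f95 H) (step (f90 H) rfl))))) rfl

theorem f287 : g 6 • path g [4, 1, 4] p = path g [9, 5] p :=
  H.back (i := 1) (by decide) (f286 H)

theorem f288 : path g [9, 0] p = path g [9, 5] p :=
  close (u := [0, 1, 5, 1, 0]) (w := [1]) (r3_0_5 H) (step (f284 H) (step (f97 H) (step (f100 H) (step (f95 H) (step (f86 H) rfl))))) (step (H.back (i := 6) (by decide) (f287 H)) rfl)

theorem f289 : path g [9, 5] p = path g [9, 0] p :=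
  (f288 H).symm

theorem f290 : g 0 • path g [9, 0] p = path g [9] p :=
  (congrArg (g 0 • ·) (f289 H).symm).trans (f91 H)

theorem f292 : g 5 • path g [9] p = path g [9, 0] p :=
  H.back (i := 0) (by decide) (f290 H)

theorem f293 : g 7 • path g [9, 0] p = path g [9, 0] p :=
  (congrArg (g 7 • ·) (f289 H).symm).trans (f92 H)

theorem f295 : g 2 • path g [9, 0] p = path g [9, 0] p :=
  H.back (i := 7) (by decide) (f293 H)

theorem f296 : g 1 • path g [9, 0] p = path g [4, 1, 4] p :=
  (congrArg (g 1 • ·) (f289 H).symm).trans (f286 H)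

theorem f298 : g 6 • path g [4, 1, 4] p = path g [9, 0] p :=
  H.back (i := 1) (by decide) (f296 H)

theorem f299 : g 5 • path g [4, 1, 4] p = path g [9, 1] p :=
  scan (u := [1]) (w := [1, 0, 1, 0]) (i := 5) (r3_0_0 H) (step (f296 H) rfl) (step (H.back (i := 6) (by decide) (f96 H)) (step (H.back (i := 5) (by decide) (f100 H)) (step (H.back (i := 6) (by decide) (f94 H)) (step (H.back (i := 5) (by decide) (f87 H)) rfl))))

theorem f300 : g 0 • path g [9, 1] p = path g [4, 1, 4] p :=
  H.back (i := 5) (by decide) (f299 H)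

theorem f301 : g 7 • path g [9, 1] p = path g [9, 6] p :=
  scan (u := [5]) (w := [5, 5, 7, 5]) (i := 7) (r2_1_1 H) (step (f299 H) rfl) (step (H.back (i := 0) (by decide) (f101 H)) (step (H.back (i := 0) (by decide) (f101 H)) (step (H.back (i := 2) (by decide) (f99 H)) (step (H.back (i := 0) (by decide) (f284 H)) rfl))))

theorem f302 : g 2 • path g [9, 6] p = path g [9, 1] p :=
  H.back (i := 7) (by decide) (f301 H)

theorem f303 : g 2 • path g [4, 1, 2] p = path g [4, 1] p :=
  scan (u := [5, 5, 5, 7, 5, 9]) (w := [4]) (i := 2) (r10_0_0 H) (step (f299 H) (step (f285 H) (step (f299 H) (step (f301 H) (step (f100 H) (step (f279 H) rfl)))))) (step (H.back (i := 9) (by decide) (f283 H)) rfl)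

theorem f305 : path g [4, 2] p = path g [4] p :=
  close (u := [7, 5, 9, 2]) (w := [4, 5, 5, 5]) (r10_0_3 H) (step (f293 H) (step (f87 H) (step (f20 H) (step (f52 H) rfl)))) (step (H.back (i := 9) (by decide) (f20 H)) (step (H.back (i := 0) (by decide) (f290 H)) (step (H.back (i := 0) (by decide) (f86 H)) (step (H.back (i := 0) (by decide) (f290 H)) rfl))))

theorem f306 : g 7 • path g [4] p = path g [4] p :=
  (congrArg (g 7 • ·) (f305 H).symm).trans (f53 H)

theorem f307 : path g [4, 7] p = path g [4] p :=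
  (f60 H).symm.trans (f306 H)

theorem f309 : g 2 • path g [4] p = path g [4] p :=
  (f52 H).trans (f305 H)

theorem f311 : g 6 • path g [4] p = path g [4, 1, 2] p :=
  (congrArg (g 6 • ·) (f307 H).symm).trans (f277 H)

theorem f312 : path g [4, 6] p = path g [4, 1, 2] p :=
  (f56 H).symm.trans (f311 H)

theorem f313 : path g [4, 1, 2] p = path g [4, 6] p :=
  (f312 H).symm

theorem f314 : g 7 • path g [4, 6] p = path g [4, 1] p :=
  (congrArg (g 7 • ·) (f313 H).symm).trans (f275 H)

theorem f316 : g 2 • path g [4, 1] p = path g [4, 6] p :=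
  H.back (i := 7) (by decide) (f314 H)

theorem f320 : g 4 • path g [4, 6] p = path g [9, 6] p :=
  (congrArg (g 4 • ·) (f313 H).symm).trans (f278 H)

theorem f322 : g 9 • path g [9, 6] p = path g [4, 6] p :=
  H.back (i := 4) (by decide) (f320 H)

theorem f323 : g 2 • path g [4, 6] p = path g [4, 1] p :=
  (congrArg (g 2 • ·) (f313 H).symm).trans (f303 H)

theorem f325 : g 7 • path g [4, 1] p = path g [4, 6] p :=
  H.back (i := 2) (by decide) (f323 H)

theorem f326 : g 7 • path g [4] p = path g [4] p :=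
  (f60 H).trans (f307 H)

theorem f327 : g 5 • path g [4, 1] p = path g [4, 1, 5] p :=
  rfl

theorem f328 : g 0 • path g [4, 1, 5] p = path g [4, 1] p :=
  H.back (i := 5) (by decide) (f327 H)

theorem f329 : g 8 • path g [4, 1] p = path g [4, 1, 8] p :=
  rfl

theorem f330 : g 3 • path g [4, 1, 8] p = path g [4, 1] p :=
  H.back (i := 8) (by decide) (f329 H)

theorem f331 : g 8 • path g [4, 1, 8] p = path g [4, 1, 3] p :=
  scan (u := [8]) (w := [8]) (i := 8) (r9_1_0 H) (step (f329 H) rfl) (step (H.back (i := 3) (by decide) (f280 H)) rfl)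

theorem f332 : g 3 • path g [4, 1, 3] p = path g [4, 1, 8] p :=
  H.back (i := 8) (by decide) (f331 H)

theorem f333 : g 9 • path g [4, 1] p = path g [4, 1, 9] p :=
  rfl

theorem f334 : g 4 • path g [4, 1, 9] p = path g [4, 1] p :=
  H.back (i := 9) (by decide) (f333 H)

theorem f335 : g 9 • path g [4, 1, 9] p = path g [4, 1, 4] p :=
  scan (u := [9]) (w := [9]) (i := 9) (r13_1_0 H) (step (f333 H) rfl) (step (H.back (i := 4) (by decide) (f282 H)) rfl)

theorem f336 : g 4 • path g [4, 1, 4] p = path g [4, 1, 9] p :=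
  H.back (i := 9) (by decide) (f335 H)

theorem f337 : g 1 • path g [4, 5] p = path g [4, 5, 1] p :=
  rfl

theorem f338 : g 6 • path g [4, 5, 1] p = path g [4, 5] p :=
  H.back (i := 1) (by decide) (f337 H)

theorem f339 : g 2 • path g [4, 5] p = path g [4, 5, 2] p :=
  rfl

theorem f340 : g 7 • path g [4, 5, 2] p = path g [4, 5] p :=
  H.back (i := 2) (by decide) (f339 H)

theorem f341 : g 3 • path g [4, 5] p = path g [4, 5, 3] p :=
  rfl

theorem f345 : g 5 • path g [4, 5] p = path g [4, 5, 5] p :=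
  rfl

theorem f346 : g 0 • path g [4, 5, 5] p = path g [4, 5] p :=
  H.back (i := 5) (by decide) (f345 H)

theorem f347 : g 7 • path g [4, 5, 5] p = path g [4, 0, 0] p :=
  scan (u := [5]) (w := [5, 5, 7, 5]) (i := 7) (r2_1_1 H) (step (f345 H) rfl) (step (H.back (i := 0) (by decide) (f248 H)) (step (H.back (i := 0) (by decide) (f48 H)) (step (H.back (i := 2) (by decide) (f309 H)) (step (H.back (i := 0) (by decide) (f55 H)) rfl))))

theorem f349 : g 5 • path g [4, 5, 5] p = path g [4, 0, 2] p :=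
  scan (u := [5]) (w := [7, 5, 9, 2, 4, 5]) (i := 5) (r10_0_1 H) (step (f345 H) rfl) (step (H.back (i := 2) (by decide) (f252 H)) (step (H.back (i := 0) (by decide) (f48 H)) (step (H.back (i := 4) (by decide) (f8 H)) (step (H.back (i := 7) (by decide) (f5 H)) (step (H.back (i := 9) (by decide) (f9 H)) (step (H.back (i := 0) (by decide) (f55 H)) rfl))))))

theorem f350 : g 0 • path g [4, 0, 2] p = path g [4, 5, 5] p :=
  H.back (i := 5) (by decide) (f349 H)

theorem f351 : g 2 • path g [4, 0, 9] p = path g [4, 0, 9] p :=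
  scan (u := [5, 7, 5, 9]) (w := [4, 5, 5]) (i := 2) (r10_0_2 H) (step (f345 H) (step (f347 H) (step (f249 H) (step (f268 H) rfl)))) (step (H.back (i := 9) (by decide) (f268 H)) (step (H.back (i := 0) (by decide) (f48 H)) (step (H.back (i := 0) (by decide) (f55 H)) rfl)))

theorem f352 : g 7 • path g [4, 0, 9] p = path g [4, 0, 9] p :=
  H.back (i := 2) (by decide) (f351 H)

theorem f353 : path g [4, 5, 2] p = path g [4, 5] p :=
  close (u := [0, 2]) (w := [0, 0, 2, 0]) (r2_0_2 H) (step (f346 H) (step (f339 H) rfl)) (step (H.back (i := 5) (by decide) (f54 H)) (step (H.back (i := 5) (by decide) (f49 H)) (step (H.back (i := 7) (by decide) (f253 H)) (step (H.back (i := 5) (by decide) (f349 H)) rfl))))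

theorem f354 : g 7 • path g [4, 5] p = path g [4, 5] p :=
  (congrArg (g 7 • ·) (f353 H).symm).trans (f340 H)

theorem f356 : g 2 • path g [4, 5] p = path g [4, 5] p :=
  H.back (i := 7) (by decide) (f354 H)

theorem f357 : path g [4, 5, 5] p = path g [4, 0, 0] p :=
  close (u := [0, 2, 0, 2, 0, 2, 0]) (w := [2]) (r4_0_1 H) (step (f346 H) (step (f356 H) (step (f55 H) (step (f309 H) (step (f48 H) (step (f252 H) (step (f350 H) rfl))))))) (step (H.back (i := 7) (by decide) (f347 H)) rfl)

theorem f358 : g 0 • path g [4, 0, 0] p = path g [4, 5] p :=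
  (congrArg (g 0 • ·) (f357 H).symm).trans (f346 H)

theorem f360 : g 5 • path g [4, 5] p = path g [4, 0, 0] p :=
  H.back (i := 0) (by decide) (f358 H)

theorem f364 : g 5 • path g [4, 0, 0] p = path g [4, 0, 2] p :=
  (congrArg (g 5 • ·) (f357 H).symm).trans (f349 H)

theorem f365 : path g [4, 0] p = path g [4, 0, 2] p :=
  (f249 H).symm.trans (f364 H)

theorem f366 : path g [4, 0, 2] p = path g [4, 0] p :=
  (f365 H).symm

theorem f373 : g 2 • path g [4, 0] p = path g [4, 0] p :=
  (f252 H).trans (f366 H)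

theorem f376 : g 2 • path g [4, 1, 0] p = path g [4, 0, 6] p :=
  scan (u := [0, 0, 9, 6, 5, 6, 6, 4, 1, 0]) (w := [1, 0]) (i := 2) (r12_1_11 H) (step (f358 H) (step (f55 H) (step (f9 H) (step (f3 H) (step (f1 H) (step (f3 H) (step (f3 H) (step (f8 H) (step (f50 H) (step (f272 H) rfl)))))))))) (step (H.back (i := 6) (by decide) (f258 H)) (step (H.back (i := 5) (by decide) (f249 H)) rfl))

theorem f378 : path g [4, 0, 1] p = path g [4, 1, 0] p :=
  close (u := [2, 1, 2, 1]) (w := []) (r1_0_0 H) (step (f376 H) (step (f259 H) (step (f373 H) (step (f250 H) rfl)))) rfl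

theorem f379 : path g [4, 1, 0] p = path g [4, 0, 1] p :=
  (f378 H).symm

theorem f380 : g 5 • path g [4, 0, 1] p = path g [4, 1] p :=
  (congrArg (g 5 • ·) (f379 H).symm).trans (f273 H)

theorem f382 : g 0 • path g [4, 1] p = path g [4, 0, 1] p :=
  H.back (i := 5) (by decide) (f380 H)

theorem f383 : g 2 • path g [4, 0, 1] p = path g [4, 0, 6] p :=
  (congrArg (g 2 • ·) (f379 H).symm).trans (f376 H)

theorem f385 : g 7 • path g [4, 0, 6] p = path g [4, 0, 1] p :=
  H.back (i := 2) (by decide) (f383 H)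

theorem f386 : path g [4, 1, 5] p = path g [4, 5, 1] p :=
  close (u := [2, 1, 5, 6, 7, 5]) (w := [6, 7, 0, 2, 1, 0]) (r5_0_10 H) (step (f383 H) (step (f259 H) (step (f49 H) (step (f56 H) (step (f314 H) (step (f327 H) rfl)))))) (step (H.back (i := 1) (by decide) (f337 H)) (step (H.back (i := 2) (by decide) (f356 H)) (step (H.back (i := 5) (by decide) (f54 H)) (step (H.back (i := 7) (by decide) (f326 H)) (step (H.back (i := 6) (by decide) (f51 H)) (step (H.back (i := 5) (by decide) (f380 H)) rfl))))))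

theorem f387 : path g [4, 5, 1] p = path g [4, 1, 5] p :=
  (f386 H).symm

theorem f388 : g 6 • path g [4, 1, 5] p = path g [4, 5] p :=
  (congrArg (g 6 • ·) (f387 H).symm).trans (f338 H)

theorem f390 : g 1 • path g [4, 5] p = path g [4, 1, 5] p :=
  H.back (i := 6) (by decide) (f388 H)

theorem f391 : g 5 • path g [4, 6] p = path g [4, 6] p :=
  scan (u := [6, 0, 6]) (w := [6, 5]) (i := 5) (r3_1_3 H) (step (f388 H) (step (f55 H) (step (f56 H) rfl))) (step (H.back (i := 1) (by decide) (f59 H)) (step (H.back (i := 0) (by decide) (f328 H)) rfl))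

theorem f392 : g 0 • path g [4, 6] p = path g [4, 6] p :=
  H.back (i := 5) (by decide) (f391 H)

theorem f393 : g 0 • path g [4, 5, 3] p = path g [3, 4, 7] p :=
  scan (u := [6, 3]) (w := [2, 8, 6, 5, 7, 5]) (i := 0) (r8_1_5 H) (step (f388 H) (step (f341 H) rfl)) (step (H.back (i := 7) (by decide) (f184 H)) (step (H.back (i := 3) (by decide) (f35 H)) (step (H.back (i := 1) (by decide) (f57 H)) (step (H.back (i := 0) (by decide) (f392 H)) (step (H.back (i := 2) (by decide) (f316 H)) (step (H.back (i := 0) (by decide) (f328 H)) rfl))))))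

theorem f395 : path g [4, 0] p = path g [4, 5] p :=
  close (u := [1, 0, 1, 5, 1, 0]) (w := []) (r3_0_4 H) (step (f390 H) (step (f328 H) (step (f59 H) (step (f391 H) (step (f57 H) (step (f48 H) rfl)))))) rfl

theorem f396 : path g [4, 5] p = path g [4, 0] p :=
  (f395 H).symm

theorem f399 : g 1 • path g [4, 0] p = path g [4, 1, 5] p :=
  (congrArg (g 1 • ·) (f396 H).symm).trans (f390 H)

theorem f400 : path g [4, 0, 1] p = path g [4, 1, 5] p :=
  (f250 H).symm.trans (f399 H)

theorem f404 : g 3 • path g [4, 0] p = path g [4, 5, 3] p :=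
  (congrArg (g 3 • ·) (f396 H).symm).trans (f341 H)

theorem f405 : path g [4, 0, 3] p = path g [4, 5, 3] p :=
  (f254 H).symm.trans (f404 H)

theorem f408 : g 5 • path g [4, 0] p = path g [4, 0, 0] p :=
  (congrArg (g 5 • ·) (f396 H).symm).trans (f360 H)

theorem f409 : path g [4] p = path g [4, 0, 0] p :=
  (f49 H).symm.trans (f408 H)

theorem f413 : path g [4, 0, 0] p = path g [4] p :=
  (f409 H).symm

theorem f415 : g 5 • path g [4] p = path g [4, 0] p :=
  (f54 H).trans (f396 H)

theorem f430 : path g [4, 5, 3] p = path g [4, 0, 3] p :=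
  (f405 H).symm

theorem f434 : g 0 • path g [4, 0, 3] p = path g [3, 4, 7] p :=
  (congrArg (g 0 • ·) (f430 H).symm).trans (f393 H)

theorem f436 : g 5 • path g [3, 4, 7] p = path g [4, 0, 3] p :=
  H.back (i := 0) (by decide) (f434 H)

theorem f437 : path g [4, 1, 5] p = path g [4, 0, 1] p :=
  (f400 H).symm

theorem f438 : g 0 • path g [4, 0, 1] p = path g [4, 1] p :=
  (congrArg (g 0 • ·) (f437 H).symm).trans (f328 H)

theorem f440 : g 5 • path g [4, 1] p = path g [4, 0, 1] p :=
  H.back (i := 0) (by decide) (f438 H)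

theorem f444 : g 5 • path g [4, 0, 6] p = path g [4, 0, 6] p :=
  scan (u := [0, 6, 5, 6]) (w := [6]) (i := 5) (r3_1_4 H) (step (f438 H) (step (f51 H) (step (f415 H) (step (f258 H) rfl)))) (step (H.back (i := 1) (by decide) (f261 H)) rfl)

theorem f445 : g 0 • path g [4, 0, 6] p = path g [4, 0, 6] p :=
  H.back (i := 5) (by decide) (f444 H)

theorem f446 : g 2 • path g [4, 0, 6] p = path g [4, 0, 1] p :=
  scan (u := [0, 2, 0, 2, 0, 2, 0]) (w := []) (i := 2) (r4_0_1 H) (step (f438 H) (step (f316 H) (step (f392 H) (step (f323 H) (step (f382 H) (step (f383 H) (step (f445 H) rfl))))))) rfl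

theorem f447 : g 7 • path g [4, 0, 1] p = path g [4, 0, 6] p :=
  H.back (i := 2) (by decide) (f446 H)

theorem f448 : g 5 • path g [4, 8] p = path g [4, 0, 8] p :=
  scan (u := [0, 2, 0, 1, 8]) (w := [3, 1]) (i := 5) (r7_1_4 H) (step (f438 H) (step (f316 H) (step (f392 H) (step (f57 H) (step (f62 H) rfl))))) (step (H.back (i := 8) (by decide) (f264 H)) (step (H.back (i := 6) (by decide) (f251 H)) rfl))

theorem f450 : g 0 • path g [4, 0] p = path g [4] p :=
  (f248 H).trans (f413 H)

theorem f451 : g 7 • path g [4, 8] p = path g [4, 8] p :=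
  scan (u := [0, 2, 0, 1, 0, 0, 8]) (w := [3, 0, 1]) (i := 7) (r6_1_5 H) (step (f438 H) (step (f316 H) (step (f392 H) (step (f57 H) (step (f48 H) (step (f450 H) (step (f62 H) rfl))))))) (step (H.back (i := 8) (by decide) (f62 H)) (step (H.back (i := 5) (by decide) (f49 H)) (step (H.back (i := 6) (by decide) (f251 H)) rfl)))

theorem f452 : g 2 • path g [4, 8] p = path g [4, 8] p :=
  H.back (i := 7) (by decide) (f451 H)

theorem f453 : g 9 • path g [9, 1] p = path g [4, 0, 6] p :=
  scan (u := [0, 4, 5, 6, 5, 7, 5, 6, 7]) (w := [0, 2]) (i := 9) (r11_0_10 H) (step (f438 H) (step (f282 H) (step (f299 H) (step (f89 H) (step (f292 H) (step (f293 H) (step (f87 H) (step (f94 H) (step (f98 H) rfl))))))))) (step (H.back (i := 5) (by decide) (f444 H)) (step (H.back (i := 7) (by decide) (f447 H)) rfl))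

theorem f454 : g 4 • path g [4, 0, 6] p = path g [9, 1] p :=
  H.back (i := 9) (by decide) (f453 H)

theorem f455 : g 0 • path g [4, 8] p = path g [4, 0, 8] p :=
  scan (u := [5, 7, 5, 6, 8]) (w := [3, 6]) (i := 0) (r7_0_1 H) (step (f444 H) (step (f385 H) (step (f380 H) (step (f51 H) (step (f62 H) rfl))))) (step (H.back (i := 8) (by decide) (f264 H)) (step (H.back (i := 1) (by decide) (f259 H)) rfl))

theorem f456 : g 5 • path g [4, 0, 8] p = path g [4, 8] p :=
  H.back (i := 0) (by decide) (f455 H)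

theorem f457 : g 2 • path g [3, 4, 0] p = path g [4, 0, 3] p :=
  scan (u := [5, 7, 5, 6, 3, 0]) (w := [8, 6]) (i := 2) (r8_1_2 H) (step (f444 H) (step (f385 H) (step (f380 H) (step (f51 H) (step (f35 H) (step (f172 H) rfl)))))) (step (H.back (i := 3) (by decide) (f254 H)) (step (H.back (i := 1) (by decide) (f259 H)) rfl))

theorem f458 : g 7 • path g [4, 0, 3] p = path g [3, 4, 0] p :=
  H.back (i := 2) (by decide) (f457 H)

theorem f462 : g 3 • path g [4, 6] p = path g [4, 6, 3] p :=
  rfl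

theorem f463 : g 8 • path g [4, 6, 3] p = path g [4, 6] p :=
  H.back (i := 3) (by decide) (f462 H)

theorem f464 : g 8 • path g [4, 6] p = path g [4, 6, 8] p :=
  rfl

theorem f465 : g 3 • path g [4, 6, 8] p = path g [4, 6] p :=
  H.back (i := 8) (by decide) (f464 H)

theorem f466 : g 8 • path g [4, 6, 8] p = path g [4, 6, 3] p :=
  scan (u := [8]) (w := [8]) (i := 8) (r9_1_0 H) (step (f464 H) rfl) (step (H.back (i := 3) (by decide) (f462 H)) rfl)

theorem f467 : g 3 • path g [4, 6, 3] p = path g [4, 6, 8] p :=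
  H.back (i := 8) (by decide) (f466 H)

theorem f468 : g 0 • path g [4, 6, 8] p = path g [4, 1, 8] p :=
  scan (u := [8]) (w := [3, 6, 5, 7, 5, 6]) (i := 0) (r7_0_5 H) (step (f464 H) rfl) (step (H.back (i := 8) (by decide) (f329 H)) (step (H.back (i := 1) (by decide) (f50 H)) (step (H.back (i := 0) (by decide) (f450 H)) (step (H.back (i := 2) (by decide) (f373 H)) (step (H.back (i := 0) (by decide) (f48 H)) (step (H.back (i := 1) (by decide) (f57 H)) rfl))))))

theorem f469 : g 5 • path g [4, 1, 8] p = path g [4, 6, 8] p :=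
  H.back (i := 0) (by decide) (f468 H)

theorem f470 : g 2 • path g [4, 6, 8] p = path g [4, 1, 8] p :=
  scan (u := [8]) (w := [3, 5, 5, 6, 5, 7, 5, 6, 5]) (i := 2) (r6_0_8 H) (step (f464 H) rfl) (step (H.back (i := 8) (by decide) (f329 H)) (step (H.back (i := 0) (by decide) (f438 H)) (step (H.back (i := 0) (by decide) (f382 H)) (step (H.back (i := 1) (by decide) (f50 H)) (step (H.back (i := 0) (by decide) (f450 H)) (step (H.back (i := 2) (by decide) (f373 H)) (step (H.back (i := 0) (by decide) (f48 H)) (step (H.back (i := 1) (by decide) (f57 H)) (step (H.back (i := 0) (by decide) (f392 H)) rfl)))))))))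

theorem f472 : g 7 • path g [4, 6, 8] p = path g [4, 1, 8] p :=
  scan (u := [8]) (w := [3, 0, 1, 0, 2, 0, 1, 0, 0]) (i := 7) (r6_1_0 H) (step (f464 H) rfl) (step (H.back (i := 8) (by decide) (f329 H)) (step (H.back (i := 5) (by decide) (f380 H)) (step (H.back (i := 6) (by decide) (f260 H)) (step (H.back (i := 5) (by decide) (f444 H)) (step (H.back (i := 7) (by decide) (f447 H)) (step (H.back (i := 5) (by decide) (f440 H)) (step (H.back (i := 6) (by decide) (f58 H)) (step (H.back (i := 5) (by decide) (f391 H)) (step (H.back (i := 5) (by decide) (f391 H)) rfl)))))))))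

theorem f473 : g 2 • path g [4, 1, 8] p = path g [4, 6, 8] p :=
  H.back (i := 7) (by decide) (f472 H)

theorem f474 : g 9 • path g [4, 6] p = path g [4, 6, 9] p :=
  rfl

theorem f476 : g 9 • path g [4, 6, 9] p = path g [9, 6] p :=
  scan (u := [9]) (w := [9]) (i := 9) (r13_1_0 H) (step (f474 H) rfl) (step (H.back (i := 4) (by decide) (f320 H)) rfl)

theorem f477 : g 4 • path g [9, 6] p = path g [4, 6, 9] p :=
  H.back (i := 9) (by decide) (f476 H)

theorem f478 : g 1 • path g [4, 8] p = path g [4, 8, 1] p :=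
  rfl

theorem f479 : g 6 • path g [4, 8, 1] p = path g [4, 8] p :=
  H.back (i := 1) (by decide) (f478 H)

theorem f480 : g 6 • path g [4, 8] p = path g [4, 8, 6] p :=
  rfl

theorem f481 : g 1 • path g [4, 8, 6] p = path g [4, 8] p :=
  H.back (i := 6) (by decide) (f480 H)

theorem f482 : g 6 • path g [4, 8, 6] p = path g [4, 8, 1] p :=
  scan (u := [6]) (w := [6]) (i := 6) (r0_1_0 H) (step (f480 H) rfl) (step (H.back (i := 1) (by decide) (f478 H)) rfl)

theorem f483 : g 1 • path g [4, 8, 1] p = path g [4, 8, 6] p :=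
  H.back (i := 6) (by decide) (f482 H)

theorem f484 : g 7 • path g [4, 8, 6] p = path g [4, 8, 1] p :=
  scan (u := [6]) (w := [6, 7]) (i := 7) (r1_1_0 H) (step (f480 H) rfl) (step (H.back (i := 1) (by decide) (f478 H)) (step (H.back (i := 2) (by decide) (f452 H)) rfl))

theorem f486 : g 0 • path g [8, 1] p = path g [8, 1, 0] p :=
  rfl

theorem f487 : g 5 • path g [8, 1, 0] p = path g [8, 1] p :=
  H.back (i := 0) (by decide) (f486 H)

theorem f488 : g 3 • path g [8, 1] p = path g [8, 1, 3] p :=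
  rfl

theorem f490 : g 4 • path g [8, 1] p = path g [8, 1, 4] p :=
  rfl

theorem f491 : g 9 • path g [8, 1, 4] p = path g [8, 1] p :=
  H.back (i := 4) (by decide) (f490 H)

theorem f492 : g 5 • path g [8, 1] p = path g [8, 1, 5] p :=
  rfl

theorem f493 : g 0 • path g [8, 1, 5] p = path g [8, 1] p :=
  H.back (i := 5) (by decide) (f492 H)

theorem f494 : g 7 • path g [8, 1] p = path g [8, 1, 7] p :=
  rfl

theorem f495 : g 2 • path g [8, 1, 7] p = path g [8, 1] p :=
  H.back (i := 7) (by decide) (f494 H)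

theorem f496 : g 8 • path g [8, 1] p = path g [8, 1, 8] p :=
  rfl

theorem f497 : g 3 • path g [8, 1, 8] p = path g [8, 1] p :=
  H.back (i := 8) (by decide) (f496 H)

theorem f498 : g 8 • path g [8, 1, 8] p = path g [8, 1, 3] p :=
  scan (u := [8]) (w := [8]) (i := 8) (r9_1_0 H) (step (f496 H) rfl) (step (H.back (i := 3) (by decide) (f488 H)) rfl)

theorem f500 : g 9 • path g [8, 1] p = path g [8, 1, 9] p :=
  rfl

theorem f501 : g 4 • path g [8, 1, 9] p = path g [8, 1] p :=
  H.back (i := 9) (by decide) (f500 H)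

theorem f502 : g 9 • path g [8, 1, 9] p = path g [8, 1, 4] p :=
  scan (u := [9]) (w := [9]) (i := 9) (r13_1_0 H) (step (f500 H) rfl) (step (H.back (i := 4) (by decide) (f490 H)) rfl)

theorem f503 : g 4 • path g [8, 1, 4] p = path g [8, 1, 9] p :=
  H.back (i := 9) (by decide) (f502 H)

theorem f504 : g 0 • path g [8, 6] p = path g [8, 6, 0] p :=
  rfl

theorem f505 : g 5 • path g [8, 6, 0] p = path g [8, 6] p :=
  H.back (i := 0) (by decide) (f504 H)

theorem f506 : g 6 • path g [8, 6, 0] p = path g [8, 1, 0] p :=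
  scan (u := [0]) (w := [5, 6, 5, 6]) (i := 6) (r3_1_4 H) (step (f504 H) rfl) (step (H.back (i := 0) (by decide) (f486 H)) (step (H.back (i := 1) (by decide) (f68 H)) (step (H.back (i := 0) (by decide) (f14 H)) (step (H.back (i := 1) (by decide) (f71 H)) rfl))))

theorem f508 : g 5 • path g [8, 6] p = path g [8, 6, 0] p :=
  scan (u := [6, 5, 6, 0, 6]) (w := []) (i := 5) (r3_1_1 H) (step (f506 H) (step (f487 H) (step (f69 H) (step (f14 H) (step (f70 H) rfl))))) rfl

theorem f509 : g 0 • path g [8, 6, 0] p = path g [8, 6] p :=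
  H.back (i := 5) (by decide) (f508 H)

theorem f510 : path g [8, 1, 0] p = path g [8, 1, 5] p :=
  close (u := [6]) (w := [0, 6, 5, 6, 5]) (r3_1_3 H) (step (f506 H) rfl) (step (H.back (i := 5) (by decide) (f492 H)) (step (H.back (i := 1) (by decide) (f68 H)) (step (H.back (i := 0) (by decide) (f14 H)) (step (H.back (i := 1) (by decide) (f71 H)) (step (H.back (i := 0) (by decide) (f509 H)) rfl)))))

theorem f511 : path g [8, 1, 5] p = path g [8, 1, 0] p :=
  (f510 H).symm

theorem f512 : g 0 • path g [8, 1, 0] p = path g [8, 1] p :=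
  (congrArg (g 0 • ·) (f511 H).symm).trans (f493 H)

theorem f514 : g 5 • path g [8, 1] p = path g [8, 1, 0] p :=
  H.back (i := 0) (by decide) (f512 H)

theorem f515 : path g [8, 6] p = path g [8, 1, 7] p :=
  close (u := [0, 2, 0, 0]) (w := [2, 0]) (r2_0_2 H) (step (f512 H) (step (f75 H) (step (f504 H) (step (f509 H) rfl)))) (step (H.back (i := 7) (by decide) (f494 H)) (step (H.back (i := 5) (by decide) (f487 H)) rfl))

theorem f516 : path g [8, 1, 7] p = path g [8, 6] p :=
  (f515 H).symm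

theorem f517 : g 2 • path g [8, 6] p = path g [8, 1] p :=
  (congrArg (g 2 • ·) (f516 H).symm).trans (f495 H)

theorem f519 : g 7 • path g [8, 1] p = path g [8, 6] p :=
  H.back (i := 2) (by decide) (f517 H)

theorem f520 : g 7 • path g [8, 6, 0] p = path g [8, 1, 0] p :=
  scan (u := [5]) (w := [5, 6, 3, 0, 2, 8, 6]) (i := 7) (r8_1_2 H) (step (f508 H) rfl) (step (H.back (i := 0) (by decide) (f486 H)) (step (H.back (i := 1) (by decide) (f68 H)) (step (H.back (i := 8) (by decide) (f10 H)) (step (H.back (i := 5) (by decide) (f1 H)) (step (H.back (i := 7) (by decide) (f5 H)) (step (H.back (i := 3) (by decide) (f11 H)) (step (H.back (i := 1) (by decide) (f71 H)) rfl)))))))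

theorem f522 : g 8 • path g [8, 6, 0] p = path g [3, 0, 1] p :=
  scan (u := [5]) (w := [6, 5, 8, 6, 5, 8, 6]) (i := 8) (r17_1_2 H) (step (f508 H) rfl) (step (H.back (i := 1) (by decide) (f106 H)) (step (H.back (i := 0) (by decide) (f24 H)) (step (H.back (i := 3) (by decide) (f6 H)) (step (H.back (i := 1) (by decide) (f2 H)) (step (H.back (i := 0) (by decide) (f0 H)) (step (H.back (i := 3) (by decide) (f11 H)) (step (H.back (i := 1) (by decide) (f71 H)) rfl)))))))

theorem f523 : g 3 • path g [3, 0, 1] p = path g [8, 6, 0] p :=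
  H.back (i := 8) (by decide) (f522 H)

theorem f524 : g 2 • path g [8, 1, 8] p = path g [3, 0, 1] p :=
  scan (u := [5, 6, 5, 7, 5, 6, 5, 8]) (w := [3, 5]) (i := 2) (r6_0_1 H) (step (f508 H) (step (f506 H) (step (f487 H) (step (f519 H) (step (f508 H) (step (f506 H) (step (f487 H) (step (f496 H) rfl)))))))) (step (H.back (i := 8) (by decide) (f522 H)) (step (H.back (i := 0) (by decide) (f504 H)) rfl))

theorem f525 : g 7 • path g [3, 0, 1] p = path g [8, 1, 8] p :=
  H.back (i := 2) (by decide) (f524 H)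

theorem f526 : path g [3, 2, 3] p = path g [8] p :=
  close (u := [5, 7, 5, 6, 5, 8, 2, 3]) (w := [5, 5, 6]) (r6_0_3 H) (step (f508 H) (step (f520 H) (step (f487 H) (step (f69 H) (step (f15 H) (step (f12 H) (step (f30 H) (step (f154 H) rfl)))))))) (step (H.back (i := 0) (by decide) (f14 H)) (step (H.back (i := 0) (by decide) (f14 H)) (step (H.back (i := 1) (by decide) (f71 H)) rfl)))

theorem f529 : g 3 • path g [8] p = path g [3, 2, 8] p :=
  (congrArg (g 3 • ·) (f526 H).symm).trans (f167 H)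

theorem f530 : path g [] p = path g [3, 2, 8] p :=
  (f11 H).symm.trans (f529 H)

theorem f531 : path g [3, 2, 8] p = path g [] p :=
  (f530 H).symm

theorem f532 : g 3 • path g [] p = path g [3, 2] p :=
  (congrArg (g 3 • ·) (f531 H).symm).trans (f165 H)

theorem f533 : path g [3] p = path g [3, 2] p :=
  (f6 H).symm.trans (f532 H)

theorem f537 : path g [3, 2] p = path g [3] p :=
  (f533 H).symm

theorem f545 : g 2 • path g [3] p = path g [3] p :=
  (f30 H).trans (f537 H)

theorem f554 : g 6 • path g [3] p = path g [3, 2, 6] p :=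
  (congrArg (g 6 • ·) (f537 H).symm).trans (f160 H)

theorem f555 : path g [3, 6] p = path g [3, 2, 6] p :=
  (f38 H).symm.trans (f554 H)

theorem f574 : path g [3, 2, 6] p = path g [3, 6] p :=
  (f555 H).symm

theorem f578 : g 6 • path g [3, 6] p = path g [3, 2, 1] p :=
  (congrArg (g 6 • ·) (f574 H).symm).trans (f162 H)

theorem f579 : path g [3, 1] p = path g [3, 2, 1] p :=
  (f40 H).symm.trans (f578 H)

theorem f580 : path g [3, 2, 1] p = path g [3, 1] p :=
  (f579 H).symm

theorem f584 : g 2 • path g [3, 1] p = path g [3, 6] p :=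
  (congrArg (g 2 • ·) (f580 H).symm).trans (f150 H)

theorem f585 : path g [3, 0, 6] p = path g [3, 6] p :=
  (f117 H).symm.trans (f584 H)

theorem f591 : g 6 • path g [3, 6] p = path g [3, 0, 1] p :=
  (congrArg (g 6 • ·) (f585 H).symm).trans (f114 H)

theorem f592 : path g [3, 1] p = path g [3, 0, 1] p :=
  (f40 H).symm.trans (f591 H)

theorem f596 : path g [3, 0, 1] p = path g [3, 1] p :=
  (f592 H).symm

theorem f597 : g 6 • path g [3, 1] p = path g [3, 0] p :=
  (congrArg (g 6 • ·) (f596 H).symm).trans (f107 H)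

theorem f598 : path g [3] p = path g [3, 0] p :=
  (f29 H).symm.trans (f597 H)

theorem f602 : g 3 • path g [3, 1] p = path g [8, 6, 0] p :=
  (congrArg (g 3 • ·) (f596 H).symm).trans (f523 H)

theorem f603 : path g [3, 1, 3] p = path g [8, 6, 0] p :=
  (f130 H).symm.trans (f602 H)

theorem f604 : g 7 • path g [3, 1] p = path g [8, 1, 8] p :=
  (congrArg (g 7 • ·) (f596 H).symm).trans (f525 H)

theorem f605 : path g [3, 1, 7] p = path g [8, 1, 8] p :=
  (f136 H).symm.trans (f604 H)

theorem f606 : path g [8, 1, 8] p = path g [3, 1, 7] p :=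
  (f605 H).symm

theorem f607 : g 3 • path g [3, 1, 7] p = path g [8, 1] p :=
  (congrArg (g 3 • ·) (f606 H).symm).trans (f497 H)

theorem f609 : g 8 • path g [8, 1] p = path g [3, 1, 7] p :=
  H.back (i := 3) (by decide) (f607 H)

theorem f610 : g 8 • path g [3, 1, 7] p = path g [8, 1, 3] p :=
  (congrArg (g 8 • ·) (f606 H).symm).trans (f498 H)

theorem f612 : g 3 • path g [8, 1, 3] p = path g [3, 1, 7] p :=
  H.back (i := 8) (by decide) (f610 H)

theorem f616 : path g [8, 6, 0] p = path g [3, 1, 3] p :=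
  (f603 H).symm

theorem f617 : g 5 • path g [3, 1, 3] p = path g [8, 6] p :=
  (congrArg (g 5 • ·) (f616 H).symm).trans (f505 H)

theorem f619 : g 0 • path g [8, 6] p = path g [3, 1, 3] p :=
  H.back (i := 5) (by decide) (f617 H)

theorem f620 : g 6 • path g [3, 1, 3] p = path g [8, 1, 0] p :=
  (congrArg (g 6 • ·) (f616 H).symm).trans (f506 H)

theorem f622 : g 1 • path g [8, 1, 0] p = path g [3, 1, 3] p :=
  H.back (i := 6) (by decide) (f620 H)

theorem f623 : g 0 • path g [3, 1, 3] p = path g [8, 6] p :=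
  (congrArg (g 0 • ·) (f616 H).symm).trans (f509 H)

theorem f625 : g 5 • path g [8, 6] p = path g [3, 1, 3] p :=
  H.back (i := 0) (by decide) (f623 H)

theorem f626 : g 7 • path g [3, 1, 3] p = path g [8, 1, 0] p :=
  (congrArg (g 7 • ·) (f616 H).symm).trans (f520 H)

theorem f632 : path g [3, 0] p = path g [3] p :=
  (f598 H).symm

theorem f637 : g 0 • path g [3] p = path g [3, 0, 0] p :=
  (congrArg (g 0 • ·) (f632 H).symm).trans (f102 H)

theorem f638 : g 0 • path g [3] p = path g [3] p :=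
  (f24 H).trans (f632 H)

theorem f639 : path g [3] p = path g [3, 0, 0] p :=
  (f638 H).symm.trans (f637 H)

theorem f651 : g 7 • path g [3] p = path g [3] p :=
  (f27 H).trans (f632 H)

theorem f687 : path g [3, 0, 0] p = path g [3] p :=
  (f639 H).symm

theorem f691 : g 2 • path g [3] p = path g [3, 5] p :=
  (congrArg (g 2 • ·) (f687 H).symm).trans (f104 H)

theorem f692 : path g [3] p = path g [3, 5] p :=
  (f545 H).symm.trans (f691 H)

theorem f693 : path g [3, 5] p = path g [3] p :=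
  (f692 H).symm

theorem f708 : g 5 • path g [3] p = path g [3] p :=
  (f36 H).trans (f693 H)

theorem f777 : g 2 • path g [3, 1] p = path g [3, 6] p :=
  (f117 H).trans (f585 H)

theorem f778 : path g [3, 6, 3] p = path g [8, 1] p :=
  close (u := [5, 8, 2, 3]) (w := [5, 5, 6, 5, 7, 5, 6]) (r6_0_7 H) (step (f625 H) (step (f131 H) (step (f777 H) (step (f214 H) rfl)))) (step (H.back (i := 0) (by decide) (f512 H)) (step (H.back (i := 0) (by decide) (f486 H)) (step (H.back (i := 1) (by decide) (f68 H)) (step (H.back (i := 0) (by decide) (f14 H)) (step (H.back (i := 2) (by decide) (f16 H)) (step (H.back (i := 0) (by decide) (f14 H)) (step (H.back (i := 1) (by decide) (f71 H)) rfl)))))))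

theorem f781 : g 3 • path g [8, 1] p = path g [3, 6, 8] p :=
  (congrArg (g 3 • ·) (f778 H).symm).trans (f227 H)

theorem f782 : path g [8, 1, 3] p = path g [3, 6, 8] p :=
  (f488 H).symm.trans (f781 H)

theorem f784 : g 8 • path g [3, 6, 8] p = path g [8, 1] p :=
  (f226 H).trans (f778 H)

theorem f786 : g 3 • path g [3, 6, 8] p = path g [3, 1, 7] p :=
  (congrArg (g 3 • ·) (f782 H).symm).trans (f612 H)

theorem f787 : path g [3, 6] p = path g [3, 1, 7] p :=
  (f225 H).symm.trans (f786 H)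

theorem f788 : path g [3, 1, 7] p = path g [3, 6] p :=
  (f787 H).symm

theorem f791 : g 6 • path g [3, 6] p = path g [3, 6, 2] p :=
  (congrArg (g 6 • ·) (f788 H).symm).trans (f213 H)

theorem f792 : path g [3, 1] p = path g [3, 6, 2] p :=
  (f40 H).symm.trans (f791 H)

theorem f794 : g 3 • path g [3, 6] p = path g [8, 1] p :=
  (f214 H).trans (f778 H)

theorem f799 : path g [3, 6, 2] p = path g [3, 1] p :=
  (f792 H).symm

theorem f801 : g 7 • path g [3, 1] p = path g [3, 6] p :=
  (f136 H).trans (f788 H)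

theorem f806 : g 2 • path g [3, 1, 3] p = path g [8, 1, 0] p :=
  scan (u := [0, 0]) (w := [0, 0, 2]) (i := 2) (r2_0_1 H) (step (f623 H) (step (f619 H) rfl)) (step (H.back (i := 5) (by decide) (f514 H)) (step (H.back (i := 5) (by decide) (f487 H)) (step (H.back (i := 7) (by decide) (f626 H)) rfl)))

theorem f807 : g 7 • path g [8, 1, 0] p = path g [3, 1, 3] p :=
  H.back (i := 2) (by decide) (f806 H)

theorem f808 : g 3 • path g [3, 1, 5] p = path g [8, 1, 0] p :=
  scan (u := [0, 2, 0, 1, 8, 5]) (w := [1]) (i := 3) (r7_1_4 H) (step (f623 H) (step (f517 H) (step (f486 H) (step (f622 H) (step (f131 H) (step (f134 H) rfl)))))) (step (H.back (i := 6) (by decide) (f620 H)) rfl)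

theorem f809 : g 8 • path g [8, 1, 0] p = path g [3, 1, 5] p :=
  H.back (i := 3) (by decide) (f808 H)

theorem f810 : g 8 • path g [8, 1] p = path g [3, 6] p :=
  (f609 H).trans (f788 H)

theorem f811 : g 8 • path g [8, 6] p = path g [3, 6, 0] p :=
  scan (u := [2, 0, 1]) (w := [5, 3, 1, 0]) (i := 8) (r7_1_5 H) (step (f806 H) (step (f512 H) (step (f73 H) rfl))) (step (H.back (i := 0) (by decide) (f208 H)) (step (H.back (i := 8) (by decide) (f810 H)) (step (H.back (i := 6) (by decide) (f72 H)) (step (H.back (i := 5) (by decide) (f617 H)) rfl))))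

theorem f812 : g 3 • path g [3, 6, 0] p = path g [8, 6] p :=
  H.back (i := 8) (by decide) (f811 H)

theorem f813 : g 3 • path g [8, 1] p = path g [3, 6, 8] p :=
  (f488 H).trans (f782 H)

theorem f814 : g 7 • path g [3, 6, 0] p = path g [3, 1, 5] p :=
  scan (u := [2, 0, 1, 0, 0, 8]) (w := [3, 0, 1, 0]) (i := 7) (r6_1_6 H) (step (f806 H) (step (f512 H) (step (f73 H) (step (f619 H) (step (f623 H) (step (f811 H) rfl)))))) (step (H.back (i := 8) (by decide) (f809 H)) (step (H.back (i := 5) (by decide) (f514 H)) (step (H.back (i := 6) (by decide) (f72 H)) (step (H.back (i := 5) (by decide) (f617 H)) rfl))))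

theorem f816 : path g [3, 6, 0] p = path g [3, 6, 5] p :=
  close (u := [8]) (w := [0, 3, 6, 5, 7, 5, 6]) (r7_0_5 H) (step (f811 H) rfl) (step (H.back (i := 5) (by decide) (f218 H)) (step (H.back (i := 8) (by decide) (f810 H)) (step (H.back (i := 1) (by decide) (f68 H)) (step (H.back (i := 0) (by decide) (f14 H)) (step (H.back (i := 2) (by decide) (f16 H)) (step (H.back (i := 0) (by decide) (f14 H)) (step (H.back (i := 1) (by decide) (f71 H)) rfl)))))))

theorem f817 : path g [3, 6, 5] p = path g [3, 6, 0] p :=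
  (f816 H).symm

theorem f818 : g 0 • path g [3, 6, 0] p = path g [3, 6] p :=
  (congrArg (g 0 • ·) (f817 H).symm).trans (f219 H)

theorem f820 : g 5 • path g [3, 6] p = path g [3, 6, 0] p :=
  H.back (i := 0) (by decide) (f818 H)

theorem f821 : g 7 • path g [3, 6, 0] p = path g [3, 1, 0] p :=
  (congrArg (g 7 • ·) (f817 H).symm).trans (f220 H)

theorem f822 : path g [3, 1, 5] p = path g [3, 1, 0] p :=
  (f814 H).symm.trans (f821 H)

theorem f823 : g 0 • path g [3, 1, 0] p = path g [3, 1] p :=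
  (congrArg (g 0 • ·) (f822 H).symm).trans (f135 H)

theorem f825 : g 5 • path g [3, 1] p = path g [3, 1, 0] p :=
  H.back (i := 0) (by decide) (f823 H)

theorem f826 : g 7 • path g [3, 1, 0] p = path g [3, 6, 0] p :=
  (congrArg (g 7 • ·) (f822 H).symm).trans (f223 H)

theorem f833 : g 2 • path g [3, 1, 0] p = path g [3, 6, 0] p :=
  (f221 H).trans (f817 H)

theorem f835 : g 7 • path g [3, 6, 0] p = path g [3, 1, 0] p :=
  (f814 H).trans (f822 H)

theorem f836 : g 2 • path g [3, 6, 9] p = path g [3, 1, 9] p :=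
  scan (u := [7, 5, 9]) (w := [4, 5, 5, 5]) (i := 2) (r10_0_3 H) (step (f826 H) (step (f209 H) (step (f230 H) rfl))) (step (H.back (i := 9) (by decide) (f142 H)) (step (H.back (i := 0) (by decide) (f823 H)) (step (H.back (i := 0) (by decide) (f128 H)) (step (H.back (i := 0) (by decide) (f823 H)) rfl))))

theorem f837 : g 7 • path g [3, 1, 9] p = path g [3, 6, 9] p :=
  H.back (i := 2) (by decide) (f836 H)

theorem f838 : g 2 • path g [3, 6] p = path g [3, 1] p :=
  (f210 H).trans (f799 H)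

theorem f839 : g 6 • path g [3, 6, 0] p = path g [3, 1, 0] p :=
  scan (u := [0, 6, 5, 6, 5]) (w := []) (i := 6) (r3_1_4 H) (step (f823 H) (step (f29 H) (step (f708 H) (step (f38 H) (step (f820 H) rfl))))) rfl

theorem f840 : g 1 • path g [3, 1, 0] p = path g [3, 6, 0] p :=
  H.back (i := 6) (by decide) (f839 H)

theorem f841 : g 7 • path g [3, 6, 9] p = path g [3, 1, 9] p :=
  scan (u := [0, 0, 0, 9]) (w := [4, 0, 2]) (i := 7) (r10_1_5 H) (step (f818 H) (step (f208 H) (step (f818 H) (step (f230 H) rfl)))) (step (H.back (i := 9) (by decide) (f142 H)) (step (H.back (i := 5) (by decide) (f129 H)) (step (H.back (i := 7) (by decide) (f835 H)) rfl)))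

theorem f843 : g 7 • path g [3, 9, 5] p = path g [3, 9, 0] p :=
  scan (u := [0, 1, 0, 9, 5]) (w := [5, 4, 2, 1, 0, 2]) (i := 7) (r11_1_9 H) (step (f818 H) (step (f39 H) (step (f638 H) (step (f42 H) (step (f240 H) rfl))))) (step (H.back (i := 0) (by decide) (f234 H)) (step (H.back (i := 9) (by decide) (f42 H)) (step (H.back (i := 7) (by decide) (f651 H)) (step (H.back (i := 6) (by decide) (f29 H)) (step (H.back (i := 5) (by decide) (f129 H)) (step (H.back (i := 7) (by decide) (f835 H)) rfl))))))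

theorem f844 : g 2 • path g [3, 9, 0] p = path g [3, 9, 5] p :=
  H.back (i := 7) (by decide) (f843 H)

theorem f846 : g 3 • path g [8, 6] p = path g [8, 6, 3] p :=
  rfl

theorem f847 : g 8 • path g [8, 6, 3] p = path g [8, 6] p :=
  H.back (i := 3) (by decide) (f846 H)

theorem f848 : g 3 • path g [8, 6, 3] p = path g [3, 6, 0] p :=
  scan (u := [3]) (w := [3]) (i := 3) (r9_0_0 H) (step (f846 H) rfl) (step (H.back (i := 8) (by decide) (f811 H)) rfl)

theorem f849 : g 8 • path g [3, 6, 0] p = path g [8, 6, 3] p :=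
  H.back (i := 3) (by decide) (f848 H)

theorem f850 : g 2 • path g [3, 1, 8] p = path g [8, 6, 3] p :=
  scan (u := [3, 5, 5, 6, 5, 7, 5, 6, 5, 8]) (w := []) (i := 2) (r6_0_10 H) (step (f848 H) (step (f209 H) (step (f820 H) (step (f839 H) (step (f129 H) (step (f801 H) (step (f820 H) (step (f839 H) (step (f129 H) (step (f138 H) rfl)))))))))) rfl

theorem f854 : g 0 • path g [3, 6, 8] p = path g [3, 1, 8] p :=
  scan (u := [2, 8, 6, 5, 7, 5, 6, 3]) (w := []) (i := 0) (r8_1_8 H) (step (f850 H) (step (f847 H) (step (f72 H) (step (f514 H) (step (f807 H) (step (f617 H) (step (f72 H) (step (f813 H) rfl)))))))) rfl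

theorem f856 : g 1 • path g [3, 1, 8] p = path g [8, 6, 3] p :=
  scan (u := [0]) (w := [3, 0, 1, 3, 0, 1, 3]) (i := 1) (r17_0_0 H) (step (f854 H) rfl) (step (H.back (i := 8) (by decide) (f849 H)) (step (H.back (i := 5) (by decide) (f820 H)) (step (H.back (i := 6) (by decide) (f38 H)) (step (H.back (i := 8) (by decide) (f12 H)) (step (H.back (i := 5) (by decide) (f15 H)) (step (H.back (i := 6) (by decide) (f69 H)) (step (H.back (i := 8) (by decide) (f784 H)) rfl)))))))

theorem f857 : g 6 • path g [8, 6, 3] p = path g [3, 1, 8] p :=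
  H.back (i := 1) (by decide) (f856 H)

theorem f858 : g 4 • path g [8, 6] p = path g [8, 6, 4] p :=
  rfl

theorem f860 : g 9 • path g [8, 6] p = path g [8, 6, 9] p :=
  rfl

theorem f866 : g 7 • path g [8, 6, 9] p = path g [8, 1, 9] p :=
  scan (u := [9]) (w := [4, 0, 2, 0, 0, 0]) (i := 7) (r10_1_0 H) (step (f860 H) rfl) (step (H.back (i := 9) (by decide) (f500 H)) (step (H.back (i := 5) (by decide) (f487 H)) (step (H.back (i := 7) (by decide) (f626 H)) (step (H.back (i := 5) (by decide) (f625 H)) (step (H.back (i := 5) (by decide) (f617 H)) (step (H.back (i := 5) (by decide) (f625 H)) rfl))))))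

theorem f868 : g 0 • path g [8, 9] p = path g [8, 9, 0] p :=
  rfl

theorem f869 : g 5 • path g [8, 9, 0] p = path g [8, 9] p :=
  H.back (i := 0) (by decide) (f868 H)

theorem f870 : g 1 • path g [8, 9] p = path g [8, 9, 1] p :=
  rfl

theorem f871 : g 6 • path g [8, 9, 1] p = path g [8, 9] p :=
  H.back (i := 1) (by decide) (f870 H)

theorem f872 : g 5 • path g [8, 9] p = path g [8, 9, 5] p :=
  rfl

theorem f873 : g 0 • path g [8, 9, 5] p = path g [8, 9] p :=
  H.back (i := 5) (by decide) (f872 H)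

theorem f874 : g 3 • path g [8, 9, 5] p = path g [9, 0] p :=
  scan (u := [5]) (w := [1, 0, 2, 0, 1, 8]) (i := 3) (r7_1_1 H) (step (f872 H) rfl) (step (H.back (i := 6) (by decide) (f298 H)) (step (H.back (i := 5) (by decide) (f285 H)) (step (H.back (i := 7) (by decide) (f98 H)) (step (H.back (i := 5) (by decide) (f100 H)) (step (H.back (i := 6) (by decide) (f94 H)) (step (H.back (i := 3) (by decide) (f82 H)) rfl))))))

theorem f876 : g 7 • path g [8, 9, 5] p = path g [8, 9, 0] p :=
  scan (u := [5]) (w := [5, 4, 2, 1, 0, 2, 0, 1, 0, 9]) (i := 7) (r11_1_1 H) (step (f872 H) rfl) (step (H.back (i := 0) (by decide) (f868 H)) (step (H.back (i := 9) (by decide) (f76 H)) (step (H.back (i := 7) (by decide) (f17 H)) (step (H.back (i := 6) (by decide) (f69 H)) (step (H.back (i := 5) (by decide) (f487 H)) (step (H.back (i := 7) (by decide) (f626 H)) (step (H.back (i := 5) (by decide) (f625 H)) (step (H.back (i := 6) (by decide) (f70 H)) (step (H.back (i := 5) (by decide) (f15 H))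 (step (H.back (i := 4) (by decide) (f77 H)) rfl))))))))))

theorem f878 : path g [8, 9, 0] p = path g [8, 9, 5] p :=
  close (u := [0, 0]) (w := [0, 9, 7, 4, 0, 2]) (r10_1_5 H) (step (f873 H) (step (f868 H) rfl)) (step (H.back (i := 5) (by decide) (f872 H)) (step (H.back (i := 4) (by decide) (f79 H)) (step (H.back (i := 2) (by decide) (f452 H)) (step (H.back (i := 9) (by decide) (f78 H)) (step (H.back (i := 5) (by decide) (f869 H)) (step (H.back (i := 7) (by decide) (f876 H)) rfl))))))

theorem f879 : path g [8, 9, 5] p = path g [8, 9, 0] p :=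
  (f878 H).symm

theorem f880 : g 0 • path g [8, 9, 0] p = path g [8, 9] p :=
  (congrArg (g 0 • ·) (f879 H).symm).trans (f873 H)

theorem f882 : g 5 • path g [8, 9] p = path g [8, 9, 0] p :=
  H.back (i := 0) (by decide) (f880 H)

theorem f883 : g 3 • path g [8, 9, 0] p = path g [9, 0] p :=
  (congrArg (g 3 • ·) (f879 H).symm).trans (f874 H)

theorem f885 : g 8 • path g [9, 0] p = path g [8, 9, 0] p :=
  H.back (i := 3) (by decide) (f883 H)

theorem f889 : g 6 • path g [8, 9] p = path g [8, 9, 6] p :=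
  rfl

theorem f890 : g 1 • path g [8, 9, 6] p = path g [8, 9] p :=
  H.back (i := 6) (by decide) (f889 H)

theorem f891 : g 6 • path g [8, 9, 6] p = path g [8, 9, 1] p :=
  scan (u := [6]) (w := [6]) (i := 6) (r0_1_0 H) (step (f889 H) rfl) (step (H.back (i := 1) (by decide) (f870 H)) rfl)

theorem f892 : g 1 • path g [8, 9, 1] p = path g [8, 9, 6] p :=
  H.back (i := 6) (by decide) (f891 H)

theorem f893 : g 7 • path g [8, 9, 6] p = path g [8, 9, 1] p :=
  scan (u := [6]) (w := [6, 7]) (i := 7) (r1_1_0 H) (step (f889 H) rfl) (step (H.back (i := 1) (by decide) (f870 H)) (step (H.back (i := 2) (by decide) (f84 H)) rfl))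

theorem f894 : g 2 • path g [8, 9, 1] p = path g [8, 9, 6] p :=
  H.back (i := 7) (by decide) (f893 H)

theorem f895 : g 3 • path g [9, 0] p = path g [9, 0, 3] p :=
  rfl

theorem f896 : g 8 • path g [9, 0, 3] p = path g [9, 0] p :=
  H.back (i := 3) (by decide) (f895 H)

theorem f897 : g 3 • path g [9, 0, 3] p = path g [8, 9, 0] p :=
  scan (u := [3]) (w := [3]) (i := 3) (r9_0_0 H) (step (f895 H) rfl) (step (H.back (i := 8) (by decide) (f885 H)) rfl)

theorem f899 : g 0 • path g [9, 0, 3] p = path g [3, 9, 7] p :=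
  scan (u := [3]) (w := [2, 8, 6, 5, 7, 5, 6]) (i := 0) (r8_1_6 H) (step (f895 H) rfl) (step (H.back (i := 7) (by decide) (f246 H)) (step (H.back (i := 3) (by decide) (f47 H)) (step (H.back (i := 1) (by decide) (f95 H)) (step (H.back (i := 0) (by decide) (f101 H)) (step (H.back (i := 2) (by decide) (f99 H)) (step (H.back (i := 0) (by decide) (f284 H)) (step (H.back (i := 1) (by decide) (f296 H)) rfl)))))))

theorem f903 : g 6 • path g [9, 0] p = path g [9, 0, 6] p :=
  rfl

theorem f905 : g 6 • path g [9, 0, 6] p = path g [4, 1, 4] p :=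
  scan (u := [6]) (w := [6]) (i := 6) (r0_1_0 H) (step (f903 H) rfl) (step (H.back (i := 1) (by decide) (f296 H)) rfl)

theorem f906 : g 1 • path g [4, 1, 4] p = path g [9, 0, 6] p :=
  H.back (i := 6) (by decide) (f905 H)

theorem f907 : g 7 • path g [9, 0, 6] p = path g [4, 1, 4] p :=
  scan (u := [6]) (w := [6, 7]) (i := 7) (r1_1_0 H) (step (f903 H) rfl) (step (H.back (i := 1) (by decide) (f296 H)) (step (H.back (i := 2) (by decide) (f295 H)) rfl))

theorem f909 : g 5 • path g [9, 0, 6] p = path g [9, 0, 6] p :=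
  scan (u := [6]) (w := [6, 0, 6, 5]) (i := 5) (r3_1_1 H) (step (f903 H) rfl) (step (H.back (i := 1) (by decide) (f906 H)) (step (H.back (i := 5) (by decide) (f285 H)) (step (H.back (i := 1) (by decide) (f88 H)) (step (H.back (i := 0) (by decide) (f290 H)) rfl))))

theorem f910 : g 0 • path g [9, 0, 6] p = path g [9, 0, 6] p :=
  H.back (i := 5) (by decide) (f909 H)

theorem f911 : path g [3, 9, 5] p = path g [9, 0, 3] p :=
  close (u := [6, 5, 7, 5, 6, 3, 0, 2]) (w := [8]) (r8_1_1 H) (step (f903 H) (step (f909 H) (step (f907 H) (step (f299 H) (step (f89 H) (step (f47 H) (step (f234 H) (step (f844 H) rfl)))))))) (step (H.back (i := 3) (by decide) (f895 H)) rfl)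

theorem f912 : path g [9, 0, 3] p = path g [3, 9, 5] p :=
  (f911 H).symm

theorem f913 : g 8 • path g [3, 9, 5] p = path g [9, 0] p :=
  (congrArg (g 8 • ·) (f912 H).symm).trans (f896 H)

theorem f916 : g 3 • path g [3, 9, 5] p = path g [8, 9, 0] p :=
  (congrArg (g 3 • ·) (f912 H).symm).trans (f897 H)

theorem f918 : g 8 • path g [8, 9, 0] p = path g [3, 9, 5] p :=
  H.back (i := 3) (by decide) (f916 H)

theorem f919 : g 0 • path g [3, 9, 5] p = path g [3, 9, 7] p :=
  (congrArg (g 0 • ·) (f912 H).symm).trans (f899 H)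

theorem f920 : path g [3, 9] p = path g [3, 9, 7] p :=
  (f241 H).symm.trans (f919 H)

theorem f921 : path g [3, 9, 7] p = path g [3, 9] p :=
  (f920 H).symm

theorem f922 : g 2 • path g [3, 9] p = path g [3, 9] p :=
  (congrArg (g 2 • ·) (f921 H).symm).trans (f247 H)

theorem f923 : path g [3, 9, 2] p = path g [3, 9] p :=
  (f238 H).symm.trans (f922 H)

theorem f928 : g 7 • path g [3, 9] p = path g [3, 9] p :=
  (f246 H).trans (f921 H)

theorem f930 : g 9 • path g [9, 0, 6] p = path g [4, 0, 1] p :=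
  scan (u := [6]) (w := [1, 1, 0, 1, 4, 5, 5, 5, 6, 7, 5]) (i := 9) (r12_0_6 H) (step (f903 H) rfl) (step (H.back (i := 6) (by decide) (f260 H)) (step (H.back (i := 6) (by decide) (f258 H)) (step (H.back (i := 5) (by decide) (f415 H)) (step (H.back (i := 6) (by decide) (f51 H)) (step (H.back (i := 9) (by decide) (f283 H)) (step (H.back (i := 0) (by decide) (f300 H)) (step (H.back (i := 0) (by decide) (f284 H)) (step (H.back (i := 0) (by decide) (f300 H)) (step (H.back (i := 1) (by decide) (f88 H)) (step (H.back (i := 2) (by decide) (f22 H)) (step (H.back (i := 0) (by decide) (f290 H)) rfl)))))))))))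

theorem f932 : g 7 • path g [4, 1, 4] p = path g [9, 0, 6] p :=
  scan (u := [9, 2, 4, 5, 5, 5]) (w := [5]) (i := 7) (r10_0_5 H) (step (f930 H) (step (f383 H) (step (f454 H) (step (f285 H) (step (f299 H) (step (f285 H) rfl)))))) (step (H.back (i := 0) (by decide) (f910 H)) rfl)

theorem f933 : g 2 • path g [9, 0, 6] p = path g [4, 1, 4] p :=
  H.back (i := 7) (by decide) (f932 H)

theorem f934 : g 2 • path g [3, 9] p = path g [3, 9] p :=
  (f238 H).trans (f923 H)

theorem f941 : g 3 • path g [9, 1] p = path g [9, 1, 3] p :=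
  rfl

theorem f942 : g 8 • path g [9, 1, 3] p = path g [9, 1] p :=
  H.back (i := 3) (by decide) (f941 H)

theorem f943 : g 4 • path g [9, 1] p = path g [9, 1, 4] p :=
  rfl

theorem f944 : g 9 • path g [9, 1, 4] p = path g [9, 1] p :=
  H.back (i := 4) (by decide) (f943 H)

theorem f945 : g 4 • path g [9, 1, 4] p = path g [4, 0, 6] p :=
  scan (u := [4]) (w := [4]) (i := 4) (r13_0_0 H) (step (f943 H) rfl) (step (H.back (i := 9) (by decide) (f453 H)) rfl)

theorem f947 : g 1 • path g [9, 1, 4] p = path g [4, 0, 9] p :=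
  scan (u := [4]) (w := [2, 4, 1, 2, 4, 1, 2]) (i := 1) (r18_0_2 H) (step (f943 H) rfl) (step (H.back (i := 7) (by decide) (f352 H)) (step (H.back (i := 9) (by decide) (f268 H)) (step (H.back (i := 6) (by decide) (f251 H)) (step (H.back (i := 7) (by decide) (f385 H)) (step (H.back (i := 9) (by decide) (f453 H)) (step (H.back (i := 6) (by decide) (f96 H)) (step (H.back (i := 7) (by decide) (f301 H)) rfl)))))))

theorem f951 : g 7 • path g [4, 1, 9] p = path g [9, 1, 4] p :=
  scan (u := [4, 0, 2, 0, 0, 0, 9]) (w := []) (i := 7) (r10_1_2 H) (step (f945 H) (step (f445 H) (step (f446 H) (step (f438 H) (step (f382 H) (step (f438 H) (step (f333 H) rfl))))))) rfl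

theorem f953 : g 6 • path g [9, 1, 4] p = path g [4, 1, 9] p :=
  scan (u := [7]) (w := [9, 7, 6, 9, 7, 6, 9]) (i := 6) (r18_1_1 H) (step (f951 H) rfl) (step (H.back (i := 4) (by decide) (f336 H)) (step (H.back (i := 2) (by decide) (f933 H)) (step (H.back (i := 1) (by decide) (f906 H)) (step (H.back (i := 4) (by decide) (f282 H)) (step (H.back (i := 2) (by decide) (f323 H)) (step (H.back (i := 1) (by decide) (f59 H)) (step (H.back (i := 4) (by decide) (f334 H)) rfl)))))))

theorem f954 : g 1 • path g [4, 1, 9] p = path g [9, 1, 4] p :=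
  H.back (i := 6) (by decide) (f953 H)

theorem f955 : path g [4, 1, 9] p = path g [4, 1] p :=
  close (u := [7, 9, 6, 7, 9, 6, 7, 9]) (w := [6, 7, 9, 6, 7, 9, 6, 7, 9, 6, 7, 9, 6]) (r16_1_2 H) (step (f951 H) (step (f944 H) (step (f89 H) (step (f23 H) (step (f20 H) (step (f56 H) (step (f314 H) (step (f333 H) rfl)))))))) (step (H.back (i := 1) (by decide) (f50 H)) (step (H.back (i := 2) (by decide) (f309 H)) (step (H.back (i := 4) (by decide) (f8 H)) (step (H.back (i := 1) (by decide) (f2 H)) (step (H.back (i := 2) (by decide) (f4 H)) (step (H.back (i := 4) (by decide) (f19 H)) (step (H.back (i := 1) (by decide) (f95 H)) (step (H.back (i := 2) (by decide) (f99 H)) (step (H.back (i := 4) (by decide) (f454 H)) (step (H.back (i := 1) (by decide) (f261 H)) (step (H.back (i := 2) (by decide) (f446 H)) (step (H.back (i := 4) (by decide) (f945 H)) (step (H.back (i := 1) (by decide) (f954 H)) rfl)))))))))))))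

theorem f959 : g 9 • path g [4, 1] p = path g [4, 1] p :=
  (f333 H).trans (f955 H)

theorem f965 : g 1 • path g [4, 1] p = path g [9, 1, 4] p :=
  (congrArg (g 1 • ·) (f955 H).symm).trans (f954 H)

theorem f966 : path g [4, 6] p = path g [9, 1, 4] p :=
  (f59 H).symm.trans (f965 H)

theorem f967 : path g [9, 1, 4] p = path g [4, 6] p :=
  (f966 H).symm

theorem f972 : g 1 • path g [4, 6] p = path g [4, 0, 9] p :=
  (congrArg (g 1 • ·) (f967 H).symm).trans (f947 H)

theorem f973 : path g [4] p = path g [4, 0, 9] p :=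
  (f57 H).symm.trans (f972 H)

theorem f983 : path g [4, 0, 9] p = path g [4] p :=
  (f973 H).symm

theorem f986 : g 9 • path g [4] p = path g [4, 0, 4] p :=
  (congrArg (g 9 • ·) (f983 H).symm).trans (f270 H)

theorem f987 : path g [] p = path g [4, 0, 4] p :=
  (f9 H).symm.trans (f986 H)

theorem f997 : path g [4, 0, 4] p = path g [] p :=
  (f987 H).symm

theorem f998 : g 9 • path g [] p = path g [4, 0] p :=
  (congrArg (g 9 • ·) (f997 H).symm).trans (f257 H)

theorem f999 : path g [9] p = path g [4, 0] p :=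
  (f18 H).symm.trans (f998 H)

theorem f1003 : path g [4, 0] p = path g [9] p :=
  (f999 H).symm

theorem f1023 : g 8 • path g [9] p = path g [4, 0, 8] p :=
  (congrArg (g 8 • ·) (f1003 H).symm).trans (f264 H)

theorem f1024 : path g [8, 9] p = path g [4, 0, 8] p :=
  (f83 H).symm.trans (f1023 H)

theorem f1028 : path g [4, 0, 8] p = path g [8, 9] p :=
  (f1024 H).symm

theorem f1036 : g 5 • path g [8, 9] p = path g [4, 8] p :=
  (congrArg (g 5 • ·) (f1028 H).symm).trans (f456 H)

theorem f1037 : path g [8, 9, 0] p = path g [4, 8] p :=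
  (f882 H).symm.trans (f1036 H)

theorem f1045 : g 5 • path g [4, 8] p = path g [8, 9] p :=
  (f448 H).trans (f1028 H)

theorem f1051 : g 0 • path g [4, 8] p = path g [8, 9] p :=
  (f455 H).trans (f1028 H)

theorem f1058 : g 8 • path g [4, 8] p = path g [3, 9, 5] p :=
  (congrArg (g 8 • ·) (f1037 H).symm).trans (f918 H)

theorem f1059 : path g [3, 4] p = path g [3, 9, 5] p :=
  (f64 H).symm.trans (f1058 H)

theorem f1060 : path g [3, 9, 5] p = path g [3, 4] p :=
  (f1059 H).symm

theorem f1063 : g 7 • path g [3, 4] p = path g [3, 9, 0] p :=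
  (congrArg (g 7 • ·) (f1060 H).symm).trans (f843 H)

theorem f1064 : path g [3, 4, 7] p = path g [3, 9, 0] p :=
  (f184 H).symm.trans (f1063 H)

theorem f1065 : g 8 • path g [3, 4] p = path g [9, 0] p :=
  (congrArg (g 8 • ·) (f1060 H).symm).trans (f913 H)

theorem f1066 : path g [4] p = path g [9, 0] p :=
  (f34 H).symm.trans (f1065 H)

theorem f1070 : path g [9, 0] p = path g [4] p :=
  (f1066 H).symm

theorem f1072 : g 5 • path g [4] p = path g [9] p :=
  (f415 H).trans (f1003 H)

theorem f1078 : g 0 • path g [4] p = path g [9] p :=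
  (f48 H).trans (f1003 H)

theorem f1093 : g 6 • path g [4] p = path g [9, 0, 6] p :=
  (congrArg (g 6 • ·) (f1070 H).symm).trans (f903 H)

theorem f1094 : path g [4, 6] p = path g [9, 0, 6] p :=
  (f56 H).symm.trans (f1093 H)

theorem f1116 : path g [9, 0, 6] p = path g [4, 6] p :=
  (f1094 H).symm

theorem f1132 : g 2 • path g [4, 6] p = path g [4, 1, 4] p :=
  (congrArg (g 2 • ·) (f1116 H).symm).trans (f933 H)

theorem f1133 : path g [4, 1] p = path g [4, 1, 4] p :=
  (f323 H).symm.trans (f1132 H)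

theorem f1134 : path g [4, 1, 4] p = path g [4, 1] p :=
  (f1133 H).symm

theorem f1142 : g 5 • path g [4, 1] p = path g [9, 1] p :=
  (congrArg (g 5 • ·) (f1134 H).symm).trans (f299 H)

theorem f1143 : path g [4, 0, 1] p = path g [9, 1] p :=
  (f440 H).symm.trans (f1142 H)

theorem f1146 : g 4 • path g [4, 1] p = path g [4, 1] p :=
  (f282 H).trans (f1134 H)

theorem f1163 : g 5 • path g [9, 1] p = path g [4, 1] p :=
  (f285 H).trans (f1134 H)

theorem f1168 : g 0 • path g [9, 1] p = path g [4, 1] p :=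
  (f300 H).trans (f1134 H)

theorem f1170 : g 7 • path g [9, 1] p = path g [4, 0, 6] p :=
  (congrArg (g 7 • ·) (f1143 H).symm).trans (f447 H)

theorem f1171 : path g [9, 6] p = path g [4, 0, 6] p :=
  (f301 H).symm.trans (f1170 H)

theorem f1174 : g 4 • path g [9, 1] p = path g [4, 6] p :=
  (f943 H).trans (f967 H)

theorem f1176 : path g [4, 0, 6] p = path g [9, 6] p :=
  (f1171 H).symm

theorem f1195 : g 4 • path g [9, 6] p = path g [9, 1] p :=
  (congrArg (g 4 • ·) (f1176 H).symm).trans (f454 H)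

theorem f1196 : path g [4, 6, 9] p = path g [9, 1] p :=
  (f477 H).symm.trans (f1195 H)

theorem f1205 : path g [3, 9, 0] p = path g [3, 4, 7] p :=
  (f1064 H).symm

theorem f1206 : g 5 • path g [3, 4, 7] p = path g [3, 9] p :=
  (congrArg (g 5 • ·) (f1205 H).symm).trans (f235 H)

theorem f1207 : path g [4, 0, 3] p = path g [3, 9] p :=
  (f436 H).symm.trans (f1206 H)

theorem f1218 : g 0 • path g [3, 9] p = path g [3, 4, 7] p :=
  (f234 H).trans (f1205 H)

theorem f1220 : g 7 • path g [3, 9] p = path g [3, 4, 0] p :=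
  (congrArg (g 7 • ·) (f1207 H).symm).trans (f458 H)

theorem f1221 : path g [3, 9] p = path g [3, 4, 0] p :=
  (f928 H).symm.trans (f1220 H)

theorem f1222 : path g [3, 4, 0] p = path g [3, 9] p :=
  (f1221 H).symm

theorem f1224 : g 5 • path g [3, 9] p = path g [3, 4] p :=
  (f240 H).trans (f1060 H)

theorem f1229 : g 8 • path g [9, 1] p = path g [9, 1, 8] p :=
  rfl

theorem f1230 : g 3 • path g [9, 1, 8] p = path g [9, 1] p :=
  H.back (i := 8) (by decide) (f1229 H)

theorem f1235 : g 0 • path g [9, 1, 8] p = path g [4, 6, 8] p :=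
  scan (u := [8]) (w := [3, 6, 5, 7, 5, 6]) (i := 0) (r7_0_5 H) (step (f1229 H) rfl) (step (H.back (i := 8) (by decide) (f464 H)) (step (H.back (i := 1) (by decide) (f59 H)) (step (H.back (i := 0) (by decide) (f1168 H)) (step (H.back (i := 2) (by decide) (f302 H)) (step (H.back (i := 0) (by decide) (f101 H)) (step (H.back (i := 1) (by decide) (f97 H)) rfl))))))

theorem f1236 : g 5 • path g [4, 6, 8] p = path g [9, 1, 8] p :=
  H.back (i := 0) (by decide) (f1235 H)

theorem f1237 : g 5 • path g [9] p = path g [4] p :=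
  (f292 H).trans (f1070 H)

theorem f1238 : g 0 • path g [4, 1] p = path g [9, 1] p :=
  (f382 H).trans (f1143 H)

theorem f1239 : g 5 • path g [4, 1] p = path g [9, 1] p :=
  (f440 H).trans (f1143 H)

theorem f1244 : g 3 • path g [9, 6] p = path g [9, 6, 3] p :=
  rfl

theorem f1248 : g 4 • path g [9, 6] p = path g [9, 1] p :=
  (f477 H).trans (f1196 H)

theorem f1249 : g 4 • path g [9, 6, 3] p = path g [9, 1, 3] p :=
  scan (u := [3]) (w := [8, 9]) (i := 4) (r14_1_2 H) (step (f1244 H) rfl) (step (H.back (i := 3) (by decide) (f941 H)) (step (H.back (i := 4) (by decide) (f1248 H)) rfl))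

theorem f1250 : g 9 • path g [9, 1, 3] p = path g [9, 6, 3] p :=
  H.back (i := 4) (by decide) (f1249 H)

theorem f1251 : g 0 • path g [9] p = path g [4] p :=
  (f86 H).trans (f1070 H)

theorem f1252 : g 8 • path g [9, 6] p = path g [9, 6, 8] p :=
  rfl

theorem f1254 : g 8 • path g [9, 6, 8] p = path g [9, 6, 3] p :=
  scan (u := [8]) (w := [8]) (i := 8) (r9_1_0 H) (step (f1252 H) rfl) (step (H.back (i := 3) (by decide) (f1244 H)) rfl)

theorem f1258 : g 9 • path g [9, 6, 8] p = path g [4, 6, 8] p :=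
  scan (u := [8]) (w := [3, 4]) (i := 9) (r14_1_0 H) (step (f1252 H) rfl) (step (H.back (i := 8) (by decide) (f464 H)) (step (H.back (i := 9) (by decide) (f322 H)) rfl))

theorem f1260 : g 0 • path g [9, 6, 8] p = path g [9, 1, 8] p :=
  scan (u := [8]) (w := [3, 6, 5, 7, 5, 6]) (i := 0) (r7_0_5 H) (step (f1252 H) rfl) (step (H.back (i := 8) (by decide) (f1229 H)) (step (H.back (i := 1) (by decide) (f88 H)) (step (H.back (i := 0) (by decide) (f1078 H)) (step (H.back (i := 2) (by decide) (f309 H)) (step (H.back (i := 0) (by decide) (f1251 H)) (step (H.back (i := 1) (by decide) (f95 H)) rfl))))))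

theorem f1261 : g 5 • path g [9, 1, 8] p = path g [9, 6, 8] p :=
  H.back (i := 0) (by decide) (f1260 H)

theorem f1262 : g 5 • path g [9, 6, 8] p = path g [4, 1, 8] p :=
  scan (u := [8]) (w := [3, 1, 0, 2, 0, 1]) (i := 5) (r7_1_0 H) (step (f1252 H) rfl) (step (H.back (i := 8) (by decide) (f329 H)) (step (H.back (i := 6) (by decide) (f58 H)) (step (H.back (i := 5) (by decide) (f391 H)) (step (H.back (i := 7) (by decide) (f325 H)) (step (H.back (i := 5) (by decide) (f1163 H)) (step (H.back (i := 6) (by decide) (f96 H)) rfl))))))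

theorem f1263 : g 0 • path g [4, 1, 8] p = path g [9, 6, 8] p :=
  H.back (i := 5) (by decide) (f1262 H)

theorem f1266 : g 7 • path g [9, 6, 8] p = path g [9, 1, 8] p :=
  scan (u := [8]) (w := [3, 0, 1, 0, 2, 0, 1, 0, 0]) (i := 7) (r6_1_0 H) (step (f1252 H) rfl) (step (H.back (i := 8) (by decide) (f1229 H)) (step (H.back (i := 5) (by decide) (f1239 H)) (step (H.back (i := 6) (by decide) (f58 H)) (step (H.back (i := 5) (by decide) (f391 H)) (step (H.back (i := 7) (by decide) (f325 H)) (step (H.back (i := 5) (by decide) (f1163 H)) (step (H.back (i := 6) (by decide) (f96 H)) (step (H.back (i := 5) (by decide) (f100 H)) (step (H.back (i := 5) (by decide) (f100 H)) rfl)))))))))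

theorem f1268 : g 4 • path g [4, 1, 8] p = path g [4, 1, 8] p :=
  scan (u := [7, 5, 9, 2]) (w := [5, 5, 5]) (i := 4) (r10_0_3 H) (step (f1266 H) (step (f1261 H) (step (f1258 H) (step (f470 H) rfl)))) (step (H.back (i := 0) (by decide) (f468 H)) (step (H.back (i := 0) (by decide) (f1235 H)) (step (H.back (i := 0) (by decide) (f1260 H)) rfl)))

theorem f1270 : g 9 • path g [4, 1, 3] p = path g [4, 1, 3] p :=
  scan (u := [4, 8]) (w := [3]) (i := 9) (r14_1_3 H) (step (f1268 H) (step (f331 H) rfl)) (step (H.back (i := 8) (by decide) (f331 H)) rfl)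

theorem f1271 : g 4 • path g [4, 1, 3] p = path g [4, 1, 3] p :=
  H.back (i := 9) (by decide) (f1270 H)

theorem f1274 : g 6 • path g [3, 1, 0] p = path g [3, 1, 0, 6] p :=
  rfl

theorem f1276 : g 6 • path g [3, 1, 0, 6] p = path g [3, 6, 0] p :=
  scan (u := [6]) (w := [6]) (i := 6) (r0_1_0 H) (step (f1274 H) rfl) (step (H.back (i := 1) (by decide) (f840 H)) rfl)

theorem f1277 : g 1 • path g [3, 6, 0] p = path g [3, 1, 0, 6] p :=
  H.back (i := 6) (by decide) (f1276 H)

theorem f1278 : g 7 • path g [3, 1, 0, 6] p = path g [3, 1, 0, 6] p :=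
  scan (u := [6]) (w := [6, 7]) (i := 7) (r1_1_0 H) (step (f1274 H) rfl) (step (H.back (i := 1) (by decide) (f1277 H)) (step (H.back (i := 2) (by decide) (f833 H)) rfl))

theorem f1280 : g 5 • path g [3, 1, 0, 6] p = path g [3, 1, 0, 6] p :=
  scan (u := [6]) (w := [6, 0, 6, 5]) (i := 5) (r3_1_1 H) (step (f1274 H) rfl) (step (H.back (i := 1) (by decide) (f1277 H)) (step (H.back (i := 5) (by decide) (f820 H)) (step (H.back (i := 1) (by decide) (f41 H)) (step (H.back (i := 0) (by decide) (f823 H)) rfl))))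

theorem f1282 : g 8 • path g [3, 1, 0] p = path g [3, 1, 0, 8] p :=
  rfl

theorem f1288 : g 5 • path g [3, 1, 0, 8] p = path g [8, 6, 3] p :=
  scan (u := [8]) (w := [3, 1, 0, 2, 0, 1]) (i := 5) (r7_1_0 H) (step (f1282 H) rfl) (step (H.back (i := 8) (by decide) (f849 H)) (step (H.back (i := 6) (by decide) (f1276 H)) (step (H.back (i := 5) (by decide) (f1280 H)) (step (H.back (i := 7) (by decide) (f1278 H)) (step (H.back (i := 5) (by decide) (f1280 H)) (step (H.back (i := 6) (by decide) (f1274 H)) rfl))))))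

theorem f1290 : g 6 • path g [3, 1, 0, 8] p = path g [3, 6, 8] p :=
  scan (u := [8]) (w := [5, 8, 6, 5, 8, 6, 5]) (i := 6) (r17_1_0 H) (step (f1282 H) rfl) (step (H.back (i := 0) (by decide) (f229 H)) (step (H.back (i := 3) (by decide) (f141 H)) (step (H.back (i := 1) (by decide) (f622 H)) (step (H.back (i := 0) (by decide) (f486 H)) (step (H.back (i := 3) (by decide) (f794 H)) (step (H.back (i := 1) (by decide) (f41 H)) (step (H.back (i := 0) (by decide) (f823 H)) rfl)))))))

theorem f1294 : g 7 • path g [3, 1, 0, 8] p = path g [3, 6, 8] p :=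
  scan (u := [8]) (w := [3, 0, 1, 0, 2, 0, 1, 0, 0]) (i := 7) (r6_1_0 H) (step (f1282 H) rfl) (step (H.back (i := 8) (by decide) (f224 H)) (step (H.back (i := 5) (by decide) (f209 H)) (step (H.back (i := 6) (by decide) (f1276 H)) (step (H.back (i := 5) (by decide) (f1280 H)) (step (H.back (i := 7) (by decide) (f1278 H)) (step (H.back (i := 5) (by decide) (f1280 H)) (step (H.back (i := 6) (by decide) (f1274 H)) (step (H.back (i := 5) (by decide) (f825 H)) (step (H.back (i := 5) (by decide) (f129 H)) rfl)))))))))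

theorem f1295 : g 2 • path g [3, 6, 8] p = path g [3, 1, 0, 8] p :=
  H.back (i := 7) (by decide) (f1294 H)

theorem f1296 : path g [3, 6, 8] p = path g [3, 1] p :=
  close (u := [8, 6, 8, 6, 8, 6, 8]) (w := [6, 8, 6, 8, 6, 8, 6]) (r15_1_0 H) (step (f1282 H) (step (f1290 H) (step (f784 H) (step (f69 H) (step (f12 H) (step (f38 H) (step (f224 H) rfl))))))) (step (H.back (i := 1) (by decide) (f28 H)) (step (H.back (i := 3) (by decide) (f6 H)) (step (H.back (i := 1) (by decide) (f2 H)) (step (H.back (i := 3) (by decide) (f11 H)) (step (H.back (i := 1) (by decide) (f71 H)) (step (H.back (i := 3) (by decide) (f812 H)) (step (H.back (i := 1) (by decide) (f840 H)) rfl)))))))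

theorem f1309 : g 2 • path g [3, 1] p = path g [3, 1, 0, 8] p :=
  (congrArg (g 2 • ·) (f1296 H).symm).trans (f1295 H)

theorem f1310 : path g [3, 6] p = path g [3, 1, 0, 8] p :=
  (f777 H).symm.trans (f1309 H)

theorem f1311 : path g [3, 1, 0, 8] p = path g [3, 6] p :=
  (f1310 H).symm

theorem f1319 : g 5 • path g [3, 6] p = path g [8, 6, 3] p :=
  (congrArg (g 5 • ·) (f1311 H).symm).trans (f1288 H)

theorem f1320 : path g [3, 6, 0] p = path g [8, 6, 3] p :=
  (f820 H).symm.trans (f1319 H)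

theorem f1330 : path g [8, 6, 3] p = path g [3, 6, 0] p :=
  (f1320 H).symm

theorem f1340 : g 6 • path g [3, 6, 0] p = path g [3, 1, 8] p :=
  (congrArg (g 6 • ·) (f1330 H).symm).trans (f857 H)

theorem f1341 : path g [3, 1, 0] p = path g [3, 1, 8] p :=
  (f839 H).symm.trans (f1340 H)

theorem f1348 : path g [3, 1, 8] p = path g [3, 1, 0] p :=
  (f1341 H).symm

theorem f1351 : g 8 • path g [3, 1, 0] p = path g [3, 1, 3] p :=
  (congrArg (g 8 • ·) (f1348 H).symm).trans (f140 H)

theorem f1352 : g 8 • path g [3, 1, 0] p = path g [3, 6] p :=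
  (f1282 H).trans (f1311 H)

theorem f1353 : path g [3, 6] p = path g [3, 1, 3] p :=
  (f1352 H).symm.trans (f1351 H)

theorem f1369 : path g [3, 1, 3] p = path g [3, 6] p :=
  (f1353 H).symm

theorem f1383 : g 2 • path g [3, 6] p = path g [8, 1, 0] p :=
  (congrArg (g 2 • ·) (f1369 H).symm).trans (f806 H)

theorem f1384 : path g [3, 1] p = path g [8, 1, 0] p :=
  (f838 H).symm.trans (f1383 H)

theorem f1385 : path g [8, 1, 0] p = path g [3, 1] p :=
  (f1384 H).symm

theorem f1391 : g 0 • path g [3, 1] p = path g [8, 1] p :=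
  (congrArg (g 0 • ·) (f1385 H).symm).trans (f512 H)

theorem f1392 : path g [3, 1, 0] p = path g [8, 1] p :=
  (f128 H).symm.trans (f1391 H)

theorem f1400 : g 8 • path g [3, 1] p = path g [3, 1, 0] p :=
  (f138 H).trans (f1348 H)

theorem f1404 : g 3 • path g [3, 1] p = path g [3, 6] p :=
  (f130 H).trans (f1369 H)

theorem f1407 : g 5 • path g [8, 1] p = path g [3, 1] p :=
  (f514 H).trans (f1385 H)

theorem f1412 : g 0 • path g [8, 1] p = path g [3, 1] p :=
  (f486 H).trans (f1385 H)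

theorem f1418 : g 3 • path g [8, 1] p = path g [3, 1] p :=
  (f813 H).trans (f1296 H)

theorem f1424 : g 6 • path g [8, 1] p = path g [3, 1, 0, 6] p :=
  (congrArg (g 6 • ·) (f1392 H).symm).trans (f1274 H)

theorem f1425 : path g [8] p = path g [3, 1, 0, 6] p :=
  (f69 H).symm.trans (f1424 H)

theorem f1428 : path g [3, 1, 0, 6] p = path g [8] p :=
  (f1425 H).symm

theorem f1432 : g 6 • path g [8] p = path g [3, 6, 0] p :=
  (congrArg (g 6 • ·) (f1428 H).symm).trans (f1276 H)

theorem f1433 : path g [8, 6] p = path g [3, 6, 0] p :=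
  (f70 H).symm.trans (f1432 H)

theorem f1446 : path g [3, 6, 0] p = path g [8, 6] p :=
  (f1433 H).symm

theorem f1448 : g 5 • path g [8, 6] p = path g [3, 6] p :=
  (f625 H).trans (f1369 H)

theorem f1478 : g 0 • path g [3, 1, 4] p = path g [3, 1, 4, 0] p :=
  rfl

theorem f1485 : g 3 • path g [3, 1, 4] p = path g [3, 1, 4, 3] p :=
  rfl

theorem f1486 : g 8 • path g [3, 1, 4, 3] p = path g [3, 1, 4] p :=
  H.back (i := 3) (by decide) (f1485 H)

theorem f1487 : path g [3, 1, 4, 3] p = path g [3, 6, 4] p :=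
  close (u := [3]) (w := [9, 8, 4]) (r14_0_3 H) (step (f1485 H) rfl) (step (H.back (i := 4) (by decide) (f216 H)) (step (H.back (i := 3) (by decide) (f1404 H)) (step (H.back (i := 9) (by decide) (f133 H)) rfl)))

theorem f1488 : g 8 • path g [3, 6, 4] p = path g [3, 1, 4] p :=
  (congrArg (g 8 • ·) (f1487 H).symm).trans (f1486 H)

theorem f1490 : g 3 • path g [3, 1, 4] p = path g [3, 6, 4] p :=
  H.back (i := 8) (by decide) (f1488 H)

theorem f1491 : g 8 • path g [3, 6, 9] p = path g [3, 1, 9] p :=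
  scan (u := [3, 4]) (w := [9]) (i := 8) (r14_1_2 H) (step (f1490 H) (step (f233 H) rfl)) (step (H.back (i := 4) (by decide) (f145 H)) rfl)

theorem f1492 : g 3 • path g [3, 1, 9] p = path g [3, 6, 9] p :=
  H.back (i := 8) (by decide) (f1491 H)

theorem f1493 : g 5 • path g [3, 1, 4] p = path g [3, 1, 4, 5] p :=
  rfl

theorem f1495 : g 5 • path g [3, 1] p = path g [8, 1] p :=
  (f825 H).trans (f1392 H)

theorem f1502 : g 8 • path g [3, 1, 4] p = path g [3, 1, 4, 8] p :=
  rfl

theorem f1503 : g 3 • path g [3, 1, 4, 8] p = path g [3, 1, 4] p :=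
  H.back (i := 8) (by decide) (f1502 H)

theorem f1504 : g 8 • path g [3, 1, 4, 8] p = path g [3, 6, 4] p :=
  scan (u := [8]) (w := [8]) (i := 8) (r9_1_0 H) (step (f1502 H) rfl) (step (H.back (i := 3) (by decide) (f1490 H)) rfl)

theorem f1506 : g 8 • path g [3, 1] p = path g [8, 1] p :=
  (f1400 H).trans (f1392 H)

theorem f1507 : path g [3, 1, 4, 8] p = path g [8, 1, 4] p :=
  close (u := [8]) (w := [9, 3, 4]) (r14_1_0 H) (step (f1502 H) rfl) (step (H.back (i := 4) (by decide) (f490 H)) (step (H.back (i := 8) (by decide) (f1506 H)) (step (H.back (i := 9) (by decide) (f133 H)) rfl)))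

theorem f1508 : g 3 • path g [8, 1, 4] p = path g [3, 1, 4] p :=
  (congrArg (g 3 • ·) (f1507 H).symm).trans (f1503 H)

theorem f1510 : g 8 • path g [3, 1, 4] p = path g [8, 1, 4] p :=
  H.back (i := 3) (by decide) (f1508 H)

theorem f1511 : g 8 • path g [8, 1, 4] p = path g [3, 6, 4] p :=
  (congrArg (g 8 • ·) (f1507 H).symm).trans (f1504 H)

theorem f1513 : g 3 • path g [3, 6, 4] p = path g [8, 1, 4] p :=
  H.back (i := 8) (by decide) (f1511 H)

theorem f1514 : g 8 • path g [3, 1, 9] p = path g [8, 1, 9] p :=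
  scan (u := [3, 4]) (w := [9]) (i := 8) (r14_1_2 H) (step (f1508 H) (step (f145 H) rfl)) (step (H.back (i := 4) (by decide) (f503 H)) rfl)

theorem f1515 : g 3 • path g [8, 1, 9] p = path g [3, 1, 9] p :=
  H.back (i := 8) (by decide) (f1514 H)

theorem f1519 : g 0 • path g [3, 1, 9] p = path g [3, 1, 9, 0] p :=
  rfl

theorem f1520 : g 5 • path g [3, 1, 9, 0] p = path g [3, 1, 9] p :=
  H.back (i := 0) (by decide) (f1519 H)

theorem f1521 : g 1 • path g [3, 1, 9] p = path g [3, 1, 9, 1] p :=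
  rfl

theorem f1523 : g 0 • path g [3, 6] p = path g [8, 6] p :=
  (f208 H).trans (f1446 H)

theorem f1524 : g 5 • path g [3, 1, 9] p = path g [3, 1, 9, 5] p :=
  rfl

theorem f1525 : g 0 • path g [3, 1, 9, 5] p = path g [3, 1, 9] p :=
  H.back (i := 5) (by decide) (f1524 H)

theorem f1526 : g 6 • path g [3, 1, 9] p = path g [3, 1, 9, 6] p :=
  rfl

theorem f1528 : g 6 • path g [3, 1, 9, 6] p = path g [3, 1, 9, 1] p :=
  scan (u := [6]) (w := [6]) (i := 6) (r0_1_0 H) (step (f1526 H) rfl) (step (H.back (i := 1) (by decide) (f1521 H)) rfl)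

theorem f1529 : g 1 • path g [3, 1, 9, 1] p = path g [3, 1, 9, 6] p :=
  H.back (i := 6) (by decide) (f1528 H)

theorem f1530 : g 0 • path g [3, 4, 1] p = path g [3, 4, 1, 0] p :=
  rfl

theorem f1531 : g 5 • path g [3, 4, 1, 0] p = path g [3, 4, 1] p :=
  H.back (i := 0) (by decide) (f1530 H)

theorem f1532 : g 0 • path g [3, 4] p = path g [3, 9] p :=
  (f172 H).trans (f1222 H)

theorem f1533 : g 5 • path g [3, 4, 7] p = path g [3, 9] p :=
  (f436 H).trans (f1207 H)

theorem f1534 : g 5 • path g [8, 9] p = path g [4, 8] p :=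
  (f882 H).trans (f1037 H)

theorem f1535 : path g [3, 4, 1, 0] p = path g [8, 9, 1] p :=
  close (u := [0]) (w := [2, 1, 0, 0, 0, 9, 6, 5, 6, 6, 4, 1]) (r12_1_7 H) (step (f1530 H) rfl) (step (H.back (i := 7) (by decide) (f893 H)) (step (H.back (i := 6) (by decide) (f889 H)) (step (H.back (i := 5) (by decide) (f1045 H)) (step (H.back (i := 5) (by decide) (f1534 H)) (step (H.back (i := 5) (by decide) (f1045 H)) (step (H.back (i := 4) (by decide) (f67 H)) (step (H.back (i := 1) (by decide) (f71 H)) (step (H.back (i := 0) (by decide) (f1523 H)) (step (H.back (i := 1) (by decide) (f41 H)) (step (H.back (i := 1) (by decide) (f28 H)) (step (H.back (i := 9) (by decide) (f33 H)) (step (H.back (i := 6) (by decide) (f175 H)) rfl))))))))))))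

theorem f1536 : g 5 • path g [8, 9, 1] p = path g [3, 4, 1] p :=
  (congrArg (g 5 • ·) (f1535 H).symm).trans (f1531 H)

theorem f1538 : g 0 • path g [3, 4, 1] p = path g [8, 9, 1] p :=
  H.back (i := 5) (by decide) (f1536 H)

theorem f1539 : g 0 • path g [3, 4, 6] p = path g [4, 8, 6] p :=
  scan (u := [5, 1]) (w := [1, 0, 1]) (i := 0) (r3_0_1 H) (step (f1536 H) (step (f183 H) rfl)) (step (H.back (i := 6) (by decide) (f480 H)) (step (H.back (i := 5) (by decide) (f1534 H)) (step (H.back (i := 6) (by decide) (f871 H)) rfl)))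

theorem f1540 : g 5 • path g [4, 8, 6] p = path g [3, 4, 6] p :=
  H.back (i := 0) (by decide) (f1539 H)

theorem f1541 : g 5 • path g [3, 9, 6] p = path g [8, 9, 6] p :=
  scan (u := [5, 6, 0, 6]) (w := [6]) (i := 5) (r3_1_2 H) (step (f1536 H) (step (f175 H) (step (f1532 H) (step (f242 H) rfl)))) (step (H.back (i := 1) (by decide) (f892 H)) rfl)

theorem f1542 : g 0 • path g [8, 9, 6] p = path g [3, 9, 6] p :=
  H.back (i := 5) (by decide) (f1541 H)

theorem f1543 : g 0 • path g [8, 9] p = path g [4, 8] p :=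
  (f868 H).trans (f1037 H)

theorem f1544 : g 0 • path g [3, 9, 1] p = path g [4, 8, 1] p :=
  scan (u := [5, 6, 7, 5, 2, 1]) (w := [2, 1, 0, 6, 7]) (i := 0) (r5_1_2 H) (step (f1536 H) (step (f175 H) (step (f184 H) (step (f1533 H) (step (f934 H) (step (f236 H) rfl)))))) (step (H.back (i := 7) (by decide) (f484 H)) (step (H.back (i := 6) (by decide) (f480 H)) (step (H.back (i := 5) (by decide) (f1534 H)) (step (H.back (i := 1) (by decide) (f890 H)) (step (H.back (i := 2) (by decide) (f894 H)) rfl)))))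

theorem f1545 : g 5 • path g [4, 8, 1] p = path g [3, 9, 1] p :=
  H.back (i := 0) (by decide) (f1544 H)

theorem f1546 : g 2 • path g [3, 4, 1] p = path g [3, 4, 6] p :=
  scan (u := [5]) (w := [1, 0, 2, 1, 0, 6, 7, 5, 6, 7]) (i := 2) (r5_1_5 H) (step (f1536 H) rfl) (step (H.back (i := 6) (by decide) (f180 H)) (step (H.back (i := 5) (by decide) (f1224 H)) (step (H.back (i := 7) (by decide) (f928 H)) (step (H.back (i := 6) (by decide) (f237 H)) (step (H.back (i := 5) (by decide) (f1545 H)) (step (H.back (i := 1) (by decide) (f478 H)) (step (H.back (i := 2) (by decide) (f452 H)) (step (H.back (i := 0) (by decide) (f1543 H)) (step (H.back (i := 1) (by decide) (f890 H)) (step (H.back (i := 2) (by decide) (f894 H)) rfl))))))))))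

theorem f1547 : g 7 • path g [3, 4, 6] p = path g [3, 4, 1] p :=
  H.back (i := 2) (by decide) (f1546 H)

theorem f1548 : path g [3, 4, 2] p = path g [3, 4] p :=
  close (u := [2, 1, 2]) (w := [1]) (r1_0_0 H) (step (f1546 H) (step (f181 H) (step (f176 H) rfl))) (step (H.back (i := 6) (by decide) (f175 H)) rfl)

theorem f1549 : g 7 • path g [3, 4] p = path g [3, 4] p :=
  (congrArg (g 7 • ·) (f1548 H).symm).trans (f177 H)

theorem f1550 : path g [3, 4, 7] p = path g [3, 4] p :=
  (f184 H).symm.trans (f1549 H)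

theorem f1552 : g 2 • path g [3, 4] p = path g [3, 4] p :=
  (f176 H).trans (f1548 H)

theorem f1554 : g 5 • path g [3, 4] p = path g [3, 9] p :=
  (congrArg (g 5 • ·) (f1550 H).symm).trans (f1533 H)

theorem f1555 : path g [3, 4, 5] p = path g [3, 9] p :=
  (f178 H).symm.trans (f1554 H)

theorem f1557 : g 0 • path g [3, 9] p = path g [3, 4] p :=
  (f1218 H).trans (f1550 H)

theorem f1559 : g 5 • path g [3, 4] p = path g [3, 9] p :=
  (f178 H).trans (f1555 H)

theorem f1560 : g 0 • path g [8, 9, 1] p = path g [3, 4, 1] p :=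
  scan (u := [2, 0, 1, 8, 5, 3, 1]) (w := []) (i := 0) (r7_1_5 H) (step (f1546 H) (step (f1539 H) (step (f481 H) (step (f64 H) (step (f1559 H) (step (f81 H) (step (f870 H) rfl))))))) rfl

theorem f1561 : g 5 • path g [3, 4, 1] p = path g [8, 9, 1] p :=
  H.back (i := 0) (by decide) (f1560 H)

theorem f1565 : g 5 • path g [3, 9, 1] p = path g [4, 8, 1] p :=
  scan (u := [2, 1, 0, 2, 1]) (w := [6, 7, 5, 6, 7, 0]) (i := 5) (r5_0_7 H) (step (f1546 H) (step (f181 H) (step (f1532 H) (step (f934 H) (step (f236 H) rfl))))) (step (H.back (i := 1) (by decide) (f478 H)) (step (H.back (i := 2) (by decide) (f452 H)) (step (H.back (i := 0) (by decide) (f1543 H)) (step (H.back (i := 1) (by decide) (f890 H)) (step (H.back (i := 2) (by decide) (f894 H)) (step (H.back (i := 5) (by decide) (f1561 H)) rfl))))))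

theorem f1566 : g 0 • path g [4, 8, 1] p = path g [3, 9, 1] p :=
  H.back (i := 5) (by decide) (f1565 H)

theorem f1567 : g 7 • path g [3, 9, 6] p = path g [3, 9, 1] p :=
  scan (u := [2, 1, 5, 6]) (w := [5, 6, 7, 0, 2, 1, 0]) (i := 7) (r5_0_10 H) (step (f1546 H) (step (f181 H) (step (f1559 H) (step (f242 H) rfl)))) (step (H.back (i := 0) (by decide) (f1566 H)) (step (H.back (i := 1) (by decide) (f478 H)) (step (H.back (i := 2) (by decide) (f452 H)) (step (H.back (i := 5) (by decide) (f1534 H)) (step (H.back (i := 7) (by decide) (f85 H)) (step (H.back (i := 6) (by decide) (f871 H)) (step (H.back (i := 5) (by decide) (f1561 H)) rfl)))))))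

theorem f1568 : g 2 • path g [3, 9, 1] p = path g [3, 9, 6] p :=
  H.back (i := 7) (by decide) (f1567 H)

theorem f1569 : g 5 • path g [3, 4, 6] p = path g [4, 8, 6] p :=
  scan (u := [2, 1, 0, 0, 0, 9, 6]) (w := [6, 6, 4, 1, 0]) (i := 5) (r12_1_8 H) (step (f1546 H) (step (f181 H) (step (f1532 H) (step (f1557 H) (step (f1532 H) (step (f44 H) (step (f180 H) rfl))))))) (step (H.back (i := 1) (by decide) (f483 H)) (step (H.back (i := 1) (by decide) (f478 H)) (step (H.back (i := 9) (by decide) (f78 H)) (step (H.back (i := 6) (by decide) (f871 H)) (step (H.back (i := 5) (by decide) (f1561 H)) rfl)))))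

theorem f1570 : g 0 • path g [4, 8, 6] p = path g [3, 4, 6] p :=
  H.back (i := 5) (by decide) (f1569 H)

theorem f1571 : g 7 • path g [3, 4, 1] p = path g [3, 4, 6] p :=
  scan (u := [7, 5, 5]) (w := [5, 5]) (i := 7) (r2_1_2 H) (step (f1547 H) (step (f1561 H) (step (f1536 H) rfl))) (step (H.back (i := 0) (by decide) (f1570 H)) (step (H.back (i := 0) (by decide) (f1539 H)) rfl))

theorem f1573 : g 7 • path g [3, 9, 1] p = path g [3, 9, 6] p :=
  scan (u := [7, 5, 7, 5]) (w := [5, 7, 5]) (i := 7) (r4_1_1 H) (step (f1571 H) (step (f1569 H) (step (f484 H) (step (f1545 H) rfl)))) (step (H.back (i := 0) (by decide) (f1542 H)) (step (H.back (i := 2) (by decide) (f894 H)) (step (H.back (i := 0) (by decide) (f1538 H)) rfl)))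

theorem f1575 : g 5 • path g [8, 9, 6] p = path g [3, 9, 6] p :=
  scan (u := [7, 5]) (w := [7, 5, 5]) (i := 5) (r2_1_2 H) (step (f1573 H) (step (f1541 H) rfl)) (step (H.back (i := 2) (by decide) (f1568 H)) (step (H.back (i := 0) (by decide) (f1566 H)) (step (H.back (i := 0) (by decide) (f1544 H)) rfl)))

theorem f1576 : g 0 • path g [3, 9, 6] p = path g [8, 9, 6] p :=
  H.back (i := 5) (by decide) (f1575 H)

theorem f1577 : g 7 • path g [8, 9, 1] p = path g [8, 9, 6] p :=
  scan (u := [5, 5, 7, 5, 5]) (w := []) (i := 7) (r2_1_0 H) (step (f1575 H) (step (f1541 H) (step (f893 H) (step (f1536 H) (step (f1561 H) rfl))))) rfl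

theorem f1578 : g 2 • path g [8, 9, 6] p = path g [8, 9, 1] p :=
  H.back (i := 7) (by decide) (f1577 H)

theorem f1579 : g 7 • path g [4, 8, 1] p = path g [4, 8, 6] p :=
  scan (u := [5, 7, 5]) (w := [5, 7, 5, 7]) (i := 7) (r4_1_0 H) (step (f1575 H) (step (f1567 H) (step (f1565 H) rfl))) (step (H.back (i := 0) (by decide) (f1539 H)) (step (H.back (i := 2) (by decide) (f1546 H)) (step (H.back (i := 0) (by decide) (f1560 H)) (step (H.back (i := 2) (by decide) (f1578 H)) rfl))))

theorem f1580 : g 2 • path g [4, 8, 6] p = path g [4, 8, 1] p :=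
  H.back (i := 7) (by decide) (f1579 H)

theorem f1581 : g 5 • path g [3, 6] p = path g [8, 6] p :=
  (f820 H).trans (f1446 H)

theorem f1586 : g 8 • path g [3, 4, 1] p = path g [3, 4, 1, 8] p :=
  rfl

theorem f1590 : g 9 • path g [3, 4, 1] p = path g [3, 4, 1, 9] p :=
  rfl

theorem f1591 : g 4 • path g [3, 4, 1, 9] p = path g [3, 4, 1] p :=
  H.back (i := 9) (by decide) (f1590 H)

theorem f1594 : g 3 • path g [3, 4, 6] p = path g [3, 4, 6, 3] p :=
  rfl

theorem f1596 : g 8 • path g [3, 4, 6] p = path g [3, 4, 6, 8] p :=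
  rfl

theorem f1597 : g 3 • path g [3, 4, 6, 8] p = path g [3, 4, 6] p :=
  H.back (i := 8) (by decide) (f1596 H)

theorem f1598 : g 8 • path g [3, 4, 6, 8] p = path g [3, 4, 6, 3] p :=
  scan (u := [8]) (w := [8]) (i := 8) (r9_1_0 H) (step (f1596 H) rfl) (step (H.back (i := 3) (by decide) (f1594 H)) rfl)

theorem f1599 : g 3 • path g [3, 4, 6, 3] p = path g [3, 4, 6, 8] p :=
  H.back (i := 8) (by decide) (f1598 H)

theorem f1600 : g 0 • path g [3, 4, 6, 8] p = path g [3, 4, 1, 8] p :=
  scan (u := [8]) (w := [3, 6, 5, 7, 5, 6]) (i := 0) (r7_0_5 H) (step (f1596 H) rfl) (step (H.back (i := 8) (by decide) (f1586 H)) (step (H.back (i := 1) (by decide) (f174 H)) (step (H.back (i := 0) (by decide) (f1557 H)) (step (H.back (i := 2) (by decide) (f934 H)) (step (H.back (i := 0) (by decide) (f1532 H)) (step (H.back (i := 1) (by decide) (f181 H)) rfl))))))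

theorem f1601 : g 5 • path g [3, 4, 1, 8] p = path g [3, 4, 6, 8] p :=
  H.back (i := 0) (by decide) (f1600 H)

theorem f1602 : g 9 • path g [3, 4, 6] p = path g [3, 4, 6, 9] p :=
  rfl

theorem f1606 : g 0 • path g [3, 6, 4] p = path g [3, 6, 4, 0] p :=
  rfl

theorem f1607 : g 5 • path g [3, 6, 4, 0] p = path g [3, 6, 4] p :=
  H.back (i := 0) (by decide) (f1606 H)

theorem f1608 : g 1 • path g [3, 6, 4] p = path g [3, 6, 4, 1] p :=
  rfl

theorem f1609 : g 6 • path g [3, 6, 4, 1] p = path g [3, 6, 4] p :=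
  H.back (i := 1) (by decide) (f1608 H)

theorem f1610 : g 2 • path g [3, 6, 4] p = path g [3, 6, 4, 2] p :=
  rfl

theorem f1611 : g 7 • path g [3, 6, 4, 2] p = path g [3, 6, 4] p :=
  H.back (i := 2) (by decide) (f1610 H)

theorem f1612 : g 5 • path g [3, 6, 4] p = path g [3, 6, 4, 5] p :=
  rfl

theorem f1613 : g 0 • path g [3, 6, 4, 5] p = path g [3, 6, 4] p :=
  H.back (i := 5) (by decide) (f1612 H)

theorem f1614 : g 6 • path g [3, 6, 4] p = path g [3, 6, 4, 6] p :=
  rfl

theorem f1615 : g 1 • path g [3, 6, 4, 6] p = path g [3, 6, 4] p :=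
  H.back (i := 6) (by decide) (f1614 H)

theorem f1616 : g 6 • path g [3, 6, 4, 6] p = path g [3, 6, 4, 1] p :=
  scan (u := [6]) (w := [6]) (i := 6) (r0_1_0 H) (step (f1614 H) rfl) (step (H.back (i := 1) (by decide) (f1608 H)) rfl)

theorem f1617 : g 1 • path g [3, 6, 4, 1] p = path g [3, 6, 4, 6] p :=
  H.back (i := 6) (by decide) (f1616 H)

theorem f1618 : g 7 • path g [3, 6, 4] p = path g [3, 6, 4, 7] p :=
  rfl

theorem f1621 : g 0 • path g [3, 6, 9] p = path g [3, 6, 9, 0] p :=
  rfl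

theorem f1622 : g 5 • path g [3, 6, 9, 0] p = path g [3, 6, 9] p :=
  H.back (i := 0) (by decide) (f1621 H)

theorem f1623 : g 1 • path g [3, 6, 9] p = path g [3, 6, 9, 1] p :=
  rfl

theorem f1624 : g 6 • path g [3, 6, 9, 1] p = path g [3, 6, 9] p :=
  H.back (i := 1) (by decide) (f1623 H)

theorem f1625 : g 2 • path g [3, 6, 9, 1] p = path g [3, 1, 9, 6] p :=
  scan (u := [1]) (w := [1, 2]) (i := 2) (r1_0_1 H) (step (f1623 H) rfl) (step (H.back (i := 6) (by decide) (f1526 H)) (step (H.back (i := 7) (by decide) (f841 H)) rfl))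

theorem f1626 : g 7 • path g [3, 1, 9, 6] p = path g [3, 6, 9, 1] p :=
  H.back (i := 2) (by decide) (f1625 H)

theorem f1629 : g 6 • path g [3, 6, 9] p = path g [3, 6, 9, 6] p :=
  rfl

theorem f1631 : g 6 • path g [3, 6, 9, 6] p = path g [3, 6, 9, 1] p :=
  scan (u := [6]) (w := [6]) (i := 6) (r0_1_0 H) (step (f1629 H) rfl) (step (H.back (i := 1) (by decide) (f1623 H)) rfl)

theorem f1632 : g 1 • path g [3, 6, 9, 1] p = path g [3, 6, 9, 6] p :=
  H.back (i := 6) (by decide) (f1631 H)

theorem f1633 : g 7 • path g [3, 6, 9, 6] p = path g [3, 1, 9, 1] p :=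
  scan (u := [6]) (w := [6, 7]) (i := 7) (r1_1_0 H) (step (f1629 H) rfl) (step (H.back (i := 1) (by decide) (f1521 H)) (step (H.back (i := 2) (by decide) (f836 H)) rfl))

theorem f1635 : g 5 • path g [3, 6, 9, 6] p = path g [3, 1, 9, 6] p :=
  scan (u := [6]) (w := [6, 6, 4, 1, 0, 2, 1, 0, 0, 0, 9]) (i := 5) (r12_1_1 H) (step (f1629 H) rfl) (step (H.back (i := 1) (by decide) (f1529 H)) (step (H.back (i := 1) (by decide) (f1521 H)) (step (H.back (i := 9) (by decide) (f142 H)) (step (H.back (i := 6) (by decide) (f40 H)) (step (H.back (i := 5) (by decide) (f1448 H)) (step (H.back (i := 7) (by decide) (f519 H)) (step (H.back (i := 6) (by decide) (f72 H)) (step (H.back (i := 5) (by decide) (f1581 H)) (step (H.back (i := 5) (by decide) (f1448 H)) (step (H.back (i := 5) (by decide) (f1581 H)) (step (H.back (i := 4) (by decide) (f231 H)) rfl)))))))))))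

theorem f1638 : g 3 • path g [3, 9, 1] p = path g [3, 9, 1, 3] p :=
  rfl

theorem f1639 : g 8 • path g [3, 9, 1, 3] p = path g [3, 9, 1] p :=
  H.back (i := 3) (by decide) (f1638 H)

theorem f1642 : g 8 • path g [3, 9, 1] p = path g [3, 9, 1, 8] p :=
  rfl

theorem f1643 : g 3 • path g [3, 9, 1, 8] p = path g [3, 9, 1] p :=
  H.back (i := 8) (by decide) (f1642 H)

theorem f1646 : g 0 • path g [3, 9, 1, 8] p = path g [3, 4, 6, 8] p :=
  scan (u := [8]) (w := [3, 6, 5, 7, 5, 6]) (i := 0) (r7_0_5 H) (step (f1642 H) rfl) (step (H.back (i := 8) (by decide) (f1596 H)) (step (H.back (i := 1) (by decide) (f183 H)) (step (H.back (i := 0) (by decide) (f1560 H)) (step (H.back (i := 2) (by decide) (f1578 H)) (step (H.back (i := 0) (by decide) (f1576 H)) (step (H.back (i := 1) (by decide) (f245 H)) rfl))))))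

theorem f1647 : g 5 • path g [3, 4, 6, 8] p = path g [3, 9, 1, 8] p :=
  H.back (i := 0) (by decide) (f1646 H)

theorem f1656 : g 3 • path g [3, 9, 6] p = path g [3, 9, 6, 3] p :=
  rfl

theorem f1657 : g 8 • path g [3, 9, 6, 3] p = path g [3, 9, 6] p :=
  H.back (i := 3) (by decide) (f1656 H)

theorem f1662 : g 8 • path g [3, 9, 6] p = path g [3, 9, 6, 8] p :=
  rfl

theorem f1663 : g 3 • path g [3, 9, 6, 8] p = path g [3, 9, 6] p :=
  H.back (i := 8) (by decide) (f1662 H)

theorem f1664 : g 8 • path g [3, 9, 6, 8] p = path g [3, 9, 6, 3] p :=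
  scan (u := [8]) (w := [8]) (i := 8) (r9_1_0 H) (step (f1662 H) rfl) (step (H.back (i := 3) (by decide) (f1656 H)) rfl)

theorem f1666 : g 0 • path g [3, 9, 6, 8] p = path g [3, 9, 1, 8] p :=
  scan (u := [8]) (w := [3, 6, 5, 7, 5, 6]) (i := 0) (r7_0_5 H) (step (f1662 H) rfl) (step (H.back (i := 8) (by decide) (f1642 H)) (step (H.back (i := 1) (by decide) (f236 H)) (step (H.back (i := 0) (by decide) (f1532 H)) (step (H.back (i := 2) (by decide) (f1552 H)) (step (H.back (i := 0) (by decide) (f1557 H)) (step (H.back (i := 1) (by decide) (f243 H)) rfl))))))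

theorem f1667 : g 5 • path g [3, 9, 1, 8] p = path g [3, 9, 6, 8] p :=
  H.back (i := 0) (by decide) (f1666 H)

theorem f1670 : g 9 • path g [3, 9, 6] p = path g [3, 9, 6, 9] p :=
  rfl

theorem f1676 : g 7 • path g [3, 9, 6, 9] p = path g [3, 4, 1, 9] p :=
  scan (u := [9]) (w := [4, 0, 2, 0, 0, 0]) (i := 7) (r10_1_0 H) (step (f1670 H) rfl) (step (H.back (i := 9) (by decide) (f1590 H)) (step (H.back (i := 5) (by decide) (f1536 H)) (step (H.back (i := 7) (by decide) (f893 H)) (step (H.back (i := 5) (by decide) (f1541 H)) (step (H.back (i := 5) (by decide) (f1575 H)) (step (H.back (i := 5) (by decide) (f1541 H)) rfl))))))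

theorem f1677 : g 2 • path g [3, 4, 1, 9] p = path g [3, 9, 6, 9] p :=
  H.back (i := 7) (by decide) (f1676 H)

theorem f1678 : path g [3, 4, 1, 9] p = path g [3, 6, 4, 1] p :=
  close (u := [9, 7]) (w := [6, 9, 7, 6, 9, 7, 6]) (r18_1_0 H) (step (f1670 H) (step (f1676 H) rfl)) (step (H.back (i := 1) (by decide) (f1608 H)) (step (H.back (i := 4) (by decide) (f216 H)) (step (H.back (i := 2) (by decide) (f777 H)) (step (H.back (i := 1) (by decide) (f28 H)) (step (H.back (i := 4) (by decide) (f43 H)) (step (H.back (i := 2) (by decide) (f934 H)) (step (H.back (i := 1) (by decide) (f243 H)) rfl)))))))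

theorem f1679 : path g [3, 6, 4, 1] p = path g [3, 4, 1, 9] p :=
  (f1678 H).symm

theorem f1680 : g 6 • path g [3, 4, 1, 9] p = path g [3, 6, 4] p :=
  (congrArg (g 6 • ·) (f1679 H).symm).trans (f1609 H)

theorem f1682 : g 1 • path g [3, 6, 4] p = path g [3, 4, 1, 9] p :=
  H.back (i := 6) (by decide) (f1680 H)

theorem f1683 : g 1 • path g [3, 4, 1, 9] p = path g [3, 6, 4, 6] p :=
  (congrArg (g 1 • ·) (f1679 H).symm).trans (f1617 H)

theorem f1686 : g 1 • path g [3, 6, 4, 0] p = path g [3, 4, 6, 9] p :=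
  scan (u := [1, 1, 0]) (w := [4, 5, 5, 5, 6, 7, 5, 6, 9]) (i := 1) (r12_0_8 H) (step (f1683 H) (step (f1615 H) (step (f1606 H) rfl))) (step (H.back (i := 9) (by decide) (f1602 H)) (step (H.back (i := 0) (by decide) (f1570 H)) (step (H.back (i := 0) (by decide) (f1539 H)) (step (H.back (i := 0) (by decide) (f1570 H)) (step (H.back (i := 1) (by decide) (f483 H)) (step (H.back (i := 2) (by decide) (f1580 H)) (step (H.back (i := 0) (by decide) (f1539 H)) (step (H.back (i := 1) (by decide) (f183 H)) (step (H.back (i := 4) (by decide) (f1591 H)) rfl)))))))))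

theorem f1687 : g 6 • path g [3, 4, 6, 9] p = path g [3, 6, 4, 0] p :=
  H.back (i := 1) (by decide) (f1686 H)

theorem f1688 : g 6 • path g [3, 6, 4, 7] p = path g [3, 9, 6, 9] p :=
  scan (u := [6, 7]) (w := [7]) (i := 6) (r1_1_0 H) (step (f1680 H) (step (f1618 H) rfl)) (step (H.back (i := 2) (by decide) (f1677 H)) rfl)

theorem f1693 : g 0 • path g [4, 1, 3] p = path g [4, 1, 3, 0] p :=
  rfl

theorem f1695 : g 2 • path g [4, 1, 3, 0] p = path g [9, 6, 3] p :=
  scan (u := [0]) (w := [8, 6, 5, 7, 5, 6, 3]) (i := 2) (r8_1_7 H) (step (f1693 H) rfl) (step (H.back (i := 3) (by decide) (f1244 H)) (step (H.back (i := 1) (by decide) (f97 H)) (step (H.back (i := 0) (by decide) (f1238 H)) (step (H.back (i := 2) (by decide) (f323 H)) (step (H.back (i := 0) (by decide) (f392 H)) (step (H.back (i := 1) (by decide) (f59 H)) (step (H.back (i := 8) (by decide) (f281 H)) rfl)))))))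

theorem f1697 : g 1 • path g [4, 1, 3, 0] p = path g [3, 9, 6, 8] p :=
  scan (u := [0]) (w := [3, 0, 1, 3, 0, 1, 3]) (i := 1) (r17_0_0 H) (step (f1693 H) rfl) (step (H.back (i := 8) (by decide) (f1662 H)) (step (H.back (i := 5) (by decide) (f1575 H)) (step (H.back (i := 6) (by decide) (f889 H)) (step (H.back (i := 8) (by decide) (f83 H)) (step (H.back (i := 5) (by decide) (f1072 H)) (step (H.back (i := 6) (by decide) (f51 H)) (step (H.back (i := 8) (by decide) (f281 H)) rfl)))))))

theorem f1698 : g 6 • path g [3, 9, 6, 8] p = path g [4, 1, 3, 0] p :=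
  H.back (i := 1) (by decide) (f1697 H)

theorem f1699 : g 1 • path g [4, 1, 3] p = path g [4, 1, 3, 1] p :=
  rfl

theorem f1703 : g 5 • path g [4, 1, 3] p = path g [4, 1, 3, 5] p :=
  rfl

theorem f1704 : g 0 • path g [4, 1, 3, 5] p = path g [4, 1, 3] p :=
  H.back (i := 5) (by decide) (f1703 H)

theorem f1705 : g 6 • path g [4, 1, 3] p = path g [4, 1, 3, 6] p :=
  rfl

theorem f1706 : g 1 • path g [4, 1, 3, 6] p = path g [4, 1, 3] p :=
  H.back (i := 6) (by decide) (f1705 H)

theorem f1709 : g 7 • path g [4, 1, 3] p = path g [4, 1, 3, 7] p :=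
  rfl

theorem f1710 : g 2 • path g [4, 1, 3, 7] p = path g [4, 1, 3] p :=
  H.back (i := 7) (by decide) (f1709 H)

theorem f1711 : g 5 • path g [4, 1, 3, 7] p = path g [4, 6, 3] p :=
  scan (u := [7]) (w := [8, 1, 0, 2, 0, 1, 3]) (i := 5) (r8_0_0 H) (step (f1709 H) rfl) (step (H.back (i := 3) (by decide) (f462 H)) (step (H.back (i := 6) (by decide) (f56 H)) (step (H.back (i := 5) (by decide) (f1237 H)) (step (H.back (i := 7) (by decide) (f23 H)) (step (H.back (i := 5) (by decide) (f1072 H)) (step (H.back (i := 6) (by decide) (f51 H)) (step (H.back (i := 8) (by decide) (f281 H)) rfl)))))))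

theorem f1712 : g 0 • path g [4, 6, 3] p = path g [4, 1, 3, 7] p :=
  H.back (i := 5) (by decide) (f1711 H)

theorem f1714 : g 1 • path g [4, 1, 8] p = path g [4, 1, 8, 1] p :=
  rfl

theorem f1715 : g 6 • path g [4, 1, 8, 1] p = path g [4, 1, 8] p :=
  H.back (i := 1) (by decide) (f1714 H)

theorem f1716 : g 6 • path g [4, 1, 8] p = path g [4, 1, 8, 6] p :=
  rfl

theorem f1717 : g 1 • path g [4, 1, 8, 6] p = path g [4, 1, 8] p :=
  H.back (i := 6) (by decide) (f1716 H)

theorem f1718 : g 6 • path g [4, 1, 8, 6] p = path g [4, 1, 8, 1] p :=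
  scan (u := [6]) (w := [6]) (i := 6) (r0_1_0 H) (step (f1716 H) rfl) (step (H.back (i := 1) (by decide) (f1714 H)) rfl)

theorem f1719 : g 1 • path g [4, 1, 8, 1] p = path g [4, 1, 8, 6] p :=
  H.back (i := 6) (by decide) (f1718 H)

theorem f1725 : g 1 • path g [4, 6, 3] p = path g [4, 6, 3, 1] p :=
  rfl

theorem f1727 : g 2 • path g [4, 6, 3] p = path g [4, 6, 3, 2] p :=
  rfl

theorem f1729 : g 5 • path g [4, 6, 3] p = path g [4, 6, 3, 5] p :=
  rfl

theorem f1731 : g 6 • path g [4, 6, 3] p = path g [4, 6, 3, 6] p :=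
  rfl

theorem f1732 : g 1 • path g [4, 6, 3, 6] p = path g [4, 6, 3] p :=
  H.back (i := 6) (by decide) (f1731 H)

theorem f1733 : g 6 • path g [4, 6, 3, 6] p = path g [4, 6, 3, 1] p :=
  scan (u := [6]) (w := [6]) (i := 6) (r0_1_0 H) (step (f1731 H) rfl) (step (H.back (i := 1) (by decide) (f1725 H)) rfl)

theorem f1734 : g 1 • path g [4, 6, 3, 1] p = path g [4, 6, 3, 6] p :=
  H.back (i := 6) (by decide) (f1733 H)

theorem f1735 : g 3 • path g [4, 6, 3, 6] p = path g [4, 8, 1] p :=
  scan (u := [6]) (w := [0, 2, 8, 6, 5, 7, 5]) (i := 3) (r8_1_5 H) (step (f1731 H) rfl) (step (H.back (i := 5) (by decide) (f1565 H)) (step (H.back (i := 7) (by decide) (f1567 H)) (step (H.back (i := 3) (by decide) (f1663 H)) (step (H.back (i := 1) (by decide) (f1697 H)) (step (H.back (i := 0) (by decide) (f1693 H)) (step (H.back (i := 2) (by decide) (f1710 H)) (step (H.back (i := 0) (by decide) (f1712 H)) rfl)))))))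

theorem f1736 : g 8 • path g [4, 8, 1] p = path g [4, 6, 3, 6] p :=
  H.back (i := 3) (by decide) (f1735 H)

theorem f1737 : g 2 • path g [3, 4, 6, 8] p = path g [4, 6, 3, 6] p :=
  scan (u := [3, 5, 5, 6, 5, 7, 5, 6, 5, 8]) (w := []) (i := 2) (r6_0_10 H) (step (f1735 H) (step (f1545 H) (step (f1565 H) (step (f479 H) (step (f1045 H) (step (f85 H) (step (f1534 H) (step (f480 H) (step (f1540 H) (step (f1596 H) rfl)))))))))) rfl

theorem f1739 : g 7 • path g [3, 4, 6, 8] p = path g [4, 6, 3, 6] p :=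
  scan (u := [3, 0, 1, 0, 2, 0, 1, 0, 0, 8]) (w := []) (i := 7) (r6_1_2 H) (step (f1735 H) (step (f1566 H) (step (f245 H) (step (f1576 H) (step (f1578 H) (step (f1560 H) (step (f183 H) (step (f1539 H) (step (f1570 H) (step (f1596 H) rfl)))))))))) rfl

theorem f1740 : g 2 • path g [4, 6, 3, 6] p = path g [3, 4, 6, 8] p :=
  H.back (i := 7) (by decide) (f1739 H)

theorem f1741 : g 1 • path g [4, 6, 3, 2] p = path g [3, 4, 6, 8] p :=
  scan (u := [2, 1, 2]) (w := []) (i := 1) (r1_0_0 H) (step (f1737 H) (step (f1732 H) (step (f1727 H) rfl))) rfl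

theorem f1742 : g 6 • path g [3, 4, 6, 8] p = path g [4, 6, 3, 2] p :=
  H.back (i := 1) (by decide) (f1741 H)

theorem f1743 : g 0 • path g [9, 1, 3] p = path g [4, 6, 3, 2] p :=
  scan (u := [1, 3, 0, 1, 3, 0, 1, 3]) (w := []) (i := 0) (r17_0_1 H) (step (f1741 H) (step (f1597 H) (step (f1539 H) (step (f481 H) (step (f63 H) (step (f1078 H) (step (f88 H) (step (f941 H) rfl)))))))) rfl

theorem f1744 : g 5 • path g [4, 6, 3, 2] p = path g [9, 1, 3] p :=
  H.back (i := 0) (by decide) (f1743 H)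

theorem f1747 : g 1 • path g [4, 6, 8] p = path g [4, 6, 8, 1] p :=
  rfl

theorem f1748 : g 6 • path g [4, 6, 8, 1] p = path g [4, 6, 8] p :=
  H.back (i := 1) (by decide) (f1747 H)

theorem f1749 : g 2 • path g [4, 6, 8, 1] p = path g [4, 1, 8, 6] p :=
  scan (u := [1]) (w := [1, 2]) (i := 2) (r1_0_1 H) (step (f1747 H) rfl) (step (H.back (i := 6) (by decide) (f1716 H)) (step (H.back (i := 7) (by decide) (f472 H)) rfl))

theorem f1751 : g 6 • path g [4, 6, 8] p = path g [4, 6, 8, 6] p :=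
  rfl

theorem f1752 : g 1 • path g [4, 6, 8, 6] p = path g [4, 6, 8] p :=
  H.back (i := 6) (by decide) (f1751 H)

theorem f1753 : g 6 • path g [4, 6, 8, 6] p = path g [4, 6, 8, 1] p :=
  scan (u := [6]) (w := [6]) (i := 6) (r0_1_0 H) (step (f1751 H) rfl) (step (H.back (i := 1) (by decide) (f1747 H)) rfl)

theorem f1754 : g 1 • path g [4, 6, 8, 1] p = path g [4, 6, 8, 6] p :=
  H.back (i := 6) (by decide) (f1753 H)

theorem f1757 : g 5 • path g [4, 6, 8, 6] p = path g [3, 9, 1, 3] p :=
  scan (u := [6]) (w := [8, 6, 5, 8, 6, 5, 8]) (i := 5) (r17_1_1 H) (step (f1751 H) rfl) (step (H.back (i := 3) (by decide) (f1638 H)) (step (H.back (i := 1) (by decide) (f236 H)) (step (H.back (i := 0) (by decide) (f1532 H)) (step (H.back (i := 3) (by decide) (f35 H)) (step (H.back (i := 1) (by decide) (f57 H)) (step (H.back (i := 0) (by decide) (f392 H)) (step (H.back (i := 3) (by decide) (f465 H)) rfl)))))))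

theorem f1758 : g 0 • path g [3, 9, 1, 3] p = path g [4, 6, 8, 6] p :=
  H.back (i := 5) (by decide) (f1757 H)

theorem f1759 : g 7 • path g [3, 4, 6, 3] p = path g [4, 6, 8, 6] p :=
  scan (u := [5, 8, 1, 0, 2, 0, 1, 3]) (w := []) (i := 7) (r8_0_1 H) (step (f1757 H) (step (f1639 H) (step (f245 H) (step (f1576 H) (step (f1578 H) (step (f1560 H) (step (f183 H) (step (f1594 H) rfl)))))))) rfl

theorem f1761 : g 3 • path g [4, 8, 1] p = path g [4, 8, 1, 3] p :=
  rfl

theorem f1762 : g 8 • path g [4, 8, 1, 3] p = path g [4, 8, 1] p :=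
  H.back (i := 3) (by decide) (f1761 H)

theorem f1763 : g 3 • path g [4, 8, 1, 3] p = path g [4, 6, 3, 6] p :=
  scan (u := [3]) (w := [3]) (i := 3) (r9_0_0 H) (step (f1761 H) rfl) (step (H.back (i := 8) (by decide) (f1736 H)) rfl)

theorem f1765 : g 5 • path g [3, 9, 6, 3] p = path g [4, 8, 1, 3] p :=
  scan (u := [3, 1, 0, 2, 0, 1, 8]) (w := []) (i := 5) (r7_1_2 H) (step (f1763 H) (step (f1732 H) (step (f1712 H) (step (f1710 H) (step (f1693 H) (step (f1697 H) (step (f1664 H) rfl))))))) rfl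

theorem f1767 : g 5 • path g [4, 8, 1, 3] p = path g [4, 1, 8, 1] p :=
  scan (u := [5]) (w := [6, 5, 7, 5, 6, 5, 8, 2, 3]) (i := 5) (r6_0_0 H) (step (f1765 H) rfl) (step (H.back (i := 1) (by decide) (f1714 H)) (step (H.back (i := 0) (by decide) (f468 H)) (step (H.back (i := 2) (by decide) (f473 H)) (step (H.back (i := 0) (by decide) (f468 H)) (step (H.back (i := 1) (by decide) (f1752 H)) (step (H.back (i := 0) (by decide) (f1758 H)) (step (H.back (i := 3) (by decide) (f1638 H)) (step (H.back (i := 7) (by decide) (f1567 H)) (step (H.back (i := 8) (by decide) (f1657 H)) rfl)))))))))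

theorem f1768 : g 0 • path g [4, 1, 8, 1] p = path g [4, 8, 1, 3] p :=
  H.back (i := 5) (by decide) (f1767 H)

theorem f1775 : g 3 • path g [4, 8, 6] p = path g [4, 8, 6, 3] p :=
  rfl

theorem f1776 : g 8 • path g [4, 8, 6, 3] p = path g [4, 8, 6] p :=
  H.back (i := 3) (by decide) (f1775 H)

theorem f1777 : g 4 • path g [4, 8, 6] p = path g [4, 8, 6, 4] p :=
  rfl

theorem f1779 : g 1 • path g [4, 8, 6, 4] p = path g [8, 1, 9] p :=
  scan (u := [4]) (w := [2, 4, 1, 2, 4, 1, 2]) (i := 1) (r18_0_2 H) (step (f1777 H) rfl) (step (H.back (i := 7) (by decide) (f866 H)) (step (H.back (i := 9) (by decide) (f860 H)) (step (H.back (i := 6) (by decide) (f70 H)) (step (H.back (i := 7) (by decide) (f17 H)) (step (H.back (i := 9) (by decide) (f66 H)) (step (H.back (i := 6) (by decide) (f479 H)) (step (H.back (i := 7) (by decide) (f484 H)) rfl)))))))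

theorem f1781 : g 0 • path g [3, 6, 9, 6] p = path g [4, 8, 6, 4] p :=
  scan (u := [1, 4, 5, 5, 5, 6, 7, 5, 6, 9, 1, 1]) (w := []) (i := 0) (r12_0_11 H) (step (f1779 H) (step (f501 H) (step (f1407 H) (step (f1495 H) (step (f1407 H) (step (f29 H) (step (f651 H) (step (f708 H) (step (f38 H) (step (f230 H) (step (f1623 H) (step (f1632 H) rfl)))))))))))) rfl

theorem f1782 : g 5 • path g [4, 8, 6, 4] p = path g [3, 6, 9, 6] p :=
  H.back (i := 0) (by decide) (f1781 H)

theorem f1783 : g 8 • path g [4, 8, 6] p = path g [4, 8, 6, 8] p :=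
  rfl

theorem f1784 : g 3 • path g [4, 8, 6, 8] p = path g [4, 8, 6] p :=
  H.back (i := 8) (by decide) (f1783 H)

theorem f1785 : g 8 • path g [4, 8, 6, 8] p = path g [4, 8, 6, 3] p :=
  scan (u := [8]) (w := [8]) (i := 8) (r9_1_0 H) (step (f1783 H) rfl) (step (H.back (i := 3) (by decide) (f1775 H)) rfl)

theorem f1786 : g 3 • path g [4, 8, 6, 3] p = path g [4, 8, 6, 8] p :=
  H.back (i := 8) (by decide) (f1785 H)

theorem f1787 : g 0 • path g [4, 8, 6, 8] p = path g [4, 6, 3, 6] p :=
  scan (u := [8]) (w := [3, 6, 5, 7, 5, 6]) (i := 0) (r7_0_5 H) (step (f1783 H) rfl) (step (H.back (i := 8) (by decide) (f1736 H)) (step (H.back (i := 1) (by decide) (f478 H)) (step (H.back (i := 0) (by decide) (f1543 H)) (step (H.back (i := 2) (by decide) (f84 H)) (step (H.back (i := 0) (by decide) (f1051 H)) (step (H.back (i := 1) (by decide) (f481 H)) rfl))))))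

theorem f1788 : g 5 • path g [4, 6, 3, 6] p = path g [4, 8, 6, 8] p :=
  H.back (i := 0) (by decide) (f1787 H)

theorem f1791 : g 7 • path g [4, 8, 6, 8] p = path g [3, 4, 1, 8] p :=
  scan (u := [8]) (w := [3, 0, 1, 0, 2, 0, 1, 0, 0]) (i := 7) (r6_1_0 H) (step (f1783 H) rfl) (step (H.back (i := 8) (by decide) (f1586 H)) (step (H.back (i := 5) (by decide) (f1536 H)) (step (H.back (i := 6) (by decide) (f891 H)) (step (H.back (i := 5) (by decide) (f1541 H)) (step (H.back (i := 7) (by decide) (f1573 H)) (step (H.back (i := 5) (by decide) (f1545 H)) (step (H.back (i := 6) (by decide) (f482 H)) (step (H.back (i := 5) (by decide) (f1569 H)) (step (H.back (i := 5) (by decide) (f1540 H)) rfl)))))))))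

theorem f1792 : g 2 • path g [3, 4, 1, 8] p = path g [4, 8, 6, 8] p :=
  H.back (i := 7) (by decide) (f1791 H)

theorem f1793 : path g [4, 6, 3, 2] p = path g [4, 6, 3] p :=
  close (u := [7, 5, 6]) (w := [8, 0, 3, 6, 5]) (r7_0_2 H) (step (f1791 H) (step (f1601 H) (step (f1742 H) rfl))) (step (H.back (i := 3) (by decide) (f462 H)) (step (H.back (i := 5) (by decide) (f391 H)) (step (H.back (i := 8) (by decide) (f463 H)) (step (H.back (i := 1) (by decide) (f1732 H)) (step (H.back (i := 0) (by decide) (f1787 H)) rfl)))))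

theorem f1797 : g 1 • path g [4, 6, 3] p = path g [3, 4, 6, 8] p :=
  (congrArg (g 1 • ·) (f1793 H).symm).trans (f1741 H)

theorem f1798 : path g [4, 6, 3, 1] p = path g [3, 4, 6, 8] p :=
  (f1725 H).symm.trans (f1797 H)

theorem f1799 : g 5 • path g [4, 6, 3] p = path g [9, 1, 3] p :=
  (congrArg (g 5 • ·) (f1793 H).symm).trans (f1744 H)

theorem f1800 : path g [4, 6, 3, 5] p = path g [9, 1, 3] p :=
  (f1729 H).symm.trans (f1799 H)

theorem f1802 : g 2 • path g [4, 6, 3] p = path g [4, 6, 3] p :=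
  (f1727 H).trans (f1793 H)

theorem f1808 : g 6 • path g [3, 4, 6, 8] p = path g [4, 6, 3] p :=
  (f1742 H).trans (f1793 H)

theorem f1810 : g 1 • path g [3, 4, 6, 8] p = path g [4, 6, 3, 6] p :=
  (congrArg (g 1 • ·) (f1798 H).symm).trans (f1734 H)

theorem f1812 : g 6 • path g [4, 6, 3, 6] p = path g [3, 4, 6, 8] p :=
  H.back (i := 1) (by decide) (f1810 H)

theorem f1813 : g 5 • path g [4, 6, 3] p = path g [9, 1, 3] p :=
  (f1729 H).trans (f1800 H)

theorem f1814 : g 5 • path g [9, 6, 3] p = path g [4, 1, 3, 7] p :=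
  scan (u := [7, 5, 6, 5, 8, 2, 3]) (w := [5, 6, 5]) (i := 5) (r6_0_4 H) (step (f1791 H) (step (f1601 H) (step (f1808 H) (step (f1813 H) (step (f942 H) (step (f99 H) (step (f1244 H) rfl))))))) (step (H.back (i := 0) (by decide) (f1712 H)) (step (H.back (i := 1) (by decide) (f1732 H)) (step (H.back (i := 0) (by decide) (f1787 H)) rfl)))

theorem f1815 : g 0 • path g [4, 1, 3, 7] p = path g [9, 6, 3] p :=
  H.back (i := 5) (by decide) (f1814 H)

theorem f1819 : path g [4, 6, 8, 6] p = path g [4, 8, 6, 3] p :=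
  close (u := [0, 1, 0, 2, 0, 1, 0, 0, 8, 7]) (w := [3]) (r6_1_3 H) (step (f1787 H) (step (f1732 H) (step (f1712 H) (step (f1710 H) (step (f1693 H) (step (f1697 H) (step (f1666 H) (step (f1646 H) (step (f1598 H) (step (f1759 H) rfl)))))))))) (step (H.back (i := 8) (by decide) (f1785 H)) rfl)

theorem f1820 : path g [4, 8, 6, 3] p = path g [4, 6, 8, 6] p :=
  (f1819 H).symm

theorem f1821 : g 8 • path g [4, 6, 8, 6] p = path g [4, 8, 6] p :=
  (congrArg (g 8 • ·) (f1820 H).symm).trans (f1776 H)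

theorem f1823 : g 3 • path g [4, 8, 6] p = path g [4, 6, 8, 6] p :=
  H.back (i := 8) (by decide) (f1821 H)

theorem f1824 : g 3 • path g [4, 6, 8, 6] p = path g [4, 8, 6, 8] p :=
  (congrArg (g 3 • ·) (f1820 H).symm).trans (f1786 H)

theorem f1826 : g 8 • path g [4, 8, 6, 8] p = path g [4, 6, 8, 6] p :=
  H.back (i := 3) (by decide) (f1824 H)

theorem f1827 : path g [4, 1, 8, 1] p = path g [3, 4, 6, 3] p :=
  close (u := [5, 8, 1, 0, 2, 0, 1]) (w := [3, 7]) (r8_0_1 H) (step (f1788 H) (step (f1826 H) (step (f1752 H) (step (f468 H) (step (f473 H) (step (f468 H) (step (f1714 H) rfl))))))) (step (H.back (i := 8) (by decide) (f1598 H)) (step (H.back (i := 2) (by decide) (f1740 H)) rfl))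

theorem f1828 : g 6 • path g [3, 4, 6, 3] p = path g [4, 1, 8] p :=
  (congrArg (g 6 • ·) (f1827 H).symm).trans (f1715 H)

theorem f1830 : g 1 • path g [4, 1, 8] p = path g [3, 4, 6, 3] p :=
  H.back (i := 6) (by decide) (f1828 H)

theorem f1831 : g 1 • path g [3, 4, 6, 3] p = path g [4, 1, 8, 6] p :=
  (congrArg (g 1 • ·) (f1827 H).symm).trans (f1719 H)

theorem f1833 : g 6 • path g [4, 1, 8, 6] p = path g [3, 4, 6, 3] p :=
  H.back (i := 1) (by decide) (f1831 H)

theorem f1837 : g 0 • path g [3, 4, 6, 3] p = path g [4, 8, 1, 3] p :=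
  (congrArg (g 0 • ·) (f1827 H).symm).trans (f1768 H)

theorem f1839 : g 5 • path g [4, 8, 1, 3] p = path g [3, 4, 6, 3] p :=
  H.back (i := 0) (by decide) (f1837 H)

theorem f1840 : path g [4, 6, 8, 1] p = path g [3, 4, 1, 8] p :=
  close (u := [5, 8, 6]) (w := [5, 8, 6, 5, 8, 6]) (r17_1_2 H) (step (f1788 H) (step (f1826 H) (step (f1753 H) rfl))) (step (H.back (i := 0) (by decide) (f1600 H)) (step (H.back (i := 3) (by decide) (f1599 H)) (step (H.back (i := 1) (by decide) (f1830 H)) (step (H.back (i := 0) (by decide) (f468 H)) (step (H.back (i := 3) (by decide) (f467 H)) (step (H.back (i := 1) (by decide) (f1732 H)) rfl))))))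

theorem f1841 : g 6 • path g [3, 4, 1, 8] p = path g [4, 6, 8] p :=
  (congrArg (g 6 • ·) (f1840 H).symm).trans (f1748 H)

theorem f1843 : g 1 • path g [4, 6, 8] p = path g [3, 4, 1, 8] p :=
  H.back (i := 6) (by decide) (f1841 H)

theorem f1844 : g 2 • path g [3, 4, 1, 8] p = path g [4, 1, 8, 6] p :=
  (congrArg (g 2 • ·) (f1840 H).symm).trans (f1749 H)

theorem f1845 : path g [4, 8, 6, 8] p = path g [4, 1, 8, 6] p :=
  (f1792 H).symm.trans (f1844 H)

theorem f1846 : g 1 • path g [3, 4, 1, 8] p = path g [4, 6, 8, 6] p :=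
  (congrArg (g 1 • ·) (f1840 H).symm).trans (f1754 H)

theorem f1849 : g 3 • path g [4, 1, 8, 6] p = path g [4, 8, 6] p :=
  (congrArg (g 3 • ·) (f1845 H).symm).trans (f1784 H)

theorem f1852 : g 8 • path g [4, 1, 8, 6] p = path g [4, 6, 8, 6] p :=
  (congrArg (g 8 • ·) (f1845 H).symm).trans (f1826 H)

theorem f1854 : g 3 • path g [4, 6, 8, 6] p = path g [4, 1, 8, 6] p :=
  H.back (i := 8) (by decide) (f1852 H)

theorem f1855 : g 0 • path g [4, 1, 8, 6] p = path g [4, 6, 3, 6] p :=
  (congrArg (g 0 • ·) (f1845 H).symm).trans (f1787 H)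

theorem f1857 : g 5 • path g [4, 6, 3, 6] p = path g [4, 1, 8, 6] p :=
  H.back (i := 0) (by decide) (f1855 H)

theorem f1864 : g 1 • path g [4, 1, 3, 7] p = path g [4, 8, 1, 3] p :=
  scan (u := [0, 1, 0]) (w := [5, 1]) (i := 1) (r3_0_3 H) (step (f1855 H) (step (f1732 H) (step (f1712 H) rfl))) (step (H.back (i := 0) (by decide) (f1837 H)) (step (H.back (i := 6) (by decide) (f1833 H)) rfl))

theorem f1866 : g 6 • path g [3, 9, 1, 8] p = path g [9, 6, 8] p :=
  scan (u := [0, 6, 5]) (w := [5, 6]) (i := 6) (r3_1_4 H) (step (f1855 H) (step (f1812 H) (step (f1647 H) rfl))) (step (H.back (i := 0) (by decide) (f1263 H)) (step (H.back (i := 1) (by decide) (f1717 H)) rfl))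

theorem f1867 : g 1 • path g [9, 6, 8] p = path g [3, 9, 1, 8] p :=
  H.back (i := 6) (by decide) (f1866 H)

theorem f1869 : g 5 • path g [4, 1, 3, 6] p = path g [4, 6, 8, 6] p :=
  scan (u := [6, 5, 8, 6]) (w := [8, 6, 5, 8]) (i := 5) (r17_1_1 H) (step (f1866 H) (step (f1262 H) (step (f331 H) (step (f1705 H) rfl)))) (step (H.back (i := 3) (by decide) (f1823 H)) (step (H.back (i := 1) (by decide) (f483 H)) (step (H.back (i := 0) (by decide) (f1544 H)) (step (H.back (i := 3) (by decide) (f1643 H)) rfl))))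

theorem f1870 : g 0 • path g [4, 6, 8, 6] p = path g [4, 1, 3, 6] p :=
  H.back (i := 5) (by decide) (f1869 H)

theorem f1871 : path g [4, 1, 3, 5] p = path g [9, 6, 3] p :=
  close (u := [6, 9, 1, 1, 0, 1, 4, 5]) (w := [5, 5, 6, 7, 5]) (r12_0_6 H) (step (f1866 H) (step (f1258 H) (step (f1843 H) (step (f1846 H) (step (f1870 H) (step (f1706 H) (step (f1271 H) (step (f1703 H) rfl)))))))) (step (H.back (i := 0) (by decide) (f1815 H)) (step (H.back (i := 0) (by decide) (f1712 H)) (step (H.back (i := 1) (by decide) (f1732 H)) (step (H.back (i := 2) (by decide) (f1737 H)) (step (H.back (i := 0) (by decide) (f1646 H)) rfl)))))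

theorem f1872 : g 0 • path g [9, 6, 3] p = path g [4, 1, 3] p :=
  (congrArg (g 0 • ·) (f1871 H).symm).trans (f1704 H)

theorem f1875 : g 0 • path g [4, 6, 3, 6] p = path g [4, 1, 8, 6] p :=
  scan (u := [1, 0, 2]) (w := [1, 8, 5, 3]) (i := 0) (r7_1_3 H) (step (f1867 H) (step (f1646 H) (step (f1737 H) rfl))) (step (H.back (i := 6) (by decide) (f1716 H)) (step (H.back (i := 3) (by decide) (f332 H)) (step (H.back (i := 0) (by decide) (f1872 H)) (step (H.back (i := 8) (by decide) (f1254 H)) rfl))))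

theorem f1877 : path g [4, 6, 8] p = path g [9, 6, 8] p :=
  close (u := [1, 0, 2, 0, 1, 3, 7, 5, 8]) (w := []) (r8_0_3 H) (step (f1867 H) (step (f1646 H) (step (f1737 H) (step (f1875 H) (step (f1717 H) (step (f330 H) (step (f325 H) (step (f391 H) (step (f464 H) rfl))))))))) rfl

theorem f1878 : path g [9, 6, 8] p = path g [4, 6, 8] p :=
  (f1877 H).symm

theorem f1896 : g 1 • path g [4, 6, 8] p = path g [3, 9, 1, 8] p :=
  (congrArg (g 1 • ·) (f1878 H).symm).trans (f1867 H)

theorem f1897 : path g [3, 4, 1, 8] p = path g [3, 9, 1, 8] p :=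
  (f1843 H).symm.trans (f1896 H)

theorem f1898 : path g [3, 9, 1, 8] p = path g [3, 4, 1, 8] p :=
  (f1897 H).symm

theorem f1905 : g 5 • path g [3, 4, 1, 8] p = path g [3, 9, 6, 8] p :=
  (congrArg (g 5 • ·) (f1898 H).symm).trans (f1667 H)

theorem f1906 : path g [3, 4, 6, 8] p = path g [3, 9, 6, 8] p :=
  (f1601 H).symm.trans (f1905 H)

theorem f1910 : path g [3, 9, 6, 8] p = path g [3, 4, 6, 8] p :=
  (f1906 H).symm

theorem f1919 : g 5 • path g [3, 4, 6, 8] p = path g [3, 4, 1, 8] p :=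
  (f1647 H).trans (f1898 H)

theorem f1921 : g 6 • path g [3, 4, 6, 8] p = path g [4, 1, 3, 0] p :=
  (congrArg (g 6 • ·) (f1910 H).symm).trans (f1698 H)

theorem f1922 : path g [4, 6, 3] p = path g [4, 1, 3, 0] p :=
  (f1808 H).symm.trans (f1921 H)

theorem f1923 : path g [4, 1, 3, 0] p = path g [4, 6, 3] p :=
  (f1922 H).symm

theorem f1926 : g 2 • path g [4, 6, 3] p = path g [9, 6, 3] p :=
  (congrArg (g 2 • ·) (f1923 H).symm).trans (f1695 H)

theorem f1927 : path g [4, 6, 3] p = path g [9, 6, 3] p :=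
  (f1802 H).symm.trans (f1926 H)

theorem f1931 : path g [9, 6, 3] p = path g [4, 6, 3] p :=
  (f1927 H).symm

theorem f1945 : g 5 • path g [4, 6, 3] p = path g [4, 1, 3, 7] p :=
  (congrArg (g 5 • ·) (f1931 H).symm).trans (f1814 H)

theorem f1946 : path g [9, 1, 3] p = path g [4, 1, 3, 7] p :=
  (f1813 H).symm.trans (f1945 H)

theorem f1947 : g 0 • path g [4, 6, 3] p = path g [4, 1, 3] p :=
  (congrArg (g 0 • ·) (f1931 H).symm).trans (f1872 H)

theorem f1948 : path g [4, 1, 3, 7] p = path g [4, 1, 3] p :=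
  (f1712 H).symm.trans (f1947 H)

theorem f1964 : g 1 • path g [4, 1, 3] p = path g [4, 8, 1, 3] p :=
  (congrArg (g 1 • ·) (f1948 H).symm).trans (f1864 H)

theorem f1965 : path g [4, 1, 3, 1] p = path g [4, 8, 1, 3] p :=
  (f1699 H).symm.trans (f1964 H)

theorem f1966 : path g [4, 8, 1, 3] p = path g [4, 1, 3, 1] p :=
  (f1965 H).symm

theorem f1967 : g 8 • path g [4, 1, 3, 1] p = path g [4, 8, 1] p :=
  (congrArg (g 8 • ·) (f1966 H).symm).trans (f1762 H)

theorem f1969 : g 3 • path g [4, 8, 1] p = path g [4, 1, 3, 1] p :=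
  H.back (i := 8) (by decide) (f1967 H)

theorem f1970 : g 3 • path g [4, 1, 3, 1] p = path g [4, 6, 3, 6] p :=
  (congrArg (g 3 • ·) (f1966 H).symm).trans (f1763 H)

theorem f1972 : g 8 • path g [4, 6, 3, 6] p = path g [4, 1, 3, 1] p :=
  H.back (i := 3) (by decide) (f1970 H)

theorem f1976 : g 5 • path g [4, 1, 3, 1] p = path g [3, 4, 6, 3] p :=
  (congrArg (g 5 • ·) (f1966 H).symm).trans (f1839 H)

theorem f1985 : path g [9, 1, 3] p = path g [4, 1, 3] p :=
  (f1946 H).trans (f1948 H)

theorem f1992 : g 9 • path g [9, 1, 3] p = path g [4, 6, 3] p :=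
  (f1250 H).trans (f1931 H)

theorem f1993 : g 9 • path g [4, 1, 3] p = path g [4, 6, 3] p :=
  (congrArg (g 9 • ·) (f1985 H).symm).trans (f1992 H)

theorem f1994 : path g [4, 1, 3] p = path g [4, 6, 3] p :=
  (f1270 H).symm.trans (f1993 H)

theorem f1997 : path g [4, 6, 3] p = path g [4, 1, 3] p :=
  (f1994 H).symm

theorem f2022 : g 6 • path g [4, 1, 3] p = path g [4, 6, 3, 6] p :=
  (congrArg (g 6 • ·) (f1997 H).symm).trans (f1731 H)

theorem f2023 : path g [4, 1, 3, 6] p = path g [4, 6, 3, 6] p :=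
  (f1705 H).symm.trans (f2022 H)

theorem f2027 : path g [4, 6, 3, 6] p = path g [4, 1, 3, 6] p :=
  (f2023 H).symm

theorem f2042 : g 8 • path g [4, 1, 3, 6] p = path g [4, 1, 3, 1] p :=
  (congrArg (g 8 • ·) (f2027 H).symm).trans (f1972 H)

theorem f2045 : g 5 • path g [4, 1, 3, 6] p = path g [4, 1, 8, 6] p :=
  (congrArg (g 5 • ·) (f2027 H).symm).trans (f1857 H)

theorem f2046 : path g [4, 6, 8, 6] p = path g [4, 1, 8, 6] p :=
  (f1869 H).symm.trans (f2045 H)

theorem f2047 : g 0 • path g [4, 1, 3, 6] p = path g [4, 1, 8, 6] p :=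
  (congrArg (g 0 • ·) (f2027 H).symm).trans (f1875 H)

theorem f2049 : g 5 • path g [4, 1, 8, 6] p = path g [4, 1, 3, 6] p :=
  H.back (i := 0) (by decide) (f2047 H)

theorem f2063 : g 3 • path g [4, 1, 8, 6] p = path g [4, 1, 8, 6] p :=
  (congrArg (g 3 • ·) (f2046 H).symm).trans (f1854 H)

theorem f2064 : path g [4, 8, 6] p = path g [4, 1, 8, 6] p :=
  (f1849 H).symm.trans (f2063 H)

theorem f2068 : path g [4, 1, 8, 6] p = path g [4, 8, 6] p :=
  (f2064 H).symm

theorem f2087 : g 5 • path g [4, 8, 6] p = path g [4, 1, 3, 6] p :=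
  (congrArg (g 5 • ·) (f2068 H).symm).trans (f2049 H)

theorem f2088 : path g [3, 4, 6] p = path g [4, 1, 3, 6] p :=
  (f1540 H).symm.trans (f2087 H)

theorem f2089 : path g [4, 1, 3, 6] p = path g [3, 4, 6] p :=
  (f2088 H).symm

theorem f2103 : g 8 • path g [3, 4, 6] p = path g [4, 1, 3, 1] p :=
  (congrArg (g 8 • ·) (f2089 H).symm).trans (f2042 H)

theorem f2104 : path g [3, 4, 6, 8] p = path g [4, 1, 3, 1] p :=
  (f1596 H).symm.trans (f2103 H)

theorem f2108 : path g [4, 1, 3, 1] p = path g [3, 4, 6, 8] p :=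
  (f2104 H).symm

theorem f2114 : path g [4, 6, 3, 6] p = path g [3, 4, 6] p :=
  (f2027 H).trans (f2089 H)

theorem f2115 : g 1 • path g [3, 4, 6, 8] p = path g [3, 4, 6] p :=
  (f1810 H).trans (f2114 H)

theorem f2124 : g 5 • path g [3, 4, 6, 8] p = path g [3, 4, 6, 3] p :=
  (congrArg (g 5 • ·) (f2108 H).symm).trans (f1976 H)

theorem f2125 : path g [3, 4, 1, 8] p = path g [3, 4, 6, 3] p :=
  (f1919 H).symm.trans (f2124 H)

theorem f2126 : path g [3, 4, 6, 3] p = path g [3, 4, 1, 8] p :=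
  (f2125 H).symm

theorem f2135 : g 6 • path g [3, 4, 1, 8] p = path g [4, 1, 8] p :=
  (congrArg (g 6 • ·) (f2126 H).symm).trans (f1828 H)

theorem f2136 : path g [4, 6, 8] p = path g [4, 1, 8] p :=
  (f1841 H).symm.trans (f2135 H)

theorem f2166 : g 5 • path g [4, 1, 8] p = path g [9, 1, 8] p :=
  (congrArg (g 5 • ·) (f2136 H).symm).trans (f1236 H)

theorem f2167 : g 5 • path g [4, 1, 8] p = path g [4, 1, 8] p :=
  (f469 H).trans (f2136 H)

theorem f2168 : path g [4, 1, 8] p = path g [9, 1, 8] p :=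
  (f2167 H).symm.trans (f2166 H)

theorem f2179 : path g [9, 1, 8] p = path g [4, 1, 8] p :=
  (f2168 H).symm

theorem f2180 : g 3 • path g [4, 1, 8] p = path g [9, 1] p :=
  (congrArg (g 3 • ·) (f2179 H).symm).trans (f1230 H)

theorem f2181 : path g [4, 1] p = path g [9, 1] p :=
  (f330 H).symm.trans (f2180 H)

theorem f2203 : path g [9, 1] p = path g [4, 1] p :=
  (f2181 H).symm

theorem f2223 : g 4 • path g [4, 1] p = path g [4, 6] p :=
  (congrArg (g 4 • ·) (f2203 H).symm).trans (f1174 H)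

theorem f2224 : path g [4, 1] p = path g [4, 6] p :=
  (f1146 H).symm.trans (f2223 H)

theorem f2228 : path g [4, 6] p = path g [4, 1] p :=
  (f2224 H).symm

theorem f2237 : g 4 • path g [4, 1] p = path g [9, 6] p :=
  (congrArg (g 4 • ·) (f2228 H).symm).trans (f320 H)

theorem f2238 : path g [4, 1] p = path g [9, 6] p :=
  (f1146 H).symm.trans (f2237 H)

theorem f2257 : path g [9, 6] p = path g [4, 1] p :=
  (f2238 H).symm

theorem f2260 : g 6 • path g [9, 6] p = path g [4, 1] p :=
  (f96 H).trans (f2203 H)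

theorem f2261 : g 6 • path g [4, 1] p = path g [4, 1] p :=
  (congrArg (g 6 • ·) (f2257 H).symm).trans (f2260 H)

theorem f2262 : path g [4] p = path g [4, 1] p :=
  (f51 H).symm.trans (f2261 H)

theorem f2288 : path g [4, 1] p = path g [4] p :=
  (f2262 H).symm

theorem f2316 : g 9 • path g [4, 1] p = path g [4] p :=
  (f959 H).trans (f2288 H)

theorem f2317 : g 9 • path g [4] p = path g [4] p :=
  (congrArg (g 9 • ·) (f2288 H).symm).trans (f2316 H)

theorem f2318 : path g [] p = path g [4] p :=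
  (f9 H).symm.trans (f2317 H)

theorem f2319 : path g [4] p = path g [] p :=
  (f2318 H).symm

theorem f2343 : g 8 • path g [] p = path g [4, 8] p :=
  (congrArg (g 8 • ·) (f2319 H).symm).trans (f62 H)

theorem f2344 : path g [8] p = path g [4, 8] p :=
  (f10 H).symm.trans (f2343 H)

theorem f2345 : path g [4, 8] p = path g [8] p :=
  (f2344 H).symm

theorem f2368 : g 6 • path g [8] p = path g [4, 8, 6] p :=
  (congrArg (g 6 • ·) (f2345 H).symm).trans (f480 H)

theorem f2369 : path g [8, 6] p = path g [4, 8, 6] p :=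
  (f70 H).symm.trans (f2368 H)

theorem f2370 : path g [4, 8, 6] p = path g [8, 6] p :=
  (f2369 H).symm

theorem f2382 : g 2 • path g [8, 6] p = path g [4, 8, 1] p :=
  (congrArg (g 2 • ·) (f2370 H).symm).trans (f1580 H)

theorem f2383 : path g [8, 1] p = path g [4, 8, 1] p :=
  (f517 H).symm.trans (f2382 H)

theorem f2387 : g 4 • path g [8, 6] p = path g [4, 8, 6, 4] p :=
  (congrArg (g 4 • ·) (f2370 H).symm).trans (f1777 H)

theorem f2388 : path g [8, 6, 4] p = path g [4, 8, 6, 4] p :=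
  (f858 H).symm.trans (f2387 H)

theorem f2392 : path g [4, 8, 6, 4] p = path g [8, 6, 4] p :=
  (f2388 H).symm

theorem f2396 : g 1 • path g [8, 6, 4] p = path g [8, 1, 9] p :=
  (congrArg (g 1 • ·) (f2392 H).symm).trans (f1779 H)

theorem f2398 : g 6 • path g [8, 1, 9] p = path g [8, 6, 4] p :=
  H.back (i := 1) (by decide) (f2396 H)

theorem f2399 : g 5 • path g [8, 6, 4] p = path g [3, 6, 9, 6] p :=
  (congrArg (g 5 • ·) (f2392 H).symm).trans (f1782 H)

theorem f2401 : g 0 • path g [3, 6, 9, 6] p = path g [8, 6, 4] p :=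
  H.back (i := 5) (by decide) (f2399 H)

theorem f2402 : path g [4, 8, 1] p = path g [8, 1] p :=
  (f2383 H).symm

theorem f2422 : g 3 • path g [4, 8, 1] p = path g [3, 4, 6, 8] p :=
  (f1969 H).trans (f2108 H)

theorem f2423 : g 3 • path g [8, 1] p = path g [3, 4, 6, 8] p :=
  (congrArg (g 3 • ·) (f2402 H).symm).trans (f2422 H)

theorem f2424 : path g [3, 1] p = path g [3, 4, 6, 8] p :=
  (f1418 H).symm.trans (f2423 H)

theorem f2442 : path g [3, 4, 6, 8] p = path g [3, 1] p :=
  (f2424 H).symm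

theorem f2460 : g 1 • path g [3, 1] p = path g [3, 4, 6] p :=
  (congrArg (g 1 • ·) (f2442 H).symm).trans (f2115 H)

theorem f2461 : path g [3, 6] p = path g [3, 4, 6] p :=
  (f41 H).symm.trans (f2460 H)

theorem f2462 : path g [3, 4, 6] p = path g [3, 6] p :=
  (f2461 H).symm

theorem f2485 : g 9 • path g [3, 6] p = path g [3, 4, 6, 9] p :=
  (congrArg (g 9 • ·) (f2462 H).symm).trans (f1602 H)

theorem f2486 : path g [3, 6, 9] p = path g [3, 4, 6, 9] p :=
  (f230 H).symm.trans (f2485 H)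

theorem f2487 : path g [3, 4, 6, 9] p = path g [3, 6, 9] p :=
  (f2486 H).symm

theorem f2497 : g 6 • path g [3, 6, 9] p = path g [3, 6, 4, 0] p :=
  (congrArg (g 6 • ·) (f2487 H).symm).trans (f1687 H)

theorem f2498 : path g [3, 6, 9, 6] p = path g [3, 6, 4, 0] p :=
  (f1629 H).symm.trans (f2497 H)

theorem f2505 : g 7 • path g [3, 6, 4, 0] p = path g [3, 1, 9, 1] p :=
  (congrArg (g 7 • ·) (f2498 H).symm).trans (f1633 H)

theorem f2507 : g 2 • path g [3, 1, 9, 1] p = path g [3, 6, 4, 0] p :=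
  H.back (i := 7) (by decide) (f2505 H)

theorem f2508 : g 5 • path g [3, 6, 4, 0] p = path g [3, 1, 9, 6] p :=
  (congrArg (g 5 • ·) (f2498 H).symm).trans (f1635 H)

theorem f2509 : path g [3, 6, 4] p = path g [3, 1, 9, 6] p :=
  (f1607 H).symm.trans (f2508 H)

theorem f2510 : g 0 • path g [3, 6, 4, 0] p = path g [8, 6, 4] p :=
  (congrArg (g 0 • ·) (f2498 H).symm).trans (f2401 H)

theorem f2512 : g 5 • path g [8, 6, 4] p = path g [3, 6, 4, 0] p :=
  H.back (i := 0) (by decide) (f2510 H)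

theorem f2513 : path g [3, 1, 9, 6] p = path g [3, 6, 4] p :=
  (f2509 H).symm

theorem f2524 : g 7 • path g [3, 6, 4] p = path g [3, 6, 9, 1] p :=
  (congrArg (g 7 • ·) (f2513 H).symm).trans (f1626 H)

theorem f2525 : path g [3, 6, 4, 7] p = path g [3, 6, 9, 1] p :=
  (f1618 H).symm.trans (f2524 H)

theorem f2529 : path g [3, 6, 9, 1] p = path g [3, 6, 4, 7] p :=
  (f2525 H).symm

theorem f2530 : g 6 • path g [3, 6, 4, 7] p = path g [3, 6, 9] p :=
  (congrArg (g 6 • ·) (f2529 H).symm).trans (f1624 H)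

theorem f2531 : path g [3, 9, 6, 9] p = path g [3, 6, 9] p :=
  (f1688 H).symm.trans (f2530 H)

theorem f2544 : g 7 • path g [3, 6, 9] p = path g [3, 4, 1, 9] p :=
  (congrArg (g 7 • ·) (f2531 H).symm).trans (f1676 H)

theorem f2545 : path g [3, 1, 9] p = path g [3, 4, 1, 9] p :=
  (f841 H).symm.trans (f2544 H)

theorem f2549 : path g [3, 4, 1, 9] p = path g [3, 1, 9] p :=
  (f2545 H).symm

theorem f2561 : g 6 • path g [3, 1, 9] p = path g [3, 6, 4] p :=
  (f1526 H).trans (f2513 H)

theorem f2567 : g 1 • path g [3, 1, 9, 1] p = path g [3, 6, 4] p :=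
  (f1529 H).trans (f2513 H)

theorem f2749 : g 1 • path g [3, 6, 4] p = path g [3, 1, 9] p :=
  (f1682 H).trans (f2549 H)

theorem f2972 : g 0 • path g [8, 1, 4] p = path g [8, 1, 4, 0] p :=
  rfl

theorem f2973 : g 5 • path g [8, 1, 4, 0] p = path g [8, 1, 4] p :=
  H.back (i := 0) (by decide) (f2972 H)

theorem f2974 : g 2 • path g [8, 1, 4, 0] p = path g [3, 6, 4, 5] p :=
  scan (u := [0]) (w := [0, 0, 0, 9, 7, 4]) (i := 2) (r10_1_3 H) (step (f2972 H) rfl) (step (H.back (i := 5) (by decide) (f1612 H)) (step (H.back (i := 5) (by decide) (f1607 H)) (step (H.back (i := 5) (by decide) (f2512 H)) (step (H.back (i := 4) (by decide) (f858 H)) (step (H.back (i := 2) (by decide) (f75 H)) (step (H.back (i := 9) (by decide) (f491 H)) rfl))))))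

theorem f2980 : g 5 • path g [8, 1, 4] p = path g [8, 1, 4, 5] p :=
  rfl

theorem f2982 : g 7 • path g [8, 1, 4, 5] p = path g [3, 6, 4, 0] p :=
  scan (u := [5]) (w := [5, 5, 7, 5]) (i := 7) (r2_1_1 H) (step (f2980 H) rfl) (step (H.back (i := 0) (by decide) (f1606 H)) (step (H.back (i := 0) (by decide) (f1613 H)) (step (H.back (i := 2) (by decide) (f2974 H)) (step (H.back (i := 0) (by decide) (f2972 H)) rfl))))

theorem f2983 : g 2 • path g [3, 6, 4, 0] p = path g [8, 1, 4, 5] p :=
  H.back (i := 7) (by decide) (f2982 H)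

theorem f2984 : path g [3, 1, 4, 5] p = path g [8, 1, 4, 0] p :=
  close (u := [5, 7, 5, 9, 2, 4, 5]) (w := [5]) (r10_0_2 H) (step (f2980 H) (step (f2982 H) (step (f1607 H) (step (f217 H) (step (f838 H) (step (f132 H) (step (f1493 H) rfl))))))) (step (H.back (i := 0) (by decide) (f2972 H)) rfl)

theorem f2985 : path g [8, 1, 4, 0] p = path g [3, 1, 4, 5] p :=
  (f2984 H).symm

theorem f2986 : g 5 • path g [3, 1, 4, 5] p = path g [8, 1, 4] p :=
  (congrArg (g 5 • ·) (f2985 H).symm).trans (f2973 H)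

theorem f2988 : g 0 • path g [8, 1, 4] p = path g [3, 1, 4, 5] p :=
  H.back (i := 5) (by decide) (f2986 H)

theorem f2989 : g 2 • path g [3, 1, 4, 5] p = path g [3, 6, 4, 5] p :=
  (congrArg (g 2 • ·) (f2985 H).symm).trans (f2974 H)

theorem f2991 : g 7 • path g [3, 6, 4, 5] p = path g [3, 1, 4, 5] p :=
  H.back (i := 2) (by decide) (f2989 H)

theorem f2992 : g 6 • path g [8, 1, 4] p = path g [8, 1, 4, 6] p :=
  rfl

theorem f2993 : g 1 • path g [8, 1, 4, 6] p = path g [8, 1, 4] p :=
  H.back (i := 6) (by decide) (f2992 H)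

theorem f2996 : g 3 • path g [8, 1, 4, 6] p = path g [3, 1, 9, 5] p :=
  scan (u := [6]) (w := [0, 2, 8, 6, 5, 7, 5]) (i := 3) (r8_1_5 H) (step (f2992 H) rfl) (step (H.back (i := 5) (by decide) (f1524 H)) (step (H.back (i := 7) (by decide) (f841 H)) (step (H.back (i := 3) (by decide) (f1492 H)) (step (H.back (i := 1) (by decide) (f2749 H)) (step (H.back (i := 0) (by decide) (f1613 H)) (step (H.back (i := 2) (by decide) (f2989 H)) (step (H.back (i := 0) (by decide) (f2988 H)) rfl)))))))

theorem f3001 : g 0 • path g [8, 1, 9] p = path g [8, 1, 9, 0] p :=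
  rfl

theorem f3003 : g 2 • path g [8, 1, 9, 0] p = path g [3, 1, 9, 5] p :=
  scan (u := [0]) (w := [0, 4, 5, 6, 5, 7, 5, 6, 7, 9]) (i := 2) (r11_0_8 H) (step (f3001 H) rfl) (step (H.back (i := 5) (by decide) (f1524 H)) (step (H.back (i := 9) (by decide) (f142 H)) (step (H.back (i := 0) (by decide) (f1412 H)) (step (H.back (i := 1) (by decide) (f68 H)) (step (H.back (i := 0) (by decide) (f14 H)) (step (H.back (i := 2) (by decide) (f16 H)) (step (H.back (i := 0) (by decide) (f14 H)) (step (H.back (i := 1) (by decide) (f71 H)) (step (H.back (i := 2) (by decide) (f75 H)) (step (H.back (i := 4) (by decide) (f501 H)) rfl))))))))))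

theorem f3005 : g 1 • path g [8, 1, 9] p = path g [8, 1, 9, 1] p :=
  rfl

theorem f3007 : g 1 • path g [8, 1, 9, 1] p = path g [8, 6, 4] p :=
  scan (u := [1]) (w := [1]) (i := 1) (r0_0_0 H) (step (f3005 H) rfl) (step (H.back (i := 6) (by decide) (f2398 H)) rfl)

theorem f3009 : g 5 • path g [8, 1, 9] p = path g [8, 1, 9, 5] p :=
  rfl

theorem f3010 : g 0 • path g [8, 1, 9, 5] p = path g [8, 1, 9] p :=
  H.back (i := 5) (by decide) (f3009 H)

theorem f3011 : g 7 • path g [8, 1, 9, 5] p = path g [3, 1, 9, 0] p :=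
  scan (u := [5]) (w := [5, 5, 7, 5]) (i := 7) (r2_1_1 H) (step (f3009 H) rfl) (step (H.back (i := 0) (by decide) (f1519 H)) (step (H.back (i := 0) (by decide) (f1525 H)) (step (H.back (i := 2) (by decide) (f3003 H)) (step (H.back (i := 0) (by decide) (f3001 H)) rfl))))

theorem f3013 : g 3 • path g [3, 1, 4, 0] p = path g [8, 1, 9, 1] p :=
  scan (u := [5, 7, 5, 6, 8, 0]) (w := [6]) (i := 3) (r7_0_1 H) (step (f3009 H) (step (f3011 H) (step (f1520 H) (step (f2561 H) (step (f1488 H) (step (f1478 H) rfl)))))) (step (H.back (i := 1) (by decide) (f3005 H)) rfl)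

theorem f3014 : g 8 • path g [8, 1, 9, 1] p = path g [3, 1, 4, 0] p :=
  H.back (i := 3) (by decide) (f3013 H)

theorem f3015 : g 3 • path g [8, 1, 9, 5] p = path g [8, 1, 4, 6] p :=
  scan (u := [5]) (w := [1, 0, 2, 0, 1, 8]) (i := 3) (r7_1_1 H) (step (f3009 H) rfl) (step (H.back (i := 6) (by decide) (f2992 H)) (step (H.back (i := 5) (by decide) (f2986 H)) (step (H.back (i := 7) (by decide) (f2991 H)) (step (H.back (i := 5) (by decide) (f1612 H)) (step (H.back (i := 6) (by decide) (f2561 H)) (step (H.back (i := 3) (by decide) (f1515 H)) rfl))))))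

theorem f3017 : g 8 • path g [3, 6, 4, 5] p = path g [8, 1, 9, 1] p :=
  scan (u := [5, 7, 5, 6, 3, 0, 2]) (w := [6]) (i := 8) (r8_1_2 H) (step (f3009 H) (step (f3011 H) (step (f1520 H) (step (f2561 H) (step (f1513 H) (step (f2988 H) (step (f2989 H) rfl))))))) (step (H.back (i := 1) (by decide) (f3005 H)) rfl)

theorem f3018 : g 3 • path g [8, 1, 9, 1] p = path g [3, 6, 4, 5] p :=
  H.back (i := 8) (by decide) (f3017 H)

theorem f3019 : g 8 • path g [3, 1, 4, 0] p = path g [3, 6, 4, 5] p :=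
  scan (u := [8, 8]) (w := []) (i := 8) (r9_1_0 H) (step (f3017 H) (step (f3014 H) rfl)) rfl

theorem f3020 : g 3 • path g [3, 6, 4, 5] p = path g [3, 1, 4, 0] p :=
  H.back (i := 8) (by decide) (f3019 H)

theorem f3021 : g 3 • path g [3, 1, 9, 5] p = path g [8, 1, 9, 5] p :=
  scan (u := [3, 3]) (w := []) (i := 3) (r9_0_0 H) (step (f3015 H) (step (f2996 H) rfl)) rfl

theorem f3022 : g 8 • path g [8, 1, 9, 5] p = path g [3, 1, 9, 5] p :=
  H.back (i := 3) (by decide) (f3021 H)

theorem f3023 : g 1 • path g [3, 6, 9, 0] p = path g [3, 1, 9, 5] p :=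
  scan (u := [3, 0, 1, 3, 0, 1, 3, 0]) (w := []) (i := 1) (r17_0_2 H) (step (f3021 H) (step (f3010 H) (step (f3005 H) (step (f3018 H) (step (f1613 H) (step (f2749 H) (step (f1492 H) (step (f1621 H) rfl)))))))) rfl

theorem f3024 : g 6 • path g [3, 1, 9, 5] p = path g [3, 6, 9, 0] p :=
  H.back (i := 1) (by decide) (f3023 H)

theorem f3025 : path g [3, 6, 9, 0] p = path g [8, 1, 9] p :=
  close (u := [8, 6, 5, 7, 5, 6]) (w := [3, 0, 2]) (r8_1_0 H) (step (f3022 H) (step (f3024 H) (step (f1622 H) (step (f841 H) (step (f1524 H) (step (f3024 H) rfl)))))) (step (H.back (i := 8) (by decide) (f1514 H)) (step (H.back (i := 5) (by decide) (f1520 H)) (step (H.back (i := 7) (by decide) (f3011 H)) rfl)))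

theorem f3028 : g 1 • path g [8, 1, 9] p = path g [3, 1, 9, 5] p :=
  (congrArg (g 1 • ·) (f3025 H).symm).trans (f3023 H)

theorem f3029 : path g [8, 1, 9, 1] p = path g [3, 1, 9, 5] p :=
  (f3005 H).symm.trans (f3028 H)

theorem f3033 : g 1 • path g [3, 1, 9, 5] p = path g [8, 6, 4] p :=
  (congrArg (g 1 • ·) (f3029 H).symm).trans (f3007 H)

theorem f3038 : g 3 • path g [3, 1, 9, 5] p = path g [3, 6, 4, 5] p :=
  (congrArg (g 3 • ·) (f3029 H).symm).trans (f3018 H)

theorem f3039 : path g [8, 1, 9, 5] p = path g [3, 6, 4, 5] p :=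
  (f3021 H).symm.trans (f3038 H)

theorem f3042 : g 7 • path g [3, 6, 4, 5] p = path g [3, 1, 9, 0] p :=
  (congrArg (g 7 • ·) (f3039 H).symm).trans (f3011 H)

theorem f3043 : path g [3, 1, 4, 5] p = path g [3, 1, 9, 0] p :=
  (f2991 H).symm.trans (f3042 H)

theorem f3044 : g 3 • path g [3, 6, 4, 5] p = path g [8, 1, 4, 6] p :=
  (congrArg (g 3 • ·) (f3039 H).symm).trans (f3015 H)

theorem f3045 : path g [3, 1, 4, 0] p = path g [8, 1, 4, 6] p :=
  (f3020 H).symm.trans (f3044 H)

theorem f3047 : g 8 • path g [3, 6, 4, 5] p = path g [3, 1, 9, 5] p :=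
  (f3017 H).trans (f3029 H)

theorem f3049 : path g [8, 1, 4, 6] p = path g [3, 1, 4, 0] p :=
  (f3045 H).symm

theorem f3050 : g 1 • path g [3, 1, 4, 0] p = path g [8, 1, 4] p :=
  (congrArg (g 1 • ·) (f3049 H).symm).trans (f2993 H)

theorem f3052 : g 6 • path g [8, 1, 4] p = path g [3, 1, 4, 0] p :=
  H.back (i := 1) (by decide) (f3050 H)

theorem f3062 : path g [3, 1, 9, 0] p = path g [3, 1, 4, 5] p :=
  (f3043 H).symm

theorem f3063 : g 5 • path g [3, 1, 4, 5] p = path g [3, 1, 9] p :=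
  (congrArg (g 5 • ·) (f3062 H).symm).trans (f1520 H)

theorem f3064 : path g [8, 1, 4] p = path g [3, 1, 9] p :=
  (f2986 H).symm.trans (f3063 H)

theorem f3085 : g 6 • path g [3, 1, 9] p = path g [3, 1, 4, 0] p :=
  (congrArg (g 6 • ·) (f3064 H).symm).trans (f3052 H)

theorem f3086 : path g [3, 6, 4] p = path g [3, 1, 4, 0] p :=
  (f2561 H).symm.trans (f3085 H)

theorem f3093 : path g [3, 1, 4, 0] p = path g [3, 6, 4] p :=
  (f3086 H).symm

theorem f3099 : g 8 • path g [3, 6, 4] p = path g [3, 6, 4, 5] p :=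
  (congrArg (g 8 • ·) (f3093 H).symm).trans (f3019 H)

theorem f3100 : path g [3, 1, 4] p = path g [3, 6, 4, 5] p :=
  (f1488 H).symm.trans (f3099 H)

theorem f3113 : path g [3, 6, 4, 5] p = path g [3, 1, 4] p :=
  (f3100 H).symm

theorem f3119 : g 8 • path g [3, 1, 4] p = path g [3, 1, 9, 5] p :=
  (congrArg (g 8 • ·) (f3113 H).symm).trans (f3047 H)

theorem f3120 : g 8 • path g [3, 1, 4] p = path g [3, 1, 9] p :=
  (f1510 H).trans (f3064 H)

theorem f3121 : path g [3, 1, 9] p = path g [3, 1, 9, 5] p :=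
  (f3120 H).symm.trans (f3119 H)

theorem f3125 : path g [3, 1, 9, 5] p = path g [3, 1, 9] p :=
  (f3121 H).symm

theorem f3140 : g 1 • path g [3, 1, 9] p = path g [8, 6, 4] p :=
  (congrArg (g 1 • ·) (f3125 H).symm).trans (f3033 H)

theorem f3141 : path g [3, 1, 9, 1] p = path g [8, 6, 4] p :=
  (f1521 H).symm.trans (f3140 H)

theorem f3145 : g 1 • path g [8, 6, 4] p = path g [3, 6, 4] p :=
  (congrArg (g 1 • ·) (f3141 H).symm).trans (f2567 H)

theorem f3146 : path g [8, 1, 9] p = path g [3, 6, 4] p :=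
  (f2396 H).symm.trans (f3145 H)

theorem f3147 : g 2 • path g [8, 6, 4] p = path g [3, 6, 4, 0] p :=
  (congrArg (g 2 • ·) (f3141 H).symm).trans (f2507 H)

theorem f3166 : g 0 • path g [3, 6, 4] p = path g [8, 1, 9, 0] p :=
  (congrArg (g 0 • ·) (f3146 H).symm).trans (f3001 H)

theorem f3167 : path g [3, 6, 4, 0] p = path g [8, 1, 9, 0] p :=
  (f1606 H).symm.trans (f3166 H)

theorem f3174 : g 5 • path g [3, 6, 4] p = path g [3, 1, 4] p :=
  (f1612 H).trans (f3113 H)

theorem f3176 : path g [8, 1, 9, 0] p = path g [3, 6, 4, 0] p :=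
  (f3167 H).symm

theorem f3180 : g 2 • path g [8, 1, 9, 0] p = path g [3, 1, 9] p :=
  (f3003 H).trans (f3125 H)

theorem f3181 : g 2 • path g [3, 6, 4, 0] p = path g [3, 1, 9] p :=
  (congrArg (g 2 • ·) (f3176 H).symm).trans (f3180 H)

theorem f3182 : path g [8, 1, 4, 5] p = path g [3, 1, 9] p :=
  (f2983 H).symm.trans (f3181 H)

theorem f3186 : g 7 • path g [3, 1, 9] p = path g [3, 6, 4, 0] p :=
  (congrArg (g 7 • ·) (f3182 H).symm).trans (f2982 H)

theorem f3187 : path g [3, 6, 9] p = path g [3, 6, 4, 0] p :=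
  (f837 H).symm.trans (f3186 H)

theorem f3188 : path g [3, 6, 4, 0] p = path g [3, 6, 9] p :=
  (f3187 H).symm

theorem f3198 : g 0 • path g [3, 6, 9] p = path g [8, 6, 4] p :=
  (congrArg (g 0 • ·) (f3188 H).symm).trans (f2510 H)

theorem f3199 : path g [3, 6, 9, 0] p = path g [3, 6, 4] p :=
  (f3025 H).trans (f3146 H)

theorem f3200 : g 0 • path g [3, 6, 9] p = path g [3, 6, 4] p :=
  (f1621 H).trans (f3199 H)

theorem f3201 : path g [3, 6, 4] p = path g [8, 6, 4] p :=
  (f3200 H).symm.trans (f3198 H)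

theorem f3205 : path g [8, 6, 4] p = path g [3, 6, 4] p :=
  (f3201 H).symm

theorem f3219 : g 2 • path g [8, 6, 4] p = path g [3, 6, 9] p :=
  (f3147 H).trans (f3188 H)

theorem f3220 : g 2 • path g [3, 6, 4] p = path g [3, 6, 9] p :=
  (congrArg (g 2 • ·) (f3205 H).symm).trans (f3219 H)

theorem f3221 : path g [3, 6, 4, 2] p = path g [3, 6, 9] p :=
  (f1610 H).symm.trans (f3220 H)

theorem f3222 : g 7 • path g [3, 6, 9] p = path g [3, 6, 4] p :=
  (congrArg (g 7 • ·) (f3221 H).symm).trans (f1611 H)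

theorem f3223 : path g [3, 1, 9] p = path g [3, 6, 4] p :=
  (f841 H).symm.trans (f3222 H)

theorem f3224 : path g [3, 6, 4] p = path g [3, 1, 9] p :=
  (f3223 H).symm

theorem f3246 : g 5 • path g [3, 1, 9] p = path g [3, 1, 4] p :=
  (congrArg (g 5 • ·) (f3224 H).symm).trans (f3174 H)

theorem f3247 : g 5 • path g [3, 1, 9] p = path g [3, 1, 9] p :=
  (f1524 H).trans (f3125 H)

theorem f3248 : path g [3, 1, 9] p = path g [3, 1, 4] p :=
  (f3247 H).symm.trans (f3246 H)

theorem f3274 : g 3 • path g [3, 1, 4] p = path g [3, 6, 9] p :=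
  (congrArg (g 3 • ·) (f3248 H).symm).trans (f1492 H)

theorem f3275 : path g [3, 6, 4] p = path g [3, 1, 4] p :=
  (f3224 H).trans (f3248 H)

theorem f3276 : g 3 • path g [3, 1, 4] p = path g [3, 1, 4] p :=
  (f1490 H).trans (f3275 H)

theorem f3277 : path g [3, 1, 4] p = path g [3, 6, 9] p :=
  (f3276 H).symm.trans (f3274 H)

theorem f3280 : g 8 • path g [3, 1, 4] p = path g [3, 1, 4] p :=
  (f3120 H).trans (f3248 H)

theorem f3321 : path g [3, 6, 9] p = path g [3, 1, 4] p :=
  (f3277 H).symm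

theorem f3324 : g 9 • path g [3, 6, 9] p = path g [3, 1, 4] p :=
  (f232 H).trans (f3275 H)

theorem f3325 : g 9 • path g [3, 1, 4] p = path g [3, 1, 4] p :=
  (congrArg (g 9 • ·) (f3321 H).symm).trans (f3324 H)

theorem f3326 : path g [3, 1] p = path g [3, 1, 4] p :=
  (f133 H).symm.trans (f3325 H)

theorem f3356 : path g [3, 1, 4] p = path g [3, 1] p :=
  (f3326 H).symm

theorem f3386 : g 8 • path g [3, 1, 4] p = path g [3, 1] p :=
  (f3280 H).trans (f3356 H)

theorem f3387 : g 8 • path g [3, 1] p = path g [3, 1] p :=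
  (congrArg (g 8 • ·) (f3356 H).symm).trans (f3386 H)

theorem f3388 : path g [8, 1] p = path g [3, 1] p :=
  (f1506 H).symm.trans (f3387 H)

theorem f3405 : g 5 • path g [3, 1] p = path g [3, 1] p :=
  (f1495 H).trans (f3388 H)

theorem f3409 : g 8 • path g [3, 1] p = path g [3, 6] p :=
  (congrArg (g 8 • ·) (f3388 H).symm).trans (f810 H)

theorem f3410 : g 8 • path g [3, 1] p = path g [3, 1] p :=
  (f1506 H).trans (f3388 H)

theorem f3411 : path g [3, 1] p = path g [3, 6] p :=
  (f3410 H).symm.trans (f3409 H)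

theorem f3416 : path g [3, 6] p = path g [3, 1] p :=
  (f3411 H).symm

theorem f3438 : g 5 • path g [3, 1] p = path g [8, 6] p :=
  (congrArg (g 5 • ·) (f3416 H).symm).trans (f1581 H)

theorem f3439 : path g [3, 1] p = path g [8, 6] p :=
  (f3405 H).symm.trans (f3438 H)

theorem f3446 : path g [8, 6] p = path g [3, 1] p :=
  (f3439 H).symm

theorem f3449 : g 6 • path g [8, 6] p = path g [3, 1] p :=
  (f72 H).trans (f3388 H)

theorem f3450 : g 6 • path g [3, 1] p = path g [3, 1] p :=
  (congrArg (g 6 • ·) (f3446 H).symm).trans (f3449 H)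

theorem f3451 : path g [3] p = path g [3, 1] p :=
  (f29 H).symm.trans (f3450 H)

theorem f3489 : path g [3, 1] p = path g [3] p :=
  (f3451 H).symm

theorem f3516 : g 8 • path g [3, 1] p = path g [3] p :=
  (f3410 H).trans (f3489 H)

theorem f3517 : g 8 • path g [3] p = path g [3] p :=
  (congrArg (g 8 • ·) (f3489 H).symm).trans (f3516 H)

theorem f3518 : path g [] p = path g [3] p :=
  (f7 H).symm.trans (f3517 H)

theorem f3522 : path g [3] p = path g [] p :=
  (f3518 H).symm

theorem f3526 : g 3 • path g [] p = path g [] p :=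
  (f6 H).trans (f3522 H)

theorem collapse : g 3 • p = p :=
  (f3526 H)

end CfsgQS3.Cert100
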