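import Cfsg.Agent.Lib.QS3.Coset
import Cfsg.Agent.Lib.QS3.RelData

/-!
Groups with an involution centraliser `Q.S₃`: a certificate of coset enumeration, case 101.
-/

set_option autoImplicit false
set_option maxRecDepth 10000

namespace CfsgQS3.Cert101

variable {M α : Type*} [Group M] [MulAction M α] {g : ℕ → M} {p : α} (H : CosetData rels101 3 g p)
include H

theorem r0_1_0 : ∀ x : α, path g [6, 6, 6] x = x :=
  trivial_rot 0 (H.trivial_inv (i := 0) (by decide) (by decide)) (by decide)

theorem r1_0_0 : ∀ x : α, path g [2, 1, 2, 1] x = x :=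
  trivial_rot 0 (H.trivial_rev (i := 1) (by decide)) (by decide)

theorem r1_0_1 : ∀ x : α, path g [1, 2, 1, 2] x = x :=
  trivial_rot 1 (H.trivial_rev (i := 1) (by decide)) (by decide)

theorem r1_1_0 : ∀ x : α, path g [6, 7, 6, 7] x = x :=
  trivial_rot 0 (H.trivial_inv (i := 1) (by decide) (by decide)) (by decide)

theorem r2_0_0 : ∀ x : α, path g [2, 0, 0, 2, 0, 0] x = x :=
  trivial_rot 0 (H.trivial_rev (i := 2) (by decide)) (by decide)

theorem r2_0_1 : ∀ x : α, path g [0, 0, 2, 0, 0, 2] x = x :=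
  trivial_rot 1 (H.trivial_rev (i := 2) (by decide)) (by decide)

theorem r2_0_2 : ∀ x : α, path g [0, 2, 0, 0, 2, 0] x = x :=
  trivial_rot 2 (H.trivial_rev (i := 2) (by decide)) (by decide)

theorem r2_1_0 : ∀ x : α, path g [5, 5, 7, 5, 5, 7] x = x :=
  trivial_rot 0 (H.trivial_inv (i := 2) (by decide) (by decide)) (by decide)

theorem r2_1_1 : ∀ x : α, path g [5, 7, 5, 5, 7, 5] x = x :=
  trivial_rot 1 (H.trivial_inv (i := 2) (by decide) (by decide)) (by decide)

theorem r3_0_0 : ∀ x : α, path g [1, 5, 1, 0, 1, 0] x = x :=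
  trivial_rot 0 (H.trivial_rev (i := 3) (by decide)) (by decide)

theorem r3_0_3 : ∀ x : α, path g [0, 1, 0, 1, 5, 1] x = x :=
  trivial_rot 3 (H.trivial_rev (i := 3) (by decide)) (by decide)

theorem r3_0_4 : ∀ x : α, path g [1, 0, 1, 5, 1, 0] x = x :=
  trivial_rot 4 (H.trivial_rev (i := 3) (by decide)) (by decide)

theorem r3_0_5 : ∀ x : α, path g [0, 1, 5, 1, 0, 1] x = x :=
  trivial_rot 5 (H.trivial_rev (i := 3) (by decide)) (by decide)

theorem r3_1_1 : ∀ x : α, path g [6, 5, 6, 0, 6, 5] x = x :=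
  trivial_rot 1 (H.trivial_inv (i := 3) (by decide) (by decide)) (by decide)

theorem r3_1_3 : ∀ x : α, path g [6, 0, 6, 5, 6, 5] x = x :=
  trivial_rot 3 (H.trivial_inv (i := 3) (by decide) (by decide)) (by decide)

theorem r3_1_4 : ∀ x : α, path g [0, 6, 5, 6, 5, 6] x = x :=
  trivial_rot 4 (H.trivial_inv (i := 3) (by decide) (by decide)) (by decide)

theorem r4_0_1 : ∀ x : α, path g [0, 2, 0, 2, 0, 2, 0, 2] x = x :=
  trivial_rot 1 (H.trivial_rev (i := 4) (by decide)) (by decide)

theorem r4_1_1 : ∀ x : α, path g [7, 5, 7, 5, 7, 5, 7, 5] x = x :=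
  trivial_rot 1 (H.trivial_inv (i := 4) (by decide) (by decide)) (by decide)

theorem r5_0_2 : ∀ x : α, path g [7, 5, 6, 7, 0, 2, 1, 0, 2, 1, 5, 6] x = x :=
  trivial_rot 2 (H.trivial_rev (i := 5) (by decide)) (by decide)

theorem r5_0_5 : ∀ x : α, path g [7, 0, 2, 1, 0, 2, 1, 5, 6, 7, 5, 6] x = x :=
  trivial_rot 5 (H.trivial_rev (i := 5) (by decide)) (by decide)

theorem r5_0_8 : ∀ x : α, path g [1, 0, 2, 1, 5, 6, 7, 5, 6, 7, 0, 2] x = x :=
  trivial_rot 8 (H.trivial_rev (i := 5) (by decide)) (by decide)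

theorem r5_0_10 : ∀ x : α, path g [2, 1, 5, 6, 7, 5, 6, 7, 0, 2, 1, 0] x = x :=
  trivial_rot 10 (H.trivial_rev (i := 5) (by decide)) (by decide)

theorem r6_0_0 : ∀ x : α, path g [5, 5, 6, 5, 7, 5, 6, 5, 8, 2, 3] x = x :=
  trivial_rot 0 (H.trivial_rev (i := 6) (by decide)) (by decide)

theorem r6_0_1 : ∀ x : α, path g [5, 6, 5, 7, 5, 6, 5, 8, 2, 3, 5] x = x :=
  trivial_rot 1 (H.trivial_rev (i := 6) (by decide)) (by decide)

theorem r6_0_3 : ∀ x : α, path g [5, 7, 5, 6, 5, 8, 2, 3, 5, 5, 6] x = x :=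
  trivial_rot 3 (H.trivial_rev (i := 6) (by decide)) (by decide)

theorem r6_0_4 : ∀ x : α, path g [7, 5, 6, 5, 8, 2, 3, 5, 5, 6, 5] x = x :=
  trivial_rot 4 (H.trivial_rev (i := 6) (by decide)) (by decide)

theorem r6_0_7 : ∀ x : α, path g [5, 8, 2, 3, 5, 5, 6, 5, 7, 5, 6] x = x :=
  trivial_rot 7 (H.trivial_rev (i := 6) (by decide)) (by decide)

theorem r6_0_8 : ∀ x : α, path g [8, 2, 3, 5, 5, 6, 5, 7, 5, 6, 5] x = x :=
  trivial_rot 8 (H.trivial_rev (i := 6) (by decide)) (by decide)

theorem r6_0_10 : ∀ x : α, path g [3, 5, 5, 6, 5, 7, 5, 6, 5, 8, 2] x = x :=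
  trivial_rot 10 (H.trivial_rev (i := 6) (by decide)) (by decide)

theorem r6_1_0 : ∀ x : α, path g [8, 7, 3, 0, 1, 0, 2, 0, 1, 0, 0] x = x :=
  trivial_rot 0 (H.trivial_inv (i := 6) (by decide) (by decide)) (by decide)

theorem r6_1_2 : ∀ x : α, path g [3, 0, 1, 0, 2, 0, 1, 0, 0, 8, 7] x = x :=
  trivial_rot 2 (H.trivial_inv (i := 6) (by decide) (by decide)) (by decide)

theorem r6_1_3 : ∀ x : α, path g [0, 1, 0, 2, 0, 1, 0, 0, 8, 7, 3] x = x :=
  trivial_rot 3 (H.trivial_inv (i := 6) (by decide) (by decide)) (by decide)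

theorem r6_1_5 : ∀ x : α, path g [0, 2, 0, 1, 0, 0, 8, 7, 3, 0, 1] x = x :=
  trivial_rot 5 (H.trivial_inv (i := 6) (by decide) (by decide)) (by decide)

theorem r6_1_6 : ∀ x : α, path g [2, 0, 1, 0, 0, 8, 7, 3, 0, 1, 0] x = x :=
  trivial_rot 6 (H.trivial_inv (i := 6) (by decide) (by decide)) (by decide)

theorem r6_1_7 : ∀ x : α, path g [0, 1, 0, 0, 8, 7, 3, 0, 1, 0, 2] x = x :=
  trivial_rot 7 (H.trivial_inv (i := 6) (by decide) (by decide)) (by decide)

theorem r7_0_1 : ∀ x : α, path g [5, 7, 5, 6, 8, 0, 3, 6] x = x :=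
  trivial_rot 1 (H.trivial_rev (i := 7) (by decide)) (by decide)

theorem r7_0_2 : ∀ x : α, path g [7, 5, 6, 8, 0, 3, 6, 5] x = x :=
  trivial_rot 2 (H.trivial_rev (i := 7) (by decide)) (by decide)

theorem r7_0_3 : ∀ x : α, path g [5, 6, 8, 0, 3, 6, 5, 7] x = x :=
  trivial_rot 3 (H.trivial_rev (i := 7) (by decide)) (by decide)

theorem r7_0_5 : ∀ x : α, path g [8, 0, 3, 6, 5, 7, 5, 6] x = x :=
  trivial_rot 5 (H.trivial_rev (i := 7) (by decide)) (by decide)

theorem r7_1_0 : ∀ x : α, path g [8, 5, 3, 1, 0, 2, 0, 1] x = x :=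
  trivial_rot 0 (H.trivial_inv (i := 7) (by decide) (by decide)) (by decide)

theorem r7_1_1 : ∀ x : α, path g [5, 3, 1, 0, 2, 0, 1, 8] x = x :=
  trivial_rot 1 (H.trivial_inv (i := 7) (by decide) (by decide)) (by decide)

theorem r7_1_2 : ∀ x : α, path g [3, 1, 0, 2, 0, 1, 8, 5] x = x :=
  trivial_rot 2 (H.trivial_inv (i := 7) (by decide) (by decide)) (by decide)

theorem r7_1_4 : ∀ x : α, path g [0, 2, 0, 1, 8, 5, 3, 1] x = x :=
  trivial_rot 4 (H.trivial_inv (i := 7) (by decide) (by decide)) (by decide)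

theorem r7_1_5 : ∀ x : α, path g [2, 0, 1, 8, 5, 3, 1, 0] x = x :=
  trivial_rot 5 (H.trivial_inv (i := 7) (by decide) (by decide)) (by decide)

theorem r7_1_6 : ∀ x : α, path g [0, 1, 8, 5, 3, 1, 0, 2] x = x :=
  trivial_rot 6 (H.trivial_inv (i := 7) (by decide) (by decide)) (by decide)

theorem r8_0_0 : ∀ x : α, path g [7, 5, 8, 1, 0, 2, 0, 1, 3] x = x :=
  trivial_rot 0 (H.trivial_rev (i := 8) (by decide)) (by decide)

theorem r8_0_1 : ∀ x : α, path g [5, 8, 1, 0, 2, 0, 1, 3, 7] x = x :=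
  trivial_rot 1 (H.trivial_rev (i := 8) (by decide)) (by decide)

theorem r8_1_1 : ∀ x : α, path g [6, 5, 7, 5, 6, 3, 0, 2, 8] x = x :=
  trivial_rot 1 (H.trivial_inv (i := 8) (by decide) (by decide)) (by decide)

theorem r8_1_2 : ∀ x : α, path g [5, 7, 5, 6, 3, 0, 2, 8, 6] x = x :=
  trivial_rot 2 (H.trivial_inv (i := 8) (by decide) (by decide)) (by decide)

theorem r8_1_5 : ∀ x : α, path g [6, 3, 0, 2, 8, 6, 5, 7, 5] x = x :=
  trivial_rot 5 (H.trivial_inv (i := 8) (by decide) (by decide)) (by decide)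

theorem r8_1_6 : ∀ x : α, path g [3, 0, 2, 8, 6, 5, 7, 5, 6] x = x :=
  trivial_rot 6 (H.trivial_inv (i := 8) (by decide) (by decide)) (by decide)

theorem r8_1_7 : ∀ x : α, path g [0, 2, 8, 6, 5, 7, 5, 6, 3] x = x :=
  trivial_rot 7 (H.trivial_inv (i := 8) (by decide) (by decide)) (by decide)

theorem r8_1_8 : ∀ x : α, path g [2, 8, 6, 5, 7, 5, 6, 3, 0] x = x :=
  trivial_rot 8 (H.trivial_inv (i := 8) (by decide) (by decide)) (by decide)

theorem r9_0_0 : ∀ x : α, path g [3, 3, 3] x = x :=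
  trivial_rot 0 (H.trivial_rev (i := 9) (by decide)) (by decide)

theorem r9_1_0 : ∀ x : α, path g [8, 8, 8] x = x :=
  trivial_rot 0 (H.trivial_inv (i := 9) (by decide) (by decide)) (by decide)

theorem r10_0_0 : ∀ x : α, path g [5, 5, 5, 7, 5, 9, 2, 4] x = x :=
  trivial_rot 0 (H.trivial_rev (i := 10) (by decide)) (by decide)

theorem r10_0_1 : ∀ x : α, path g [5, 5, 7, 5, 9, 2, 4, 5] x = x :=
  trivial_rot 1 (H.trivial_rev (i := 10) (by decide)) (by decide)

theorem r10_0_2 : ∀ x : α, path g [5, 7, 5, 9, 2, 4, 5, 5] x = x :=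
  trivial_rot 2 (H.trivial_rev (i := 10) (by decide)) (by decide)

theorem r10_0_3 : ∀ x : α, path g [7, 5, 9, 2, 4, 5, 5, 5] x = x :=
  trivial_rot 3 (H.trivial_rev (i := 10) (by decide)) (by decide)

theorem r10_0_5 : ∀ x : α, path g [9, 2, 4, 5, 5, 5, 7, 5] x = x :=
  trivial_rot 5 (H.trivial_rev (i := 10) (by decide)) (by decide)

theorem r10_1_0 : ∀ x : α, path g [9, 7, 4, 0, 2, 0, 0, 0] x = x :=
  trivial_rot 0 (H.trivial_inv (i := 10) (by decide) (by decide)) (by decide)

theorem r10_1_2 : ∀ x : α, path g [4, 0, 2, 0, 0, 0, 9, 7] x = x :=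
  trivial_rot 2 (H.trivial_inv (i := 10) (by decide) (by decide)) (by decide)

theorem r10_1_5 : ∀ x : α, path g [0, 0, 0, 9, 7, 4, 0, 2] x = x :=
  trivial_rot 5 (H.trivial_inv (i := 10) (by decide) (by decide)) (by decide)

theorem r11_0_8 : ∀ x : α, path g [0, 2, 0, 4, 5, 6, 5, 7, 5, 6, 7, 9] x = x :=
  trivial_rot 8 (H.trivial_rev (i := 11) (by decide)) (by decide)

theorem r11_0_10 : ∀ x : α, path g [0, 4, 5, 6, 5, 7, 5, 6, 7, 9, 0, 2] x = x :=
  trivial_rot 10 (H.trivial_rev (i := 11) (by decide)) (by decide)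

theorem r11_1_1 : ∀ x : α, path g [5, 7, 5, 4, 2, 1, 0, 2, 0, 1, 0, 9] x = x :=
  trivial_rot 1 (H.trivial_inv (i := 11) (by decide) (by decide)) (by decide)

theorem r11_1_9 : ∀ x : α, path g [0, 1, 0, 9, 5, 7, 5, 4, 2, 1, 0, 2] x = x :=
  trivial_rot 9 (H.trivial_inv (i := 11) (by decide) (by decide)) (by decide)

theorem r12_0_2 : ∀ x : α, path g [5, 6, 7, 5, 6, 9, 1, 1, 0, 1, 4, 5, 5] x = x :=
  trivial_rot 2 (H.trivial_rev (i := 12) (by decide)) (by decide)

theorem r12_0_6 : ∀ x : α, path g [6, 9, 1, 1, 0, 1, 4, 5, 5, 5, 6, 7, 5] x = x :=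
  trivial_rot 6 (H.trivial_rev (i := 12) (by decide)) (by decide)

theorem r12_0_8 : ∀ x : α, path g [1, 1, 0, 1, 4, 5, 5, 5, 6, 7, 5, 6, 9] x = x :=
  trivial_rot 8 (H.trivial_rev (i := 12) (by decide)) (by decide)

theorem r12_0_10 : ∀ x : α, path g [0, 1, 4, 5, 5, 5, 6, 7, 5, 6, 9, 1, 1] x = x :=
  trivial_rot 10 (H.trivial_rev (i := 12) (by decide)) (by decide)

theorem r12_0_11 : ∀ x : α, path g [1, 4, 5, 5, 5, 6, 7, 5, 6, 9, 1, 1, 0] x = x :=
  trivial_rot 11 (H.trivial_rev (i := 12) (by decide)) (by decide)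

theorem r12_1_1 : ∀ x : α, path g [6, 5, 6, 6, 4, 1, 0, 2, 1, 0, 0, 0, 9] x = x :=
  trivial_rot 1 (H.trivial_inv (i := 12) (by decide) (by decide)) (by decide)

theorem r12_1_2 : ∀ x : α, path g [5, 6, 6, 4, 1, 0, 2, 1, 0, 0, 0, 9, 6] x = x :=
  trivial_rot 2 (H.trivial_inv (i := 12) (by decide) (by decide)) (by decide)

theorem r12_1_3 : ∀ x : α, path g [6, 6, 4, 1, 0, 2, 1, 0, 0, 0, 9, 6, 5] x = x :=
  trivial_rot 3 (H.trivial_inv (i := 12) (by decide) (by decide)) (by decide)

theorem r12_1_11 : ∀ x : α, path g [0, 0, 9, 6, 5, 6, 6, 4, 1, 0, 2, 1, 0] x = x :=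
  trivial_rot 11 (H.trivial_inv (i := 12) (by decide) (by decide)) (by decide)

theorem r13_0_0 : ∀ x : α, path g [4, 4, 4] x = x :=
  trivial_rot 0 (H.trivial_rev (i := 13) (by decide)) (by decide)

theorem r13_1_0 : ∀ x : α, path g [9, 9, 9] x = x :=
  trivial_rot 0 (H.trivial_inv (i := 13) (by decide) (by decide)) (by decide)

theorem r14_0_0 : ∀ x : α, path g [9, 8, 4, 3] x = x :=
  trivial_rot 0 (H.trivial_rev (i := 14) (by decide)) (by decide)

theorem r14_0_1 : ∀ x : α, path g [8, 4, 3, 9] x = x :=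
  trivial_rot 1 (H.trivial_rev (i := 14) (by decide)) (by decide)

theorem r14_0_3 : ∀ x : α, path g [3, 9, 8, 4] x = x :=
  trivial_rot 3 (H.trivial_rev (i := 14) (by decide)) (by decide)

theorem r14_1_0 : ∀ x : α, path g [8, 9, 3, 4] x = x :=
  trivial_rot 0 (H.trivial_inv (i := 14) (by decide) (by decide)) (by decide)

theorem r14_1_1 : ∀ x : α, path g [9, 3, 4, 8] x = x :=
  trivial_rot 1 (H.trivial_inv (i := 14) (by decide) (by decide)) (by decide)

theorem r14_1_2 : ∀ x : α, path g [3, 4, 8, 9] x = x :=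
  trivial_rot 2 (H.trivial_inv (i := 14) (by decide) (by decide)) (by decide)

theorem r14_1_3 : ∀ x : α, path g [4, 8, 9, 3] x = x :=
  trivial_rot 3 (H.trivial_inv (i := 14) (by decide) (by decide)) (by decide)

theorem r15_0_1 : ∀ x : α, path g [2, 3, 1, 2, 3, 1, 2, 3, 1, 2, 3, 1, 2, 3, 1, 2, 3, 1, 2, 3, 1] x = x :=
  trivial_rot 1 (H.trivial_rev (i := 15) (by decide)) (by decide)

theorem r16_1_1 : ∀ x : α, path g [6, 6, 9, 6, 6, 9, 6, 6, 9, 6, 6, 9, 6, 6, 9, 6, 6, 9, 6, 6, 9] x = x :=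
  trivial_rot 1 (H.trivial_inv (i := 16) (by decide) (by decide)) (by decide)

theorem r17_0_0 : ∀ x : α, path g [0, 1, 3, 0, 1, 3, 0, 1, 3] x = x :=
  trivial_rot 0 (H.trivial_rev (i := 17) (by decide)) (by decide)

theorem r17_0_1 : ∀ x : α, path g [1, 3, 0, 1, 3, 0, 1, 3, 0] x = x :=
  trivial_rot 1 (H.trivial_rev (i := 17) (by decide)) (by decide)

theorem r17_1_0 : ∀ x : α, path g [8, 6, 5, 8, 6, 5, 8, 6, 5] x = x :=
  trivial_rot 0 (H.trivial_inv (i := 17) (by decide) (by decide)) (by decide)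

theorem r17_1_1 : ∀ x : α, path g [6, 5, 8, 6, 5, 8, 6, 5, 8] x = x :=
  trivial_rot 1 (H.trivial_inv (i := 17) (by decide) (by decide)) (by decide)

theorem r17_1_2 : ∀ x : α, path g [5, 8, 6, 5, 8, 6, 5, 8, 6] x = x :=
  trivial_rot 2 (H.trivial_inv (i := 17) (by decide) (by decide)) (by decide)

theorem r18_0_9 : ∀ x : α, path g [4, 1, 2, 4, 1, 2, 4, 6, 5, 7, 6, 5, 7, 5, 1, 2] x = x :=
  trivial_rot 9 (H.trivial_rev (i := 18) (by decide)) (by decide)

theorem r18_0_11 : ∀ x : α, path g [2, 4, 1, 2, 4, 6, 5, 7, 6, 5, 7, 5, 1, 2, 4, 1] x = x :=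
  trivial_rot 11 (H.trivial_rev (i := 18) (by decide)) (by decide)

theorem r18_1_0 : ∀ x : α, path g [9, 7, 6, 9, 7, 6, 9, 7, 6, 0, 2, 0, 1, 2, 0, 1] x = x :=
  trivial_rot 0 (H.trivial_inv (i := 18) (by decide) (by decide)) (by decide)

theorem r18_1_1 : ∀ x : α, path g [7, 6, 9, 7, 6, 9, 7, 6, 0, 2, 0, 1, 2, 0, 1, 9] x = x :=
  trivial_rot 1 (H.trivial_inv (i := 18) (by decide) (by decide)) (by decide)

theorem r18_1_2 : ∀ x : α, path g [6, 9, 7, 6, 9, 7, 6, 0, 2, 0, 1, 2, 0, 1, 9, 7] x = x :=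
  trivial_rot 2 (H.trivial_inv (i := 18) (by decide) (by decide)) (by decide)

theorem r18_1_5 : ∀ x : α, path g [6, 9, 7, 6, 0, 2, 0, 1, 2, 0, 1, 9, 7, 6, 9, 7] x = x :=
  trivial_rot 5 (H.trivial_inv (i := 18) (by decide) (by decide)) (by decide)

theorem f0 : g 0 • path g [] p = path g [] p :=
  H.base (i := 0) (by decide)

theorem f1 : g 5 • path g [] p = path g [] p :=
  H.back (i := 0) (by decide) (f0 H)

theorem f2 : g 1 • path g [] p = path g [] p :=
  H.base (i := 1) (by decide)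

theorem f3 : g 6 • path g [] p = path g [] p :=
  H.back (i := 1) (by decide) (f2 H)

theorem f4 : g 2 • path g [] p = path g [] p :=
  H.base (i := 2) (by decide)

theorem f5 : g 7 • path g [] p = path g [] p :=
  H.back (i := 2) (by decide) (f4 H)

theorem f6 : g 3 • path g [] p = path g [3] p :=
  rfl

theorem f7 : g 8 • path g [3] p = path g [] p :=
  H.back (i := 3) (by decide) (f6 H)

theorem f8 : g 4 • path g [] p = path g [4] p :=
  rfl

theorem f9 : g 9 • path g [4] p = path g [] p :=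
  H.back (i := 4) (by decide) (f8 H)

theorem f10 : g 8 • path g [] p = path g [8] p :=
  rfl

theorem f11 : g 3 • path g [8] p = path g [] p :=
  H.back (i := 8) (by decide) (f10 H)

theorem f12 : g 8 • path g [8] p = path g [3] p :=
  scan (u := [8]) (w := [8]) (i := 8) (r9_1_0 H) (step (f10 H) rfl) (step (H.back (i := 3) (by decide) (f6 H)) rfl)

theorem f13 : g 3 • path g [3] p = path g [8] p :=
  H.back (i := 8) (by decide) (f12 H)

theorem f14 : g 0 • path g [8] p = path g [8] p :=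
  scan (u := [8]) (w := [3, 6, 5, 7, 5, 6]) (i := 0) (r7_0_5 H) (step (f10 H) rfl) (step (H.back (i := 8) (by decide) (f10 H)) (step (H.back (i := 1) (by decide) (f2 H)) (step (H.back (i := 0) (by decide) (f0 H)) (step (H.back (i := 2) (by decide) (f4 H)) (step (H.back (i := 0) (by decide) (f0 H)) (step (H.back (i := 1) (by decide) (f2 H)) rfl))))))

theorem f15 : g 5 • path g [8] p = path g [8] p :=
  H.back (i := 0) (by decide) (f14 H)

theorem f16 : g 2 • path g [8] p = path g [8] p :=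
  scan (u := [8]) (w := [3, 5, 5, 6, 5, 7, 5, 6, 5]) (i := 2) (r6_0_8 H) (step (f10 H) rfl) (step (H.back (i := 8) (by decide) (f10 H)) (step (H.back (i := 0) (by decide) (f0 H)) (step (H.back (i := 0) (by decide) (f0 H)) (step (H.back (i := 1) (by decide) (f2 H)) (step (H.back (i := 0) (by decide) (f0 H)) (step (H.back (i := 2) (by decide) (f4 H)) (step (H.back (i := 0) (by decide) (f0 H)) (step (H.back (i := 1) (by decide) (f2 H)) (step (H.back (i := 0) (by decide) (f0 H)) rfl)))))))))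

theorem f17 : g 7 • path g [8] p = path g [8] p :=
  H.back (i := 2) (by decide) (f16 H)

theorem f18 : g 9 • path g [] p = path g [9] p :=
  rfl

theorem f19 : g 4 • path g [9] p = path g [] p :=
  H.back (i := 9) (by decide) (f18 H)

theorem f20 : g 9 • path g [9] p = path g [4] p :=
  scan (u := [9]) (w := [9]) (i := 9) (r13_1_0 H) (step (f18 H) rfl) (step (H.back (i := 4) (by decide) (f8 H)) rfl)

theorem f22 : g 2 • path g [9] p = path g [9] p :=
  scan (u := [9]) (w := [4, 5, 5, 5, 7, 5]) (i := 2) (r10_0_5 H) (step (f18 H) rfl) (step (H.back (i := 9) (by decide) (f18 H)) (step (H.back (i := 0) (by decide) (f0 H)) (step (H.back (i := 0) (by decide) (f0 H)) (step (H.back (i := 0) (by decide) (f0 H)) (step (H.back (i := 2) (by decide) (f4 H)) (step (H.back (i := 0) (by decide) (f0 H)) rfl))))))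

theorem f23 : g 7 • path g [9] p = path g [9] p :=
  H.back (i := 2) (by decide) (f22 H)

theorem f24 : g 0 • path g [3] p = path g [3, 0] p :=
  rfl

theorem f25 : g 5 • path g [3, 0] p = path g [3] p :=
  H.back (i := 0) (by decide) (f24 H)

theorem f26 : g 2 • path g [3, 0] p = path g [3] p :=
  scan (u := [0]) (w := [8, 6, 5, 7, 5, 6, 3]) (i := 2) (r8_1_7 H) (step (f24 H) rfl) (step (H.back (i := 3) (by decide) (f6 H)) (step (H.back (i := 1) (by decide) (f2 H)) (step (H.back (i := 0) (by decide) (f0 H)) (step (H.back (i := 2) (by decide) (f4 H)) (step (H.back (i := 0) (by decide) (f0 H)) (step (H.back (i := 1) (by decide) (f2 H)) (step (H.back (i := 8) (by decide) (f7 H)) rfl)))))))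

theorem f27 : g 7 • path g [3] p = path g [3, 0] p :=
  H.back (i := 2) (by decide) (f26 H)

theorem f28 : g 1 • path g [3] p = path g [3, 1] p :=
  rfl

theorem f29 : g 6 • path g [3, 1] p = path g [3] p :=
  H.back (i := 1) (by decide) (f28 H)

theorem f30 : g 2 • path g [3] p = path g [3, 2] p :=
  rfl

theorem f31 : g 7 • path g [3, 2] p = path g [3] p :=
  H.back (i := 2) (by decide) (f30 H)

theorem f32 : g 4 • path g [3] p = path g [3, 4] p :=
  rfl

theorem f34 : g 8 • path g [3, 4] p = path g [4] p :=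
  scan (u := [4]) (w := [9, 3]) (i := 8) (r14_1_3 H) (step (f32 H) rfl) (step (H.back (i := 4) (by decide) (f8 H)) (step (H.back (i := 8) (by decide) (f7 H)) rfl))

theorem f35 : g 3 • path g [4] p = path g [3, 4] p :=
  H.back (i := 8) (by decide) (f34 H)

theorem f36 : g 5 • path g [3] p = path g [3, 5] p :=
  rfl

theorem f38 : g 6 • path g [3] p = path g [3, 6] p :=
  rfl

theorem f39 : g 1 • path g [3, 6] p = path g [3] p :=
  H.back (i := 6) (by decide) (f38 H)

theorem f40 : g 6 • path g [3, 6] p = path g [3, 1] p :=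
  scan (u := [6]) (w := [6]) (i := 6) (r0_1_0 H) (step (f38 H) rfl) (step (H.back (i := 1) (by decide) (f28 H)) rfl)

theorem f41 : g 1 • path g [3, 1] p = path g [3, 6] p :=
  H.back (i := 6) (by decide) (f40 H)

theorem f42 : g 9 • path g [3] p = path g [3, 9] p :=
  rfl

theorem f44 : g 9 • path g [3, 9] p = path g [3, 4] p :=
  scan (u := [9]) (w := [9]) (i := 9) (r13_1_0 H) (step (f42 H) rfl) (step (H.back (i := 4) (by decide) (f32 H)) rfl)

theorem f45 : g 4 • path g [3, 4] p = path g [3, 9] p :=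
  H.back (i := 9) (by decide) (f44 H)

theorem f46 : g 8 • path g [3, 9] p = path g [9] p :=
  scan (u := [9]) (w := [4, 3]) (i := 8) (r14_0_0 H) (step (f42 H) rfl) (step (H.back (i := 9) (by decide) (f18 H)) (step (H.back (i := 8) (by decide) (f7 H)) rfl))

theorem f47 : g 3 • path g [9] p = path g [3, 9] p :=
  H.back (i := 8) (by decide) (f46 H)

theorem f48 : g 0 • path g [4] p = path g [4, 0] p :=
  rfl

theorem f49 : g 5 • path g [4, 0] p = path g [4] p :=
  H.back (i := 0) (by decide) (f48 H)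

theorem f50 : g 1 • path g [4] p = path g [4, 1] p :=
  rfl

theorem f51 : g 6 • path g [4, 1] p = path g [4] p :=
  H.back (i := 1) (by decide) (f50 H)

theorem f52 : g 2 • path g [4] p = path g [4, 2] p :=
  rfl

theorem f53 : g 7 • path g [4, 2] p = path g [4] p :=
  H.back (i := 2) (by decide) (f52 H)

theorem f54 : g 5 • path g [4] p = path g [4, 5] p :=
  rfl

theorem f55 : g 0 • path g [4, 5] p = path g [4] p :=
  H.back (i := 5) (by decide) (f54 H)

theorem f56 : g 6 • path g [4] p = path g [4, 6] p :=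
  rfl

theorem f57 : g 1 • path g [4, 6] p = path g [4] p :=
  H.back (i := 6) (by decide) (f56 H)

theorem f58 : g 6 • path g [4, 6] p = path g [4, 1] p :=
  scan (u := [6]) (w := [6]) (i := 6) (r0_1_0 H) (step (f56 H) rfl) (step (H.back (i := 1) (by decide) (f50 H)) rfl)

theorem f59 : g 1 • path g [4, 1] p = path g [4, 6] p :=
  H.back (i := 6) (by decide) (f58 H)

theorem f60 : g 7 • path g [4] p = path g [4, 7] p :=
  rfl

theorem f62 : g 8 • path g [4] p = path g [4, 8] p :=
  rfl

theorem f63 : g 3 • path g [4, 8] p = path g [4] p :=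
  H.back (i := 8) (by decide) (f62 H)

theorem f64 : g 8 • path g [4, 8] p = path g [3, 4] p :=
  scan (u := [8]) (w := [8]) (i := 8) (r9_1_0 H) (step (f62 H) rfl) (step (H.back (i := 3) (by decide) (f35 H)) rfl)

theorem f65 : g 3 • path g [3, 4] p = path g [4, 8] p :=
  H.back (i := 8) (by decide) (f64 H)

theorem f66 : g 9 • path g [4, 8] p = path g [8] p :=
  scan (u := [8]) (w := [3, 4]) (i := 9) (r14_1_0 H) (step (f62 H) rfl) (step (H.back (i := 8) (by decide) (f10 H)) (step (H.back (i := 9) (by decide) (f9 H)) rfl))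

theorem f67 : g 4 • path g [8] p = path g [4, 8] p :=
  H.back (i := 9) (by decide) (f66 H)

theorem f68 : g 1 • path g [8] p = path g [8, 1] p :=
  rfl

theorem f69 : g 6 • path g [8, 1] p = path g [8] p :=
  H.back (i := 1) (by decide) (f68 H)

theorem f70 : g 6 • path g [8] p = path g [8, 6] p :=
  rfl

theorem f71 : g 1 • path g [8, 6] p = path g [8] p :=
  H.back (i := 6) (by decide) (f70 H)

theorem f72 : g 6 • path g [8, 6] p = path g [8, 1] p :=
  scan (u := [6]) (w := [6]) (i := 6) (r0_1_0 H) (step (f70 H) rfl) (step (H.back (i := 1) (by decide) (f68 H)) rfl)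

theorem f73 : g 1 • path g [8, 1] p = path g [8, 6] p :=
  H.back (i := 6) (by decide) (f72 H)

theorem f74 : g 7 • path g [8, 6] p = path g [8, 1] p :=
  scan (u := [6]) (w := [6, 7]) (i := 7) (r1_1_0 H) (step (f70 H) rfl) (step (H.back (i := 1) (by decide) (f68 H)) (step (H.back (i := 2) (by decide) (f16 H)) rfl))

theorem f75 : g 2 • path g [8, 1] p = path g [8, 6] p :=
  H.back (i := 7) (by decide) (f74 H)

theorem f76 : g 9 • path g [8] p = path g [8, 9] p :=
  rfl

theorem f77 : g 4 • path g [8, 9] p = path g [8] p :=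
  H.back (i := 9) (by decide) (f76 H)

theorem f78 : g 9 • path g [8, 9] p = path g [4, 8] p :=
  scan (u := [9]) (w := [9]) (i := 9) (r13_1_0 H) (step (f76 H) rfl) (step (H.back (i := 4) (by decide) (f67 H)) rfl)

theorem f79 : g 4 • path g [4, 8] p = path g [8, 9] p :=
  H.back (i := 9) (by decide) (f78 H)

theorem f80 : g 8 • path g [8, 9] p = path g [3, 9] p :=
  scan (u := [9]) (w := [4, 3]) (i := 8) (r14_0_0 H) (step (f76 H) rfl) (step (H.back (i := 9) (by decide) (f42 H)) (step (H.back (i := 8) (by decide) (f12 H)) rfl))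

theorem f82 : g 3 • path g [8, 9] p = path g [9] p :=
  scan (u := [9]) (w := [4, 8]) (i := 3) (r14_1_1 H) (step (f76 H) rfl) (step (H.back (i := 9) (by decide) (f18 H)) (step (H.back (i := 3) (by decide) (f11 H)) rfl))

theorem f83 : g 8 • path g [9] p = path g [8, 9] p :=
  H.back (i := 3) (by decide) (f82 H)

theorem f84 : g 2 • path g [8, 9] p = path g [8, 9] p :=
  scan (u := [9]) (w := [4, 5, 5, 5, 7, 5]) (i := 2) (r10_0_5 H) (step (f76 H) rfl) (step (H.back (i := 9) (by decide) (f76 H)) (step (H.back (i := 0) (by decide) (f14 H)) (step (H.back (i := 0) (by decide) (f14 H)) (step (H.back (i := 0) (by decide) (f14 H)) (step (H.back (i := 2) (by decide) (f16 H)) (step (H.back (i := 0) (by decide) (f14 H)) rfl))))))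

theorem f85 : g 7 • path g [8, 9] p = path g [8, 9] p :=
  H.back (i := 2) (by decide) (f84 H)

theorem f86 : g 0 • path g [9] p = path g [9, 0] p :=
  rfl

theorem f87 : g 5 • path g [9, 0] p = path g [9] p :=
  H.back (i := 0) (by decide) (f86 H)

theorem f88 : g 1 • path g [9] p = path g [9, 1] p :=
  rfl

theorem f89 : g 6 • path g [9, 1] p = path g [9] p :=
  H.back (i := 1) (by decide) (f88 H)

theorem f90 : g 5 • path g [9] p = path g [9, 5] p :=
  rfl

theorem f91 : g 0 • path g [9, 5] p = path g [9] p :=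
  H.back (i := 5) (by decide) (f90 H)

theorem f92 : g 7 • path g [9, 5] p = path g [9, 0] p :=
  scan (u := [5]) (w := [5, 4, 2, 1, 0, 2, 0, 1, 0, 9]) (i := 7) (r11_1_1 H) (step (f90 H) rfl) (step (H.back (i := 0) (by decide) (f86 H)) (step (H.back (i := 9) (by decide) (f18 H)) (step (H.back (i := 7) (by decide) (f5 H)) (step (H.back (i := 6) (by decide) (f3 H)) (step (H.back (i := 5) (by decide) (f1 H)) (step (H.back (i := 7) (by decide) (f5 H)) (step (H.back (i := 5) (by decide) (f1 H)) (step (H.back (i := 6) (by decide) (f3 H)) (step (H.back (i := 5) (by decide) (f1 H)) (step (H.back (i := 4) (by decide) (f19 H)) rfl))))))))))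

theorem f94 : g 6 • path g [9] p = path g [9, 6] p :=
  rfl

theorem f95 : g 1 • path g [9, 6] p = path g [9] p :=
  H.back (i := 6) (by decide) (f94 H)

theorem f96 : g 6 • path g [9, 6] p = path g [9, 1] p :=
  scan (u := [6]) (w := [6]) (i := 6) (r0_1_0 H) (step (f94 H) rfl) (step (H.back (i := 1) (by decide) (f88 H)) rfl)

theorem f97 : g 1 • path g [9, 1] p = path g [9, 6] p :=
  H.back (i := 6) (by decide) (f96 H)

theorem f98 : g 7 • path g [9, 6] p = path g [9, 1] p :=
  scan (u := [6]) (w := [6, 7]) (i := 7) (r1_1_0 H) (step (f94 H) rfl) (step (H.back (i := 1) (by decide) (f88 H)) (step (H.back (i := 2) (by decide) (f22 H)) rfl))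

theorem f99 : g 2 • path g [9, 1] p = path g [9, 6] p :=
  H.back (i := 7) (by decide) (f98 H)

theorem f100 : g 5 • path g [9, 6] p = path g [9, 6] p :=
  scan (u := [6]) (w := [6, 6, 4, 1, 0, 2, 1, 0, 0, 0, 9]) (i := 5) (r12_1_1 H) (step (f94 H) rfl) (step (H.back (i := 1) (by decide) (f97 H)) (step (H.back (i := 1) (by decide) (f88 H)) (step (H.back (i := 9) (by decide) (f18 H)) (step (H.back (i := 6) (by decide) (f3 H)) (step (H.back (i := 5) (by decide) (f1 H)) (step (H.back (i := 7) (by decide) (f5 H)) (step (H.back (i := 6) (by decide) (f3 H)) (step (H.back (i := 5) (by decide) (f1 H)) (step (H.back (i := 5) (by decide) (f1 H)) (step (H.back (i := 5) (by decide) (f1 H)) (step (H.back (i := 4) (by decide) (f19 H)) rfl)))))))))))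

theorem f101 : g 0 • path g [9, 6] p = path g [9, 6] p :=
  H.back (i := 5) (by decide) (f100 H)

theorem f102 : g 0 • path g [3, 0] p = path g [3, 0, 0] p :=
  rfl

theorem f104 : g 2 • path g [3, 0, 0] p = path g [3, 5] p :=
  scan (u := [0]) (w := [0, 0, 2, 0]) (i := 2) (r2_0_2 H) (step (f102 H) rfl) (step (H.back (i := 5) (by decide) (f36 H)) (step (H.back (i := 5) (by decide) (f25 H)) (step (H.back (i := 7) (by decide) (f27 H)) (step (H.back (i := 5) (by decide) (f25 H)) rfl))))

theorem f106 : g 1 • path g [3, 0] p = path g [3, 0, 1] p :=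
  rfl

theorem f107 : g 6 • path g [3, 0, 1] p = path g [3, 0] p :=
  H.back (i := 1) (by decide) (f106 H)

theorem f112 : g 6 • path g [3, 0] p = path g [3, 0, 6] p :=
  rfl

theorem f114 : g 6 • path g [3, 0, 6] p = path g [3, 0, 1] p :=
  scan (u := [6]) (w := [6]) (i := 6) (r0_1_0 H) (step (f112 H) rfl) (step (H.back (i := 1) (by decide) (f106 H)) rfl)

theorem f116 : g 7 • path g [3, 0, 6] p = path g [3, 1] p :=
  scan (u := [6]) (w := [6, 7]) (i := 7) (r1_1_0 H) (step (f112 H) rfl) (step (H.back (i := 1) (by decide) (f28 H)) (step (H.back (i := 2) (by decide) (f26 H)) rfl))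

theorem f117 : g 2 • path g [3, 1] p = path g [3, 0, 6] p :=
  H.back (i := 7) (by decide) (f116 H)

theorem f128 : g 0 • path g [3, 1] p = path g [3, 1, 0] p :=
  rfl

theorem f129 : g 5 • path g [3, 1, 0] p = path g [3, 1] p :=
  H.back (i := 0) (by decide) (f128 H)

theorem f130 : g 3 • path g [3, 1] p = path g [3, 1, 3] p :=
  rfl

theorem f131 : g 8 • path g [3, 1, 3] p = path g [3, 1] p :=
  H.back (i := 3) (by decide) (f130 H)

theorem f132 : g 4 • path g [3, 1] p = path g [3, 1, 4] p :=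
  rfl

theorem f133 : g 9 • path g [3, 1, 4] p = path g [3, 1] p :=
  H.back (i := 4) (by decide) (f132 H)

theorem f134 : g 5 • path g [3, 1] p = path g [3, 1, 5] p :=
  rfl

theorem f135 : g 0 • path g [3, 1, 5] p = path g [3, 1] p :=
  H.back (i := 5) (by decide) (f134 H)

theorem f136 : g 7 • path g [3, 1] p = path g [3, 1, 7] p :=
  rfl

theorem f138 : g 8 • path g [3, 1] p = path g [3, 1, 8] p :=
  rfl

theorem f140 : g 8 • path g [3, 1, 8] p = path g [3, 1, 3] p :=
  scan (u := [8]) (w := [8]) (i := 8) (r9_1_0 H) (step (f138 H) rfl) (step (H.back (i := 3) (by decide) (f130 H)) rfl)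

theorem f141 : g 3 • path g [3, 1, 3] p = path g [3, 1, 8] p :=
  H.back (i := 8) (by decide) (f140 H)

theorem f142 : g 9 • path g [3, 1] p = path g [3, 1, 9] p :=
  rfl

theorem f143 : g 4 • path g [3, 1, 9] p = path g [3, 1] p :=
  H.back (i := 9) (by decide) (f142 H)

theorem f144 : g 9 • path g [3, 1, 9] p = path g [3, 1, 4] p :=
  scan (u := [9]) (w := [9]) (i := 9) (r13_1_0 H) (step (f142 H) rfl) (step (H.back (i := 4) (by decide) (f132 H)) rfl)

theorem f145 : g 4 • path g [3, 1, 4] p = path g [3, 1, 9] p :=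
  H.back (i := 9) (by decide) (f144 H)

theorem f148 : g 1 • path g [3, 2] p = path g [3, 2, 1] p :=
  rfl

theorem f150 : g 2 • path g [3, 2, 1] p = path g [3, 6] p :=
  scan (u := [1]) (w := [1, 2]) (i := 2) (r1_0_1 H) (step (f148 H) rfl) (step (H.back (i := 6) (by decide) (f38 H)) (step (H.back (i := 7) (by decide) (f31 H)) rfl))

theorem f151 : g 7 • path g [3, 6] p = path g [3, 2, 1] p :=
  H.back (i := 2) (by decide) (f150 H)

theorem f154 : g 3 • path g [3, 2] p = path g [3, 2, 3] p :=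
  rfl

theorem f160 : g 6 • path g [3, 2] p = path g [3, 2, 6] p :=
  rfl

theorem f162 : g 6 • path g [3, 2, 6] p = path g [3, 2, 1] p :=
  scan (u := [6]) (w := [6]) (i := 6) (r0_1_0 H) (step (f160 H) rfl) (step (H.back (i := 1) (by decide) (f148 H)) rfl)

theorem f164 : g 8 • path g [3, 2] p = path g [3, 2, 8] p :=
  rfl

theorem f165 : g 3 • path g [3, 2, 8] p = path g [3, 2] p :=
  H.back (i := 8) (by decide) (f164 H)

theorem f166 : g 8 • path g [3, 2, 8] p = path g [3, 2, 3] p :=
  scan (u := [8]) (w := [8]) (i := 8) (r9_1_0 H) (step (f164 H) rfl) (step (H.back (i := 3) (by decide) (f154 H)) rfl)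

theorem f167 : g 3 • path g [3, 2, 3] p = path g [3, 2, 8] p :=
  H.back (i := 8) (by decide) (f166 H)

theorem f172 : g 0 • path g [3, 4] p = path g [3, 4, 0] p :=
  rfl

theorem f174 : g 1 • path g [3, 4] p = path g [3, 4, 1] p :=
  rfl

theorem f175 : g 6 • path g [3, 4, 1] p = path g [3, 4] p :=
  H.back (i := 1) (by decide) (f174 H)

theorem f176 : g 2 • path g [3, 4] p = path g [3, 4, 2] p :=
  rfl

theorem f178 : g 5 • path g [3, 4] p = path g [3, 4, 5] p :=
  rfl

theorem f180 : g 6 • path g [3, 4] p = path g [3, 4, 6] p :=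
  rfl

theorem f181 : g 1 • path g [3, 4, 6] p = path g [3, 4] p :=
  H.back (i := 6) (by decide) (f180 H)

theorem f182 : g 6 • path g [3, 4, 6] p = path g [3, 4, 1] p :=
  scan (u := [6]) (w := [6]) (i := 6) (r0_1_0 H) (step (f180 H) rfl) (step (H.back (i := 1) (by decide) (f174 H)) rfl)

theorem f183 : g 1 • path g [3, 4, 1] p = path g [3, 4, 6] p :=
  H.back (i := 6) (by decide) (f182 H)

theorem f184 : g 7 • path g [3, 4] p = path g [3, 4, 7] p :=
  rfl

theorem f185 : g 2 • path g [3, 4, 7] p = path g [3, 4] p :=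
  H.back (i := 7) (by decide) (f184 H)

theorem f208 : g 0 • path g [3, 6] p = path g [3, 6, 0] p :=
  rfl

theorem f209 : g 5 • path g [3, 6, 0] p = path g [3, 6] p :=
  H.back (i := 0) (by decide) (f208 H)

theorem f210 : g 2 • path g [3, 6] p = path g [3, 6, 2] p :=
  rfl

theorem f212 : g 1 • path g [3, 6, 2] p = path g [3, 1, 7] p :=
  scan (u := [2]) (w := [2, 1]) (i := 1) (r1_0_0 H) (step (f210 H) rfl) (step (H.back (i := 7) (by decide) (f136 H)) (step (H.back (i := 6) (by decide) (f40 H)) rfl))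

theorem f213 : g 6 • path g [3, 1, 7] p = path g [3, 6, 2] p :=
  H.back (i := 1) (by decide) (f212 H)

theorem f214 : g 3 • path g [3, 6] p = path g [3, 6, 3] p :=
  rfl

theorem f216 : g 4 • path g [3, 6] p = path g [3, 6, 4] p :=
  rfl

theorem f217 : g 9 • path g [3, 6, 4] p = path g [3, 6] p :=
  H.back (i := 4) (by decide) (f216 H)

theorem f218 : g 5 • path g [3, 6] p = path g [3, 6, 5] p :=
  rfl

theorem f219 : g 0 • path g [3, 6, 5] p = path g [3, 6] p :=
  H.back (i := 5) (by decide) (f218 H)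

theorem f220 : g 7 • path g [3, 6, 5] p = path g [3, 1, 0] p :=
  scan (u := [5]) (w := [5, 6, 8, 0, 3, 6]) (i := 7) (r7_0_1 H) (step (f218 H) rfl) (step (H.back (i := 0) (by decide) (f128 H)) (step (H.back (i := 1) (by decide) (f28 H)) (step (H.back (i := 3) (by decide) (f6 H)) (step (H.back (i := 5) (by decide) (f1 H)) (step (H.back (i := 8) (by decide) (f7 H)) (step (H.back (i := 1) (by decide) (f39 H)) rfl))))))

theorem f221 : g 2 • path g [3, 1, 0] p = path g [3, 6, 5] p :=
  H.back (i := 7) (by decide) (f220 H)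

theorem f222 : g 2 • path g [3, 6, 0] p = path g [3, 1, 5] p :=
  scan (u := [0, 0]) (w := [0, 0, 2]) (i := 2) (r2_0_1 H) (step (f219 H) (step (f208 H) rfl)) (step (H.back (i := 5) (by decide) (f134 H)) (step (H.back (i := 5) (by decide) (f129 H)) (step (H.back (i := 7) (by decide) (f220 H)) rfl)))

theorem f223 : g 7 • path g [3, 1, 5] p = path g [3, 6, 0] p :=
  H.back (i := 2) (by decide) (f222 H)

theorem f224 : g 8 • path g [3, 6] p = path g [3, 6, 8] p :=
  rfl

theorem f225 : g 3 • path g [3, 6, 8] p = path g [3, 6] p :=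
  H.back (i := 8) (by decide) (f224 H)

theorem f226 : g 8 • path g [3, 6, 8] p = path g [3, 6, 3] p :=
  scan (u := [8]) (w := [8]) (i := 8) (r9_1_0 H) (step (f224 H) rfl) (step (H.back (i := 3) (by decide) (f214 H)) rfl)

theorem f227 : g 3 • path g [3, 6, 3] p = path g [3, 6, 8] p :=
  H.back (i := 8) (by decide) (f226 H)

theorem f228 : g 5 • path g [3, 6, 8] p = path g [3, 1, 8] p :=
  scan (u := [8]) (w := [3, 1, 0, 2, 0, 1]) (i := 5) (r7_1_0 H) (step (f224 H) rfl) (step (H.back (i := 8) (by decide) (f138 H)) (step (H.back (i := 6) (by decide) (f40 H)) (step (H.back (i := 5) (by decide) (f209 H)) (step (H.back (i := 7) (by decide) (f223 H)) (step (H.back (i := 5) (by decide) (f134 H)) (step (H.back (i := 6) (by decide) (f40 H)) rfl))))))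

theorem f229 : g 0 • path g [3, 1, 8] p = path g [3, 6, 8] p :=
  H.back (i := 5) (by decide) (f228 H)

theorem f230 : g 9 • path g [3, 6] p = path g [3, 6, 9] p :=
  rfl

theorem f231 : g 4 • path g [3, 6, 9] p = path g [3, 6] p :=
  H.back (i := 9) (by decide) (f230 H)

theorem f232 : g 9 • path g [3, 6, 9] p = path g [3, 6, 4] p :=
  scan (u := [9]) (w := [9]) (i := 9) (r13_1_0 H) (step (f230 H) rfl) (step (H.back (i := 4) (by decide) (f216 H)) rfl)

theorem f233 : g 4 • path g [3, 6, 4] p = path g [3, 6, 9] p :=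
  H.back (i := 9) (by decide) (f232 H)

theorem f234 : g 0 • path g [3, 9] p = path g [3, 9, 0] p :=
  rfl

theorem f236 : g 1 • path g [3, 9] p = path g [3, 9, 1] p :=
  rfl

theorem f237 : g 6 • path g [3, 9, 1] p = path g [3, 9] p :=
  H.back (i := 1) (by decide) (f236 H)

theorem f238 : g 2 • path g [3, 9] p = path g [3, 9, 2] p :=
  rfl

theorem f240 : g 5 • path g [3, 9] p = path g [3, 9, 5] p :=
  rfl

theorem f241 : g 0 • path g [3, 9, 5] p = path g [3, 9] p :=
  H.back (i := 5) (by decide) (f240 H)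

theorem f242 : g 6 • path g [3, 9] p = path g [3, 9, 6] p :=
  rfl

theorem f243 : g 1 • path g [3, 9, 6] p = path g [3, 9] p :=
  H.back (i := 6) (by decide) (f242 H)

theorem f244 : g 6 • path g [3, 9, 6] p = path g [3, 9, 1] p :=
  scan (u := [6]) (w := [6]) (i := 6) (r0_1_0 H) (step (f242 H) rfl) (step (H.back (i := 1) (by decide) (f236 H)) rfl)

theorem f245 : g 1 • path g [3, 9, 1] p = path g [3, 9, 6] p :=
  H.back (i := 6) (by decide) (f244 H)

theorem f246 : g 7 • path g [3, 9] p = path g [3, 9, 7] p :=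
  rfl

theorem f247 : g 2 • path g [3, 9, 7] p = path g [3, 9] p :=
  H.back (i := 7) (by decide) (f246 H)

theorem f248 : g 0 • path g [4, 0] p = path g [4, 0, 0] p :=
  rfl

theorem f249 : g 5 • path g [4, 0, 0] p = path g [4, 0] p :=
  H.back (i := 0) (by decide) (f248 H)

theorem f250 : g 1 • path g [4, 0] p = path g [4, 0, 1] p :=
  rfl

theorem f251 : g 6 • path g [4, 0, 1] p = path g [4, 0] p :=
  H.back (i := 1) (by decide) (f250 H)

theorem f252 : g 2 • path g [4, 0] p = path g [4, 0, 2] p :=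
  rfl

theorem f253 : g 7 • path g [4, 0, 2] p = path g [4, 0] p :=
  H.back (i := 2) (by decide) (f252 H)

theorem f254 : g 3 • path g [4, 0] p = path g [4, 0, 3] p :=
  rfl

theorem f255 : g 8 • path g [4, 0, 3] p = path g [4, 0] p :=
  H.back (i := 3) (by decide) (f254 H)

theorem f256 : g 4 • path g [4, 0] p = path g [4, 0, 4] p :=
  rfl

theorem f258 : g 6 • path g [4, 0] p = path g [4, 0, 6] p :=
  rfl

theorem f259 : g 1 • path g [4, 0, 6] p = path g [4, 0] p :=
  H.back (i := 6) (by decide) (f258 H)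

theorem f260 : g 6 • path g [4, 0, 6] p = path g [4, 0, 1] p :=
  scan (u := [6]) (w := [6]) (i := 6) (r0_1_0 H) (step (f258 H) rfl) (step (H.back (i := 1) (by decide) (f250 H)) rfl)

theorem f261 : g 1 • path g [4, 0, 1] p = path g [4, 0, 6] p :=
  H.back (i := 6) (by decide) (f260 H)

theorem f262 : g 7 • path g [4, 0] p = path g [4, 0, 7] p :=
  rfl

theorem f264 : g 8 • path g [4, 0] p = path g [4, 0, 8] p :=
  rfl

theorem f266 : g 8 • path g [4, 0, 8] p = path g [4, 0, 3] p :=
  scan (u := [8]) (w := [8]) (i := 8) (r9_1_0 H) (step (f264 H) rfl) (step (H.back (i := 3) (by decide) (f254 H)) rfl)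

theorem f268 : g 9 • path g [4, 0] p = path g [4, 0, 9] p :=
  rfl

theorem f269 : g 4 • path g [4, 0, 9] p = path g [4, 0] p :=
  H.back (i := 9) (by decide) (f268 H)

theorem f270 : g 9 • path g [4, 0, 9] p = path g [4, 0, 4] p :=
  scan (u := [9]) (w := [9]) (i := 9) (r13_1_0 H) (step (f268 H) rfl) (step (H.back (i := 4) (by decide) (f256 H)) rfl)

theorem f271 : g 4 • path g [4, 0, 4] p = path g [4, 0, 9] p :=
  H.back (i := 9) (by decide) (f270 H)

theorem f272 : g 0 • path g [4, 1] p = path g [4, 1, 0] p :=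
  rfl

theorem f273 : g 5 • path g [4, 1, 0] p = path g [4, 1] p :=
  H.back (i := 0) (by decide) (f272 H)

theorem f274 : g 2 • path g [4, 1] p = path g [4, 1, 2] p :=
  rfl

theorem f275 : g 7 • path g [4, 1, 2] p = path g [4, 1] p :=
  H.back (i := 2) (by decide) (f274 H)

theorem f276 : g 1 • path g [4, 1, 2] p = path g [4, 7] p :=
  scan (u := [2]) (w := [2, 1]) (i := 1) (r1_0_0 H) (step (f274 H) rfl) (step (H.back (i := 7) (by decide) (f60 H)) (step (H.back (i := 6) (by decide) (f51 H)) rfl))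

theorem f277 : g 6 • path g [4, 7] p = path g [4, 1, 2] p :=
  H.back (i := 1) (by decide) (f276 H)

theorem f278 : g 4 • path g [4, 1, 2] p = path g [9, 6] p :=
  scan (u := [2]) (w := [1, 2, 4, 6, 5, 7, 6, 5, 7, 5, 1, 2, 4, 1]) (i := 4) (r18_0_11 H) (step (f274 H) rfl) (step (H.back (i := 6) (by decide) (f94 H)) (step (H.back (i := 7) (by decide) (f23 H)) (step (H.back (i := 9) (by decide) (f18 H)) (step (H.back (i := 1) (by decide) (f2 H)) (step (H.back (i := 0) (by decide) (f0 H)) (step (H.back (i := 2) (by decide) (f4 H)) (step (H.back (i := 1) (by decide) (f2 H)) (step (H.back (i := 0) (by decide) (f0 H)) (step (H.back (i := 2) (by decide) (f4 H)) (step (H.back (i := 0) (by decide) (f0 H)) (step (H.back (i := 6) (by decide) (f3 H)) (step (H.back (i := 7) (by decide) (f5 H)) (step (H.back (i := 9) (by decide) (f9 H)) (step (H.back (i := 6) (by decide) (f51 H)) rfl))))))))))))))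

theorem f279 : g 9 • path g [9, 6] p = path g [4, 1, 2] p :=
  H.back (i := 4) (by decide) (f278 H)

theorem f280 : g 3 • path g [4, 1] p = path g [4, 1, 3] p :=
  rfl

theorem f281 : g 8 • path g [4, 1, 3] p = path g [4, 1] p :=
  H.back (i := 3) (by decide) (f280 H)

theorem f282 : g 4 • path g [4, 1] p = path g [4, 1, 4] p :=
  rfl

theorem f283 : g 9 • path g [4, 1, 4] p = path g [4, 1] p :=
  H.back (i := 4) (by decide) (f282 H)

theorem f284 : g 0 • path g [4, 1, 4] p = path g [9, 1] p :=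
  scan (u := [4]) (w := [2, 0, 0, 0, 9, 7]) (i := 0) (r10_1_2 H) (step (f282 H) rfl) (step (H.back (i := 7) (by decide) (f98 H)) (step (H.back (i := 5) (by decide) (f100 H)) (step (H.back (i := 5) (by decide) (f100 H)) (step (H.back (i := 5) (by decide) (f100 H)) (step (H.back (i := 4) (by decide) (f278 H)) (step (H.back (i := 2) (by decide) (f274 H)) rfl))))))

theorem f285 : g 5 • path g [9, 1] p = path g [4, 1, 4] p :=
  H.back (i := 0) (by decide) (f284 H)

theorem f286 : g 1 • path g [9, 5] p = path g [4, 1, 4] p :=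
  scan (u := [0, 1, 0, 1, 5]) (w := []) (i := 1) (r3_0_3 H) (step (f284 H) (step (f97 H) (step (f101 H) (step (f95 H) (step (f90 H) rfl))))) rfl

theorem f287 : g 6 • path g [4, 1, 4] p = path g [9, 5] p :=
  H.back (i := 1) (by decide) (f286 H)

theorem f288 : path g [9, 0] p = path g [9, 5] p :=
  close (u := [0, 1, 5, 1, 0]) (w := [1]) (r3_0_5 H) (step (f284 H) (step (f97 H) (step (f100 H) (step (f95 H) (step (f86 H) rfl))))) (step (H.back (i := 6) (by decide) (f287 H)) rfl)

theorem f289 : path g [9, 5] p = path g [9, 0] p :=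
  (f288 H).symm

theorem f290 : g 0 • path g [9, 0] p = path g [9] p :=
  (congrArg (g 0 • ·) (f289 H).symm).trans (f91 H)

theorem f292 : g 5 • path g [9] p = path g [9, 0] p :=
  H.back (i := 0) (by decide) (f290 H)

theorem f293 : g 7 • path g [9, 0] p = path g [9, 0] p :=
  (congrArg (g 7 • ·) (f289 H).symm).trans (f92 H)

theorem f295 : g 2 • path g [9, 0] p = path g [9, 0] p :=
  H.back (i := 7) (by decide) (f293 H)

theorem f296 : g 1 • path g [9, 0] p = path g [4, 1, 4] p :=
  (congrArg (g 1 • ·) (f289 H).symm).trans (f286 H)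

theorem f298 : g 6 • path g [4, 1, 4] p = path g [9, 0] p :=
  H.back (i := 1) (by decide) (f296 H)

theorem f299 : g 5 • path g [4, 1, 4] p = path g [9, 1] p :=
  scan (u := [1]) (w := [1, 0, 1, 0]) (i := 5) (r3_0_0 H) (step (f296 H) rfl) (step (H.back (i := 6) (by decide) (f96 H)) (step (H.back (i := 5) (by decide) (f100 H)) (step (H.back (i := 6) (by decide) (f94 H)) (step (H.back (i := 5) (by decide) (f87 H)) rfl))))

theorem f300 : g 0 • path g [9, 1] p = path g [4, 1, 4] p :=
  H.back (i := 5) (by decide) (f299 H)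

theorem f301 : g 7 • path g [9, 1] p = path g [9, 6] p :=
  scan (u := [5]) (w := [5, 5, 7, 5]) (i := 7) (r2_1_1 H) (step (f299 H) rfl) (step (H.back (i := 0) (by decide) (f101 H)) (step (H.back (i := 0) (by decide) (f101 H)) (step (H.back (i := 2) (by decide) (f99 H)) (step (H.back (i := 0) (by decide) (f284 H)) rfl))))

theorem f302 : g 2 • path g [9, 6] p = path g [9, 1] p :=
  H.back (i := 7) (by decide) (f301 H)

theorem f303 : g 2 • path g [4, 1, 2] p = path g [4, 1] p :=
  scan (u := [5, 5, 5, 7, 5, 9]) (w := [4]) (i := 2) (r10_0_0 H) (step (f299 H) (step (f285 H) (step (f299 H) (step (f301 H) (step (f100 H) (step (f279 H) rfl)))))) (step (H.back (i := 9) (by decide) (f283 H)) rfl)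

theorem f305 : path g [4, 2] p = path g [4] p :=
  close (u := [7, 5, 9, 2]) (w := [4, 5, 5, 5]) (r10_0_3 H) (step (f293 H) (step (f87 H) (step (f20 H) (step (f52 H) rfl)))) (step (H.back (i := 9) (by decide) (f20 H)) (step (H.back (i := 0) (by decide) (f290 H)) (step (H.back (i := 0) (by decide) (f86 H)) (step (H.back (i := 0) (by decide) (f290 H)) rfl))))

theorem f306 : g 7 • path g [4] p = path g [4] p :=
  (congrArg (g 7 • ·) (f305 H).symm).trans (f53 H)

theorem f307 : path g [4, 7] p = path g [4] p :=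
  (f60 H).symm.trans (f306 H)

theorem f309 : g 2 • path g [4] p = path g [4] p :=
  (f52 H).trans (f305 H)

theorem f311 : g 6 • path g [4] p = path g [4, 1, 2] p :=
  (congrArg (g 6 • ·) (f307 H).symm).trans (f277 H)

theorem f312 : path g [4, 6] p = path g [4, 1, 2] p :=
  (f56 H).symm.trans (f311 H)

theorem f313 : path g [4, 1, 2] p = path g [4, 6] p :=
  (f312 H).symm

theorem f314 : g 7 • path g [4, 6] p = path g [4, 1] p :=
  (congrArg (g 7 • ·) (f313 H).symm).trans (f275 H)

theorem f316 : g 2 • path g [4, 1] p = path g [4, 6] p :=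
  H.back (i := 7) (by decide) (f314 H)

theorem f320 : g 4 • path g [4, 6] p = path g [9, 6] p :=
  (congrArg (g 4 • ·) (f313 H).symm).trans (f278 H)

theorem f322 : g 9 • path g [9, 6] p = path g [4, 6] p :=
  H.back (i := 4) (by decide) (f320 H)

theorem f323 : g 2 • path g [4, 6] p = path g [4, 1] p :=
  (congrArg (g 2 • ·) (f313 H).symm).trans (f303 H)

theorem f325 : g 7 • path g [4, 1] p = path g [4, 6] p :=
  H.back (i := 2) (by decide) (f323 H)

theorem f326 : g 7 • path g [4] p = path g [4] p :=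
  (f60 H).trans (f307 H)

theorem f327 : g 5 • path g [4, 1] p = path g [4, 1, 5] p :=
  rfl

theorem f328 : g 0 • path g [4, 1, 5] p = path g [4, 1] p :=
  H.back (i := 5) (by decide) (f327 H)

theorem f329 : g 8 • path g [4, 1] p = path g [4, 1, 8] p :=
  rfl

theorem f331 : g 8 • path g [4, 1, 8] p = path g [4, 1, 3] p :=
  scan (u := [8]) (w := [8]) (i := 8) (r9_1_0 H) (step (f329 H) rfl) (step (H.back (i := 3) (by decide) (f280 H)) rfl)

theorem f332 : g 3 • path g [4, 1, 3] p = path g [4, 1, 8] p :=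
  H.back (i := 8) (by decide) (f331 H)

theorem f333 : g 9 • path g [4, 1] p = path g [4, 1, 9] p :=
  rfl

theorem f334 : g 4 • path g [4, 1, 9] p = path g [4, 1] p :=
  H.back (i := 9) (by decide) (f333 H)

theorem f335 : g 9 • path g [4, 1, 9] p = path g [4, 1, 4] p :=
  scan (u := [9]) (w := [9]) (i := 9) (r13_1_0 H) (step (f333 H) rfl) (step (H.back (i := 4) (by decide) (f282 H)) rfl)

theorem f336 : g 4 • path g [4, 1, 4] p = path g [4, 1, 9] p :=
  H.back (i := 9) (by decide) (f335 H)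

theorem f337 : g 1 • path g [4, 5] p = path g [4, 5, 1] p :=
  rfl

theorem f338 : g 6 • path g [4, 5, 1] p = path g [4, 5] p :=
  H.back (i := 1) (by decide) (f337 H)

theorem f339 : g 2 • path g [4, 5] p = path g [4, 5, 2] p :=
  rfl

theorem f340 : g 7 • path g [4, 5, 2] p = path g [4, 5] p :=
  H.back (i := 2) (by decide) (f339 H)

theorem f341 : g 3 • path g [4, 5] p = path g [4, 5, 3] p :=
  rfl

theorem f345 : g 5 • path g [4, 5] p = path g [4, 5, 5] p :=
  rfl

theorem f346 : g 0 • path g [4, 5, 5] p = path g [4, 5] p :=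
  H.back (i := 5) (by decide) (f345 H)

theorem f347 : g 7 • path g [4, 5, 5] p = path g [4, 0, 0] p :=
  scan (u := [5]) (w := [5, 5, 7, 5]) (i := 7) (r2_1_1 H) (step (f345 H) rfl) (step (H.back (i := 0) (by decide) (f248 H)) (step (H.back (i := 0) (by decide) (f48 H)) (step (H.back (i := 2) (by decide) (f309 H)) (step (H.back (i := 0) (by decide) (f55 H)) rfl))))

theorem f349 : g 5 • path g [4, 5, 5] p = path g [4, 0, 2] p :=
  scan (u := [5]) (w := [7, 5, 9, 2, 4, 5]) (i := 5) (r10_0_1 H) (step (f345 H) rfl) (step (H.back (i := 2) (by decide) (f252 H)) (step (H.back (i := 0) (by decide) (f48 H)) (step (H.back (i := 4) (by decide) (f8 H)) (step (H.back (i := 7) (by decide) (f5 H)) (step (H.back (i := 9) (by decide) (f9 H)) (step (H.back (i := 0) (by decide) (f55 H)) rfl))))))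

theorem f350 : g 0 • path g [4, 0, 2] p = path g [4, 5, 5] p :=
  H.back (i := 5) (by decide) (f349 H)

theorem f351 : g 2 • path g [4, 0, 9] p = path g [4, 0, 9] p :=
  scan (u := [5, 7, 5, 9]) (w := [4, 5, 5]) (i := 2) (r10_0_2 H) (step (f345 H) (step (f347 H) (step (f249 H) (step (f268 H) rfl)))) (step (H.back (i := 9) (by decide) (f268 H)) (step (H.back (i := 0) (by decide) (f48 H)) (step (H.back (i := 0) (by decide) (f55 H)) rfl)))

theorem f352 : g 7 • path g [4, 0, 9] p = path g [4, 0, 9] p :=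
  H.back (i := 2) (by decide) (f351 H)

theorem f353 : path g [4, 5, 2] p = path g [4, 5] p :=
  close (u := [0, 2]) (w := [0, 0, 2, 0]) (r2_0_2 H) (step (f346 H) (step (f339 H) rfl)) (step (H.back (i := 5) (by decide) (f54 H)) (step (H.back (i := 5) (by decide) (f49 H)) (step (H.back (i := 7) (by decide) (f253 H)) (step (H.back (i := 5) (by decide) (f349 H)) rfl))))

theorem f354 : g 7 • path g [4, 5] p = path g [4, 5] p :=
  (congrArg (g 7 • ·) (f353 H).symm).trans (f340 H)

theorem f356 : g 2 • path g [4, 5] p = path g [4, 5] p :=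
  H.back (i := 7) (by decide) (f354 H)

theorem f357 : path g [4, 5, 5] p = path g [4, 0, 0] p :=
  close (u := [0, 2, 0, 2, 0, 2, 0]) (w := [2]) (r4_0_1 H) (step (f346 H) (step (f356 H) (step (f55 H) (step (f309 H) (step (f48 H) (step (f252 H) (step (f350 H) rfl))))))) (step (H.back (i := 7) (by decide) (f347 H)) rfl)

theorem f358 : g 0 • path g [4, 0, 0] p = path g [4, 5] p :=
  (congrArg (g 0 • ·) (f357 H).symm).trans (f346 H)

theorem f360 : g 5 • path g [4, 5] p = path g [4, 0, 0] p :=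
  H.back (i := 0) (by decide) (f358 H)

theorem f364 : g 5 • path g [4, 0, 0] p = path g [4, 0, 2] p :=
  (congrArg (g 5 • ·) (f357 H).symm).trans (f349 H)

theorem f365 : path g [4, 0] p = path g [4, 0, 2] p :=
  (f249 H).symm.trans (f364 H)

theorem f366 : path g [4, 0, 2] p = path g [4, 0] p :=
  (f365 H).symm

theorem f367 : g 7 • path g [4, 0] p = path g [4, 0] p :=
  (congrArg (g 7 • ·) (f366 H).symm).trans (f253 H)

theorem f368 : path g [4, 0, 7] p = path g [4, 0] p :=
  (f262 H).symm.trans (f367 H)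

theorem f373 : g 2 • path g [4, 0] p = path g [4, 0] p :=
  (f252 H).trans (f366 H)

theorem f375 : g 7 • path g [4, 0] p = path g [4, 0] p :=
  (f262 H).trans (f368 H)

theorem f376 : g 2 • path g [4, 1, 0] p = path g [4, 0, 6] p :=
  scan (u := [0, 0, 9, 6, 5, 6, 6, 4, 1, 0]) (w := [1, 0]) (i := 2) (r12_1_11 H) (step (f358 H) (step (f55 H) (step (f9 H) (step (f3 H) (step (f1 H) (step (f3 H) (step (f3 H) (step (f8 H) (step (f50 H) (step (f272 H) rfl)))))))))) (step (H.back (i := 6) (by decide) (f258 H)) (step (H.back (i := 5) (by decide) (f249 H)) rfl))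

theorem f378 : path g [4, 0, 1] p = path g [4, 1, 0] p :=
  close (u := [2, 1, 2, 1]) (w := []) (r1_0_0 H) (step (f376 H) (step (f259 H) (step (f373 H) (step (f250 H) rfl)))) rfl

theorem f379 : path g [4, 1, 0] p = path g [4, 0, 1] p :=
  (f378 H).symm

theorem f380 : g 5 • path g [4, 0, 1] p = path g [4, 1] p :=
  (congrArg (g 5 • ·) (f379 H).symm).trans (f273 H)

theorem f382 : g 0 • path g [4, 1] p = path g [4, 0, 1] p :=
  H.back (i := 5) (by decide) (f380 H)

theorem f383 : g 2 • path g [4, 0, 1] p = path g [4, 0, 6] p :=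
  (congrArg (g 2 • ·) (f379 H).symm).trans (f376 H)

theorem f385 : g 7 • path g [4, 0, 6] p = path g [4, 0, 1] p :=
  H.back (i := 2) (by decide) (f383 H)

theorem f386 : path g [4, 1, 5] p = path g [4, 5, 1] p :=
  close (u := [2, 1, 5, 6, 7, 5]) (w := [6, 7, 0, 2, 1, 0]) (r5_0_10 H) (step (f383 H) (step (f259 H) (step (f49 H) (step (f56 H) (step (f314 H) (step (f327 H) rfl)))))) (step (H.back (i := 1) (by decide) (f337 H)) (step (H.back (i := 2) (by decide) (f356 H)) (step (H.back (i := 5) (by decide) (f54 H)) (step (H.back (i := 7) (by decide) (f326 H)) (step (H.back (i := 6) (by decide) (f51 H)) (step (H.back (i := 5) (by decide) (f380 H)) rfl))))))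

theorem f387 : path g [4, 5, 1] p = path g [4, 1, 5] p :=
  (f386 H).symm

theorem f388 : g 6 • path g [4, 1, 5] p = path g [4, 5] p :=
  (congrArg (g 6 • ·) (f387 H).symm).trans (f338 H)

theorem f390 : g 1 • path g [4, 5] p = path g [4, 1, 5] p :=
  H.back (i := 6) (by decide) (f388 H)

theorem f391 : g 5 • path g [4, 6] p = path g [4, 6] p :=
  scan (u := [6, 0, 6]) (w := [6, 5]) (i := 5) (r3_1_3 H) (step (f388 H) (step (f55 H) (step (f56 H) rfl))) (step (H.back (i := 1) (by decide) (f59 H)) (step (H.back (i := 0) (by decide) (f328 H)) rfl))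

theorem f392 : g 0 • path g [4, 6] p = path g [4, 6] p :=
  H.back (i := 5) (by decide) (f391 H)

theorem f393 : g 0 • path g [4, 5, 3] p = path g [3, 4, 7] p :=
  scan (u := [6, 3]) (w := [2, 8, 6, 5, 7, 5]) (i := 0) (r8_1_5 H) (step (f388 H) (step (f341 H) rfl)) (step (H.back (i := 7) (by decide) (f184 H)) (step (H.back (i := 3) (by decide) (f35 H)) (step (H.back (i := 1) (by decide) (f57 H)) (step (H.back (i := 0) (by decide) (f392 H)) (step (H.back (i := 2) (by decide) (f316 H)) (step (H.back (i := 0) (by decide) (f328 H)) rfl))))))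

theorem f395 : path g [4, 0] p = path g [4, 5] p :=
  close (u := [1, 0, 1, 5, 1, 0]) (w := []) (r3_0_4 H) (step (f390 H) (step (f328 H) (step (f59 H) (step (f391 H) (step (f57 H) (step (f48 H) rfl)))))) rfl

theorem f396 : path g [4, 5] p = path g [4, 0] p :=
  (f395 H).symm

theorem f399 : g 1 • path g [4, 0] p = path g [4, 1, 5] p :=
  (congrArg (g 1 • ·) (f396 H).symm).trans (f390 H)

theorem f400 : path g [4, 0, 1] p = path g [4, 1, 5] p :=
  (f250 H).symm.trans (f399 H)

theorem f404 : g 3 • path g [4, 0] p = path g [4, 5, 3] p :=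
  (congrArg (g 3 • ·) (f396 H).symm).trans (f341 H)

theorem f405 : path g [4, 0, 3] p = path g [4, 5, 3] p :=
  (f254 H).symm.trans (f404 H)

theorem f408 : g 5 • path g [4, 0] p = path g [4, 0, 0] p :=
  (congrArg (g 5 • ·) (f396 H).symm).trans (f360 H)

theorem f409 : path g [4] p = path g [4, 0, 0] p :=
  (f49 H).symm.trans (f408 H)

theorem f413 : path g [4, 0, 0] p = path g [4] p :=
  (f409 H).symm

theorem f415 : g 5 • path g [4] p = path g [4, 0] p :=
  (f54 H).trans (f396 H)

theorem f430 : path g [4, 5, 3] p = path g [4, 0, 3] p :=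
  (f405 H).symm

theorem f434 : g 0 • path g [4, 0, 3] p = path g [3, 4, 7] p :=
  (congrArg (g 0 • ·) (f430 H).symm).trans (f393 H)

theorem f436 : g 5 • path g [3, 4, 7] p = path g [4, 0, 3] p :=
  H.back (i := 0) (by decide) (f434 H)

theorem f437 : path g [4, 1, 5] p = path g [4, 0, 1] p :=
  (f400 H).symm

theorem f438 : g 0 • path g [4, 0, 1] p = path g [4, 1] p :=
  (congrArg (g 0 • ·) (f437 H).symm).trans (f328 H)

theorem f440 : g 5 • path g [4, 1] p = path g [4, 0, 1] p :=
  H.back (i := 0) (by decide) (f438 H)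

theorem f444 : g 5 • path g [4, 0, 6] p = path g [4, 0, 6] p :=
  scan (u := [0, 6, 5, 6]) (w := [6]) (i := 5) (r3_1_4 H) (step (f438 H) (step (f51 H) (step (f415 H) (step (f258 H) rfl)))) (step (H.back (i := 1) (by decide) (f261 H)) rfl)

theorem f445 : g 0 • path g [4, 0, 6] p = path g [4, 0, 6] p :=
  H.back (i := 5) (by decide) (f444 H)

theorem f446 : g 2 • path g [4, 0, 6] p = path g [4, 0, 1] p :=
  scan (u := [0, 2, 0, 2, 0, 2, 0]) (w := []) (i := 2) (r4_0_1 H) (step (f438 H) (step (f316 H) (step (f392 H) (step (f323 H) (step (f382 H) (step (f383 H) (step (f445 H) rfl))))))) rfl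

theorem f447 : g 7 • path g [4, 0, 1] p = path g [4, 0, 6] p :=
  H.back (i := 2) (by decide) (f446 H)

theorem f448 : g 5 • path g [4, 8] p = path g [4, 0, 8] p :=
  scan (u := [0, 2, 0, 1, 8]) (w := [3, 1]) (i := 5) (r7_1_4 H) (step (f438 H) (step (f316 H) (step (f392 H) (step (f57 H) (step (f62 H) rfl))))) (step (H.back (i := 8) (by decide) (f264 H)) (step (H.back (i := 6) (by decide) (f251 H)) rfl))

theorem f450 : g 0 • path g [4, 0] p = path g [4] p :=
  (f248 H).trans (f413 H)

theorem f451 : g 7 • path g [4, 8] p = path g [4, 8] p :=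
  scan (u := [0, 2, 0, 1, 0, 0, 8]) (w := [3, 0, 1]) (i := 7) (r6_1_5 H) (step (f438 H) (step (f316 H) (step (f392 H) (step (f57 H) (step (f48 H) (step (f450 H) (step (f62 H) rfl))))))) (step (H.back (i := 8) (by decide) (f62 H)) (step (H.back (i := 5) (by decide) (f49 H)) (step (H.back (i := 6) (by decide) (f251 H)) rfl)))

theorem f452 : g 2 • path g [4, 8] p = path g [4, 8] p :=
  H.back (i := 7) (by decide) (f451 H)

theorem f453 : g 9 • path g [9, 1] p = path g [4, 0, 6] p :=
  scan (u := [0, 4, 5, 6, 5, 7, 5, 6, 7]) (w := [0, 2]) (i := 9) (r11_0_10 H) (step (f438 H) (step (f282 H) (step (f299 H) (step (f89 H) (step (f292 H) (step (f293 H) (step (f87 H) (step (f94 H) (step (f98 H) rfl))))))))) (step (H.back (i := 5) (by decide) (f444 H)) (step (H.back (i := 7) (by decide) (f447 H)) rfl))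

theorem f454 : g 4 • path g [4, 0, 6] p = path g [9, 1] p :=
  H.back (i := 9) (by decide) (f453 H)

theorem f455 : g 0 • path g [4, 8] p = path g [4, 0, 8] p :=
  scan (u := [5, 7, 5, 6, 8]) (w := [3, 6]) (i := 0) (r7_0_1 H) (step (f444 H) (step (f385 H) (step (f380 H) (step (f51 H) (step (f62 H) rfl))))) (step (H.back (i := 8) (by decide) (f264 H)) (step (H.back (i := 1) (by decide) (f259 H)) rfl))

theorem f457 : g 2 • path g [3, 4, 0] p = path g [4, 0, 3] p :=
  scan (u := [5, 7, 5, 6, 3, 0]) (w := [8, 6]) (i := 2) (r8_1_2 H) (step (f444 H) (step (f385 H) (step (f380 H) (step (f51 H) (step (f35 H) (step (f172 H) rfl)))))) (step (H.back (i := 3) (by decide) (f254 H)) (step (H.back (i := 1) (by decide) (f259 H)) rfl))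

theorem f458 : g 7 • path g [4, 0, 3] p = path g [3, 4, 0] p :=
  H.back (i := 2) (by decide) (f457 H)

theorem f462 : g 3 • path g [4, 6] p = path g [4, 6, 3] p :=
  rfl

theorem f463 : g 8 • path g [4, 6, 3] p = path g [4, 6] p :=
  H.back (i := 3) (by decide) (f462 H)

theorem f464 : g 8 • path g [4, 6] p = path g [4, 6, 8] p :=
  rfl

theorem f465 : g 3 • path g [4, 6, 8] p = path g [4, 6] p :=
  H.back (i := 8) (by decide) (f464 H)

theorem f466 : g 8 • path g [4, 6, 8] p = path g [4, 6, 3] p :=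
  scan (u := [8]) (w := [8]) (i := 8) (r9_1_0 H) (step (f464 H) rfl) (step (H.back (i := 3) (by decide) (f462 H)) rfl)

theorem f467 : g 3 • path g [4, 6, 3] p = path g [4, 6, 8] p :=
  H.back (i := 8) (by decide) (f466 H)

theorem f468 : g 0 • path g [4, 6, 8] p = path g [4, 1, 8] p :=
  scan (u := [8]) (w := [3, 6, 5, 7, 5, 6]) (i := 0) (r7_0_5 H) (step (f464 H) rfl) (step (H.back (i := 8) (by decide) (f329 H)) (step (H.back (i := 1) (by decide) (f50 H)) (step (H.back (i := 0) (by decide) (f450 H)) (step (H.back (i := 2) (by decide) (f373 H)) (step (H.back (i := 0) (by decide) (f48 H)) (step (H.back (i := 1) (by decide) (f57 H)) rfl))))))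

theorem f469 : g 5 • path g [4, 1, 8] p = path g [4, 6, 8] p :=
  H.back (i := 0) (by decide) (f468 H)

theorem f470 : g 2 • path g [4, 6, 8] p = path g [4, 1, 8] p :=
  scan (u := [8]) (w := [3, 5, 5, 6, 5, 7, 5, 6, 5]) (i := 2) (r6_0_8 H) (step (f464 H) rfl) (step (H.back (i := 8) (by decide) (f329 H)) (step (H.back (i := 0) (by decide) (f438 H)) (step (H.back (i := 0) (by decide) (f382 H)) (step (H.back (i := 1) (by decide) (f50 H)) (step (H.back (i := 0) (by decide) (f450 H)) (step (H.back (i := 2) (by decide) (f373 H)) (step (H.back (i := 0) (by decide) (f48 H)) (step (H.back (i := 1) (by decide) (f57 H)) (step (H.back (i := 0) (by decide) (f392 H)) rfl)))))))))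

theorem f472 : g 7 • path g [4, 6, 8] p = path g [4, 1, 8] p :=
  scan (u := [8]) (w := [3, 0, 1, 0, 2, 0, 1, 0, 0]) (i := 7) (r6_1_0 H) (step (f464 H) rfl) (step (H.back (i := 8) (by decide) (f329 H)) (step (H.back (i := 5) (by decide) (f380 H)) (step (H.back (i := 6) (by decide) (f260 H)) (step (H.back (i := 5) (by decide) (f444 H)) (step (H.back (i := 7) (by decide) (f447 H)) (step (H.back (i := 5) (by decide) (f440 H)) (step (H.back (i := 6) (by decide) (f58 H)) (step (H.back (i := 5) (by decide) (f391 H)) (step (H.back (i := 5) (by decide) (f391 H)) rfl)))))))))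

theorem f473 : g 2 • path g [4, 1, 8] p = path g [4, 6, 8] p :=
  H.back (i := 7) (by decide) (f472 H)

theorem f474 : g 9 • path g [4, 6] p = path g [4, 6, 9] p :=
  rfl

theorem f476 : g 9 • path g [4, 6, 9] p = path g [9, 6] p :=
  scan (u := [9]) (w := [9]) (i := 9) (r13_1_0 H) (step (f474 H) rfl) (step (H.back (i := 4) (by decide) (f320 H)) rfl)

theorem f477 : g 4 • path g [9, 6] p = path g [4, 6, 9] p :=
  H.back (i := 9) (by decide) (f476 H)

theorem f478 : g 1 • path g [4, 8] p = path g [4, 8, 1] p :=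
  rfl

theorem f479 : g 6 • path g [4, 8, 1] p = path g [4, 8] p :=
  H.back (i := 1) (by decide) (f478 H)

theorem f480 : g 6 • path g [4, 8] p = path g [4, 8, 6] p :=
  rfl

theorem f481 : g 1 • path g [4, 8, 6] p = path g [4, 8] p :=
  H.back (i := 6) (by decide) (f480 H)

theorem f482 : g 6 • path g [4, 8, 6] p = path g [4, 8, 1] p :=
  scan (u := [6]) (w := [6]) (i := 6) (r0_1_0 H) (step (f480 H) rfl) (step (H.back (i := 1) (by decide) (f478 H)) rfl)

theorem f484 : g 7 • path g [4, 8, 6] p = path g [4, 8, 1] p :=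
  scan (u := [6]) (w := [6, 7]) (i := 7) (r1_1_0 H) (step (f480 H) rfl) (step (H.back (i := 1) (by decide) (f478 H)) (step (H.back (i := 2) (by decide) (f452 H)) rfl))

theorem f485 : g 2 • path g [4, 8, 1] p = path g [4, 8, 6] p :=
  H.back (i := 7) (by decide) (f484 H)

theorem f486 : g 0 • path g [8, 1] p = path g [8, 1, 0] p :=
  rfl

theorem f487 : g 5 • path g [8, 1, 0] p = path g [8, 1] p :=
  H.back (i := 0) (by decide) (f486 H)

theorem f488 : g 3 • path g [8, 1] p = path g [8, 1, 3] p :=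
  rfl

theorem f490 : g 4 • path g [8, 1] p = path g [8, 1, 4] p :=
  rfl

theorem f491 : g 9 • path g [8, 1, 4] p = path g [8, 1] p :=
  H.back (i := 4) (by decide) (f490 H)

theorem f492 : g 5 • path g [8, 1] p = path g [8, 1, 5] p :=
  rfl

theorem f493 : g 0 • path g [8, 1, 5] p = path g [8, 1] p :=
  H.back (i := 5) (by decide) (f492 H)

theorem f494 : g 7 • path g [8, 1] p = path g [8, 1, 7] p :=
  rfl

theorem f495 : g 2 • path g [8, 1, 7] p = path g [8, 1] p :=
  H.back (i := 7) (by decide) (f494 H)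

theorem f496 : g 8 • path g [8, 1] p = path g [8, 1, 8] p :=
  rfl

theorem f497 : g 3 • path g [8, 1, 8] p = path g [8, 1] p :=
  H.back (i := 8) (by decide) (f496 H)

theorem f498 : g 8 • path g [8, 1, 8] p = path g [8, 1, 3] p :=
  scan (u := [8]) (w := [8]) (i := 8) (r9_1_0 H) (step (f496 H) rfl) (step (H.back (i := 3) (by decide) (f488 H)) rfl)

theorem f500 : g 9 • path g [8, 1] p = path g [8, 1, 9] p :=
  rfl

theorem f501 : g 4 • path g [8, 1, 9] p = path g [8, 1] p :=
  H.back (i := 9) (by decide) (f500 H)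

theorem f502 : g 9 • path g [8, 1, 9] p = path g [8, 1, 4] p :=
  scan (u := [9]) (w := [9]) (i := 9) (r13_1_0 H) (step (f500 H) rfl) (step (H.back (i := 4) (by decide) (f490 H)) rfl)

theorem f503 : g 4 • path g [8, 1, 4] p = path g [8, 1, 9] p :=
  H.back (i := 9) (by decide) (f502 H)

theorem f504 : g 0 • path g [8, 6] p = path g [8, 6, 0] p :=
  rfl

theorem f505 : g 5 • path g [8, 6, 0] p = path g [8, 6] p :=
  H.back (i := 0) (by decide) (f504 H)

theorem f506 : g 6 • path g [8, 6, 0] p = path g [8, 1, 0] p :=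
  scan (u := [0]) (w := [5, 6, 5, 6]) (i := 6) (r3_1_4 H) (step (f504 H) rfl) (step (H.back (i := 0) (by decide) (f486 H)) (step (H.back (i := 1) (by decide) (f68 H)) (step (H.back (i := 0) (by decide) (f14 H)) (step (H.back (i := 1) (by decide) (f71 H)) rfl))))

theorem f508 : g 5 • path g [8, 6] p = path g [8, 6, 0] p :=
  scan (u := [6, 5, 6, 0, 6]) (w := []) (i := 5) (r3_1_1 H) (step (f506 H) (step (f487 H) (step (f69 H) (step (f14 H) (step (f70 H) rfl))))) rfl

theorem f509 : g 0 • path g [8, 6, 0] p = path g [8, 6] p :=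
  H.back (i := 5) (by decide) (f508 H)

theorem f510 : path g [8, 1, 0] p = path g [8, 1, 5] p :=
  close (u := [6]) (w := [0, 6, 5, 6, 5]) (r3_1_3 H) (step (f506 H) rfl) (step (H.back (i := 5) (by decide) (f492 H)) (step (H.back (i := 1) (by decide) (f68 H)) (step (H.back (i := 0) (by decide) (f14 H)) (step (H.back (i := 1) (by decide) (f71 H)) (step (H.back (i := 0) (by decide) (f509 H)) rfl)))))

theorem f511 : path g [8, 1, 5] p = path g [8, 1, 0] p :=
  (f510 H).symm

theorem f512 : g 0 • path g [8, 1, 0] p = path g [8, 1] p :=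
  (congrArg (g 0 • ·) (f511 H).symm).trans (f493 H)

theorem f514 : g 5 • path g [8, 1] p = path g [8, 1, 0] p :=
  H.back (i := 0) (by decide) (f512 H)

theorem f515 : path g [8, 6] p = path g [8, 1, 7] p :=
  close (u := [0, 2, 0, 0]) (w := [2, 0]) (r2_0_2 H) (step (f512 H) (step (f75 H) (step (f504 H) (step (f509 H) rfl)))) (step (H.back (i := 7) (by decide) (f494 H)) (step (H.back (i := 5) (by decide) (f487 H)) rfl))

theorem f516 : path g [8, 1, 7] p = path g [8, 6] p :=
  (f515 H).symm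

theorem f517 : g 2 • path g [8, 6] p = path g [8, 1] p :=
  (congrArg (g 2 • ·) (f516 H).symm).trans (f495 H)

theorem f519 : g 7 • path g [8, 1] p = path g [8, 6] p :=
  H.back (i := 2) (by decide) (f517 H)

theorem f520 : g 7 • path g [8, 6, 0] p = path g [8, 1, 0] p :=
  scan (u := [5]) (w := [5, 6, 3, 0, 2, 8, 6]) (i := 7) (r8_1_2 H) (step (f508 H) rfl) (step (H.back (i := 0) (by decide) (f486 H)) (step (H.back (i := 1) (by decide) (f68 H)) (step (H.back (i := 8) (by decide) (f10 H)) (step (H.back (i := 5) (by decide) (f1 H)) (step (H.back (i := 7) (by decide) (f5 H)) (step (H.back (i := 3) (by decide) (f11 H)) (step (H.back (i := 1) (by decide) (f71 H)) rfl)))))))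

theorem f522 : g 8 • path g [8, 6, 0] p = path g [3, 0, 1] p :=
  scan (u := [5]) (w := [6, 5, 8, 6, 5, 8, 6]) (i := 8) (r17_1_2 H) (step (f508 H) rfl) (step (H.back (i := 1) (by decide) (f106 H)) (step (H.back (i := 0) (by decide) (f24 H)) (step (H.back (i := 3) (by decide) (f6 H)) (step (H.back (i := 1) (by decide) (f2 H)) (step (H.back (i := 0) (by decide) (f0 H)) (step (H.back (i := 3) (by decide) (f11 H)) (step (H.back (i := 1) (by decide) (f71 H)) rfl)))))))

theorem f523 : g 3 • path g [3, 0, 1] p = path g [8, 6, 0] p :=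
  H.back (i := 8) (by decide) (f522 H)

theorem f524 : g 2 • path g [8, 1, 8] p = path g [3, 0, 1] p :=
  scan (u := [5, 6, 5, 7, 5, 6, 5, 8]) (w := [3, 5]) (i := 2) (r6_0_1 H) (step (f508 H) (step (f506 H) (step (f487 H) (step (f519 H) (step (f508 H) (step (f506 H) (step (f487 H) (step (f496 H) rfl)))))))) (step (H.back (i := 8) (by decide) (f522 H)) (step (H.back (i := 0) (by decide) (f504 H)) rfl))

theorem f525 : g 7 • path g [3, 0, 1] p = path g [8, 1, 8] p :=
  H.back (i := 2) (by decide) (f524 H)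

theorem f526 : path g [3, 2, 3] p = path g [8] p :=
  close (u := [5, 7, 5, 6, 5, 8, 2, 3]) (w := [5, 5, 6]) (r6_0_3 H) (step (f508 H) (step (f520 H) (step (f487 H) (step (f69 H) (step (f15 H) (step (f12 H) (step (f30 H) (step (f154 H) rfl)))))))) (step (H.back (i := 0) (by decide) (f14 H)) (step (H.back (i := 0) (by decide) (f14 H)) (step (H.back (i := 1) (by decide) (f71 H)) rfl)))

theorem f529 : g 3 • path g [8] p = path g [3, 2, 8] p :=
  (congrArg (g 3 • ·) (f526 H).symm).trans (f167 H)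

theorem f530 : path g [] p = path g [3, 2, 8] p :=
  (f11 H).symm.trans (f529 H)

theorem f531 : path g [3, 2, 8] p = path g [] p :=
  (f530 H).symm

theorem f532 : g 3 • path g [] p = path g [3, 2] p :=
  (congrArg (g 3 • ·) (f531 H).symm).trans (f165 H)

theorem f533 : path g [3] p = path g [3, 2] p :=
  (f6 H).symm.trans (f532 H)

theorem f537 : path g [3, 2] p = path g [3] p :=
  (f533 H).symm

theorem f545 : g 2 • path g [3] p = path g [3] p :=
  (f30 H).trans (f537 H)

theorem f554 : g 6 • path g [3] p = path g [3, 2, 6] p :=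
  (congrArg (g 6 • ·) (f537 H).symm).trans (f160 H)

theorem f555 : path g [3, 6] p = path g [3, 2, 6] p :=
  (f38 H).symm.trans (f554 H)

theorem f574 : path g [3, 2, 6] p = path g [3, 6] p :=
  (f555 H).symm

theorem f578 : g 6 • path g [3, 6] p = path g [3, 2, 1] p :=
  (congrArg (g 6 • ·) (f574 H).symm).trans (f162 H)

theorem f579 : path g [3, 1] p = path g [3, 2, 1] p :=
  (f40 H).symm.trans (f578 H)

theorem f580 : path g [3, 2, 1] p = path g [3, 1] p :=
  (f579 H).symm

theorem f584 : g 2 • path g [3, 1] p = path g [3, 6] p :=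
  (congrArg (g 2 • ·) (f580 H).symm).trans (f150 H)

theorem f585 : path g [3, 0, 6] p = path g [3, 6] p :=
  (f117 H).symm.trans (f584 H)

theorem f591 : g 6 • path g [3, 6] p = path g [3, 0, 1] p :=
  (congrArg (g 6 • ·) (f585 H).symm).trans (f114 H)

theorem f592 : path g [3, 1] p = path g [3, 0, 1] p :=
  (f40 H).symm.trans (f591 H)

theorem f594 : g 7 • path g [3, 6] p = path g [3, 1] p :=
  (f151 H).trans (f580 H)

theorem f596 : path g [3, 0, 1] p = path g [3, 1] p :=
  (f592 H).symm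

theorem f597 : g 6 • path g [3, 1] p = path g [3, 0] p :=
  (congrArg (g 6 • ·) (f596 H).symm).trans (f107 H)

theorem f598 : path g [3] p = path g [3, 0] p :=
  (f29 H).symm.trans (f597 H)

theorem f602 : g 3 • path g [3, 1] p = path g [8, 6, 0] p :=
  (congrArg (g 3 • ·) (f596 H).symm).trans (f523 H)

theorem f603 : path g [3, 1, 3] p = path g [8, 6, 0] p :=
  (f130 H).symm.trans (f602 H)

theorem f604 : g 7 • path g [3, 1] p = path g [8, 1, 8] p :=
  (congrArg (g 7 • ·) (f596 H).symm).trans (f525 H)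

theorem f605 : path g [3, 1, 7] p = path g [8, 1, 8] p :=
  (f136 H).symm.trans (f604 H)

theorem f606 : path g [8, 1, 8] p = path g [3, 1, 7] p :=
  (f605 H).symm

theorem f607 : g 3 • path g [3, 1, 7] p = path g [8, 1] p :=
  (congrArg (g 3 • ·) (f606 H).symm).trans (f497 H)

theorem f609 : g 8 • path g [8, 1] p = path g [3, 1, 7] p :=
  H.back (i := 3) (by decide) (f607 H)

theorem f610 : g 8 • path g [3, 1, 7] p = path g [8, 1, 3] p :=
  (congrArg (g 8 • ·) (f606 H).symm).trans (f498 H)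

theorem f612 : g 3 • path g [8, 1, 3] p = path g [3, 1, 7] p :=
  H.back (i := 8) (by decide) (f610 H)

theorem f616 : path g [8, 6, 0] p = path g [3, 1, 3] p :=
  (f603 H).symm

theorem f617 : g 5 • path g [3, 1, 3] p = path g [8, 6] p :=
  (congrArg (g 5 • ·) (f616 H).symm).trans (f505 H)

theorem f619 : g 0 • path g [8, 6] p = path g [3, 1, 3] p :=
  H.back (i := 5) (by decide) (f617 H)

theorem f620 : g 6 • path g [3, 1, 3] p = path g [8, 1, 0] p :=
  (congrArg (g 6 • ·) (f616 H).symm).trans (f506 H)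

theorem f622 : g 1 • path g [8, 1, 0] p = path g [3, 1, 3] p :=
  H.back (i := 6) (by decide) (f620 H)

theorem f623 : g 0 • path g [3, 1, 3] p = path g [8, 6] p :=
  (congrArg (g 0 • ·) (f616 H).symm).trans (f509 H)

theorem f625 : g 5 • path g [8, 6] p = path g [3, 1, 3] p :=
  H.back (i := 0) (by decide) (f623 H)

theorem f626 : g 7 • path g [3, 1, 3] p = path g [8, 1, 0] p :=
  (congrArg (g 7 • ·) (f616 H).symm).trans (f520 H)

theorem f632 : path g [3, 0] p = path g [3] p :=
  (f598 H).symm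

theorem f637 : g 0 • path g [3] p = path g [3, 0, 0] p :=
  (congrArg (g 0 • ·) (f632 H).symm).trans (f102 H)

theorem f638 : g 0 • path g [3] p = path g [3] p :=
  (f24 H).trans (f632 H)

theorem f639 : path g [3] p = path g [3, 0, 0] p :=
  (f638 H).symm.trans (f637 H)

theorem f651 : g 7 • path g [3] p = path g [3] p :=
  (f27 H).trans (f632 H)

theorem f687 : path g [3, 0, 0] p = path g [3] p :=
  (f639 H).symm

theorem f691 : g 2 • path g [3] p = path g [3, 5] p :=
  (congrArg (g 2 • ·) (f687 H).symm).trans (f104 H)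

theorem f692 : path g [3] p = path g [3, 5] p :=
  (f545 H).symm.trans (f691 H)

theorem f693 : path g [3, 5] p = path g [3] p :=
  (f692 H).symm

theorem f708 : g 5 • path g [3] p = path g [3] p :=
  (f36 H).trans (f693 H)

theorem f777 : g 2 • path g [3, 1] p = path g [3, 6] p :=
  (f117 H).trans (f585 H)

theorem f778 : path g [3, 6, 3] p = path g [8, 1] p :=
  close (u := [5, 8, 2, 3]) (w := [5, 5, 6, 5, 7, 5, 6]) (r6_0_7 H) (step (f625 H) (step (f131 H) (step (f777 H) (step (f214 H) rfl)))) (step (H.back (i := 0) (by decide) (f512 H)) (step (H.back (i := 0) (by decide) (f486 H)) (step (H.back (i := 1) (by decide) (f68 H)) (step (H.back (i := 0) (by decide) (f14 H)) (step (H.back (i := 2) (by decide) (f16 H)) (step (H.back (i := 0) (by decide) (f14 H)) (step (H.back (i := 1) (by decide) (f71 H)) rfl)))))))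

theorem f781 : g 3 • path g [8, 1] p = path g [3, 6, 8] p :=
  (congrArg (g 3 • ·) (f778 H).symm).trans (f227 H)

theorem f782 : path g [8, 1, 3] p = path g [3, 6, 8] p :=
  (f488 H).symm.trans (f781 H)

theorem f784 : g 8 • path g [3, 6, 8] p = path g [8, 1] p :=
  (f226 H).trans (f778 H)

theorem f786 : g 3 • path g [3, 6, 8] p = path g [3, 1, 7] p :=
  (congrArg (g 3 • ·) (f782 H).symm).trans (f612 H)

theorem f787 : path g [3, 6] p = path g [3, 1, 7] p :=
  (f225 H).symm.trans (f786 H)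

theorem f788 : path g [3, 1, 7] p = path g [3, 6] p :=
  (f787 H).symm

theorem f791 : g 6 • path g [3, 6] p = path g [3, 6, 2] p :=
  (congrArg (g 6 • ·) (f788 H).symm).trans (f213 H)

theorem f792 : path g [3, 1] p = path g [3, 6, 2] p :=
  (f40 H).symm.trans (f791 H)

theorem f794 : g 3 • path g [3, 6] p = path g [8, 1] p :=
  (f214 H).trans (f778 H)

theorem f799 : path g [3, 6, 2] p = path g [3, 1] p :=
  (f792 H).symm

theorem f801 : g 7 • path g [3, 1] p = path g [3, 6] p :=
  (f136 H).trans (f788 H)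

theorem f806 : g 2 • path g [3, 1, 3] p = path g [8, 1, 0] p :=
  scan (u := [0, 0]) (w := [0, 0, 2]) (i := 2) (r2_0_1 H) (step (f623 H) (step (f619 H) rfl)) (step (H.back (i := 5) (by decide) (f514 H)) (step (H.back (i := 5) (by decide) (f487 H)) (step (H.back (i := 7) (by decide) (f626 H)) rfl)))

theorem f807 : g 7 • path g [8, 1, 0] p = path g [3, 1, 3] p :=
  H.back (i := 2) (by decide) (f806 H)

theorem f808 : g 3 • path g [3, 1, 5] p = path g [8, 1, 0] p :=
  scan (u := [0, 2, 0, 1, 8, 5]) (w := [1]) (i := 3) (r7_1_4 H) (step (f623 H) (step (f517 H) (step (f486 H) (step (f622 H) (step (f131 H) (step (f134 H) rfl)))))) (step (H.back (i := 6) (by decide) (f620 H)) rfl)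

theorem f809 : g 8 • path g [8, 1, 0] p = path g [3, 1, 5] p :=
  H.back (i := 3) (by decide) (f808 H)

theorem f810 : g 8 • path g [8, 1] p = path g [3, 6] p :=
  (f609 H).trans (f788 H)

theorem f811 : g 8 • path g [8, 6] p = path g [3, 6, 0] p :=
  scan (u := [2, 0, 1]) (w := [5, 3, 1, 0]) (i := 8) (r7_1_5 H) (step (f806 H) (step (f512 H) (step (f73 H) rfl))) (step (H.back (i := 0) (by decide) (f208 H)) (step (H.back (i := 8) (by decide) (f810 H)) (step (H.back (i := 6) (by decide) (f72 H)) (step (H.back (i := 5) (by decide) (f617 H)) rfl))))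

theorem f813 : g 3 • path g [8, 1] p = path g [3, 6, 8] p :=
  (f488 H).trans (f782 H)

theorem f814 : g 7 • path g [3, 6, 0] p = path g [3, 1, 5] p :=
  scan (u := [2, 0, 1, 0, 0, 8]) (w := [3, 0, 1, 0]) (i := 7) (r6_1_6 H) (step (f806 H) (step (f512 H) (step (f73 H) (step (f619 H) (step (f623 H) (step (f811 H) rfl)))))) (step (H.back (i := 8) (by decide) (f809 H)) (step (H.back (i := 5) (by decide) (f514 H)) (step (H.back (i := 6) (by decide) (f72 H)) (step (H.back (i := 5) (by decide) (f617 H)) rfl))))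

theorem f816 : path g [3, 6, 0] p = path g [3, 6, 5] p :=
  close (u := [8]) (w := [0, 3, 6, 5, 7, 5, 6]) (r7_0_5 H) (step (f811 H) rfl) (step (H.back (i := 5) (by decide) (f218 H)) (step (H.back (i := 8) (by decide) (f810 H)) (step (H.back (i := 1) (by decide) (f68 H)) (step (H.back (i := 0) (by decide) (f14 H)) (step (H.back (i := 2) (by decide) (f16 H)) (step (H.back (i := 0) (by decide) (f14 H)) (step (H.back (i := 1) (by decide) (f71 H)) rfl)))))))

theorem f817 : path g [3, 6, 5] p = path g [3, 6, 0] p :=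
  (f816 H).symm

theorem f818 : g 0 • path g [3, 6, 0] p = path g [3, 6] p :=
  (congrArg (g 0 • ·) (f817 H).symm).trans (f219 H)

theorem f820 : g 5 • path g [3, 6] p = path g [3, 6, 0] p :=
  H.back (i := 0) (by decide) (f818 H)

theorem f821 : g 7 • path g [3, 6, 0] p = path g [3, 1, 0] p :=
  (congrArg (g 7 • ·) (f817 H).symm).trans (f220 H)

theorem f822 : path g [3, 1, 5] p = path g [3, 1, 0] p :=
  (f814 H).symm.trans (f821 H)

theorem f823 : g 0 • path g [3, 1, 0] p = path g [3, 1] p :=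
  (congrArg (g 0 • ·) (f822 H).symm).trans (f135 H)

theorem f825 : g 5 • path g [3, 1] p = path g [3, 1, 0] p :=
  H.back (i := 0) (by decide) (f823 H)

theorem f826 : g 7 • path g [3, 1, 0] p = path g [3, 6, 0] p :=
  (congrArg (g 7 • ·) (f822 H).symm).trans (f223 H)

theorem f828 : g 2 • path g [3, 6, 0] p = path g [3, 1, 0] p :=
  H.back (i := 7) (by decide) (f826 H)

theorem f829 : g 3 • path g [3, 1, 0] p = path g [8, 1, 0] p :=
  (congrArg (g 3 • ·) (f822 H).symm).trans (f808 H)

theorem f833 : g 2 • path g [3, 1, 0] p = path g [3, 6, 0] p :=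
  (f221 H).trans (f817 H)

theorem f835 : g 7 • path g [3, 6, 0] p = path g [3, 1, 0] p :=
  (f814 H).trans (f822 H)

theorem f836 : g 2 • path g [3, 6, 9] p = path g [3, 1, 9] p :=
  scan (u := [7, 5, 9]) (w := [4, 5, 5, 5]) (i := 2) (r10_0_3 H) (step (f826 H) (step (f209 H) (step (f230 H) rfl))) (step (H.back (i := 9) (by decide) (f142 H)) (step (H.back (i := 0) (by decide) (f823 H)) (step (H.back (i := 0) (by decide) (f128 H)) (step (H.back (i := 0) (by decide) (f823 H)) rfl))))

theorem f838 : g 2 • path g [3, 6] p = path g [3, 1] p :=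
  (f210 H).trans (f799 H)

theorem f839 : g 6 • path g [3, 6, 0] p = path g [3, 1, 0] p :=
  scan (u := [0, 6, 5, 6, 5]) (w := []) (i := 6) (r3_1_4 H) (step (f823 H) (step (f29 H) (step (f708 H) (step (f38 H) (step (f820 H) rfl))))) rfl

theorem f840 : g 1 • path g [3, 1, 0] p = path g [3, 6, 0] p :=
  H.back (i := 6) (by decide) (f839 H)

theorem f841 : g 7 • path g [3, 6, 9] p = path g [3, 1, 9] p :=
  scan (u := [0, 0, 0, 9]) (w := [4, 0, 2]) (i := 7) (r10_1_5 H) (step (f818 H) (step (f208 H) (step (f818 H) (step (f230 H) rfl)))) (step (H.back (i := 9) (by decide) (f142 H)) (step (H.back (i := 5) (by decide) (f129 H)) (step (H.back (i := 7) (by decide) (f835 H)) rfl)))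

theorem f842 : g 2 • path g [3, 1, 9] p = path g [3, 6, 9] p :=
  H.back (i := 7) (by decide) (f841 H)

theorem f843 : g 7 • path g [3, 9, 5] p = path g [3, 9, 0] p :=
  scan (u := [0, 1, 0, 9, 5]) (w := [5, 4, 2, 1, 0, 2]) (i := 7) (r11_1_9 H) (step (f818 H) (step (f39 H) (step (f638 H) (step (f42 H) (step (f240 H) rfl))))) (step (H.back (i := 0) (by decide) (f234 H)) (step (H.back (i := 9) (by decide) (f42 H)) (step (H.back (i := 7) (by decide) (f651 H)) (step (H.back (i := 6) (by decide) (f29 H)) (step (H.back (i := 5) (by decide) (f129 H)) (step (H.back (i := 7) (by decide) (f835 H)) rfl))))))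

theorem f844 : g 2 • path g [3, 9, 0] p = path g [3, 9, 5] p :=
  H.back (i := 7) (by decide) (f843 H)

theorem f846 : g 3 • path g [8, 6] p = path g [8, 6, 3] p :=
  rfl

theorem f847 : g 8 • path g [8, 6, 3] p = path g [8, 6] p :=
  H.back (i := 3) (by decide) (f846 H)

theorem f848 : g 3 • path g [8, 6, 3] p = path g [3, 6, 0] p :=
  scan (u := [3]) (w := [3]) (i := 3) (r9_0_0 H) (step (f846 H) rfl) (step (H.back (i := 8) (by decide) (f811 H)) rfl)

theorem f849 : g 8 • path g [3, 6, 0] p = path g [8, 6, 3] p :=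
  H.back (i := 3) (by decide) (f848 H)

theorem f850 : g 2 • path g [3, 1, 8] p = path g [8, 6, 3] p :=
  scan (u := [3, 5, 5, 6, 5, 7, 5, 6, 5, 8]) (w := []) (i := 2) (r6_0_10 H) (step (f848 H) (step (f209 H) (step (f820 H) (step (f839 H) (step (f129 H) (step (f801 H) (step (f820 H) (step (f839 H) (step (f129 H) (step (f138 H) rfl)))))))))) rfl

theorem f854 : g 0 • path g [3, 6, 8] p = path g [3, 1, 8] p :=
  scan (u := [2, 8, 6, 5, 7, 5, 6, 3]) (w := []) (i := 0) (r8_1_8 H) (step (f850 H) (step (f847 H) (step (f72 H) (step (f514 H) (step (f807 H) (step (f617 H) (step (f72 H) (step (f813 H) rfl)))))))) rfl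

theorem f856 : g 1 • path g [3, 1, 8] p = path g [8, 6, 3] p :=
  scan (u := [0]) (w := [3, 0, 1, 3, 0, 1, 3]) (i := 1) (r17_0_0 H) (step (f854 H) rfl) (step (H.back (i := 8) (by decide) (f849 H)) (step (H.back (i := 5) (by decide) (f820 H)) (step (H.back (i := 6) (by decide) (f38 H)) (step (H.back (i := 8) (by decide) (f12 H)) (step (H.back (i := 5) (by decide) (f15 H)) (step (H.back (i := 6) (by decide) (f69 H)) (step (H.back (i := 8) (by decide) (f784 H)) rfl)))))))

theorem f858 : g 4 • path g [8, 6] p = path g [8, 6, 4] p :=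
  rfl

theorem f859 : g 9 • path g [8, 6, 4] p = path g [8, 6] p :=
  H.back (i := 4) (by decide) (f858 H)

theorem f860 : g 9 • path g [8, 6] p = path g [8, 6, 9] p :=
  rfl

theorem f862 : g 9 • path g [8, 6, 9] p = path g [8, 6, 4] p :=
  scan (u := [9]) (w := [9]) (i := 9) (r13_1_0 H) (step (f860 H) rfl) (step (H.back (i := 4) (by decide) (f858 H)) rfl)

theorem f863 : g 4 • path g [8, 6, 4] p = path g [8, 6, 9] p :=
  H.back (i := 9) (by decide) (f862 H)

theorem f864 : g 2 • path g [8, 6, 9] p = path g [8, 1, 9] p :=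
  scan (u := [9]) (w := [4, 5, 5, 5, 7, 5]) (i := 2) (r10_0_5 H) (step (f860 H) rfl) (step (H.back (i := 9) (by decide) (f500 H)) (step (H.back (i := 0) (by decide) (f512 H)) (step (H.back (i := 0) (by decide) (f486 H)) (step (H.back (i := 0) (by decide) (f512 H)) (step (H.back (i := 2) (by decide) (f806 H)) (step (H.back (i := 0) (by decide) (f619 H)) rfl))))))

theorem f865 : g 7 • path g [8, 1, 9] p = path g [8, 6, 9] p :=
  H.back (i := 2) (by decide) (f864 H)

theorem f866 : g 7 • path g [8, 6, 9] p = path g [8, 1, 9] p :=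
  scan (u := [9]) (w := [4, 0, 2, 0, 0, 0]) (i := 7) (r10_1_0 H) (step (f860 H) rfl) (step (H.back (i := 9) (by decide) (f500 H)) (step (H.back (i := 5) (by decide) (f487 H)) (step (H.back (i := 7) (by decide) (f626 H)) (step (H.back (i := 5) (by decide) (f625 H)) (step (H.back (i := 5) (by decide) (f617 H)) (step (H.back (i := 5) (by decide) (f625 H)) rfl))))))

theorem f868 : g 0 • path g [8, 9] p = path g [8, 9, 0] p :=
  rfl

theorem f869 : g 5 • path g [8, 9, 0] p = path g [8, 9] p :=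
  H.back (i := 0) (by decide) (f868 H)

theorem f870 : g 1 • path g [8, 9] p = path g [8, 9, 1] p :=
  rfl

theorem f871 : g 6 • path g [8, 9, 1] p = path g [8, 9] p :=
  H.back (i := 1) (by decide) (f870 H)

theorem f872 : g 5 • path g [8, 9] p = path g [8, 9, 5] p :=
  rfl

theorem f873 : g 0 • path g [8, 9, 5] p = path g [8, 9] p :=
  H.back (i := 5) (by decide) (f872 H)

theorem f874 : g 3 • path g [8, 9, 5] p = path g [9, 0] p :=
  scan (u := [5]) (w := [1, 0, 2, 0, 1, 8]) (i := 3) (r7_1_1 H) (step (f872 H) rfl) (step (H.back (i := 6) (by decide) (f298 H)) (step (H.back (i := 5) (by decide) (f285 H)) (step (H.back (i := 7) (by decide) (f98 H)) (step (H.back (i := 5) (by decide) (f100 H)) (step (H.back (i := 6) (by decide) (f94 H)) (step (H.back (i := 3) (by decide) (f82 H)) rfl))))))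

theorem f876 : g 7 • path g [8, 9, 5] p = path g [8, 9, 0] p :=
  scan (u := [5]) (w := [5, 4, 2, 1, 0, 2, 0, 1, 0, 9]) (i := 7) (r11_1_1 H) (step (f872 H) rfl) (step (H.back (i := 0) (by decide) (f868 H)) (step (H.back (i := 9) (by decide) (f76 H)) (step (H.back (i := 7) (by decide) (f17 H)) (step (H.back (i := 6) (by decide) (f69 H)) (step (H.back (i := 5) (by decide) (f487 H)) (step (H.back (i := 7) (by decide) (f626 H)) (step (H.back (i := 5) (by decide) (f625 H)) (step (H.back (i := 6) (by decide) (f70 H)) (step (H.back (i := 5) (by decide) (f15 H)) (step (H.back (i := 4) (by decide) (f77 H)) rfl))))))))))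

theorem f878 : path g [8, 9, 0] p = path g [8, 9, 5] p :=
  close (u := [0, 0]) (w := [0, 9, 7, 4, 0, 2]) (r10_1_5 H) (step (f873 H) (step (f868 H) rfl)) (step (H.back (i := 5) (by decide) (f872 H)) (step (H.back (i := 4) (by decide) (f79 H)) (step (H.back (i := 2) (by decide) (f452 H)) (step (H.back (i := 9) (by decide) (f78 H)) (step (H.back (i := 5) (by decide) (f869 H)) (step (H.back (i := 7) (by decide) (f876 H)) rfl))))))

theorem f879 : path g [8, 9, 5] p = path g [8, 9, 0] p :=
  (f878 H).symm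

theorem f880 : g 0 • path g [8, 9, 0] p = path g [8, 9] p :=
  (congrArg (g 0 • ·) (f879 H).symm).trans (f873 H)

theorem f882 : g 5 • path g [8, 9] p = path g [8, 9, 0] p :=
  H.back (i := 0) (by decide) (f880 H)

theorem f883 : g 3 • path g [8, 9, 0] p = path g [9, 0] p :=
  (congrArg (g 3 • ·) (f879 H).symm).trans (f874 H)

theorem f885 : g 8 • path g [9, 0] p = path g [8, 9, 0] p :=
  H.back (i := 3) (by decide) (f883 H)

theorem f889 : g 6 • path g [8, 9] p = path g [8, 9, 6] p :=
  rfl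

theorem f890 : g 1 • path g [8, 9, 6] p = path g [8, 9] p :=
  H.back (i := 6) (by decide) (f889 H)

theorem f891 : g 6 • path g [8, 9, 6] p = path g [8, 9, 1] p :=
  scan (u := [6]) (w := [6]) (i := 6) (r0_1_0 H) (step (f889 H) rfl) (step (H.back (i := 1) (by decide) (f870 H)) rfl)

theorem f892 : g 1 • path g [8, 9, 1] p = path g [8, 9, 6] p :=
  H.back (i := 6) (by decide) (f891 H)

theorem f893 : g 7 • path g [8, 9, 6] p = path g [8, 9, 1] p :=
  scan (u := [6]) (w := [6, 7]) (i := 7) (r1_1_0 H) (step (f889 H) rfl) (step (H.back (i := 1) (by decide) (f870 H)) (step (H.back (i := 2) (by decide) (f84 H)) rfl))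

theorem f894 : g 2 • path g [8, 9, 1] p = path g [8, 9, 6] p :=
  H.back (i := 7) (by decide) (f893 H)

theorem f895 : g 3 • path g [9, 0] p = path g [9, 0, 3] p :=
  rfl

theorem f896 : g 8 • path g [9, 0, 3] p = path g [9, 0] p :=
  H.back (i := 3) (by decide) (f895 H)

theorem f897 : g 3 • path g [9, 0, 3] p = path g [8, 9, 0] p :=
  scan (u := [3]) (w := [3]) (i := 3) (r9_0_0 H) (step (f895 H) rfl) (step (H.back (i := 8) (by decide) (f885 H)) rfl)

theorem f899 : g 0 • path g [9, 0, 3] p = path g [3, 9, 7] p :=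
  scan (u := [3]) (w := [2, 8, 6, 5, 7, 5, 6]) (i := 0) (r8_1_6 H) (step (f895 H) rfl) (step (H.back (i := 7) (by decide) (f246 H)) (step (H.back (i := 3) (by decide) (f47 H)) (step (H.back (i := 1) (by decide) (f95 H)) (step (H.back (i := 0) (by decide) (f101 H)) (step (H.back (i := 2) (by decide) (f99 H)) (step (H.back (i := 0) (by decide) (f284 H)) (step (H.back (i := 1) (by decide) (f296 H)) rfl)))))))

theorem f903 : g 6 • path g [9, 0] p = path g [9, 0, 6] p :=
  rfl

theorem f904 : g 1 • path g [9, 0, 6] p = path g [9, 0] p :=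
  H.back (i := 6) (by decide) (f903 H)

theorem f905 : g 6 • path g [9, 0, 6] p = path g [4, 1, 4] p :=
  scan (u := [6]) (w := [6]) (i := 6) (r0_1_0 H) (step (f903 H) rfl) (step (H.back (i := 1) (by decide) (f296 H)) rfl)

theorem f906 : g 1 • path g [4, 1, 4] p = path g [9, 0, 6] p :=
  H.back (i := 6) (by decide) (f905 H)

theorem f907 : g 7 • path g [9, 0, 6] p = path g [4, 1, 4] p :=
  scan (u := [6]) (w := [6, 7]) (i := 7) (r1_1_0 H) (step (f903 H) rfl) (step (H.back (i := 1) (by decide) (f296 H)) (step (H.back (i := 2) (by decide) (f295 H)) rfl))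

theorem f908 : g 2 • path g [4, 1, 4] p = path g [9, 0, 6] p :=
  H.back (i := 7) (by decide) (f907 H)

theorem f909 : g 5 • path g [9, 0, 6] p = path g [9, 0, 6] p :=
  scan (u := [6]) (w := [6, 0, 6, 5]) (i := 5) (r3_1_1 H) (step (f903 H) rfl) (step (H.back (i := 1) (by decide) (f906 H)) (step (H.back (i := 5) (by decide) (f285 H)) (step (H.back (i := 1) (by decide) (f88 H)) (step (H.back (i := 0) (by decide) (f290 H)) rfl))))

theorem f910 : g 0 • path g [9, 0, 6] p = path g [9, 0, 6] p :=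
  H.back (i := 5) (by decide) (f909 H)

theorem f911 : path g [3, 9, 5] p = path g [9, 0, 3] p :=
  close (u := [6, 5, 7, 5, 6, 3, 0, 2]) (w := [8]) (r8_1_1 H) (step (f903 H) (step (f909 H) (step (f907 H) (step (f299 H) (step (f89 H) (step (f47 H) (step (f234 H) (step (f844 H) rfl)))))))) (step (H.back (i := 3) (by decide) (f895 H)) rfl)

theorem f912 : path g [9, 0, 3] p = path g [3, 9, 5] p :=
  (f911 H).symm

theorem f913 : g 8 • path g [3, 9, 5] p = path g [9, 0] p :=
  (congrArg (g 8 • ·) (f912 H).symm).trans (f896 H)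

theorem f915 : g 3 • path g [9, 0] p = path g [3, 9, 5] p :=
  H.back (i := 8) (by decide) (f913 H)

theorem f916 : g 3 • path g [3, 9, 5] p = path g [8, 9, 0] p :=
  (congrArg (g 3 • ·) (f912 H).symm).trans (f897 H)

theorem f919 : g 0 • path g [3, 9, 5] p = path g [3, 9, 7] p :=
  (congrArg (g 0 • ·) (f912 H).symm).trans (f899 H)

theorem f920 : path g [3, 9] p = path g [3, 9, 7] p :=
  (f241 H).symm.trans (f919 H)

theorem f921 : path g [3, 9, 7] p = path g [3, 9] p :=
  (f920 H).symm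

theorem f922 : g 2 • path g [3, 9] p = path g [3, 9] p :=
  (congrArg (g 2 • ·) (f921 H).symm).trans (f247 H)

theorem f923 : path g [3, 9, 2] p = path g [3, 9] p :=
  (f238 H).symm.trans (f922 H)

theorem f928 : g 7 • path g [3, 9] p = path g [3, 9] p :=
  (f246 H).trans (f921 H)

theorem f930 : g 9 • path g [9, 0, 6] p = path g [4, 0, 1] p :=
  scan (u := [6]) (w := [1, 1, 0, 1, 4, 5, 5, 5, 6, 7, 5]) (i := 9) (r12_0_6 H) (step (f903 H) rfl) (step (H.back (i := 6) (by decide) (f260 H)) (step (H.back (i := 6) (by decide) (f258 H)) (step (H.back (i := 5) (by decide) (f415 H)) (step (H.back (i := 6) (by decide) (f51 H)) (step (H.back (i := 9) (by decide) (f283 H)) (step (H.back (i := 0) (by decide) (f300 H)) (step (H.back (i := 0) (by decide) (f284 H)) (step (H.back (i := 0) (by decide) (f300 H)) (step (H.back (i := 1) (by decide) (f88 H)) (step (H.back (i := 2) (by decide) (f22 H)) (step (H.back (i := 0) (by decide) (f290 H)) rfl)))))))))))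

theorem f931 : g 4 • path g [4, 0, 1] p = path g [9, 0, 6] p :=
  H.back (i := 9) (by decide) (f930 H)

theorem f932 : g 7 • path g [4, 1, 4] p = path g [9, 0, 6] p :=
  scan (u := [9, 2, 4, 5, 5, 5]) (w := [5]) (i := 7) (r10_0_5 H) (step (f930 H) (step (f383 H) (step (f454 H) (step (f285 H) (step (f299 H) (step (f285 H) rfl)))))) (step (H.back (i := 0) (by decide) (f910 H)) rfl)

theorem f933 : g 2 • path g [9, 0, 6] p = path g [4, 1, 4] p :=
  H.back (i := 7) (by decide) (f932 H)

theorem f934 : g 2 • path g [3, 9] p = path g [3, 9] p :=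
  (f238 H).trans (f923 H)

theorem f941 : g 3 • path g [9, 1] p = path g [9, 1, 3] p :=
  rfl

theorem f942 : g 8 • path g [9, 1, 3] p = path g [9, 1] p :=
  H.back (i := 3) (by decide) (f941 H)

theorem f943 : g 4 • path g [9, 1] p = path g [9, 1, 4] p :=
  rfl

theorem f945 : g 4 • path g [9, 1, 4] p = path g [4, 0, 6] p :=
  scan (u := [4]) (w := [4]) (i := 4) (r13_0_0 H) (step (f943 H) rfl) (step (H.back (i := 9) (by decide) (f453 H)) rfl)

theorem f947 : g 1 • path g [9, 1, 4] p = path g [4, 0, 9] p :=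
  scan (u := [4]) (w := [2, 4, 1, 2, 4, 6, 5, 7, 6, 5, 7, 5, 1, 2]) (i := 1) (r18_0_9 H) (step (f943 H) rfl) (step (H.back (i := 7) (by decide) (f352 H)) (step (H.back (i := 9) (by decide) (f268 H)) (step (H.back (i := 6) (by decide) (f251 H)) (step (H.back (i := 7) (by decide) (f385 H)) (step (H.back (i := 9) (by decide) (f453 H)) (step (H.back (i := 1) (by decide) (f88 H)) (step (H.back (i := 0) (by decide) (f290 H)) (step (H.back (i := 2) (by decide) (f295 H)) (step (H.back (i := 1) (by decide) (f904 H)) (step (H.back (i := 0) (by decide) (f910 H)) (step (H.back (i := 2) (by decide) (f908 H)) (step (H.back (i := 0) (by decide) (f300 H)) (step (H.back (i := 6) (by decide) (f96 H)) (step (H.back (i := 7) (by decide) (f301 H)) rfl))))))))))))))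

theorem f951 : g 7 • path g [4, 1, 9] p = path g [9, 1, 4] p :=
  scan (u := [4, 0, 2, 0, 0, 0, 9]) (w := []) (i := 7) (r10_1_2 H) (step (f945 H) (step (f445 H) (step (f446 H) (step (f438 H) (step (f382 H) (step (f438 H) (step (f333 H) rfl))))))) rfl

theorem f953 : g 6 • path g [9, 1, 4] p = path g [4, 1, 9] p :=
  scan (u := [7]) (w := [9, 7, 6, 9, 7, 6, 0, 2, 0, 1, 2, 0, 1, 9]) (i := 6) (r18_1_1 H) (step (f951 H) rfl) (step (H.back (i := 4) (by decide) (f336 H)) (step (H.back (i := 2) (by decide) (f933 H)) (step (H.back (i := 1) (by decide) (f906 H)) (step (H.back (i := 4) (by decide) (f282 H)) (step (H.back (i := 2) (by decide) (f323 H)) (step (H.back (i := 1) (by decide) (f59 H)) (step (H.back (i := 5) (by decide) (f380 H)) (step (H.back (i := 7) (by decide) (f385 H)) (step (H.back (i := 5) (by decide) (f444 H)) (step (H.back (i := 6) (by decide) (f258 H)) (step (H.back (i := 7) (by decide) (f375 H)) (step (H.back (i := 5) (by decide) (f415 H)) (step (H.back (i := 6)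 (by decide) (f51 H)) (step (H.back (i := 4) (by decide) (f334 H)) rfl))))))))))))))

theorem f954 : g 1 • path g [4, 1, 9] p = path g [9, 1, 4] p :=
  H.back (i := 6) (by decide) (f953 H)

theorem f955 : g 6 • path g [4, 1, 9] p = path g [4, 0, 9] p :=
  scan (u := [6]) (w := [6]) (i := 6) (r0_1_0 H) (step (f953 H) rfl) (step (H.back (i := 1) (by decide) (f947 H)) rfl)

theorem f956 : g 1 • path g [4, 0, 9] p = path g [4, 1, 9] p :=
  H.back (i := 6) (by decide) (f955 H)

theorem f959 : path g [4, 0, 4] p = path g [] p :=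
  close (u := [6, 6, 9]) (w := [6, 6, 9, 6, 6, 9, 6, 6, 9, 6, 6, 9, 6, 6, 9, 6, 6, 9]) (r16_1_1 H) (step (f953 H) (step (f955 H) (step (f270 H) rfl))) (step (H.back (i := 1) (by decide) (f2 H)) (step (H.back (i := 1) (by decide) (f2 H)) (step (H.back (i := 4) (by decide) (f19 H)) (step (H.back (i := 1) (by decide) (f95 H)) (step (H.back (i := 1) (by decide) (f97 H)) (step (H.back (i := 4) (by decide) (f454 H)) (step (H.back (i := 1) (by decide) (f261 H)) (step (H.back (i := 1) (by decide) (f250 H)) (step (H.back (i := 4) (by decide) (f269 H)) (step (H.back (i := 1) (by decide) (f947 H)) (step (H.back (i := 1) (by decide) (f954 H)) (step (H.back (i := 4) (by decide) (f336 H)) (step (H.back (i := 1) (by decide) (f296 H)) (step (H.back (i := 1) (by decide) (f904 H)) (step (H.back (i := 4) (by decide) (f931 H)) (step (H.back (i := 1) (by decide) (f250 H)) (step (H.back (i := 1) (by decide) (f259 H)) (step (H.back (i := 4) (by decide) (f945 H)) rfl))))))))))))))))))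

theorem f962 : g 4 • path g [] p = path g [4, 0, 9] p :=
  (congrArg (g 4 • ·) (f959 H).symm).trans (f271 H)

theorem f963 : path g [4] p = path g [4, 0, 9] p :=
  (f8 H).symm.trans (f962 H)

theorem f964 : path g [4, 0, 9] p = path g [4] p :=
  (f963 H).symm

theorem f978 : g 1 • path g [4] p = path g [4, 1, 9] p :=
  (congrArg (g 1 • ·) (f964 H).symm).trans (f956 H)

theorem f979 : path g [4, 1] p = path g [4, 1, 9] p :=
  (f50 H).symm.trans (f978 H)

theorem f980 : path g [4, 1, 9] p = path g [4, 1] p :=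
  (f979 H).symm

theorem f990 : g 1 • path g [4, 1] p = path g [9, 1, 4] p :=
  (congrArg (g 1 • ·) (f980 H).symm).trans (f954 H)

theorem f991 : path g [4, 6] p = path g [9, 1, 4] p :=
  (f59 H).symm.trans (f990 H)

theorem f995 : path g [9, 1, 4] p = path g [4, 6] p :=
  (f991 H).symm

theorem f998 : g 4 • path g [4, 6] p = path g [4, 0, 6] p :=
  (congrArg (g 4 • ·) (f995 H).symm).trans (f945 H)

theorem f999 : path g [9, 6] p = path g [4, 0, 6] p :=
  (f320 H).symm.trans (f998 H)

theorem f1018 : path g [4, 0, 6] p = path g [9, 6] p :=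
  (f999 H).symm

theorem f1031 : g 2 • path g [9, 6] p = path g [4, 0, 1] p :=
  (congrArg (g 2 • ·) (f1018 H).symm).trans (f446 H)

theorem f1032 : path g [9, 1] p = path g [4, 0, 1] p :=
  (f302 H).symm.trans (f1031 H)

theorem f1033 : g 4 • path g [9, 6] p = path g [9, 1] p :=
  (congrArg (g 4 • ·) (f1018 H).symm).trans (f454 H)

theorem f1034 : path g [4, 6, 9] p = path g [9, 1] p :=
  (f477 H).symm.trans (f1033 H)

theorem f1039 : g 4 • path g [9, 1] p = path g [4, 6] p :=
  (f943 H).trans (f995 H)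

theorem f1044 : path g [4, 0, 1] p = path g [9, 1] p :=
  (f1032 H).symm

theorem f1060 : g 4 • path g [9, 1] p = path g [9, 0, 6] p :=
  (congrArg (g 4 • ·) (f1044 H).symm).trans (f931 H)

theorem f1061 : path g [4, 6] p = path g [9, 0, 6] p :=
  (f1039 H).symm.trans (f1060 H)

theorem f1062 : path g [9, 0, 6] p = path g [4, 6] p :=
  (f1061 H).symm

theorem f1079 : g 2 • path g [4, 6] p = path g [4, 1, 4] p :=
  (congrArg (g 2 • ·) (f1062 H).symm).trans (f933 H)

theorem f1080 : path g [4, 1] p = path g [4, 1, 4] p :=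
  (f323 H).symm.trans (f1079 H)

theorem f1081 : path g [4, 1, 4] p = path g [4, 1] p :=
  (f1080 H).symm

theorem f1085 : g 0 • path g [4, 1] p = path g [9, 1] p :=
  (f382 H).trans (f1044 H)

theorem f1087 : g 6 • path g [4, 1] p = path g [9, 0] p :=
  (congrArg (g 6 • ·) (f1081 H).symm).trans (f298 H)

theorem f1088 : path g [4] p = path g [9, 0] p :=
  (f51 H).symm.trans (f1087 H)

theorem f1090 : g 5 • path g [4, 1] p = path g [9, 1] p :=
  (f440 H).trans (f1044 H)

theorem f1105 : path g [9, 0] p = path g [4] p :=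
  (f1088 H).symm

theorem f1121 : g 3 • path g [4] p = path g [3, 9, 5] p :=
  (congrArg (g 3 • ·) (f1105 H).symm).trans (f915 H)

theorem f1122 : path g [3, 4] p = path g [3, 9, 5] p :=
  (f35 H).symm.trans (f1121 H)

theorem f1149 : path g [3, 9, 5] p = path g [3, 4] p :=
  (f1122 H).symm

theorem f1157 : g 3 • path g [3, 4] p = path g [8, 9, 0] p :=
  (congrArg (g 3 • ·) (f1149 H).symm).trans (f916 H)

theorem f1158 : path g [4, 8] p = path g [8, 9, 0] p :=
  (f65 H).symm.trans (f1157 H)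

theorem f1159 : path g [8, 9, 0] p = path g [4, 8] p :=
  (f1158 H).symm

theorem f1165 : g 0 • path g [4, 8] p = path g [8, 9] p :=
  (congrArg (g 0 • ·) (f1159 H).symm).trans (f880 H)

theorem f1166 : path g [4, 0, 8] p = path g [8, 9] p :=
  (f455 H).symm.trans (f1165 H)

theorem f1178 : g 8 • path g [8, 9] p = path g [4, 0, 3] p :=
  (congrArg (g 8 • ·) (f1166 H).symm).trans (f266 H)

theorem f1179 : path g [3, 9] p = path g [4, 0, 3] p :=
  (f80 H).symm.trans (f1178 H)

theorem f1181 : g 0 • path g [8, 9] p = path g [4, 8] p :=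
  (f868 H).trans (f1159 H)

theorem f1184 : g 5 • path g [8, 9] p = path g [4, 8] p :=
  (f882 H).trans (f1159 H)

theorem f1192 : path g [4, 0, 3] p = path g [3, 9] p :=
  (f1179 H).symm

theorem f1193 : g 8 • path g [3, 9] p = path g [4, 0] p :=
  (congrArg (g 8 • ·) (f1192 H).symm).trans (f255 H)

theorem f1194 : path g [9] p = path g [4, 0] p :=
  (f46 H).symm.trans (f1193 H)

theorem f1198 : g 0 • path g [3, 9] p = path g [3, 4, 7] p :=
  (congrArg (g 0 • ·) (f1192 H).symm).trans (f434 H)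

theorem f1199 : path g [3, 9, 0] p = path g [3, 4, 7] p :=
  (f234 H).symm.trans (f1198 H)

theorem f1200 : g 7 • path g [3, 9] p = path g [3, 4, 0] p :=
  (congrArg (g 7 • ·) (f1192 H).symm).trans (f458 H)

theorem f1201 : path g [3, 9] p = path g [3, 4, 0] p :=
  (f928 H).symm.trans (f1200 H)

theorem f1202 : path g [3, 4, 0] p = path g [3, 9] p :=
  (f1201 H).symm

theorem f1204 : g 5 • path g [3, 9] p = path g [3, 4] p :=
  (f240 H).trans (f1149 H)

theorem f1210 : g 5 • path g [3, 4, 7] p = path g [3, 9] p :=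
  (f436 H).trans (f1192 H)

theorem f1215 : path g [4, 0] p = path g [9] p :=
  (f1194 H).symm

theorem f1217 : g 5 • path g [9] p = path g [4] p :=
  (f292 H).trans (f1105 H)

theorem f1220 : g 0 • path g [9] p = path g [4] p :=
  (f86 H).trans (f1105 H)

theorem f1246 : g 5 • path g [9, 1] p = path g [4, 1] p :=
  (f285 H).trans (f1081 H)

theorem f1247 : g 8 • path g [9, 1] p = path g [9, 1, 8] p :=
  rfl

theorem f1253 : g 0 • path g [9, 1] p = path g [4, 1] p :=
  (f300 H).trans (f1081 H)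

theorem f1254 : g 0 • path g [9, 1, 8] p = path g [4, 6, 8] p :=
  scan (u := [8]) (w := [3, 6, 5, 7, 5, 6]) (i := 0) (r7_0_5 H) (step (f1247 H) rfl) (step (H.back (i := 8) (by decide) (f464 H)) (step (H.back (i := 1) (by decide) (f59 H)) (step (H.back (i := 0) (by decide) (f1253 H)) (step (H.back (i := 2) (by decide) (f302 H)) (step (H.back (i := 0) (by decide) (f101 H)) (step (H.back (i := 1) (by decide) (f97 H)) rfl))))))

theorem f1256 : g 5 • path g [4] p = path g [9] p :=
  (f415 H).trans (f1215 H)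

theorem f1260 : g 3 • path g [9, 6] p = path g [9, 6, 3] p :=
  rfl

theorem f1264 : g 4 • path g [9, 6] p = path g [9, 1] p :=
  (f477 H).trans (f1034 H)

theorem f1267 : g 0 • path g [4] p = path g [9] p :=
  (f48 H).trans (f1215 H)

theorem f1268 : g 8 • path g [9, 6] p = path g [9, 6, 8] p :=
  rfl

theorem f1272 : g 4 • path g [9, 6, 8] p = path g [9, 1, 8] p :=
  scan (u := [8]) (w := [3, 9]) (i := 4) (r14_0_1 H) (step (f1268 H) rfl) (step (H.back (i := 8) (by decide) (f1247 H)) (step (H.back (i := 4) (by decide) (f1264 H)) rfl))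

theorem f1273 : g 9 • path g [9, 1, 8] p = path g [9, 6, 8] p :=
  H.back (i := 4) (by decide) (f1272 H)

theorem f1274 : g 9 • path g [9, 6, 8] p = path g [4, 6, 8] p :=
  scan (u := [8]) (w := [3, 4]) (i := 9) (r14_1_0 H) (step (f1268 H) rfl) (step (H.back (i := 8) (by decide) (f464 H)) (step (H.back (i := 9) (by decide) (f322 H)) rfl))

theorem f1275 : g 4 • path g [4, 6, 8] p = path g [9, 6, 8] p :=
  H.back (i := 9) (by decide) (f1274 H)

theorem f1276 : g 0 • path g [9, 6, 8] p = path g [9, 1, 8] p :=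
  scan (u := [8]) (w := [3, 6, 5, 7, 5, 6]) (i := 0) (r7_0_5 H) (step (f1268 H) rfl) (step (H.back (i := 8) (by decide) (f1247 H)) (step (H.back (i := 1) (by decide) (f88 H)) (step (H.back (i := 0) (by decide) (f1267 H)) (step (H.back (i := 2) (by decide) (f309 H)) (step (H.back (i := 0) (by decide) (f1220 H)) (step (H.back (i := 1) (by decide) (f95 H)) rfl))))))

theorem f1277 : g 5 • path g [9, 1, 8] p = path g [9, 6, 8] p :=
  H.back (i := 0) (by decide) (f1276 H)

theorem f1278 : g 5 • path g [9, 6, 8] p = path g [4, 1, 8] p :=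
  scan (u := [8]) (w := [3, 1, 0, 2, 0, 1]) (i := 5) (r7_1_0 H) (step (f1268 H) rfl) (step (H.back (i := 8) (by decide) (f329 H)) (step (H.back (i := 6) (by decide) (f58 H)) (step (H.back (i := 5) (by decide) (f391 H)) (step (H.back (i := 7) (by decide) (f325 H)) (step (H.back (i := 5) (by decide) (f1246 H)) (step (H.back (i := 6) (by decide) (f96 H)) rfl))))))

theorem f1279 : g 0 • path g [4, 1, 8] p = path g [9, 6, 8] p :=
  H.back (i := 5) (by decide) (f1278 H)

theorem f1280 : g 0 • path g [3, 9] p = path g [3, 4, 7] p :=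
  (f234 H).trans (f1199 H)

theorem f1283 : g 7 • path g [9, 6, 8] p = path g [9, 1, 8] p :=
  scan (u := [8]) (w := [3, 0, 1, 0, 2, 0, 1, 0, 0]) (i := 7) (r6_1_0 H) (step (f1268 H) rfl) (step (H.back (i := 8) (by decide) (f1247 H)) (step (H.back (i := 5) (by decide) (f1090 H)) (step (H.back (i := 6) (by decide) (f58 H)) (step (H.back (i := 5) (by decide) (f391 H)) (step (H.back (i := 7) (by decide) (f325 H)) (step (H.back (i := 5) (by decide) (f1246 H)) (step (H.back (i := 6) (by decide) (f96 H)) (step (H.back (i := 5) (by decide) (f100 H)) (step (H.back (i := 5) (by decide) (f100 H)) rfl)))))))))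

theorem f1285 : g 4 • path g [4, 1, 8] p = path g [4, 1, 8] p :=
  scan (u := [7, 5, 9, 2]) (w := [5, 5, 5]) (i := 4) (r10_0_3 H) (step (f1283 H) (step (f1277 H) (step (f1274 H) (step (f470 H) rfl)))) (step (H.back (i := 0) (by decide) (f468 H)) (step (H.back (i := 0) (by decide) (f1254 H)) (step (H.back (i := 0) (by decide) (f1276 H)) rfl)))

theorem f1286 : g 9 • path g [4, 1, 8] p = path g [4, 1, 8] p :=
  H.back (i := 4) (by decide) (f1285 H)

theorem f1287 : g 9 • path g [4, 1, 3] p = path g [4, 1, 3] p :=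
  scan (u := [4, 8]) (w := [3]) (i := 9) (r14_1_3 H) (step (f1285 H) (step (f331 H) rfl)) (step (H.back (i := 8) (by decide) (f331 H)) rfl)

theorem f1288 : g 4 • path g [4, 1, 3] p = path g [4, 1, 3] p :=
  H.back (i := 9) (by decide) (f1287 H)

theorem f1291 : g 6 • path g [3, 1, 0] p = path g [3, 1, 0, 6] p :=
  rfl

theorem f1292 : g 1 • path g [3, 1, 0, 6] p = path g [3, 1, 0] p :=
  H.back (i := 6) (by decide) (f1291 H)

theorem f1293 : g 6 • path g [3, 1, 0, 6] p = path g [3, 6, 0] p :=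
  scan (u := [6]) (w := [6]) (i := 6) (r0_1_0 H) (step (f1291 H) rfl) (step (H.back (i := 1) (by decide) (f840 H)) rfl)

theorem f1294 : g 1 • path g [3, 6, 0] p = path g [3, 1, 0, 6] p :=
  H.back (i := 6) (by decide) (f1293 H)

theorem f1295 : g 7 • path g [3, 1, 0, 6] p = path g [3, 1, 0, 6] p :=
  scan (u := [6]) (w := [6, 7]) (i := 7) (r1_1_0 H) (step (f1291 H) rfl) (step (H.back (i := 1) (by decide) (f1294 H)) (step (H.back (i := 2) (by decide) (f833 H)) rfl))

theorem f1297 : g 5 • path g [3, 1, 0, 6] p = path g [3, 1, 0, 6] p :=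
  scan (u := [6]) (w := [6, 0, 6, 5]) (i := 5) (r3_1_1 H) (step (f1291 H) rfl) (step (H.back (i := 1) (by decide) (f1294 H)) (step (H.back (i := 5) (by decide) (f820 H)) (step (H.back (i := 1) (by decide) (f41 H)) (step (H.back (i := 0) (by decide) (f823 H)) rfl))))

theorem f1299 : g 8 • path g [3, 1, 0] p = path g [3, 1, 0, 8] p :=
  rfl

theorem f1301 : g 8 • path g [3, 1, 0, 8] p = path g [8, 1, 0] p :=
  scan (u := [8]) (w := [8]) (i := 8) (r9_1_0 H) (step (f1299 H) rfl) (step (H.back (i := 3) (by decide) (f829 H)) rfl)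

theorem f1302 : g 3 • path g [8, 1, 0] p = path g [3, 1, 0, 8] p :=
  H.back (i := 8) (by decide) (f1301 H)

theorem f1305 : g 5 • path g [3, 1, 0, 8] p = path g [8, 6, 3] p :=
  scan (u := [8]) (w := [3, 1, 0, 2, 0, 1]) (i := 5) (r7_1_0 H) (step (f1299 H) rfl) (step (H.back (i := 8) (by decide) (f849 H)) (step (H.back (i := 6) (by decide) (f1293 H)) (step (H.back (i := 5) (by decide) (f1297 H)) (step (H.back (i := 7) (by decide) (f1295 H)) (step (H.back (i := 5) (by decide) (f1297 H)) (step (H.back (i := 6) (by decide) (f1291 H)) rfl))))))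

theorem f1306 : g 0 • path g [8, 6, 3] p = path g [3, 1, 0, 8] p :=
  H.back (i := 5) (by decide) (f1305 H)

theorem f1307 : g 6 • path g [3, 1, 0, 8] p = path g [3, 6, 8] p :=
  scan (u := [8]) (w := [5, 8, 6, 5, 8, 6, 5]) (i := 6) (r17_1_0 H) (step (f1299 H) rfl) (step (H.back (i := 0) (by decide) (f229 H)) (step (H.back (i := 3) (by decide) (f141 H)) (step (H.back (i := 1) (by decide) (f622 H)) (step (H.back (i := 0) (by decide) (f486 H)) (step (H.back (i := 3) (by decide) (f794 H)) (step (H.back (i := 1) (by decide) (f41 H)) (step (H.back (i := 0) (by decide) (f823 H)) rfl)))))))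

theorem f1309 : g 2 • path g [3, 1, 0, 8] p = path g [3, 6, 8] p :=
  scan (u := [8]) (w := [3, 5, 5, 6, 5, 7, 5, 6, 5]) (i := 2) (r6_0_8 H) (step (f1299 H) rfl) (step (H.back (i := 8) (by decide) (f224 H)) (step (H.back (i := 0) (by decide) (f818 H)) (step (H.back (i := 0) (by decide) (f208 H)) (step (H.back (i := 1) (by decide) (f41 H)) (step (H.back (i := 0) (by decide) (f823 H)) (step (H.back (i := 2) (by decide) (f828 H)) (step (H.back (i := 0) (by decide) (f208 H)) (step (H.back (i := 1) (by decide) (f41 H)) (step (H.back (i := 0) (by decide) (f823 H)) rfl)))))))))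

theorem f1311 : g 7 • path g [3, 1, 0, 8] p = path g [3, 6, 8] p :=
  scan (u := [8]) (w := [3, 0, 1, 0, 2, 0, 1, 0, 0]) (i := 7) (r6_1_0 H) (step (f1299 H) rfl) (step (H.back (i := 8) (by decide) (f224 H)) (step (H.back (i := 5) (by decide) (f209 H)) (step (H.back (i := 6) (by decide) (f1293 H)) (step (H.back (i := 5) (by decide) (f1297 H)) (step (H.back (i := 7) (by decide) (f1295 H)) (step (H.back (i := 5) (by decide) (f1297 H)) (step (H.back (i := 6) (by decide) (f1291 H)) (step (H.back (i := 5) (by decide) (f825 H)) (step (H.back (i := 5) (by decide) (f129 H)) rfl)))))))))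

theorem f1313 : path g [8, 6, 3] p = path g [8, 6] p :=
  close (u := [2, 3, 1, 2, 3, 1, 2, 3]) (w := [1, 2, 3, 1, 2, 3, 1, 2, 3, 1, 2, 3, 1]) (r15_0_1 H) (step (f1309 H) (step (f225 H) (step (f39 H) (step (f545 H) (step (f13 H) (step (f68 H) (step (f75 H) (step (f846 H) rfl)))))))) (step (H.back (i := 6) (by decide) (f70 H)) (step (H.back (i := 7) (by decide) (f17 H)) (step (H.back (i := 8) (by decide) (f10 H)) (step (H.back (i := 6) (by decide) (f3 H)) (step (H.back (i := 7) (by decide) (f5 H)) (step (H.back (i := 8) (by decide) (f7 H)) (step (H.back (i := 6) (by decide) (f29 H)) (step (H.back (i := 7) (by decide) (f594 H)) (step (H.back (i := 8) (by decide) (f810 H)) (step (H.back (i := 6) (by decide) (f72 H)) (step (H.back (i := 7) (by decide) (f519 H)) (step (H.back (i := 8) (by decide) (f784 H)) (step (H.back (i := 6) (by decide) (f1307 H)) rfl)))))))))))))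

theorem f1317 : g 3 • path g [8, 6] p = path g [8, 6] p :=
  (f846 H).trans (f1313 H)

theorem f1327 : g 0 • path g [8, 6] p = path g [3, 1, 0, 8] p :=
  (congrArg (g 0 • ·) (f1313 H).symm).trans (f1306 H)

theorem f1328 : path g [3, 1, 3] p = path g [3, 1, 0, 8] p :=
  (f619 H).symm.trans (f1327 H)

theorem f1329 : path g [3, 1, 0, 8] p = path g [3, 1, 3] p :=
  (f1328 H).symm

theorem f1344 : g 7 • path g [3, 1, 3] p = path g [3, 6, 8] p :=
  (congrArg (g 7 • ·) (f1329 H).symm).trans (f1311 H)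

theorem f1345 : path g [8, 1, 0] p = path g [3, 6, 8] p :=
  (f626 H).symm.trans (f1344 H)

theorem f1361 : g 3 • path g [8, 1, 0] p = path g [3, 1, 3] p :=
  (f1302 H).trans (f1329 H)

theorem f1362 : g 3 • path g [3, 6, 8] p = path g [3, 1, 3] p :=
  (congrArg (g 3 • ·) (f1345 H).symm).trans (f1361 H)

theorem f1363 : path g [3, 6] p = path g [3, 1, 3] p :=
  (f225 H).symm.trans (f1362 H)

theorem f1364 : path g [3, 1, 3] p = path g [3, 6] p :=
  (f1363 H).symm

theorem f1379 : g 2 • path g [3, 1, 3] p = path g [3, 6, 8] p :=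
  (f806 H).trans (f1345 H)

theorem f1380 : g 2 • path g [3, 6] p = path g [3, 6, 8] p :=
  (congrArg (g 2 • ·) (f1364 H).symm).trans (f1379 H)

theorem f1381 : path g [3, 1] p = path g [3, 6, 8] p :=
  (f838 H).symm.trans (f1380 H)

theorem f1382 : path g [3, 6, 8] p = path g [3, 1] p :=
  (f1381 H).symm

theorem f1384 : g 3 • path g [3, 1] p = path g [3, 6] p :=
  (f130 H).trans (f1364 H)

theorem f1390 : g 0 • path g [3, 1] p = path g [3, 1, 8] p :=
  (congrArg (g 0 • ·) (f1382 H).symm).trans (f854 H)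

theorem f1391 : path g [3, 1, 0] p = path g [3, 1, 8] p :=
  (f128 H).symm.trans (f1390 H)

theorem f1401 : path g [3, 1, 8] p = path g [3, 1, 0] p :=
  (f1391 H).symm

theorem f1403 : path g [8, 1, 0] p = path g [3, 1] p :=
  (f1345 H).trans (f1382 H)

theorem f1423 : g 1 • path g [3, 1, 8] p = path g [8, 6] p :=
  (f856 H).trans (f1313 H)

theorem f1424 : g 1 • path g [3, 1, 0] p = path g [8, 6] p :=
  (congrArg (g 1 • ·) (f1401 H).symm).trans (f1423 H)

theorem f1425 : path g [3, 6, 0] p = path g [8, 6] p :=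
  (f840 H).symm.trans (f1424 H)

theorem f1427 : g 5 • path g [8, 6] p = path g [3, 6] p :=
  (f625 H).trans (f1364 H)

theorem f1436 : g 0 • path g [8, 6] p = path g [3, 6] p :=
  (f619 H).trans (f1364 H)

theorem f1444 : g 1 • path g [8, 6] p = path g [3, 1, 0, 6] p :=
  (congrArg (g 1 • ·) (f1425 H).symm).trans (f1294 H)

theorem f1445 : path g [8] p = path g [3, 1, 0, 6] p :=
  (f71 H).symm.trans (f1444 H)

theorem f1446 : path g [3, 1, 0, 6] p = path g [8] p :=
  (f1445 H).symm

theorem f1447 : g 1 • path g [8] p = path g [3, 1, 0] p :=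
  (congrArg (g 1 • ·) (f1446 H).symm).trans (f1292 H)

theorem f1448 : path g [8, 1] p = path g [3, 1, 0] p :=
  (f68 H).symm.trans (f1447 H)

theorem f1464 : path g [3, 1, 0] p = path g [8, 1] p :=
  (f1448 H).symm

theorem f1466 : g 5 • path g [8, 1] p = path g [3, 1] p :=
  (f514 H).trans (f1403 H)

theorem f1472 : g 0 • path g [8, 1] p = path g [3, 1] p :=
  (f486 H).trans (f1403 H)

theorem f1478 : g 3 • path g [8, 1] p = path g [3, 1] p :=
  (f813 H).trans (f1382 H)

theorem f1494 : path g [3, 1, 8] p = path g [8, 1] p :=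
  (f1401 H).trans (f1464 H)

theorem f1495 : g 0 • path g [3, 1, 4] p = path g [3, 1, 4, 0] p :=
  rfl

theorem f1496 : g 5 • path g [3, 1, 4, 0] p = path g [3, 1, 4] p :=
  H.back (i := 0) (by decide) (f1495 H)

theorem f1499 : g 0 • path g [3, 1] p = path g [8, 1] p :=
  (f128 H).trans (f1464 H)

theorem f1502 : g 3 • path g [3, 1, 4] p = path g [3, 1, 4, 3] p :=
  rfl

theorem f1503 : g 8 • path g [3, 1, 4, 3] p = path g [3, 1, 4] p :=
  H.back (i := 3) (by decide) (f1502 H)

theorem f1504 : path g [3, 1, 4, 3] p = path g [3, 6, 4] p :=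
  close (u := [3]) (w := [9, 8, 4]) (r14_0_3 H) (step (f1502 H) rfl) (step (H.back (i := 4) (by decide) (f216 H)) (step (H.back (i := 3) (by decide) (f1384 H)) (step (H.back (i := 9) (by decide) (f133 H)) rfl)))

theorem f1505 : g 8 • path g [3, 6, 4] p = path g [3, 1, 4] p :=
  (congrArg (g 8 • ·) (f1504 H).symm).trans (f1503 H)

theorem f1507 : g 3 • path g [3, 1, 4] p = path g [3, 6, 4] p :=
  H.back (i := 8) (by decide) (f1505 H)

theorem f1508 : g 8 • path g [3, 6, 9] p = path g [3, 1, 9] p :=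
  scan (u := [3, 4]) (w := [9]) (i := 8) (r14_1_2 H) (step (f1507 H) (step (f233 H) rfl)) (step (H.back (i := 4) (by decide) (f145 H)) rfl)

theorem f1509 : g 3 • path g [3, 1, 9] p = path g [3, 6, 9] p :=
  H.back (i := 8) (by decide) (f1508 H)

theorem f1513 : g 5 • path g [3, 1] p = path g [8, 1] p :=
  (f825 H).trans (f1464 H)

theorem f1514 : g 6 • path g [3, 1, 4] p = path g [3, 1, 4, 6] p :=
  rfl

theorem f1520 : g 8 • path g [3, 1, 4] p = path g [3, 1, 4, 8] p :=
  rfl

theorem f1521 : g 3 • path g [3, 1, 4, 8] p = path g [3, 1, 4] p :=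
  H.back (i := 8) (by decide) (f1520 H)

theorem f1524 : g 8 • path g [3, 1] p = path g [8, 1] p :=
  (f138 H).trans (f1494 H)

theorem f1525 : path g [3, 1, 4, 8] p = path g [8, 1, 4] p :=
  close (u := [8]) (w := [9, 3, 4]) (r14_1_0 H) (step (f1520 H) rfl) (step (H.back (i := 4) (by decide) (f490 H)) (step (H.back (i := 8) (by decide) (f1524 H)) (step (H.back (i := 9) (by decide) (f133 H)) rfl)))

theorem f1526 : g 3 • path g [8, 1, 4] p = path g [3, 1, 4] p :=
  (congrArg (g 3 • ·) (f1525 H).symm).trans (f1521 H)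

theorem f1528 : g 8 • path g [3, 1, 4] p = path g [8, 1, 4] p :=
  H.back (i := 3) (by decide) (f1526 H)

theorem f1532 : g 8 • path g [3, 1, 9] p = path g [8, 1, 9] p :=
  scan (u := [3, 4]) (w := [9]) (i := 8) (r14_1_2 H) (step (f1526 H) (step (f145 H) rfl)) (step (H.back (i := 4) (by decide) (f503 H)) rfl)

theorem f1537 : g 0 • path g [3, 1, 9] p = path g [3, 1, 9, 0] p :=
  rfl

theorem f1538 : g 5 • path g [3, 1, 9, 0] p = path g [3, 1, 9] p :=
  H.back (i := 0) (by decide) (f1537 H)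

theorem f1539 : g 1 • path g [3, 1, 9] p = path g [3, 1, 9, 1] p :=
  rfl

theorem f1541 : g 0 • path g [3, 6] p = path g [8, 6] p :=
  (f208 H).trans (f1425 H)

theorem f1542 : g 5 • path g [3, 1, 9] p = path g [3, 1, 9, 5] p :=
  rfl

theorem f1543 : g 0 • path g [3, 1, 9, 5] p = path g [3, 1, 9] p :=
  H.back (i := 5) (by decide) (f1542 H)

theorem f1544 : g 6 • path g [3, 1, 9] p = path g [3, 1, 9, 6] p :=
  rfl

theorem f1546 : g 6 • path g [3, 1, 9, 6] p = path g [3, 1, 9, 1] p :=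
  scan (u := [6]) (w := [6]) (i := 6) (r0_1_0 H) (step (f1544 H) rfl) (step (H.back (i := 1) (by decide) (f1539 H)) rfl)

theorem f1547 : g 1 • path g [3, 1, 9, 1] p = path g [3, 1, 9, 6] p :=
  H.back (i := 6) (by decide) (f1546 H)

theorem f1548 : g 5 • path g [3, 6] p = path g [8, 6] p :=
  (f820 H).trans (f1425 H)

theorem f1549 : g 9 • path g [3, 1, 9, 6] p = path g [4, 8, 6] p :=
  scan (u := [6]) (w := [7, 6, 9, 7, 6, 0, 2, 0, 1, 2, 0, 1, 9, 7]) (i := 9) (r18_1_2 H) (step (f1544 H) rfl) (step (H.back (i := 2) (by decide) (f485 H)) (step (H.back (i := 1) (by decide) (f478 H)) (step (H.back (i := 4) (by decide) (f67 H)) (step (H.back (i := 2) (by decide) (f16 H)) (step (H.back (i := 1) (by decide) (f71 H)) (step (H.back (i := 5) (by decide) (f1548 H)) (step (H.back (i := 7) (by decide) (f801 H)) (step (H.back (i := 5) (by decide) (f1466 H)) (step (H.back (i := 6) (by decide) (f72 H)) (step (H.back (i := 7) (by decide) (f519 H)) (step (H.back (i := 5) (by decide) (f1513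 H)) (step (H.back (i := 6) (by decide) (f40 H)) (step (H.back (i := 4) (by decide) (f231 H)) (step (H.back (i := 2) (by decide) (f842 H)) rfl))))))))))))))

theorem f1551 : g 0 • path g [4, 8] p = path g [8, 9] p :=
  (f455 H).trans (f1166 H)

theorem f1552 : g 0 • path g [4, 8, 6] p = path g [3, 4, 6] p :=
  scan (u := [6, 9, 7, 6, 0, 2, 0, 1, 2]) (w := [1, 9, 7, 6, 9, 7]) (i := 0) (r18_1_5 H) (step (f1544 H) (step (f1549 H) (step (f484 H) (step (f479 H) (step (f1551 H) (step (f84 H) (step (f1181 H) (step (f478 H) (step (f485 H) rfl))))))))) (step (H.back (i := 6) (by decide) (f180 H)) (step (H.back (i := 4) (by decide) (f32 H)) (step (H.back (i := 2) (by decide) (f545 H)) (step (H.back (i := 1) (by decide) (f39 H)) (step (H.back (i := 4) (by decide) (f231 H)) (step (H.back (i := 2) (by decide) (f842 H)) rfl))))))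

theorem f1553 : g 5 • path g [3, 4, 6] p = path g [4, 8, 6] p :=
  H.back (i := 0) (by decide) (f1552 H)

theorem f1554 : g 5 • path g [4, 8] p = path g [8, 9] p :=
  (f448 H).trans (f1166 H)

theorem f1555 : g 0 • path g [3, 4] p = path g [3, 9] p :=
  (f172 H).trans (f1202 H)

theorem f1556 : g 5 • path g [3, 9, 1] p = path g [4, 8, 1] p :=
  scan (u := [0, 1, 0, 1]) (w := [1]) (i := 5) (r3_0_3 H) (step (f1552 H) (step (f181 H) (step (f1555 H) (step (f236 H) rfl)))) (step (H.back (i := 6) (by decide) (f482 H)) rfl)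

theorem f1557 : g 0 • path g [4, 8, 1] p = path g [3, 9, 1] p :=
  H.back (i := 5) (by decide) (f1556 H)

theorem f1558 : g 5 • path g [3, 4, 1] p = path g [8, 9, 1] p :=
  scan (u := [0, 6]) (w := [6, 5, 6]) (i := 5) (r3_1_4 H) (step (f1552 H) (step (f182 H) rfl)) (step (H.back (i := 1) (by decide) (f870 H)) (step (H.back (i := 0) (by decide) (f1551 H)) (step (H.back (i := 1) (by decide) (f481 H)) rfl)))

theorem f1559 : g 0 • path g [8, 9, 1] p = path g [3, 4, 1] p :=
  H.back (i := 5) (by decide) (f1558 H)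

theorem f1560 : g 0 • path g [3, 9, 1] p = path g [4, 8, 1] p :=
  scan (u := [0, 1, 8, 5, 3, 1]) (w := [2]) (i := 0) (r7_1_6 H) (step (f1552 H) (step (f181 H) (step (f34 H) (step (f1256 H) (step (f47 H) (step (f236 H) rfl)))))) (step (H.back (i := 7) (by decide) (f484 H)) rfl)

theorem f1561 : g 5 • path g [4, 8, 1] p = path g [3, 9, 1] p :=
  H.back (i := 0) (by decide) (f1560 H)

theorem f1562 : path g [3, 4, 7] p = path g [3, 4] p :=
  close (u := [0, 1, 0, 0]) (w := [8, 7, 3, 0, 1, 0, 2]) (r6_1_7 H) (step (f1552 H) (step (f181 H) (step (f1555 H) (step (f1280 H) rfl)))) (step (H.back (i := 3) (by decide) (f35 H)) (step (H.back (i := 2) (by decide) (f309 H)) (step (H.back (i := 8) (by decide) (f34 H)) (step (H.back (i := 5) (by decide) (f1204 H)) (step (H.back (i := 6) (by decide) (f237 H)) (step (H.back (i := 5) (by decide) (f1561 H)) (step (H.back (i := 7) (by decide) (f484 H)) rfl)))))))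

theorem f1563 : g 2 • path g [3, 4] p = path g [3, 4] p :=
  (congrArg (g 2 • ·) (f1562 H).symm).trans (f185 H)

theorem f1564 : path g [3, 4, 2] p = path g [3, 4] p :=
  (f176 H).symm.trans (f1563 H)

theorem f1565 : g 5 • path g [3, 4] p = path g [3, 9] p :=
  (congrArg (g 5 • ·) (f1562 H).symm).trans (f1210 H)

theorem f1566 : path g [3, 4, 5] p = path g [3, 9] p :=
  (f178 H).symm.trans (f1565 H)

theorem f1568 : g 0 • path g [3, 9] p = path g [3, 4] p :=
  (f1280 H).trans (f1562 H)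

theorem f1573 : g 5 • path g [3, 4] p = path g [3, 9] p :=
  (f178 H).trans (f1566 H)

theorem f1574 : g 7 • path g [3, 4, 6] p = path g [3, 4, 1] p :=
  scan (u := [0, 1, 4, 5, 5, 5, 6]) (w := [5, 6, 9, 1, 1]) (i := 7) (r12_0_10 H) (step (f1552 H) (step (f181 H) (step (f45 H) (step (f1204 H) (step (f1573 H) (step (f1204 H) (step (f180 H) rfl))))))) (step (H.back (i := 0) (by decide) (f1559 H)) (step (H.back (i := 1) (by decide) (f870 H)) (step (H.back (i := 4) (by decide) (f79 H)) (step (H.back (i := 6) (by decide) (f479 H)) (step (H.back (i := 6) (by decide) (f482 H)) rfl)))))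

theorem f1575 : g 2 • path g [3, 4, 1] p = path g [3, 4, 6] p :=
  H.back (i := 7) (by decide) (f1574 H)

theorem f1576 : g 2 • path g [3, 4] p = path g [3, 4] p :=
  (f176 H).trans (f1564 H)

theorem f1577 : g 5 • path g [4, 8, 6] p = path g [3, 4, 6] p :=
  scan (u := [7, 5, 6, 8, 0, 3, 6]) (w := []) (i := 5) (r7_0_2 H) (step (f1574 H) (step (f1558 H) (step (f871 H) (step (f80 H) (step (f1568 H) (step (f65 H) (step (f480 H) rfl))))))) rfl

theorem f1578 : g 0 • path g [3, 4, 6] p = path g [4, 8, 6] p :=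
  H.back (i := 5) (by decide) (f1577 H)

theorem f1579 : g 2 • path g [3, 9, 1] p = path g [3, 9, 6] p :=
  scan (u := [7, 5, 6, 7, 0, 2, 1, 0]) (w := [1, 5, 6]) (i := 2) (r5_0_2 H) (step (f1574 H) (step (f1558 H) (step (f871 H) (step (f85 H) (step (f1181 H) (step (f452 H) (step (f478 H) (step (f1557 H) rfl)))))))) (step (H.back (i := 6) (by decide) (f242 H)) (step (H.back (i := 0) (by decide) (f1555 H)) (step (H.back (i := 1) (by decide) (f181 H)) rfl)))

theorem f1580 : g 7 • path g [3, 9, 6] p = path g [3, 9, 1] p :=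
  H.back (i := 2) (by decide) (f1579 H)

theorem f1581 : g 0 • path g [3, 4, 1] p = path g [8, 9, 1] p :=
  scan (u := [7]) (w := [2, 1, 0, 2, 1, 5, 6, 7, 5, 6]) (i := 0) (r5_0_5 H) (step (f1574 H) rfl) (step (H.back (i := 7) (by decide) (f893 H)) (step (H.back (i := 6) (by decide) (f889 H)) (step (H.back (i := 5) (by decide) (f1554 H)) (step (H.back (i := 7) (by decide) (f451 H)) (step (H.back (i := 6) (by decide) (f479 H)) (step (H.back (i := 0) (by decide) (f1560 H)) (step (H.back (i := 1) (by decide) (f236 H)) (step (H.back (i := 2) (by decide) (f934 H)) (step (H.back (i := 0) (by decide) (f1555 H)) (step (H.back (i := 1) (by decide) (f181 H)) rfl))))))))))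

theorem f1582 : g 5 • path g [8, 9, 1] p = path g [3, 4, 1] p :=
  H.back (i := 0) (by decide) (f1581 H)

theorem f1583 : g 2 • path g [3, 4, 6] p = path g [3, 4, 1] p :=
  scan (u := [2, 0, 0]) (w := [0, 0]) (i := 2) (r2_0_0 H) (step (f1575 H) (step (f1578 H) (step (f1552 H) rfl))) (step (H.back (i := 5) (by decide) (f1582 H)) (step (H.back (i := 5) (by decide) (f1558 H)) rfl))

theorem f1584 : g 7 • path g [3, 4, 1] p = path g [3, 4, 6] p :=
  H.back (i := 2) (by decide) (f1583 H)

theorem f1585 : g 0 • path g [8, 9, 6] p = path g [3, 9, 6] p :=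
  scan (u := [0, 1]) (w := [1, 5, 1]) (i := 0) (r3_0_3 H) (step (f1581 H) (step (f892 H) rfl)) (step (H.back (i := 6) (by decide) (f242 H)) (step (H.back (i := 0) (by decide) (f1555 H)) (step (H.back (i := 6) (by decide) (f175 H)) rfl)))

theorem f1586 : g 5 • path g [3, 9, 6] p = path g [8, 9, 6] p :=
  H.back (i := 0) (by decide) (f1585 H)

theorem f1587 : g 5 • path g [8, 9, 6] p = path g [3, 9, 6] p :=
  scan (u := [0, 1]) (w := [1, 0, 1]) (i := 5) (r3_0_5 H) (step (f1581 H) (step (f892 H) rfl)) (step (H.back (i := 6) (by decide) (f242 H)) (step (H.back (i := 5) (by decide) (f1573 H)) (step (H.back (i := 6) (by decide) (f175 H)) rfl)))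

theorem f1588 : g 0 • path g [3, 9, 6] p = path g [8, 9, 6] p :=
  H.back (i := 5) (by decide) (f1587 H)

theorem f1589 : g 2 • path g [3, 9, 6] p = path g [3, 9, 1] p :=
  scan (u := [0, 2, 0]) (w := [0, 2, 0, 2]) (i := 2) (r4_0_1 H) (step (f1581 H) (step (f894 H) (step (f1585 H) rfl))) (step (H.back (i := 5) (by decide) (f1561 H)) (step (H.back (i := 7) (by decide) (f484 H)) (step (H.back (i := 5) (by decide) (f1553 H)) (step (H.back (i := 7) (by decide) (f1584 H)) rfl))))

theorem f1590 : g 7 • path g [3, 9, 1] p = path g [3, 9, 6] p :=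
  H.back (i := 2) (by decide) (f1589 H)

theorem f1591 : g 7 • path g [8, 9, 1] p = path g [8, 9, 6] p :=
  scan (u := [5, 5]) (w := [5, 5, 7]) (i := 7) (r2_1_0 H) (step (f1582 H) (step (f1558 H) rfl)) (step (H.back (i := 0) (by decide) (f1588 H)) (step (H.back (i := 0) (by decide) (f1585 H)) (step (H.back (i := 2) (by decide) (f894 H)) rfl)))

theorem f1592 : g 2 • path g [8, 9, 6] p = path g [8, 9, 1] p :=
  H.back (i := 7) (by decide) (f1591 H)

theorem f1593 : g 7 • path g [4, 8, 1] p = path g [4, 8, 6] p :=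
  scan (u := [7, 5, 7, 5]) (w := [5, 7, 5]) (i := 7) (r4_1_1 H) (step (f1591 H) (step (f1587 H) (step (f1580 H) (step (f1556 H) rfl)))) (step (H.back (i := 0) (by decide) (f1578 H)) (step (H.back (i := 2) (by decide) (f1575 H)) (step (H.back (i := 0) (by decide) (f1559 H)) rfl)))

theorem f1594 : g 2 • path g [4, 8, 6] p = path g [4, 8, 1] p :=
  H.back (i := 7) (by decide) (f1593 H)

theorem f1595 : g 3 • path g [3, 4, 1] p = path g [3, 4, 1, 3] p :=
  rfl

theorem f1596 : g 8 • path g [3, 4, 1, 3] p = path g [3, 4, 1] p :=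
  H.back (i := 3) (by decide) (f1595 H)

theorem f1599 : g 8 • path g [3, 4, 1] p = path g [3, 4, 1, 8] p :=
  rfl

theorem f1600 : g 3 • path g [3, 4, 1, 8] p = path g [3, 4, 1] p :=
  H.back (i := 8) (by decide) (f1599 H)

theorem f1603 : g 9 • path g [3, 4, 1] p = path g [3, 4, 1, 9] p :=
  rfl

theorem f1607 : g 3 • path g [3, 4, 6] p = path g [3, 4, 6, 3] p :=
  rfl

theorem f1608 : g 8 • path g [3, 4, 6, 3] p = path g [3, 4, 6] p :=
  H.back (i := 3) (by decide) (f1607 H)

theorem f1609 : g 4 • path g [3, 4, 6] p = path g [3, 4, 6, 4] p :=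
  rfl

theorem f1610 : g 9 • path g [3, 4, 6, 4] p = path g [3, 4, 6] p :=
  H.back (i := 4) (by decide) (f1609 H)

theorem f1611 : g 1 • path g [3, 4, 6, 4] p = path g [8, 1, 9] p :=
  scan (u := [4]) (w := [2, 4, 1, 2, 4, 6, 5, 7, 6, 5, 7, 5, 1, 2]) (i := 1) (r18_0_9 H) (step (f1609 H) rfl) (step (H.back (i := 7) (by decide) (f866 H)) (step (H.back (i := 9) (by decide) (f860 H)) (step (H.back (i := 6) (by decide) (f70 H)) (step (H.back (i := 7) (by decide) (f17 H)) (step (H.back (i := 9) (by decide) (f66 H)) (step (H.back (i := 1) (by decide) (f481 H)) (step (H.back (i := 0) (by decide) (f1578 H)) (step (H.back (i := 2) (by decide) (f1575 H)) (step (H.back (i := 1) (by decide) (f174 H)) (step (H.back (i := 0) (by decide) (f1568 H)) (step (H.back (i := 2) (by decide) (f934 H)) (step (H.back (i := 0) (by decide) (f1555 H)) (step (H.back (i := 6) (by decide) (f175 H)) (step (H.back (i := 7) (by decide) (f1574 H)) rfl))))))))))))))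

theorem f1612 : g 6 • path g [8, 1, 9] p = path g [3, 4, 6, 4] p :=
  H.back (i := 1) (by decide) (f1611 H)

theorem f1613 : g 8 • path g [3, 4, 6] p = path g [3, 4, 6, 8] p :=
  rfl

theorem f1614 : g 3 • path g [3, 4, 6, 8] p = path g [3, 4, 6] p :=
  H.back (i := 8) (by decide) (f1613 H)

theorem f1615 : g 8 • path g [3, 4, 6, 8] p = path g [3, 4, 6, 3] p :=
  scan (u := [8]) (w := [8]) (i := 8) (r9_1_0 H) (step (f1613 H) rfl) (step (H.back (i := 3) (by decide) (f1607 H)) rfl)

theorem f1616 : g 3 • path g [3, 4, 6, 3] p = path g [3, 4, 6, 8] p :=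
  H.back (i := 8) (by decide) (f1615 H)

theorem f1617 : g 0 • path g [3, 4, 6, 8] p = path g [3, 4, 1, 8] p :=
  scan (u := [8]) (w := [3, 6, 5, 7, 5, 6]) (i := 0) (r7_0_5 H) (step (f1613 H) rfl) (step (H.back (i := 8) (by decide) (f1599 H)) (step (H.back (i := 1) (by decide) (f174 H)) (step (H.back (i := 0) (by decide) (f1568 H)) (step (H.back (i := 2) (by decide) (f934 H)) (step (H.back (i := 0) (by decide) (f1555 H)) (step (H.back (i := 1) (by decide) (f181 H)) rfl))))))

theorem f1618 : g 5 • path g [3, 4, 1, 8] p = path g [3, 4, 6, 8] p :=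
  H.back (i := 0) (by decide) (f1617 H)

theorem f1619 : g 9 • path g [3, 4, 6] p = path g [3, 4, 6, 9] p :=
  rfl

theorem f1621 : g 9 • path g [3, 4, 6, 9] p = path g [3, 4, 6, 4] p :=
  scan (u := [9]) (w := [9]) (i := 9) (r13_1_0 H) (step (f1619 H) rfl) (step (H.back (i := 4) (by decide) (f1609 H)) rfl)

theorem f1623 : g 0 • path g [3, 6, 4] p = path g [3, 6, 4, 0] p :=
  rfl

theorem f1625 : g 1 • path g [3, 6, 4] p = path g [3, 6, 4, 1] p :=
  rfl

theorem f1627 : g 2 • path g [3, 6, 4] p = path g [3, 6, 4, 2] p :=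
  rfl

theorem f1629 : g 5 • path g [3, 6, 4] p = path g [3, 6, 4, 5] p :=
  rfl

theorem f1630 : g 0 • path g [3, 6, 4, 5] p = path g [3, 6, 4] p :=
  H.back (i := 5) (by decide) (f1629 H)

theorem f1631 : g 6 • path g [3, 6, 4] p = path g [3, 6, 4, 6] p :=
  rfl

theorem f1632 : g 1 • path g [3, 6, 4, 6] p = path g [3, 6, 4] p :=
  H.back (i := 6) (by decide) (f1631 H)

theorem f1633 : g 6 • path g [3, 6, 4, 6] p = path g [3, 6, 4, 1] p :=
  scan (u := [6]) (w := [6]) (i := 6) (r0_1_0 H) (step (f1631 H) rfl) (step (H.back (i := 1) (by decide) (f1625 H)) rfl)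

theorem f1634 : g 1 • path g [3, 6, 4, 1] p = path g [3, 6, 4, 6] p :=
  H.back (i := 6) (by decide) (f1633 H)

theorem f1640 : g 1 • path g [3, 6, 9] p = path g [3, 6, 9, 1] p :=
  rfl

theorem f1641 : g 6 • path g [3, 6, 9, 1] p = path g [3, 6, 9] p :=
  H.back (i := 1) (by decide) (f1640 H)

theorem f1646 : g 6 • path g [3, 6, 9] p = path g [3, 6, 9, 6] p :=
  rfl

theorem f1647 : g 1 • path g [3, 6, 9, 6] p = path g [3, 6, 9] p :=
  H.back (i := 6) (by decide) (f1646 H)

theorem f1648 : g 6 • path g [3, 6, 9, 6] p = path g [3, 6, 9, 1] p :=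
  scan (u := [6]) (w := [6]) (i := 6) (r0_1_0 H) (step (f1646 H) rfl) (step (H.back (i := 1) (by decide) (f1640 H)) rfl)

theorem f1652 : g 5 • path g [3, 6, 9, 6] p = path g [3, 1, 9, 6] p :=
  scan (u := [6]) (w := [6, 6, 4, 1, 0, 2, 1, 0, 0, 0, 9]) (i := 5) (r12_1_1 H) (step (f1646 H) rfl) (step (H.back (i := 1) (by decide) (f1547 H)) (step (H.back (i := 1) (by decide) (f1539 H)) (step (H.back (i := 9) (by decide) (f142 H)) (step (H.back (i := 6) (by decide) (f40 H)) (step (H.back (i := 5) (by decide) (f1427 H)) (step (H.back (i := 7) (by decide) (f519 H)) (step (H.back (i := 6) (by decide) (f72 H)) (step (H.back (i := 5) (by decide) (f1548 H)) (step (H.back (i := 5) (by decide) (f1427 H)) (step (H.back (i := 5) (by decide) (f1548 H)) (step (H.back (i := 4) (by decide) (f231 H)) rfl)))))))))))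

theorem f1653 : g 0 • path g [3, 1, 9, 6] p = path g [3, 6, 9, 6] p :=
  H.back (i := 5) (by decide) (f1652 H)

theorem f1654 : g 5 • path g [3, 4, 6, 4] p = path g [3, 6, 9, 6] p :=
  scan (u := [6, 6, 4, 1, 0, 2, 1, 0, 0, 0, 9, 6]) (w := []) (i := 5) (r12_1_3 H) (step (f1648 H) (step (f1641 H) (step (f231 H) (step (f39 H) (step (f638 H) (step (f545 H) (step (f28 H) (step (f1499 H) (step (f1472 H) (step (f1499 H) (step (f500 H) (step (f1612 H) rfl)))))))))))) rfl

theorem f1657 : g 3 • path g [3, 9, 1] p = path g [3, 9, 1, 3] p :=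
  rfl

theorem f1658 : g 8 • path g [3, 9, 1, 3] p = path g [3, 9, 1] p :=
  H.back (i := 3) (by decide) (f1657 H)

theorem f1661 : g 8 • path g [3, 9, 1] p = path g [3, 9, 1, 8] p :=
  rfl

theorem f1663 : g 8 • path g [3, 9, 1, 8] p = path g [3, 9, 1, 3] p :=
  scan (u := [8]) (w := [8]) (i := 8) (r9_1_0 H) (step (f1661 H) rfl) (step (H.back (i := 3) (by decide) (f1657 H)) rfl)

theorem f1664 : g 3 • path g [3, 9, 1, 3] p = path g [3, 9, 1, 8] p :=
  H.back (i := 8) (by decide) (f1663 H)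

theorem f1665 : g 0 • path g [3, 9, 1, 8] p = path g [3, 4, 6, 8] p :=
  scan (u := [8]) (w := [3, 6, 5, 7, 5, 6]) (i := 0) (r7_0_5 H) (step (f1661 H) rfl) (step (H.back (i := 8) (by decide) (f1613 H)) (step (H.back (i := 1) (by decide) (f183 H)) (step (H.back (i := 0) (by decide) (f1559 H)) (step (H.back (i := 2) (by decide) (f1592 H)) (step (H.back (i := 0) (by decide) (f1588 H)) (step (H.back (i := 1) (by decide) (f245 H)) rfl))))))

theorem f1666 : g 5 • path g [3, 4, 6, 8] p = path g [3, 9, 1, 8] p :=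
  H.back (i := 0) (by decide) (f1665 H)

theorem f1667 : g 9 • path g [3, 9, 1] p = path g [3, 9, 1, 9] p :=
  rfl

theorem f1673 : g 7 • path g [3, 9, 1, 9] p = path g [3, 4, 6, 9] p :=
  scan (u := [9]) (w := [4, 0, 2, 0, 0, 0]) (i := 7) (r10_1_0 H) (step (f1667 H) rfl) (step (H.back (i := 9) (by decide) (f1619 H)) (step (H.back (i := 5) (by decide) (f1577 H)) (step (H.back (i := 7) (by decide) (f1593 H)) (step (H.back (i := 5) (by decide) (f1556 H)) (step (H.back (i := 5) (by decide) (f1561 H)) (step (H.back (i := 5) (by decide) (f1556 H)) rfl))))))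

theorem f1675 : g 3 • path g [3, 9, 6] p = path g [3, 9, 6, 3] p :=
  rfl

theorem f1676 : g 8 • path g [3, 9, 6, 3] p = path g [3, 9, 6] p :=
  H.back (i := 3) (by decide) (f1675 H)

theorem f1677 : g 4 • path g [3, 9, 6] p = path g [3, 9, 6, 4] p :=
  rfl

theorem f1678 : g 9 • path g [3, 9, 6, 4] p = path g [3, 9, 6] p :=
  H.back (i := 4) (by decide) (f1677 H)

theorem f1679 : g 8 • path g [3, 9, 6] p = path g [3, 9, 6, 8] p :=
  rfl

theorem f1680 : g 3 • path g [3, 9, 6, 8] p = path g [3, 9, 6] p :=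
  H.back (i := 8) (by decide) (f1679 H)

theorem f1681 : g 8 • path g [3, 9, 6, 8] p = path g [3, 9, 6, 3] p :=
  scan (u := [8]) (w := [8]) (i := 8) (r9_1_0 H) (step (f1679 H) rfl) (step (H.back (i := 3) (by decide) (f1675 H)) rfl)

theorem f1683 : g 0 • path g [3, 9, 6, 8] p = path g [3, 9, 1, 8] p :=
  scan (u := [8]) (w := [3, 6, 5, 7, 5, 6]) (i := 0) (r7_0_5 H) (step (f1679 H) rfl) (step (H.back (i := 8) (by decide) (f1661 H)) (step (H.back (i := 1) (by decide) (f236 H)) (step (H.back (i := 0) (by decide) (f1555 H)) (step (H.back (i := 2) (by decide) (f1576 H)) (step (H.back (i := 0) (by decide) (f1568 H)) (step (H.back (i := 1) (by decide) (f243 H)) rfl))))))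

theorem f1685 : g 5 • path g [3, 9, 6, 8] p = path g [3, 4, 1, 8] p :=
  scan (u := [8]) (w := [3, 1, 0, 2, 0, 1]) (i := 5) (r7_1_0 H) (step (f1679 H) rfl) (step (H.back (i := 8) (by decide) (f1599 H)) (step (H.back (i := 6) (by decide) (f182 H)) (step (H.back (i := 5) (by decide) (f1577 H)) (step (H.back (i := 7) (by decide) (f1593 H)) (step (H.back (i := 5) (by decide) (f1556 H)) (step (H.back (i := 6) (by decide) (f244 H)) rfl))))))

theorem f1686 : g 0 • path g [3, 4, 1, 8] p = path g [3, 9, 6, 8] p :=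
  H.back (i := 5) (by decide) (f1685 H)

theorem f1687 : g 9 • path g [3, 9, 6] p = path g [3, 9, 6, 9] p :=
  rfl

theorem f1689 : g 9 • path g [3, 9, 6, 9] p = path g [3, 9, 6, 4] p :=
  scan (u := [9]) (w := [9]) (i := 9) (r13_1_0 H) (step (f1687 H) rfl) (step (H.back (i := 4) (by decide) (f1677 H)) rfl)

theorem f1691 : g 2 • path g [3, 9, 6, 9] p = path g [3, 4, 1, 9] p :=
  scan (u := [9]) (w := [4, 5, 5, 5, 7, 5]) (i := 2) (r10_0_5 H) (step (f1687 H) rfl) (step (H.back (i := 9) (by decide) (f1603 H)) (step (H.back (i := 0) (by decide) (f1559 H)) (step (H.back (i := 0) (by decide) (f1581 H)) (step (H.back (i := 0) (by decide) (f1559 H)) (step (H.back (i := 2) (by decide) (f1592 H)) (step (H.back (i := 0) (by decide) (f1588 H)) rfl))))))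

theorem f1692 : g 7 • path g [3, 4, 1, 9] p = path g [3, 9, 6, 9] p :=
  H.back (i := 2) (by decide) (f1691 H)

theorem f1693 : g 7 • path g [3, 9, 6, 9] p = path g [3, 4, 1, 9] p :=
  scan (u := [9]) (w := [4, 0, 2, 0, 0, 0]) (i := 7) (r10_1_0 H) (step (f1687 H) rfl) (step (H.back (i := 9) (by decide) (f1603 H)) (step (H.back (i := 5) (by decide) (f1582 H)) (step (H.back (i := 7) (by decide) (f893 H)) (step (H.back (i := 5) (by decide) (f1586 H)) (step (H.back (i := 5) (by decide) (f1587 H)) (step (H.back (i := 5) (by decide) (f1586 H)) rfl))))))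

theorem f1694 : g 2 • path g [3, 4, 1, 9] p = path g [3, 9, 6, 9] p :=
  H.back (i := 7) (by decide) (f1693 H)

theorem f1695 : g 6 • path g [3, 4, 1, 9] p = path g [8, 6, 4] p :=
  scan (u := [9, 7]) (w := [9, 7, 6, 9, 7, 6, 0, 2, 0, 1, 2, 0, 1]) (i := 6) (r18_1_0 H) (step (f1687 H) (step (f1693 H) rfl)) (step (H.back (i := 4) (by decide) (f858 H)) (step (H.back (i := 2) (by decide) (f75 H)) (step (H.back (i := 1) (by decide) (f68 H)) (step (H.back (i := 4) (by decide) (f77 H)) (step (H.back (i := 2) (by decide) (f84 H)) (step (H.back (i := 1) (by decide) (f890 H)) (step (H.back (i := 5) (by decide) (f1586 H)) (step (H.back (i := 7) (by decide) (f1590 H)) (step (H.back (i := 5) (by decide) (f1561 H)) (step (H.back (i := 6) (by decide) (f482 H)) (step (H.back (i := 7) (by decide) (f1593 H)) (step (H.back (i := 5) (by decide) (f1556 H)) (step (H.back (i := 6) (by decide) (f244 H)) rfl)))))))))))))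

theorem f1696 : g 1 • path g [8, 6, 4] p = path g [3, 4, 1, 9] p :=
  H.back (i := 6) (by decide) (f1695 H)

theorem f1700 : g 0 • path g [4, 1, 3] p = path g [4, 1, 3, 0] p :=
  rfl

theorem f1701 : g 5 • path g [4, 1, 3, 0] p = path g [4, 1, 3] p :=
  H.back (i := 0) (by decide) (f1700 H)

theorem f1702 : g 2 • path g [4, 1, 3, 0] p = path g [9, 6, 3] p :=
  scan (u := [0]) (w := [8, 6, 5, 7, 5, 6, 3]) (i := 2) (r8_1_7 H) (step (f1700 H) rfl) (step (H.back (i := 3) (by decide) (f1260 H)) (step (H.back (i := 1) (by decide) (f97 H)) (step (H.back (i := 0) (by decide) (f1085 H)) (step (H.back (i := 2) (by decide) (f323 H)) (step (H.back (i := 0) (by decide) (f392 H)) (step (H.back (i := 1) (by decide) (f59 H)) (step (H.back (i := 8) (by decide) (f281 H)) rfl)))))))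

theorem f1704 : g 1 • path g [4, 1, 3, 0] p = path g [3, 9, 6, 8] p :=
  scan (u := [0]) (w := [3, 0, 1, 3, 0, 1, 3]) (i := 1) (r17_0_0 H) (step (f1700 H) rfl) (step (H.back (i := 8) (by decide) (f1679 H)) (step (H.back (i := 5) (by decide) (f1587 H)) (step (H.back (i := 6) (by decide) (f889 H)) (step (H.back (i := 8) (by decide) (f83 H)) (step (H.back (i := 5) (by decide) (f1256 H)) (step (H.back (i := 6) (by decide) (f51 H)) (step (H.back (i := 8) (by decide) (f281 H)) rfl)))))))

theorem f1705 : g 6 • path g [3, 9, 6, 8] p = path g [4, 1, 3, 0] p :=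
  H.back (i := 1) (by decide) (f1704 H)

theorem f1706 : g 1 • path g [4, 1, 3] p = path g [4, 1, 3, 1] p :=
  rfl

theorem f1710 : g 5 • path g [4, 1, 3] p = path g [4, 1, 3, 5] p :=
  rfl

theorem f1716 : g 7 • path g [4, 1, 3] p = path g [4, 1, 3, 7] p :=
  rfl

theorem f1717 : g 2 • path g [4, 1, 3, 7] p = path g [4, 1, 3] p :=
  H.back (i := 7) (by decide) (f1716 H)

theorem f1718 : g 5 • path g [4, 1, 3, 7] p = path g [4, 6, 3] p :=
  scan (u := [7]) (w := [8, 1, 0, 2, 0, 1, 3]) (i := 5) (r8_0_0 H) (step (f1716 H) rfl) (step (H.back (i := 3) (by decide) (f462 H)) (step (H.back (i := 6) (by decide) (f56 H)) (step (H.back (i := 5) (by decide) (f1217 H)) (step (H.back (i := 7) (by decide) (f23 H)) (step (H.back (i := 5) (by decide) (f1256 H)) (step (H.back (i := 6) (by decide) (f51 H)) (step (H.back (i := 8) (by decide) (f281 H)) rfl)))))))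

theorem f1719 : g 0 • path g [4, 6, 3] p = path g [4, 1, 3, 7] p :=
  H.back (i := 5) (by decide) (f1718 H)

theorem f1721 : g 1 • path g [4, 1, 8] p = path g [4, 1, 8, 1] p :=
  rfl

theorem f1722 : g 6 • path g [4, 1, 8, 1] p = path g [4, 1, 8] p :=
  H.back (i := 1) (by decide) (f1721 H)

theorem f1723 : g 6 • path g [4, 1, 8] p = path g [4, 1, 8, 6] p :=
  rfl

theorem f1725 : g 6 • path g [4, 1, 8, 6] p = path g [4, 1, 8, 1] p :=
  scan (u := [6]) (w := [6]) (i := 6) (r0_1_0 H) (step (f1723 H) rfl) (step (H.back (i := 1) (by decide) (f1721 H)) rfl)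

theorem f1726 : g 1 • path g [4, 1, 8, 1] p = path g [4, 1, 8, 6] p :=
  H.back (i := 6) (by decide) (f1725 H)

theorem f1732 : g 1 • path g [4, 6, 3] p = path g [4, 6, 3, 1] p :=
  rfl

theorem f1734 : g 2 • path g [4, 6, 3] p = path g [4, 6, 3, 2] p :=
  rfl

theorem f1736 : g 5 • path g [4, 6, 3] p = path g [4, 6, 3, 5] p :=
  rfl

theorem f1738 : g 6 • path g [4, 6, 3] p = path g [4, 6, 3, 6] p :=
  rfl

theorem f1739 : g 1 • path g [4, 6, 3, 6] p = path g [4, 6, 3] p :=
  H.back (i := 6) (by decide) (f1738 H)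

theorem f1740 : g 6 • path g [4, 6, 3, 6] p = path g [4, 6, 3, 1] p :=
  scan (u := [6]) (w := [6]) (i := 6) (r0_1_0 H) (step (f1738 H) rfl) (step (H.back (i := 1) (by decide) (f1732 H)) rfl)

theorem f1741 : g 1 • path g [4, 6, 3, 1] p = path g [4, 6, 3, 6] p :=
  H.back (i := 6) (by decide) (f1740 H)

theorem f1742 : g 3 • path g [4, 6, 3, 6] p = path g [4, 8, 1] p :=
  scan (u := [6]) (w := [0, 2, 8, 6, 5, 7, 5]) (i := 3) (r8_1_5 H) (step (f1738 H) rfl) (step (H.back (i := 5) (by decide) (f1556 H)) (step (H.back (i := 7) (by decide) (f1580 H)) (step (H.back (i := 3) (by decide) (f1680 H)) (step (H.back (i := 1) (by decide) (f1704 H)) (step (H.back (i := 0) (by decide) (f1700 H)) (step (H.back (i := 2) (by decide) (f1717 H)) (step (H.back (i := 0) (by decide) (f1719 H)) rfl)))))))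

theorem f1743 : g 8 • path g [4, 8, 1] p = path g [4, 6, 3, 6] p :=
  H.back (i := 3) (by decide) (f1742 H)

theorem f1744 : g 2 • path g [3, 4, 6, 8] p = path g [4, 6, 3, 6] p :=
  scan (u := [3, 5, 5, 6, 5, 7, 5, 6, 5, 8]) (w := []) (i := 2) (r6_0_10 H) (step (f1742 H) (step (f1561 H) (step (f1556 H) (step (f479 H) (step (f1554 H) (step (f85 H) (step (f1184 H) (step (f480 H) (step (f1577 H) (step (f1613 H) rfl)))))))))) rfl

theorem f1746 : g 7 • path g [3, 4, 6, 8] p = path g [4, 6, 3, 6] p :=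
  scan (u := [3, 0, 1, 0, 2, 0, 1, 0, 0, 8]) (w := []) (i := 7) (r6_1_2 H) (step (f1742 H) (step (f1557 H) (step (f245 H) (step (f1588 H) (step (f1592 H) (step (f1559 H) (step (f183 H) (step (f1578 H) (step (f1552 H) (step (f1613 H) rfl)))))))))) rfl

theorem f1747 : g 2 • path g [4, 6, 3, 6] p = path g [3, 4, 6, 8] p :=
  H.back (i := 7) (by decide) (f1746 H)

theorem f1748 : g 1 • path g [4, 6, 3, 2] p = path g [3, 4, 6, 8] p :=
  scan (u := [2, 1, 2]) (w := []) (i := 1) (r1_0_0 H) (step (f1744 H) (step (f1739 H) (step (f1734 H) rfl))) rfl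

theorem f1749 : g 6 • path g [3, 4, 6, 8] p = path g [4, 6, 3, 2] p :=
  H.back (i := 1) (by decide) (f1748 H)

theorem f1750 : g 0 • path g [9, 1, 3] p = path g [4, 6, 3, 2] p :=
  scan (u := [1, 3, 0, 1, 3, 0, 1, 3]) (w := []) (i := 0) (r17_0_1 H) (step (f1748 H) (step (f1614 H) (step (f1578 H) (step (f481 H) (step (f63 H) (step (f1267 H) (step (f88 H) (step (f941 H) rfl)))))))) rfl

theorem f1751 : g 5 • path g [4, 6, 3, 2] p = path g [9, 1, 3] p :=
  H.back (i := 0) (by decide) (f1750 H)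

theorem f1754 : g 1 • path g [4, 6, 8] p = path g [4, 6, 8, 1] p :=
  rfl

theorem f1755 : g 6 • path g [4, 6, 8, 1] p = path g [4, 6, 8] p :=
  H.back (i := 1) (by decide) (f1754 H)

theorem f1756 : g 2 • path g [4, 6, 8, 1] p = path g [4, 1, 8, 6] p :=
  scan (u := [1]) (w := [1, 2]) (i := 2) (r1_0_1 H) (step (f1754 H) rfl) (step (H.back (i := 6) (by decide) (f1723 H)) (step (H.back (i := 7) (by decide) (f472 H)) rfl))

theorem f1758 : g 6 • path g [4, 6, 8] p = path g [4, 6, 8, 6] p :=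
  rfl

theorem f1759 : g 1 • path g [4, 6, 8, 6] p = path g [4, 6, 8] p :=
  H.back (i := 6) (by decide) (f1758 H)

theorem f1760 : g 6 • path g [4, 6, 8, 6] p = path g [4, 6, 8, 1] p :=
  scan (u := [6]) (w := [6]) (i := 6) (r0_1_0 H) (step (f1758 H) rfl) (step (H.back (i := 1) (by decide) (f1754 H)) rfl)

theorem f1761 : g 1 • path g [4, 6, 8, 1] p = path g [4, 6, 8, 6] p :=
  H.back (i := 6) (by decide) (f1760 H)

theorem f1762 : g 7 • path g [4, 6, 8, 6] p = path g [4, 1, 8, 1] p :=
  scan (u := [6]) (w := [6, 7]) (i := 7) (r1_1_0 H) (step (f1758 H) rfl) (step (H.back (i := 1) (by decide) (f1721 H)) (step (H.back (i := 2) (by decide) (f470 H)) rfl))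

theorem f1763 : g 2 • path g [4, 1, 8, 1] p = path g [4, 6, 8, 6] p :=
  H.back (i := 7) (by decide) (f1762 H)

theorem f1764 : g 5 • path g [4, 6, 8, 6] p = path g [3, 9, 1, 3] p :=
  scan (u := [6]) (w := [8, 6, 5, 8, 6, 5, 8]) (i := 5) (r17_1_1 H) (step (f1758 H) rfl) (step (H.back (i := 3) (by decide) (f1657 H)) (step (H.back (i := 1) (by decide) (f236 H)) (step (H.back (i := 0) (by decide) (f1555 H)) (step (H.back (i := 3) (by decide) (f35 H)) (step (H.back (i := 1) (by decide) (f57 H)) (step (H.back (i := 0) (by decide) (f392 H)) (step (H.back (i := 3) (by decide) (f465 H)) rfl)))))))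

theorem f1765 : g 0 • path g [3, 9, 1, 3] p = path g [4, 6, 8, 6] p :=
  H.back (i := 5) (by decide) (f1764 H)

theorem f1766 : g 7 • path g [3, 4, 6, 3] p = path g [4, 6, 8, 6] p :=
  scan (u := [5, 8, 1, 0, 2, 0, 1, 3]) (w := []) (i := 7) (r8_0_1 H) (step (f1764 H) (step (f1658 H) (step (f245 H) (step (f1588 H) (step (f1592 H) (step (f1559 H) (step (f183 H) (step (f1607 H) rfl)))))))) rfl

theorem f1768 : g 3 • path g [4, 8, 1] p = path g [4, 8, 1, 3] p :=
  rfl

theorem f1769 : g 8 • path g [4, 8, 1, 3] p = path g [4, 8, 1] p :=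
  H.back (i := 3) (by decide) (f1768 H)

theorem f1770 : g 3 • path g [4, 8, 1, 3] p = path g [4, 6, 3, 6] p :=
  scan (u := [3]) (w := [3]) (i := 3) (r9_0_0 H) (step (f1768 H) rfl) (step (H.back (i := 8) (by decide) (f1743 H)) rfl)

theorem f1772 : g 5 • path g [3, 9, 6, 3] p = path g [4, 8, 1, 3] p :=
  scan (u := [3, 1, 0, 2, 0, 1, 8]) (w := []) (i := 5) (r7_1_2 H) (step (f1770 H) (step (f1739 H) (step (f1719 H) (step (f1717 H) (step (f1700 H) (step (f1704 H) (step (f1681 H) rfl))))))) rfl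

theorem f1773 : g 0 • path g [4, 8, 1, 3] p = path g [3, 9, 6, 3] p :=
  H.back (i := 5) (by decide) (f1772 H)

theorem f1774 : g 5 • path g [4, 8, 1, 3] p = path g [4, 1, 8, 1] p :=
  scan (u := [5]) (w := [6, 5, 7, 5, 6, 5, 8, 2, 3]) (i := 5) (r6_0_0 H) (step (f1772 H) rfl) (step (H.back (i := 1) (by decide) (f1721 H)) (step (H.back (i := 0) (by decide) (f468 H)) (step (H.back (i := 2) (by decide) (f473 H)) (step (H.back (i := 0) (by decide) (f468 H)) (step (H.back (i := 1) (by decide) (f1759 H)) (step (H.back (i := 0) (by decide) (f1765 H)) (step (H.back (i := 3) (by decide) (f1657 H)) (step (H.back (i := 7) (by decide) (f1580 H)) (step (H.back (i := 8) (by decide) (f1676 H)) rfl)))))))))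

theorem f1775 : g 0 • path g [4, 1, 8, 1] p = path g [4, 8, 1, 3] p :=
  H.back (i := 5) (by decide) (f1774 H)

theorem f1782 : g 3 • path g [4, 8, 6] p = path g [4, 8, 6, 3] p :=
  rfl

theorem f1783 : g 8 • path g [4, 8, 6, 3] p = path g [4, 8, 6] p :=
  H.back (i := 3) (by decide) (f1782 H)

theorem f1784 : g 8 • path g [4, 8, 6] p = path g [4, 8, 6, 8] p :=
  rfl

theorem f1786 : g 8 • path g [4, 8, 6, 8] p = path g [4, 8, 6, 3] p :=
  scan (u := [8]) (w := [8]) (i := 8) (r9_1_0 H) (step (f1784 H) rfl) (step (H.back (i := 3) (by decide) (f1782 H)) rfl)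

theorem f1787 : g 3 • path g [4, 8, 6, 3] p = path g [4, 8, 6, 8] p :=
  H.back (i := 8) (by decide) (f1786 H)

theorem f1788 : g 0 • path g [4, 8, 6, 8] p = path g [4, 6, 3, 6] p :=
  scan (u := [8]) (w := [3, 6, 5, 7, 5, 6]) (i := 0) (r7_0_5 H) (step (f1784 H) rfl) (step (H.back (i := 8) (by decide) (f1743 H)) (step (H.back (i := 1) (by decide) (f478 H)) (step (H.back (i := 0) (by decide) (f1181 H)) (step (H.back (i := 2) (by decide) (f84 H)) (step (H.back (i := 0) (by decide) (f1551 H)) (step (H.back (i := 1) (by decide) (f481 H)) rfl))))))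

theorem f1789 : g 5 • path g [4, 6, 3, 6] p = path g [4, 8, 6, 8] p :=
  H.back (i := 0) (by decide) (f1788 H)

theorem f1790 : g 2 • path g [4, 8, 6, 8] p = path g [3, 4, 1, 8] p :=
  scan (u := [8]) (w := [3, 5, 5, 6, 5, 7, 5, 6, 5]) (i := 2) (r6_0_8 H) (step (f1784 H) rfl) (step (H.back (i := 8) (by decide) (f1599 H)) (step (H.back (i := 0) (by decide) (f1559 H)) (step (H.back (i := 0) (by decide) (f1581 H)) (step (H.back (i := 1) (by decide) (f174 H)) (step (H.back (i := 0) (by decide) (f1568 H)) (step (H.back (i := 2) (by decide) (f934 H)) (step (H.back (i := 0) (by decide) (f1555 H)) (step (H.back (i := 1) (by decide) (f181 H)) (step (H.back (i := 0) (by decide) (f1552 H)) rfl)))))))))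

theorem f1792 : g 7 • path g [4, 8, 6, 8] p = path g [3, 4, 1, 8] p :=
  scan (u := [8]) (w := [3, 0, 1, 0, 2, 0, 1, 0, 0]) (i := 7) (r6_1_0 H) (step (f1784 H) rfl) (step (H.back (i := 8) (by decide) (f1599 H)) (step (H.back (i := 5) (by decide) (f1582 H)) (step (H.back (i := 6) (by decide) (f891 H)) (step (H.back (i := 5) (by decide) (f1586 H)) (step (H.back (i := 7) (by decide) (f1590 H)) (step (H.back (i := 5) (by decide) (f1561 H)) (step (H.back (i := 6) (by decide) (f482 H)) (step (H.back (i := 5) (by decide) (f1553 H)) (step (H.back (i := 5) (by decide) (f1577 H)) rfl)))))))))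

theorem f1793 : g 2 • path g [3, 4, 1, 8] p = path g [4, 8, 6, 8] p :=
  H.back (i := 7) (by decide) (f1792 H)

theorem f1794 : path g [4, 6, 3, 2] p = path g [4, 6, 3] p :=
  close (u := [7, 5, 6]) (w := [8, 0, 3, 6, 5]) (r7_0_2 H) (step (f1792 H) (step (f1618 H) (step (f1749 H) rfl))) (step (H.back (i := 3) (by decide) (f462 H)) (step (H.back (i := 5) (by decide) (f391 H)) (step (H.back (i := 8) (by decide) (f463 H)) (step (H.back (i := 1) (by decide) (f1739 H)) (step (H.back (i := 0) (by decide) (f1788 H)) rfl)))))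

theorem f1798 : g 1 • path g [4, 6, 3] p = path g [3, 4, 6, 8] p :=
  (congrArg (g 1 • ·) (f1794 H).symm).trans (f1748 H)

theorem f1799 : path g [4, 6, 3, 1] p = path g [3, 4, 6, 8] p :=
  (f1732 H).symm.trans (f1798 H)

theorem f1800 : g 5 • path g [4, 6, 3] p = path g [9, 1, 3] p :=
  (congrArg (g 5 • ·) (f1794 H).symm).trans (f1751 H)

theorem f1801 : path g [4, 6, 3, 5] p = path g [9, 1, 3] p :=
  (f1736 H).symm.trans (f1800 H)

theorem f1806 : g 0 • path g [9, 1, 3] p = path g [4, 6, 3] p :=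
  (f1750 H).trans (f1794 H)

theorem f1809 : g 6 • path g [3, 4, 6, 8] p = path g [4, 6, 3] p :=
  (f1749 H).trans (f1794 H)

theorem f1811 : g 1 • path g [3, 4, 6, 8] p = path g [4, 6, 3, 6] p :=
  (congrArg (g 1 • ·) (f1799 H).symm).trans (f1741 H)

theorem f1814 : g 5 • path g [4, 6, 3] p = path g [9, 1, 3] p :=
  (f1736 H).trans (f1801 H)

theorem f1815 : g 5 • path g [9, 6, 3] p = path g [4, 1, 3, 7] p :=
  scan (u := [7, 5, 6, 5, 8, 2, 3]) (w := [5, 6, 5]) (i := 5) (r6_0_4 H) (step (f1792 H) (step (f1618 H) (step (f1809 H) (step (f1814 H) (step (f942 H) (step (f99 H) (step (f1260 H) rfl))))))) (step (H.back (i := 0) (by decide) (f1719 H)) (step (H.back (i := 1) (by decide) (f1739 H)) (step (H.back (i := 0) (by decide) (f1788 H)) rfl)))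

theorem f1816 : g 0 • path g [4, 1, 3, 7] p = path g [9, 6, 3] p :=
  H.back (i := 5) (by decide) (f1815 H)

theorem f1819 : g 1 • path g [4, 6, 3] p = path g [3, 4, 6, 8] p :=
  (f1732 H).trans (f1799 H)

theorem f1820 : path g [4, 6, 8, 6] p = path g [4, 8, 6, 3] p :=
  close (u := [0, 1, 0, 2, 0, 1, 0, 0, 8, 7]) (w := [3]) (r6_1_3 H) (step (f1788 H) (step (f1739 H) (step (f1719 H) (step (f1717 H) (step (f1700 H) (step (f1704 H) (step (f1683 H) (step (f1665 H) (step (f1615 H) (step (f1766 H) rfl)))))))))) (step (H.back (i := 8) (by decide) (f1786 H)) rfl)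

theorem f1821 : path g [4, 8, 6, 3] p = path g [4, 6, 8, 6] p :=
  (f1820 H).symm

theorem f1822 : g 8 • path g [4, 6, 8, 6] p = path g [4, 8, 6] p :=
  (congrArg (g 8 • ·) (f1821 H).symm).trans (f1783 H)

theorem f1825 : g 3 • path g [4, 6, 8, 6] p = path g [4, 8, 6, 8] p :=
  (congrArg (g 3 • ·) (f1821 H).symm).trans (f1787 H)

theorem f1827 : g 8 • path g [4, 8, 6, 8] p = path g [4, 6, 8, 6] p :=
  H.back (i := 3) (by decide) (f1825 H)

theorem f1828 : path g [4, 1, 8, 1] p = path g [3, 4, 6, 3] p :=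
  close (u := [5, 8, 1, 0, 2, 0, 1]) (w := [3, 7]) (r8_0_1 H) (step (f1789 H) (step (f1827 H) (step (f1759 H) (step (f468 H) (step (f473 H) (step (f468 H) (step (f1721 H) rfl))))))) (step (H.back (i := 8) (by decide) (f1615 H)) (step (H.back (i := 2) (by decide) (f1747 H)) rfl))

theorem f1829 : g 6 • path g [3, 4, 6, 3] p = path g [4, 1, 8] p :=
  (congrArg (g 6 • ·) (f1828 H).symm).trans (f1722 H)

theorem f1831 : g 1 • path g [4, 1, 8] p = path g [3, 4, 6, 3] p :=
  H.back (i := 6) (by decide) (f1829 H)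

theorem f1832 : g 1 • path g [3, 4, 6, 3] p = path g [4, 1, 8, 6] p :=
  (congrArg (g 1 • ·) (f1828 H).symm).trans (f1726 H)

theorem f1834 : g 6 • path g [4, 1, 8, 6] p = path g [3, 4, 6, 3] p :=
  H.back (i := 1) (by decide) (f1832 H)

theorem f1835 : g 2 • path g [3, 4, 6, 3] p = path g [4, 6, 8, 6] p :=
  (congrArg (g 2 • ·) (f1828 H).symm).trans (f1763 H)

theorem f1837 : g 7 • path g [4, 6, 8, 6] p = path g [3, 4, 6, 3] p :=
  H.back (i := 2) (by decide) (f1835 H)

theorem f1838 : g 0 • path g [3, 4, 6, 3] p = path g [4, 8, 1, 3] p :=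
  (congrArg (g 0 • ·) (f1828 H).symm).trans (f1775 H)

theorem f1840 : g 5 • path g [4, 8, 1, 3] p = path g [3, 4, 6, 3] p :=
  H.back (i := 0) (by decide) (f1838 H)

theorem f1841 : path g [4, 6, 8, 1] p = path g [3, 4, 1, 8] p :=
  close (u := [5, 8, 6]) (w := [5, 8, 6, 5, 8, 6]) (r17_1_2 H) (step (f1789 H) (step (f1827 H) (step (f1760 H) rfl))) (step (H.back (i := 0) (by decide) (f1617 H)) (step (H.back (i := 3) (by decide) (f1616 H)) (step (H.back (i := 1) (by decide) (f1831 H)) (step (H.back (i := 0) (by decide) (f468 H)) (step (H.back (i := 3) (by decide) (f467 H)) (step (H.back (i := 1) (by decide) (f1739 H)) rfl))))))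

theorem f1842 : g 6 • path g [3, 4, 1, 8] p = path g [4, 6, 8] p :=
  (congrArg (g 6 • ·) (f1841 H).symm).trans (f1755 H)

theorem f1845 : g 2 • path g [3, 4, 1, 8] p = path g [4, 1, 8, 6] p :=
  (congrArg (g 2 • ·) (f1841 H).symm).trans (f1756 H)

theorem f1846 : path g [4, 8, 6, 8] p = path g [4, 1, 8, 6] p :=
  (f1793 H).symm.trans (f1845 H)

theorem f1847 : g 1 • path g [3, 4, 1, 8] p = path g [4, 6, 8, 6] p :=
  (congrArg (g 1 • ·) (f1841 H).symm).trans (f1761 H)

theorem f1849 : g 6 • path g [4, 6, 8, 6] p = path g [3, 4, 1, 8] p :=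
  H.back (i := 1) (by decide) (f1847 H)

theorem f1853 : g 8 • path g [4, 1, 8, 6] p = path g [4, 6, 8, 6] p :=
  (congrArg (g 8 • ·) (f1846 H).symm).trans (f1827 H)

theorem f1856 : g 0 • path g [4, 1, 8, 6] p = path g [4, 6, 3, 6] p :=
  (congrArg (g 0 • ·) (f1846 H).symm).trans (f1788 H)

theorem f1859 : g 2 • path g [4, 1, 8, 6] p = path g [3, 4, 1, 8] p :=
  (congrArg (g 2 • ·) (f1846 H).symm).trans (f1790 H)

theorem f1865 : g 1 • path g [3, 4, 1, 3] p = path g [4, 1, 3, 7] p :=
  scan (u := [2, 3, 1, 2, 3]) (w := [2, 3, 1, 2, 3, 1, 2, 3, 1, 2, 3, 1, 2, 3, 1]) (i := 1) (r15_0_1 H) (step (f1859 H) (step (f1600 H) (step (f183 H) (step (f1583 H) (step (f1595 H) rfl))))) (step (H.back (i := 7) (by decide) (f1716 H)) (step (H.back (i := 8) (by decide) (f331 H)) (step (H.back (i := 6) (by decide) (f1829 H)) (step (H.back (i := 7) (by decide) (f1837 H)) (step (H.back (i := 8) (by decide) (f1853 H)) (step (H.back (i := 6) (by decide) (f1723 H)) (step (H.back (i := 7) (by decide)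 (f472 H)) (step (H.back (i := 8) (by decide) (f464 H)) (step (H.back (i := 6) (by decide) (f56 H)) (step (H.back (i := 7) (by decide) (f326 H)) (step (H.back (i := 8) (by decide) (f34 H)) (step (H.back (i := 6) (by decide) (f175 H)) (step (H.back (i := 7) (by decide) (f1574 H)) (step (H.back (i := 8) (by decide) (f1608 H)) (step (H.back (i := 6) (by decide) (f1834 H)) rfl)))))))))))))))

theorem f1867 : g 2 • path g [4, 1, 3, 1] p = path g [3, 4, 1, 3] p :=
  scan (u := [1, 2, 1]) (w := []) (i := 2) (r1_0_1 H) (step (f1865 H) (step (f1717 H) (step (f1706 H) rfl))) rfl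

theorem f1868 : g 7 • path g [3, 4, 1, 3] p = path g [4, 1, 3, 1] p :=
  H.back (i := 2) (by decide) (f1867 H)

theorem f1869 : g 0 • path g [4, 6, 8, 6] p = path g [3, 4, 1, 3] p :=
  scan (u := [1, 5, 1, 0, 1]) (w := []) (i := 0) (r3_0_0 H) (step (f1865 H) (step (f1718 H) (step (f1819 H) (step (f1617 H) (step (f1847 H) rfl))))) rfl

theorem f1870 : g 5 • path g [3, 4, 1, 3] p = path g [4, 6, 8, 6] p :=
  H.back (i := 0) (by decide) (f1869 H)

theorem f1871 : path g [9, 6, 3] p = path g [4, 1, 3, 0] p :=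
  close (u := [1, 0]) (w := [1, 5, 1, 0]) (r3_0_4 H) (step (f1865 H) (step (f1816 H) rfl)) (step (H.back (i := 6) (by decide) (f1705 H)) (step (H.back (i := 0) (by decide) (f1686 H)) (step (H.back (i := 6) (by decide) (f1849 H)) (step (H.back (i := 5) (by decide) (f1870 H)) rfl))))

theorem f1872 : path g [4, 1, 3, 0] p = path g [9, 6, 3] p :=
  (f1871 H).symm

theorem f1873 : g 5 • path g [9, 6, 3] p = path g [4, 1, 3] p :=
  (congrArg (g 5 • ·) (f1872 H).symm).trans (f1701 H)

theorem f1874 : path g [4, 1, 3, 7] p = path g [4, 1, 3] p :=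
  (f1815 H).symm.trans (f1873 H)

theorem f1875 : g 2 • path g [9, 6, 3] p = path g [9, 6, 3] p :=
  (congrArg (g 2 • ·) (f1872 H).symm).trans (f1702 H)

theorem f1878 : g 1 • path g [9, 6, 3] p = path g [3, 9, 6, 8] p :=
  (congrArg (g 1 • ·) (f1872 H).symm).trans (f1704 H)

theorem f1883 : g 5 • path g [4, 1, 3] p = path g [4, 6, 3] p :=
  (congrArg (g 5 • ·) (f1874 H).symm).trans (f1718 H)

theorem f1884 : path g [4, 1, 3, 5] p = path g [4, 6, 3] p :=
  (f1710 H).symm.trans (f1883 H)

theorem f1886 : g 0 • path g [4, 1, 3] p = path g [9, 6, 3] p :=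
  (f1700 H).trans (f1872 H)

theorem f1897 : g 1 • path g [3, 4, 1, 3] p = path g [4, 1, 3] p :=
  (f1865 H).trans (f1874 H)

theorem f1903 : g 0 • path g [4, 6, 3] p = path g [4, 1, 3] p :=
  (f1719 H).trans (f1874 H)

theorem f1908 : g 1 • path g [9, 6, 8] p = path g [3, 9, 1, 8] p :=
  scan (u := [1, 3, 0]) (w := [3, 0, 1, 3, 0]) (i := 1) (r17_0_1 H) (step (f1897 H) (step (f332 H) (step (f1279 H) rfl))) (step (H.back (i := 8) (by decide) (f1661 H)) (step (H.back (i := 5) (by decide) (f1561 H)) (step (H.back (i := 6) (by decide) (f482 H)) (step (H.back (i := 8) (by decide) (f1822 H)) (step (H.back (i := 5) (by decide) (f1870 H)) rfl)))))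

theorem f1909 : g 6 • path g [3, 9, 1, 8] p = path g [9, 6, 8] p :=
  H.back (i := 1) (by decide) (f1908 H)

theorem f1910 : path g [4, 8, 1, 3] p = path g [4, 1, 3, 1] p :=
  close (u := [1, 0, 2, 1, 5, 6, 7, 5, 6, 7, 0]) (w := [2]) (r5_0_8 H) (step (f1897 H) (step (f1886 H) (step (f1875 H) (step (f1878 H) (step (f1685 H) (step (f1842 H) (step (f472 H) (step (f469 H) (step (f1758 H) (step (f1837 H) (step (f1838 H) rfl))))))))))) (step (H.back (i := 7) (by decide) (f1868 H)) rfl)

theorem f1911 : g 8 • path g [4, 1, 3, 1] p = path g [4, 8, 1] p :=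
  (congrArg (g 8 • ·) (f1910 H).symm).trans (f1769 H)

theorem f1913 : g 3 • path g [4, 8, 1] p = path g [4, 1, 3, 1] p :=
  H.back (i := 8) (by decide) (f1911 H)

theorem f1914 : g 3 • path g [4, 1, 3, 1] p = path g [4, 6, 3, 6] p :=
  (congrArg (g 3 • ·) (f1910 H).symm).trans (f1770 H)

theorem f1916 : g 8 • path g [4, 6, 3, 6] p = path g [4, 1, 3, 1] p :=
  H.back (i := 3) (by decide) (f1914 H)

theorem f1917 : g 0 • path g [4, 1, 3, 1] p = path g [3, 9, 6, 3] p :=
  (congrArg (g 0 • ·) (f1910 H).symm).trans (f1773 H)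

theorem f1919 : g 5 • path g [3, 9, 6, 3] p = path g [4, 1, 3, 1] p :=
  H.back (i := 0) (by decide) (f1917 H)

theorem f1920 : g 5 • path g [4, 1, 3, 1] p = path g [3, 4, 6, 3] p :=
  (congrArg (g 5 • ·) (f1910 H).symm).trans (f1840 H)

theorem f1923 : g 5 • path g [4, 1, 3] p = path g [4, 6, 3] p :=
  (f1710 H).trans (f1884 H)

theorem f1924 : path g [9, 1, 3] p = path g [4, 1, 3] p :=
  close (u := [1, 4, 5, 5]) (w := [5, 6, 7, 5, 6, 9, 1, 1, 0]) (r12_0_11 H) (step (f1897 H) (step (f1288 H) (step (f1923 H) (step (f1814 H) rfl)))) (step (H.back (i := 0) (by decide) (f1903 H)) (step (H.back (i := 1) (by decide) (f1739 H)) (step (H.back (i := 2) (by decide) (f1744 H)) (step (H.back (i := 0) (by decide) (f1665 H)) (step (H.back (i := 1) (by decide) (f1908 H)) (step (H.back (i := 4) (by decide) (f1275 H)) (step (H.back (i := 6) (by decide) (f1842 H)) (step (H.back (i := 6) (by decide) (f1849 H)) (step (H.back (i := 5) (by decide) (f1870 H)) rfl)))))))))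

theorem f1933 : g 0 • path g [4, 1, 3] p = path g [4, 6, 3] p :=
  (congrArg (g 0 • ·) (f1924 H).symm).trans (f1806 H)

theorem f1934 : path g [9, 6, 3] p = path g [4, 6, 3] p :=
  (f1886 H).symm.trans (f1933 H)

theorem f1956 : g 1 • path g [4, 6, 3] p = path g [3, 9, 6, 8] p :=
  (congrArg (g 1 • ·) (f1934 H).symm).trans (f1878 H)

theorem f1957 : path g [3, 4, 6, 8] p = path g [3, 9, 6, 8] p :=
  (f1819 H).symm.trans (f1956 H)

theorem f1958 : path g [3, 9, 6, 8] p = path g [3, 4, 6, 8] p :=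
  (f1957 H).symm

theorem f1965 : g 5 • path g [3, 4, 6, 8] p = path g [3, 4, 1, 8] p :=
  (congrArg (g 5 • ·) (f1958 H).symm).trans (f1685 H)

theorem f1966 : path g [3, 9, 1, 8] p = path g [3, 4, 1, 8] p :=
  (f1666 H).symm.trans (f1965 H)

theorem f1980 : g 6 • path g [3, 4, 1, 8] p = path g [9, 6, 8] p :=
  (congrArg (g 6 • ·) (f1966 H).symm).trans (f1909 H)

theorem f1981 : path g [4, 6, 8] p = path g [9, 6, 8] p :=
  (f1842 H).symm.trans (f1980 H)

theorem f1982 : path g [9, 6, 8] p = path g [4, 6, 8] p :=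
  (f1981 H).symm

theorem f1999 : g 7 • path g [4, 6, 8] p = path g [9, 1, 8] p :=
  (congrArg (g 7 • ·) (f1982 H).symm).trans (f1283 H)

theorem f2000 : path g [4, 1, 8] p = path g [9, 1, 8] p :=
  (f472 H).symm.trans (f1999 H)

theorem f2004 : path g [9, 1, 8] p = path g [4, 1, 8] p :=
  (f2000 H).symm

theorem f2015 : g 9 • path g [9, 1, 8] p = path g [4, 6, 8] p :=
  (f1273 H).trans (f1982 H)

theorem f2016 : g 9 • path g [4, 1, 8] p = path g [4, 6, 8] p :=
  (congrArg (g 9 • ·) (f2004 H).symm).trans (f2015 H)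

theorem f2017 : path g [4, 1, 8] p = path g [4, 6, 8] p :=
  (f1286 H).symm.trans (f2016 H)

theorem f2027 : path g [4, 6, 8] p = path g [4, 1, 8] p :=
  (f2017 H).symm

theorem f2053 : g 6 • path g [4, 1, 8] p = path g [4, 6, 8, 6] p :=
  (congrArg (g 6 • ·) (f2027 H).symm).trans (f1758 H)

theorem f2054 : path g [4, 1, 8, 6] p = path g [4, 6, 8, 6] p :=
  (f1723 H).symm.trans (f2053 H)

theorem f2055 : path g [4, 6, 8, 6] p = path g [4, 1, 8, 6] p :=
  (f2054 H).symm

theorem f2063 : g 5 • path g [4, 1, 8, 6] p = path g [3, 9, 1, 3] p :=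
  (congrArg (g 5 • ·) (f2055 H).symm).trans (f1764 H)

theorem f2073 : g 0 • path g [4, 1, 8, 6] p = path g [3, 4, 1, 3] p :=
  (congrArg (g 0 • ·) (f2055 H).symm).trans (f1869 H)

theorem f2074 : path g [4, 6, 3, 6] p = path g [3, 4, 1, 3] p :=
  (f1856 H).symm.trans (f2073 H)

theorem f2086 : g 8 • path g [3, 4, 1, 3] p = path g [4, 1, 3, 1] p :=
  (congrArg (g 8 • ·) (f2074 H).symm).trans (f1916 H)

theorem f2087 : path g [3, 4, 1] p = path g [4, 1, 3, 1] p :=
  (f1596 H).symm.trans (f2086 H)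

theorem f2089 : g 5 • path g [3, 4, 1, 3] p = path g [4, 1, 8, 6] p :=
  (f1870 H).trans (f2055 H)

theorem f2091 : path g [4, 1, 3, 1] p = path g [3, 4, 1] p :=
  (f2087 H).symm

theorem f2105 : g 5 • path g [3, 4, 1] p = path g [3, 4, 6, 3] p :=
  (congrArg (g 5 • ·) (f2091 H).symm).trans (f1920 H)

theorem f2106 : path g [8, 9, 1] p = path g [3, 4, 6, 3] p :=
  (f1558 H).symm.trans (f2105 H)

theorem f2107 : path g [3, 4, 6, 3] p = path g [8, 9, 1] p :=
  (f2106 H).symm

theorem f2108 : g 8 • path g [8, 9, 1] p = path g [3, 4, 6] p :=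
  (congrArg (g 8 • ·) (f2107 H).symm).trans (f1608 H)

theorem f2110 : g 3 • path g [3, 4, 6] p = path g [8, 9, 1] p :=
  H.back (i := 8) (by decide) (f2108 H)

theorem f2121 : g 2 • path g [3, 4, 6, 3] p = path g [4, 1, 8, 6] p :=
  (f1835 H).trans (f2055 H)

theorem f2122 : g 2 • path g [8, 9, 1] p = path g [4, 1, 8, 6] p :=
  (congrArg (g 2 • ·) (f2107 H).symm).trans (f2121 H)

theorem f2123 : path g [8, 9, 6] p = path g [4, 1, 8, 6] p :=
  (f894 H).symm.trans (f2122 H)

theorem f2127 : path g [4, 1, 8, 6] p = path g [8, 9, 6] p :=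
  (f2123 H).symm

theorem f2147 : g 5 • path g [8, 9, 6] p = path g [3, 9, 1, 3] p :=
  (congrArg (g 5 • ·) (f2127 H).symm).trans (f2063 H)

theorem f2148 : path g [3, 9, 6] p = path g [3, 9, 1, 3] p :=
  (f1587 H).symm.trans (f2147 H)

theorem f2149 : path g [3, 9, 1, 3] p = path g [3, 9, 6] p :=
  (f2148 H).symm

theorem f2153 : g 3 • path g [3, 9, 1, 3] p = path g [3, 4, 1, 8] p :=
  (f1664 H).trans (f1966 H)

theorem f2154 : g 3 • path g [3, 9, 6] p = path g [3, 4, 1, 8] p :=
  (congrArg (g 3 • ·) (f2149 H).symm).trans (f2153 H)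

theorem f2155 : path g [3, 9, 6, 3] p = path g [3, 4, 1, 8] p :=
  (f1675 H).symm.trans (f2154 H)

theorem f2164 : g 5 • path g [3, 9, 6, 3] p = path g [3, 4, 1] p :=
  (f1919 H).trans (f2091 H)

theorem f2165 : g 5 • path g [3, 4, 1, 8] p = path g [3, 4, 1] p :=
  (congrArg (g 5 • ·) (f2155 H).symm).trans (f2164 H)

theorem f2166 : path g [3, 4, 6, 8] p = path g [3, 4, 1] p :=
  (f1618 H).symm.trans (f2165 H)

theorem f2183 : g 1 • path g [3, 4, 6, 8] p = path g [3, 4, 1, 3] p :=
  (f1811 H).trans (f2074 H)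

theorem f2184 : g 1 • path g [3, 4, 1] p = path g [3, 4, 1, 3] p :=
  (congrArg (g 1 • ·) (f2166 H).symm).trans (f2183 H)

theorem f2185 : path g [3, 4, 6] p = path g [3, 4, 1, 3] p :=
  (f183 H).symm.trans (f2184 H)

theorem f2186 : path g [3, 4, 1, 3] p = path g [3, 4, 6] p :=
  (f2185 H).symm

theorem f2197 : g 5 • path g [3, 4, 1, 3] p = path g [8, 9, 6] p :=
  (f2089 H).trans (f2127 H)

theorem f2198 : g 5 • path g [3, 4, 6] p = path g [8, 9, 6] p :=
  (congrArg (g 5 • ·) (f2186 H).symm).trans (f2197 H)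

theorem f2199 : path g [4, 8, 6] p = path g [8, 9, 6] p :=
  (f1553 H).symm.trans (f2198 H)

theorem f2206 : path g [8, 9, 6] p = path g [4, 8, 6] p :=
  (f2199 H).symm

theorem f2217 : g 2 • path g [4, 8, 6] p = path g [8, 9, 1] p :=
  (congrArg (g 2 • ·) (f2206 H).symm).trans (f1592 H)

theorem f2218 : path g [4, 8, 1] p = path g [8, 9, 1] p :=
  (f1594 H).symm.trans (f2217 H)

theorem f2228 : path g [8, 9, 1] p = path g [4, 8, 1] p :=
  (f2218 H).symm

theorem f2239 : g 5 • path g [4, 8, 1] p = path g [3, 4, 1] p :=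
  (congrArg (g 5 • ·) (f2228 H).symm).trans (f1582 H)

theorem f2240 : path g [3, 9, 1] p = path g [3, 4, 1] p :=
  (f1561 H).symm.trans (f2239 H)

theorem f2250 : g 3 • path g [4, 8, 1] p = path g [3, 4, 1] p :=
  (f1913 H).trans (f2091 H)

theorem f2275 : g 9 • path g [3, 4, 1] p = path g [3, 9, 1, 9] p :=
  (congrArg (g 9 • ·) (f2240 H).symm).trans (f1667 H)

theorem f2276 : path g [3, 4, 1, 9] p = path g [3, 9, 1, 9] p :=
  (f1603 H).symm.trans (f2275 H)

theorem f2277 : path g [3, 9, 1, 9] p = path g [3, 4, 1, 9] p :=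
  (f2276 H).symm

theorem f2285 : g 7 • path g [3, 4, 1, 9] p = path g [3, 4, 6, 9] p :=
  (congrArg (g 7 • ·) (f2277 H).symm).trans (f1673 H)

theorem f2286 : path g [3, 9, 6, 9] p = path g [3, 4, 6, 9] p :=
  (f1692 H).symm.trans (f2285 H)

theorem f2289 : g 9 • path g [3, 4, 6, 9] p = path g [3, 9, 6, 4] p :=
  (congrArg (g 9 • ·) (f2286 H).symm).trans (f1689 H)

theorem f2290 : path g [3, 4, 6, 4] p = path g [3, 9, 6, 4] p :=
  (f1621 H).symm.trans (f2289 H)

theorem f2297 : path g [3, 9, 6, 4] p = path g [3, 4, 6, 4] p :=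
  (f2290 H).symm

theorem f2298 : g 9 • path g [3, 4, 6, 4] p = path g [3, 9, 6] p :=
  (congrArg (g 9 • ·) (f2297 H).symm).trans (f1678 H)

theorem f2299 : path g [3, 4, 6] p = path g [3, 9, 6] p :=
  (f1610 H).symm.trans (f2298 H)

theorem f2303 : path g [3, 9, 6] p = path g [3, 4, 6] p :=
  (f2299 H).symm

theorem f2321 : g 3 • path g [3, 9, 6] p = path g [3, 4, 1, 8] p :=
  (f1675 H).trans (f2155 H)

theorem f2322 : g 3 • path g [3, 4, 6] p = path g [3, 4, 1, 8] p :=
  (congrArg (g 3 • ·) (f2303 H).symm).trans (f2321 H)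

theorem f2323 : g 3 • path g [3, 4, 6] p = path g [4, 8, 1] p :=
  (f2110 H).trans (f2228 H)

theorem f2324 : path g [4, 8, 1] p = path g [3, 4, 1, 8] p :=
  (f2323 H).symm.trans (f2322 H)

theorem f2334 : path g [3, 4, 1, 8] p = path g [4, 8, 1] p :=
  (f2324 H).symm

theorem f2355 : g 6 • path g [3, 4, 1, 8] p = path g [4, 1, 8] p :=
  (f1842 H).trans (f2027 H)

theorem f2356 : g 6 • path g [4, 8, 1] p = path g [4, 1, 8] p :=
  (congrArg (g 6 • ·) (f2334 H).symm).trans (f2355 H)

theorem f2357 : path g [4, 8] p = path g [4, 1, 8] p :=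
  (f479 H).symm.trans (f2356 H)

theorem f2361 : path g [4, 1, 8] p = path g [4, 8] p :=
  (f2357 H).symm

theorem f2381 : g 9 • path g [4, 1, 8] p = path g [4, 8] p :=
  (f1286 H).trans (f2361 H)

theorem f2382 : g 9 • path g [4, 8] p = path g [4, 8] p :=
  (congrArg (g 9 • ·) (f2361 H).symm).trans (f2381 H)

theorem f2383 : path g [8] p = path g [4, 8] p :=
  (f66 H).symm.trans (f2382 H)

theorem f2391 : path g [4, 8] p = path g [8] p :=
  (f2383 H).symm

theorem f2413 : g 6 • path g [8] p = path g [4, 8, 6] p :=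
  (congrArg (g 6 • ·) (f2391 H).symm).trans (f480 H)

theorem f2414 : path g [8, 6] p = path g [4, 8, 6] p :=
  (f70 H).symm.trans (f2413 H)

theorem f2415 : path g [4, 8, 6] p = path g [8, 6] p :=
  (f2414 H).symm

theorem f2429 : g 2 • path g [8, 6] p = path g [4, 8, 1] p :=
  (congrArg (g 2 • ·) (f2415 H).symm).trans (f1594 H)

theorem f2430 : path g [8, 1] p = path g [4, 8, 1] p :=
  (f517 H).symm.trans (f2429 H)

theorem f2437 : path g [4, 8, 1] p = path g [8, 1] p :=
  (f2430 H).symm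

theorem f2456 : g 3 • path g [8, 1] p = path g [3, 4, 1] p :=
  (congrArg (g 3 • ·) (f2437 H).symm).trans (f2250 H)

theorem f2457 : path g [3, 1] p = path g [3, 4, 1] p :=
  (f1478 H).symm.trans (f2456 H)

theorem f2475 : path g [3, 4, 1] p = path g [3, 1] p :=
  (f2457 H).symm

theorem f2498 : g 9 • path g [3, 1] p = path g [3, 4, 1, 9] p :=
  (congrArg (g 9 • ·) (f2475 H).symm).trans (f1603 H)

theorem f2499 : path g [3, 1, 9] p = path g [3, 4, 1, 9] p :=
  (f142 H).symm.trans (f2498 H)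

theorem f2500 : path g [3, 4, 1, 9] p = path g [3, 1, 9] p :=
  (f2499 H).symm

theorem f2509 : g 2 • path g [3, 4, 1, 9] p = path g [3, 4, 6, 9] p :=
  (f1694 H).trans (f2286 H)

theorem f2510 : g 2 • path g [3, 1, 9] p = path g [3, 4, 6, 9] p :=
  (congrArg (g 2 • ·) (f2500 H).symm).trans (f2509 H)

theorem f2511 : path g [3, 6, 9] p = path g [3, 4, 6, 9] p :=
  (f842 H).symm.trans (f2510 H)

theorem f2512 : g 6 • path g [3, 1, 9] p = path g [8, 6, 4] p :=
  (congrArg (g 6 • ·) (f2500 H).symm).trans (f1695 H)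

theorem f2513 : path g [3, 1, 9, 6] p = path g [8, 6, 4] p :=
  (f1544 H).symm.trans (f2512 H)

theorem f2515 : g 1 • path g [8, 6, 4] p = path g [3, 1, 9] p :=
  (f1696 H).trans (f2500 H)

theorem f2526 : g 0 • path g [8, 6, 4] p = path g [3, 6, 9, 6] p :=
  (congrArg (g 0 • ·) (f2513 H).symm).trans (f1653 H)

theorem f2528 : g 5 • path g [3, 6, 9, 6] p = path g [8, 6, 4] p :=
  H.back (i := 0) (by decide) (f2526 H)

theorem f2529 : path g [3, 4, 6, 9] p = path g [3, 6, 9] p :=
  (f2511 H).symm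

theorem f2532 : g 9 • path g [3, 6, 9] p = path g [3, 4, 6, 4] p :=
  (congrArg (g 9 • ·) (f2529 H).symm).trans (f1621 H)

theorem f2533 : path g [3, 6, 4] p = path g [3, 4, 6, 4] p :=
  (f232 H).symm.trans (f2532 H)

theorem f2540 : path g [3, 4, 6, 4] p = path g [3, 6, 4] p :=
  (f2533 H).symm

theorem f2541 : g 9 • path g [3, 6, 4] p = path g [3, 4, 6] p :=
  (congrArg (g 9 • ·) (f2540 H).symm).trans (f1610 H)

theorem f2542 : path g [3, 6] p = path g [3, 4, 6] p :=
  (f217 H).symm.trans (f2541 H)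

theorem f2543 : g 1 • path g [3, 6, 4] p = path g [8, 1, 9] p :=
  (congrArg (g 1 • ·) (f2540 H).symm).trans (f1611 H)

theorem f2544 : path g [3, 6, 4, 1] p = path g [8, 1, 9] p :=
  (f1625 H).symm.trans (f2543 H)

theorem f2548 : g 5 • path g [3, 6, 4] p = path g [3, 6, 9, 6] p :=
  (congrArg (g 5 • ·) (f2540 H).symm).trans (f1654 H)

theorem f2549 : path g [3, 6, 4, 5] p = path g [3, 6, 9, 6] p :=
  (f1629 H).symm.trans (f2548 H)

theorem f2550 : path g [3, 6, 9, 6] p = path g [3, 6, 4, 5] p :=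
  (f2549 H).symm

theorem f2551 : g 1 • path g [3, 6, 4, 5] p = path g [3, 6, 9] p :=
  (congrArg (g 1 • ·) (f2550 H).symm).trans (f1647 H)

theorem f2553 : g 6 • path g [3, 6, 9] p = path g [3, 6, 4, 5] p :=
  H.back (i := 1) (by decide) (f2551 H)

theorem f2554 : g 6 • path g [3, 6, 4, 5] p = path g [3, 6, 9, 1] p :=
  (congrArg (g 6 • ·) (f2550 H).symm).trans (f1648 H)

theorem f2556 : g 1 • path g [3, 6, 9, 1] p = path g [3, 6, 4, 5] p :=
  H.back (i := 6) (by decide) (f2554 H)

theorem f2560 : g 5 • path g [3, 6, 4, 5] p = path g [8, 6, 4] p :=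
  (congrArg (g 5 • ·) (f2550 H).symm).trans (f2528 H)

theorem f2562 : g 0 • path g [8, 6, 4] p = path g [3, 6, 4, 5] p :=
  H.back (i := 5) (by decide) (f2560 H)

theorem f2567 : g 6 • path g [8, 1, 9] p = path g [3, 6, 4] p :=
  (f1612 H).trans (f2540 H)

theorem f2569 : g 1 • path g [8, 1, 9] p = path g [3, 6, 4, 6] p :=
  (congrArg (g 1 • ·) (f2544 H).symm).trans (f1634 H)

theorem f2571 : g 6 • path g [3, 6, 4, 6] p = path g [8, 1, 9] p :=
  H.back (i := 1) (by decide) (f2569 H)

theorem f2572 : path g [3, 4, 6] p = path g [3, 6] p :=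
  (f2542 H).symm

theorem f2573 : g 1 • path g [3, 6] p = path g [3, 4] p :=
  (congrArg (g 1 • ·) (f2572 H).symm).trans (f181 H)

theorem f2574 : path g [3] p = path g [3, 4] p :=
  (f39 H).symm.trans (f2573 H)

theorem f2602 : path g [3, 4] p = path g [3] p :=
  (f2574 H).symm

theorem f2621 : g 5 • path g [3] p = path g [3, 9] p :=
  (congrArg (g 5 • ·) (f2602 H).symm).trans (f1573 H)

theorem f2622 : path g [3] p = path g [3, 9] p :=
  (f708 H).symm.trans (f2621 H)

theorem f2629 : path g [3, 9] p = path g [3] p :=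
  (f2622 H).symm

theorem f2634 : g 9 • path g [3] p = path g [3] p :=
  (f42 H).trans (f2629 H)

theorem f2953 : g 1 • path g [3, 6, 4] p = path g [8, 1, 9] p :=
  (f1625 H).trans (f2544 H)

theorem f2954 : g 1 • path g [3, 6, 4, 0] p = path g [8, 6, 9] p :=
  scan (u := [1, 1, 0]) (w := [4, 5, 5, 5, 6, 7, 5, 6, 9]) (i := 1) (r12_0_8 H) (step (f2569 H) (step (f1632 H) (step (f1623 H) rfl))) (step (H.back (i := 9) (by decide) (f860 H)) (step (H.back (i := 0) (by decide) (f1541 H)) (step (H.back (i := 0) (by decide) (f1436 H)) (step (H.back (i := 0) (by decide) (f1541 H)) (step (H.back (i := 1) (by decide) (f41 H)) (step (H.back (i := 2) (by decide) (f838 H)) (step (H.back (i := 0) (by decide) (f1436 H)) (step (H.back (i := 1) (by decide) (f73 H)) (step (H.back (i := 4) (by decide) (f501 H)) rfl)))))))))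

theorem f2955 : g 6 • path g [8, 6, 9] p = path g [3, 6, 4, 0] p :=
  H.back (i := 1) (by decide) (f2954 H)

theorem f2956 : g 6 • path g [3, 1, 9] p = path g [8, 6, 4] p :=
  (f1544 H).trans (f2513 H)

theorem f2957 : g 7 • path g [3, 6, 4, 0] p = path g [3, 6, 4, 6] p :=
  scan (u := [6, 7, 6]) (w := []) (i := 7) (r1_1_0 H) (step (f2571 H) (step (f865 H) (step (f2955 H) rfl))) rfl

theorem f2958 : g 2 • path g [3, 6, 4, 6] p = path g [3, 6, 4, 0] p :=
  H.back (i := 7) (by decide) (f2957 H)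

theorem f2977 : g 0 • path g [8, 1, 9] p = path g [8, 1, 9, 0] p :=
  rfl

theorem f2978 : g 5 • path g [8, 1, 9, 0] p = path g [8, 1, 9] p :=
  H.back (i := 0) (by decide) (f2977 H)

theorem f2979 : g 2 • path g [8, 1, 9, 0] p = path g [3, 1, 9, 5] p :=
  scan (u := [0]) (w := [0, 4, 5, 6, 5, 7, 5, 6, 7, 9]) (i := 2) (r11_0_8 H) (step (f2977 H) rfl) (step (H.back (i := 5) (by decide) (f1542 H)) (step (H.back (i := 9) (by decide) (f142 H)) (step (H.back (i := 0) (by decide) (f1472 H)) (step (H.back (i := 1) (by decide) (f68 H)) (step (H.back (i := 0) (by decide) (f14 H)) (step (H.back (i := 2) (by decide) (f16 H)) (step (H.back (i := 0) (by decide) (f14 H)) (step (H.back (i := 1) (by decide) (f71 H)) (step (H.back (i := 2) (by decide) (f75 H)) (step (H.back (i := 4) (by decide) (f501 H)) rfl))))))))))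

theorem f2981 : g 3 • path g [3, 1, 4, 0] p = path g [3, 1, 9, 1] p :=
  scan (u := [5, 6, 8, 0]) (w := [6, 5, 7]) (i := 3) (r7_0_3 H) (step (f2978 H) (step (f2567 H) (step (f1505 H) (step (f1495 H) rfl)))) (step (H.back (i := 1) (by decide) (f1539 H)) (step (H.back (i := 0) (by decide) (f1543 H)) (step (H.back (i := 2) (by decide) (f2979 H)) rfl)))

theorem f2982 : g 8 • path g [3, 1, 9, 1] p = path g [3, 1, 4, 0] p :=
  H.back (i := 3) (by decide) (f2981 H)

theorem f2983 : g 5 • path g [8, 1, 9] p = path g [8, 1, 9, 5] p :=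
  rfl

theorem f2984 : g 0 • path g [8, 1, 9, 5] p = path g [8, 1, 9] p :=
  H.back (i := 5) (by decide) (f2983 H)

theorem f2985 : g 7 • path g [8, 1, 9, 5] p = path g [3, 1, 9, 0] p :=
  scan (u := [5]) (w := [5, 5, 7, 5]) (i := 7) (r2_1_1 H) (step (f2983 H) rfl) (step (H.back (i := 0) (by decide) (f1537 H)) (step (H.back (i := 0) (by decide) (f1543 H)) (step (H.back (i := 2) (by decide) (f2979 H)) (step (H.back (i := 0) (by decide) (f2977 H)) rfl))))

theorem f2986 : g 2 • path g [3, 1, 9, 0] p = path g [8, 1, 9, 5] p :=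
  H.back (i := 7) (by decide) (f2985 H)

theorem f2990 : g 3 • path g [8, 6, 4] p = path g [8, 6, 4, 3] p :=
  rfl

theorem f2991 : g 8 • path g [8, 6, 4, 3] p = path g [8, 6, 4] p :=
  H.back (i := 3) (by decide) (f2990 H)

theorem f2992 : path g [8, 6, 4, 3] p = path g [8, 6, 4] p :=
  close (u := [3]) (w := [9, 8, 4]) (r14_0_3 H) (step (f2990 H) rfl) (step (H.back (i := 4) (by decide) (f858 H)) (step (H.back (i := 3) (by decide) (f1317 H)) (step (H.back (i := 9) (by decide) (f859 H)) rfl)))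

theorem f2993 : g 8 • path g [8, 6, 4] p = path g [8, 6, 4] p :=
  (congrArg (g 8 • ·) (f2992 H).symm).trans (f2991 H)

theorem f2995 : g 3 • path g [8, 6, 4] p = path g [8, 6, 4] p :=
  H.back (i := 8) (by decide) (f2993 H)

theorem f2996 : g 8 • path g [8, 6, 9] p = path g [8, 6, 9] p :=
  scan (u := [3, 4]) (w := [9]) (i := 8) (r14_1_2 H) (step (f2995 H) (step (f863 H) rfl)) (step (H.back (i := 4) (by decide) (f863 H)) rfl)

theorem f2998 : g 8 • path g [3, 6, 4, 6] p = path g [3, 6, 4, 5] p :=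
  scan (u := [3, 1, 0, 2, 0, 1]) (w := [5]) (i := 8) (r7_1_2 H) (step (f2995 H) (step (f2515 H) (step (f1537 H) (step (f2986 H) (step (f2984 H) (step (f2569 H) rfl)))))) (step (H.back (i := 0) (by decide) (f2562 H)) rfl)

theorem f2999 : g 3 • path g [3, 6, 4, 5] p = path g [3, 6, 4, 6] p :=
  H.back (i := 8) (by decide) (f2998 H)

theorem f3000 : g 5 • path g [8, 6, 4] p = path g [8, 6, 4, 5] p :=
  rfl

theorem f3001 : g 0 • path g [8, 6, 4, 5] p = path g [8, 6, 4] p :=
  H.back (i := 5) (by decide) (f3000 H)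

theorem f3002 : g 7 • path g [8, 6, 4, 5] p = path g [3, 1, 4, 0] p :=
  scan (u := [5]) (w := [5, 9, 2, 4, 5, 5]) (i := 7) (r10_0_2 H) (step (f3000 H) rfl) (step (H.back (i := 0) (by decide) (f1495 H)) (step (H.back (i := 4) (by decide) (f132 H)) (step (H.back (i := 7) (by decide) (f594 H)) (step (H.back (i := 9) (by decide) (f217 H)) (step (H.back (i := 0) (by decide) (f1630 H)) (step (H.back (i := 0) (by decide) (f2562 H)) rfl))))))

theorem f3003 : g 2 • path g [3, 1, 4, 0] p = path g [8, 6, 4, 5] p :=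
  H.back (i := 7) (by decide) (f3002 H)

theorem f3004 : g 3 • path g [3, 1, 4, 6] p = path g [3, 1, 9, 5] p :=
  scan (u := [5, 7, 5, 6]) (w := [0, 2, 8, 6]) (i := 3) (r8_1_2 H) (step (f3000 H) (step (f3002 H) (step (f1496 H) (step (f1514 H) rfl)))) (step (H.back (i := 5) (by decide) (f1542 H)) (step (H.back (i := 7) (by decide) (f841 H)) (step (H.back (i := 3) (by decide) (f1509 H)) (step (H.back (i := 1) (by decide) (f2515 H)) rfl))))

theorem f3005 : g 8 • path g [3, 1, 9, 5] p = path g [3, 1, 4, 6] p :=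
  H.back (i := 3) (by decide) (f3004 H)

theorem f3006 : g 6 • path g [8, 6, 4, 5] p = path g [8, 1, 9, 5] p :=
  scan (u := [5]) (w := [7, 5, 6, 9, 1, 1, 0, 1, 4, 5, 5]) (i := 6) (r12_0_2 H) (step (f3000 H) rfl) (step (H.back (i := 2) (by decide) (f2986 H)) (step (H.back (i := 0) (by decide) (f1537 H)) (step (H.back (i := 1) (by decide) (f2515 H)) (step (H.back (i := 4) (by decide) (f858 H)) (step (H.back (i := 6) (by decide) (f70 H)) (step (H.back (i := 6) (by decide) (f69 H)) (step (H.back (i := 5) (by decide) (f1513 H)) (step (H.back (i := 6) (by decide) (f40 H)) (step (H.back (i := 9) (by decide) (f217 H)) (step (H.back (i := 0) (by decide) (f1630 H)) (step (H.back (i := 0) (by decide) (f2562 H)) rfl)))))))))))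

theorem f3007 : g 1 • path g [8, 1, 9, 5] p = path g [8, 6, 4, 5] p :=
  H.back (i := 6) (by decide) (f3006 H)

theorem f3008 : g 6 • path g [8, 1, 9, 5] p = path g [8, 6, 9] p :=
  scan (u := [5, 6]) (w := [4, 1, 0, 2, 1, 0, 0, 0, 9, 6]) (i := 6) (r12_1_2 H) (step (f3000 H) (step (f3006 H) rfl)) (step (H.back (i := 9) (by decide) (f860 H)) (step (H.back (i := 6) (by decide) (f70 H)) (step (H.back (i := 5) (by decide) (f15 H)) (step (H.back (i := 7) (by decide) (f17 H)) (step (H.back (i := 6) (by decide) (f69 H)) (step (H.back (i := 5) (by decide) (f1513 H)) (step (H.back (i := 5) (by decide) (f1466 H)) (step (H.back (i := 5) (by decide) (f1513 H)) (step (H.back (i := 4) (by decide) (f143 H)) (step (H.back (i := 1) (by decide) (f2515 H)) rfl))))))))))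

theorem f3012 : path g [3, 1, 9, 0] p = path g [3, 6, 4] p :=
  close (u := [0, 1, 0]) (w := [1, 5, 1]) (r3_0_3 H) (step (f3001 H) (step (f2515 H) (step (f1537 H) rfl))) (step (H.back (i := 6) (by decide) (f2567 H)) (step (H.back (i := 0) (by decide) (f2984 H)) (step (H.back (i := 6) (by decide) (f3006 H)) rfl)))

theorem f3013 : g 5 • path g [3, 6, 4] p = path g [3, 1, 9] p :=
  (congrArg (g 5 • ·) (f3012 H).symm).trans (f1538 H)

theorem f3014 : path g [3, 6, 4, 5] p = path g [3, 1, 9] p :=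
  (f1629 H).symm.trans (f3013 H)

theorem f3015 : g 2 • path g [3, 6, 4] p = path g [8, 1, 9, 5] p :=
  (congrArg (g 2 • ·) (f3012 H).symm).trans (f2986 H)

theorem f3016 : path g [3, 6, 4, 2] p = path g [8, 1, 9, 5] p :=
  (f1627 H).symm.trans (f3015 H)

theorem f3017 : path g [8, 1, 9, 5] p = path g [3, 6, 4, 2] p :=
  (f3016 H).symm

theorem f3018 : g 0 • path g [3, 6, 4, 2] p = path g [8, 1, 9] p :=
  (congrArg (g 0 • ·) (f3017 H).symm).trans (f2984 H)

theorem f3020 : g 5 • path g [8, 1, 9] p = path g [3, 6, 4, 2] p :=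
  H.back (i := 0) (by decide) (f3018 H)

theorem f3024 : g 1 • path g [3, 6, 4, 2] p = path g [8, 6, 4, 5] p :=
  (congrArg (g 1 • ·) (f3017 H).symm).trans (f3007 H)

theorem f3026 : g 6 • path g [8, 6, 4, 5] p = path g [3, 6, 4, 2] p :=
  H.back (i := 1) (by decide) (f3024 H)

theorem f3027 : g 6 • path g [3, 6, 4, 2] p = path g [8, 6, 9] p :=
  (congrArg (g 6 • ·) (f3017 H).symm).trans (f3008 H)

theorem f3029 : g 1 • path g [8, 6, 9] p = path g [3, 6, 4, 2] p :=
  H.back (i := 6) (by decide) (f3027 H)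

theorem f3041 : g 3 • path g [3, 1, 9] p = path g [3, 6, 4, 6] p :=
  (congrArg (g 3 • ·) (f3014 H).symm).trans (f2999 H)

theorem f3042 : path g [3, 6, 9] p = path g [3, 6, 4, 6] p :=
  (f1509 H).symm.trans (f3041 H)

theorem f3054 : path g [3, 6, 4, 6] p = path g [3, 6, 9] p :=
  (f3042 H).symm

theorem f3058 : g 6 • path g [3, 6, 9] p = path g [3, 1, 9] p :=
  (f2553 H).trans (f3014 H)

theorem f3060 : g 2 • path g [3, 6, 9] p = path g [3, 6, 4, 0] p :=
  (congrArg (g 2 • ·) (f3054 H).symm).trans (f2958 H)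

theorem f3061 : path g [3, 1, 9] p = path g [3, 6, 4, 0] p :=
  (f836 H).symm.trans (f3060 H)

theorem f3065 : path g [3, 6, 4, 0] p = path g [3, 1, 9] p :=
  (f3061 H).symm

theorem f3068 : g 1 • path g [3, 1, 9] p = path g [8, 6, 9] p :=
  (congrArg (g 1 • ·) (f3065 H).symm).trans (f2954 H)

theorem f3069 : path g [3, 1, 9, 1] p = path g [8, 6, 9] p :=
  (f1539 H).symm.trans (f3068 H)

theorem f3081 : g 8 • path g [8, 6, 9] p = path g [3, 1, 4, 0] p :=
  (congrArg (g 8 • ·) (f3069 H).symm).trans (f2982 H)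

theorem f3082 : path g [8, 6, 9] p = path g [3, 1, 4, 0] p :=
  (f2996 H).symm.trans (f3081 H)

theorem f3083 : path g [3, 1, 4, 0] p = path g [8, 6, 9] p :=
  (f3082 H).symm

theorem f3090 : g 2 • path g [8, 6, 9] p = path g [8, 6, 4, 5] p :=
  (congrArg (g 2 • ·) (f3083 H).symm).trans (f3003 H)

theorem f3091 : path g [8, 1, 9] p = path g [8, 6, 4, 5] p :=
  (f864 H).symm.trans (f3090 H)

theorem f3092 : path g [8, 6, 4, 5] p = path g [8, 1, 9] p :=
  (f3091 H).symm

theorem f3098 : g 6 • path g [8, 1, 9] p = path g [3, 6, 4, 2] p :=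
  (congrArg (g 6 • ·) (f3092 H).symm).trans (f3026 H)

theorem f3099 : path g [3, 6, 4] p = path g [3, 6, 4, 2] p :=
  (f2567 H).symm.trans (f3098 H)

theorem f3100 : path g [3, 6, 4, 2] p = path g [3, 6, 4] p :=
  (f3099 H).symm

theorem f3109 : g 6 • path g [3, 6, 4] p = path g [8, 6, 9] p :=
  (congrArg (g 6 • ·) (f3100 H).symm).trans (f3027 H)

theorem f3110 : g 6 • path g [3, 6, 4] p = path g [3, 6, 9] p :=
  (f1631 H).trans (f3054 H)

theorem f3111 : path g [3, 6, 9] p = path g [8, 6, 9] p :=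
  (f3110 H).symm.trans (f3109 H)

theorem f3112 : path g [8, 6, 9] p = path g [3, 6, 9] p :=
  (f3111 H).symm

theorem f3129 : g 1 • path g [8, 6, 9] p = path g [3, 6, 4] p :=
  (f3029 H).trans (f3100 H)

theorem f3130 : g 1 • path g [3, 6, 9] p = path g [3, 6, 4] p :=
  (congrArg (g 1 • ·) (f3112 H).symm).trans (f3129 H)

theorem f3131 : path g [3, 6, 9, 1] p = path g [3, 6, 4] p :=
  (f1640 H).symm.trans (f3130 H)

theorem f3142 : g 1 • path g [3, 6, 9, 1] p = path g [3, 1, 9] p :=
  (f2556 H).trans (f3014 H)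

theorem f3143 : g 1 • path g [3, 6, 4] p = path g [3, 1, 9] p :=
  (congrArg (g 1 • ·) (f3131 H).symm).trans (f3142 H)

theorem f3144 : path g [8, 1, 9] p = path g [3, 1, 9] p :=
  (f2953 H).symm.trans (f3143 H)

theorem f3158 : g 8 • path g [3, 1, 9] p = path g [3, 1, 9] p :=
  (f1532 H).trans (f3144 H)

theorem f3160 : g 6 • path g [3, 1, 9] p = path g [3, 6, 4] p :=
  (congrArg (g 6 • ·) (f3144 H).symm).trans (f2567 H)

theorem f3161 : path g [8, 6, 4] p = path g [3, 6, 4] p :=
  (f2956 H).symm.trans (f3160 H)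

theorem f3169 : g 5 • path g [8, 1, 9] p = path g [3, 6, 4] p :=
  (f3020 H).trans (f3100 H)

theorem f3170 : g 5 • path g [3, 1, 9] p = path g [3, 6, 4] p :=
  (congrArg (g 5 • ·) (f3144 H).symm).trans (f3169 H)

theorem f3171 : path g [3, 1, 9, 5] p = path g [3, 6, 4] p :=
  (f1542 H).symm.trans (f3170 H)

theorem f3176 : g 8 • path g [3, 6, 4] p = path g [3, 1, 4, 6] p :=
  (congrArg (g 8 • ·) (f3171 H).symm).trans (f3005 H)

theorem f3177 : path g [3, 1, 4] p = path g [3, 1, 4, 6] p :=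
  (f1505 H).symm.trans (f3176 H)

theorem f3178 : path g [3, 1, 4, 6] p = path g [3, 1, 4] p :=
  (f3177 H).symm

theorem f3182 : g 6 • path g [3, 1, 4] p = path g [3, 1, 4] p :=
  (f1514 H).trans (f3178 H)

theorem f3232 : g 8 • path g [8, 6, 4] p = path g [3, 6, 4] p :=
  (f2993 H).trans (f3161 H)

theorem f3233 : g 8 • path g [3, 6, 4] p = path g [3, 6, 4] p :=
  (congrArg (g 8 • ·) (f3161 H).symm).trans (f3232 H)

theorem f3234 : path g [3, 1, 4] p = path g [3, 6, 4] p :=
  (f1505 H).symm.trans (f3233 H)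

theorem f3239 : path g [3, 6, 4] p = path g [3, 1, 4] p :=
  (f3234 H).symm

theorem f3258 : g 6 • path g [3, 1, 4] p = path g [3, 6, 9] p :=
  (congrArg (g 6 • ·) (f3239 H).symm).trans (f3110 H)

theorem f3259 : path g [3, 1, 4] p = path g [3, 6, 9] p :=
  (f3182 H).symm.trans (f3258 H)

theorem f3268 : path g [3, 6, 9] p = path g [3, 1, 4] p :=
  (f3259 H).symm

theorem f3296 : g 6 • path g [3, 1, 4] p = path g [3, 1, 9] p :=
  (congrArg (g 6 • ·) (f3268 H).symm).trans (f3058 H)

theorem f3297 : path g [3, 1, 4] p = path g [3, 1, 9] p :=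
  (f3182 H).symm.trans (f3296 H)

theorem f3298 : path g [3, 1, 9] p = path g [3, 1, 4] p :=
  (f3297 H).symm

theorem f3313 : g 8 • path g [3, 1, 9] p = path g [3, 1, 4] p :=
  (f3158 H).trans (f3298 H)

theorem f3314 : g 8 • path g [3, 1, 4] p = path g [3, 1, 4] p :=
  (congrArg (g 8 • ·) (f3298 H).symm).trans (f3313 H)

theorem f3315 : path g [8, 1, 4] p = path g [3, 1, 4] p :=
  (f1528 H).symm.trans (f3314 H)

theorem f3330 : g 9 • path g [3, 1, 4] p = path g [8, 1] p :=
  (congrArg (g 9 • ·) (f3315 H).symm).trans (f491 H)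

theorem f3331 : path g [3, 1] p = path g [8, 1] p :=
  (f133 H).symm.trans (f3330 H)

theorem f3340 : g 8 • path g [3, 1, 4] p = path g [3, 1, 4] p :=
  (f1528 H).trans (f3315 H)

theorem f3383 : path g [8, 1] p = path g [3, 1] p :=
  (f3331 H).symm

theorem f3399 : g 5 • path g [3, 1] p = path g [3, 1] p :=
  (f1513 H).trans (f3383 H)

theorem f3403 : g 8 • path g [3, 1] p = path g [3, 6] p :=
  (congrArg (g 8 • ·) (f3383 H).symm).trans (f810 H)

theorem f3404 : g 8 • path g [3, 1] p = path g [3, 1] p :=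
  (f1524 H).trans (f3383 H)

theorem f3405 : path g [3, 1] p = path g [3, 6] p :=
  (f3404 H).symm.trans (f3403 H)

theorem f3408 : g 9 • path g [3, 1] p = path g [3, 1, 4] p :=
  (f142 H).trans (f3298 H)

theorem f3410 : path g [3, 6] p = path g [3, 1] p :=
  (f3405 H).symm

theorem f3431 : g 5 • path g [3, 1] p = path g [8, 6] p :=
  (congrArg (g 5 • ·) (f3410 H).symm).trans (f1548 H)

theorem f3432 : path g [3, 1] p = path g [8, 6] p :=
  (f3399 H).symm.trans (f3431 H)

theorem f3438 : path g [8, 6] p = path g [3, 1] p :=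
  (f3432 H).symm

theorem f3441 : g 6 • path g [8, 6] p = path g [3, 1] p :=
  (f72 H).trans (f3383 H)

theorem f3442 : g 6 • path g [3, 1] p = path g [3, 1] p :=
  (congrArg (g 6 • ·) (f3438 H).symm).trans (f3441 H)

theorem f3443 : path g [3] p = path g [3, 1] p :=
  (f29 H).symm.trans (f3442 H)

theorem f3469 : path g [3, 1] p = path g [3] p :=
  (f3443 H).symm

theorem f3498 : g 9 • path g [3] p = path g [3, 1, 4] p :=
  (congrArg (g 9 • ·) (f3469 H).symm).trans (f3408 H)

theorem f3499 : path g [3] p = path g [3, 1, 4] p :=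
  (f2634 H).symm.trans (f3498 H)

theorem f3500 : path g [3, 1, 4] p = path g [3] p :=
  (f3499 H).symm

theorem f3528 : g 8 • path g [3, 1, 4] p = path g [3] p :=
  (f3340 H).trans (f3500 H)

theorem f3529 : g 8 • path g [3] p = path g [3] p :=
  (congrArg (g 8 • ·) (f3500 H).symm).trans (f3528 H)

theorem f3530 : path g [] p = path g [3] p :=
  (f7 H).symm.trans (f3529 H)

theorem f3531 : path g [3] p = path g [] p :=
  (f3530 H).symm

theorem f3535 : g 3 • path g [] p = path g [] p :=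
  (f6 H).trans (f3531 H)

theorem collapse : g 3 • p = p :=
  (f3535 H)

end CfsgQS3.Cert101
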