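import Cfsg.Agent.Lib.QS3.Coset
import Cfsg.Agent.Lib.QS3.RelData

/-!
Groups with an involution centraliser `Q.S₃`: a certificate of coset enumeration, case 110.
-/

set_option autoImplicit false
set_option maxRecDepth 10000

namespace CfsgQS3.Cert110

variable {M α : Type*} [Group M] [MulAction M α] {g : ℕ → M} {p : α} (H : CosetData rels110 3 g p)
include H

theorem r0_0_0 : ∀ x : α, path g [1, 1, 1] x = x :=
  trivial_rot 0 (H.trivial_rev (i := 0) (by decide)) (by decide)

theorem r0_1_0 : ∀ x : α, path g [6, 6, 6] x = x :=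
  trivial_rot 0 (H.trivial_inv (i := 0) (by decide) (by decide)) (by decide)

theorem r1_0_0 : ∀ x : α, path g [2, 1, 2, 1] x = x :=
  trivial_rot 0 (H.trivial_rev (i := 1) (by decide)) (by decide)

theorem r1_0_1 : ∀ x : α, path g [1, 2, 1, 2] x = x :=
  trivial_rot 1 (H.trivial_rev (i := 1) (by decide)) (by decide)

theorem r1_1_0 : ∀ x : α, path g [6, 7, 6, 7] x = x :=
  trivial_rot 0 (H.trivial_inv (i := 1) (by decide) (by decide)) (by decide)

theorem r2_0_1 : ∀ x : α, path g [0, 0, 2, 0, 0, 2] x = x :=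
  trivial_rot 1 (H.trivial_rev (i := 2) (by decide)) (by decide)

theorem r2_0_2 : ∀ x : α, path g [0, 2, 0, 0, 2, 0] x = x :=
  trivial_rot 2 (H.trivial_rev (i := 2) (by decide)) (by decide)

theorem r2_1_0 : ∀ x : α, path g [5, 5, 7, 5, 5, 7] x = x :=
  trivial_rot 0 (H.trivial_inv (i := 2) (by decide) (by decide)) (by decide)

theorem r2_1_1 : ∀ x : α, path g [5, 7, 5, 5, 7, 5] x = x :=
  trivial_rot 1 (H.trivial_inv (i := 2) (by decide) (by decide)) (by decide)

theorem r2_1_2 : ∀ x : α, path g [7, 5, 5, 7, 5, 5] x = x :=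
  trivial_rot 2 (H.trivial_inv (i := 2) (by decide) (by decide)) (by decide)

theorem r3_0_0 : ∀ x : α, path g [1, 5, 1, 0, 1, 0] x = x :=
  trivial_rot 0 (H.trivial_rev (i := 3) (by decide)) (by decide)

theorem r3_0_1 : ∀ x : α, path g [5, 1, 0, 1, 0, 1] x = x :=
  trivial_rot 1 (H.trivial_rev (i := 3) (by decide)) (by decide)

theorem r3_0_3 : ∀ x : α, path g [0, 1, 0, 1, 5, 1] x = x :=
  trivial_rot 3 (H.trivial_rev (i := 3) (by decide)) (by decide)

theorem r3_0_4 : ∀ x : α, path g [1, 0, 1, 5, 1, 0] x = x :=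
  trivial_rot 4 (H.trivial_rev (i := 3) (by decide)) (by decide)

theorem r3_0_5 : ∀ x : α, path g [0, 1, 5, 1, 0, 1] x = x :=
  trivial_rot 5 (H.trivial_rev (i := 3) (by decide)) (by decide)

theorem r3_1_1 : ∀ x : α, path g [6, 5, 6, 0, 6, 5] x = x :=
  trivial_rot 1 (H.trivial_inv (i := 3) (by decide) (by decide)) (by decide)

theorem r3_1_2 : ∀ x : α, path g [5, 6, 0, 6, 5, 6] x = x :=
  trivial_rot 2 (H.trivial_inv (i := 3) (by decide) (by decide)) (by decide)

theorem r3_1_3 : ∀ x : α, path g [6, 0, 6, 5, 6, 5] x = x :=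
  trivial_rot 3 (H.trivial_inv (i := 3) (by decide) (by decide)) (by decide)

theorem r3_1_4 : ∀ x : α, path g [0, 6, 5, 6, 5, 6] x = x :=
  trivial_rot 4 (H.trivial_inv (i := 3) (by decide) (by decide)) (by decide)

theorem r3_1_5 : ∀ x : α, path g [6, 5, 6, 5, 6, 0] x = x :=
  trivial_rot 5 (H.trivial_inv (i := 3) (by decide) (by decide)) (by decide)

theorem r4_0_1 : ∀ x : α, path g [0, 2, 0, 2, 0, 2, 0, 2] x = x :=
  trivial_rot 1 (H.trivial_rev (i := 4) (by decide)) (by decide)

theorem r4_1_0 : ∀ x : α, path g [5, 7, 5, 7, 5, 7, 5, 7] x = x :=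
  trivial_rot 0 (H.trivial_inv (i := 4) (by decide) (by decide)) (by decide)

theorem r4_1_1 : ∀ x : α, path g [7, 5, 7, 5, 7, 5, 7, 5] x = x :=
  trivial_rot 1 (H.trivial_inv (i := 4) (by decide) (by decide)) (by decide)

theorem r5_0_7 : ∀ x : α, path g [2, 1, 0, 2, 1, 5, 6, 7, 5, 6, 7, 0] x = x :=
  trivial_rot 7 (H.trivial_rev (i := 5) (by decide)) (by decide)

theorem r5_0_10 : ∀ x : α, path g [2, 1, 5, 6, 7, 5, 6, 7, 0, 2, 1, 0] x = x :=
  trivial_rot 10 (H.trivial_rev (i := 5) (by decide)) (by decide)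

theorem r5_1_2 : ∀ x : α, path g [5, 6, 7, 5, 2, 1, 0, 2, 1, 0, 6, 7] x = x :=
  trivial_rot 2 (H.trivial_inv (i := 5) (by decide) (by decide)) (by decide)

theorem r5_1_5 : ∀ x : α, path g [5, 2, 1, 0, 2, 1, 0, 6, 7, 5, 6, 7] x = x :=
  trivial_rot 5 (H.trivial_inv (i := 5) (by decide) (by decide)) (by decide)

theorem r6_0_3 : ∀ x : α, path g [5, 7, 5, 6, 5, 8, 2, 3, 5, 5, 6] x = x :=
  trivial_rot 3 (H.trivial_rev (i := 6) (by decide)) (by decide)

theorem r6_0_6 : ∀ x : α, path g [6, 5, 8, 2, 3, 5, 5, 6, 5, 7, 5] x = x :=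
  trivial_rot 6 (H.trivial_rev (i := 6) (by decide)) (by decide)

theorem r6_0_8 : ∀ x : α, path g [8, 2, 3, 5, 5, 6, 5, 7, 5, 6, 5] x = x :=
  trivial_rot 8 (H.trivial_rev (i := 6) (by decide)) (by decide)

theorem r6_0_10 : ∀ x : α, path g [3, 5, 5, 6, 5, 7, 5, 6, 5, 8, 2] x = x :=
  trivial_rot 10 (H.trivial_rev (i := 6) (by decide)) (by decide)

theorem r6_1_0 : ∀ x : α, path g [8, 7, 3, 0, 1, 0, 2, 0, 1, 0, 0] x = x :=
  trivial_rot 0 (H.trivial_inv (i := 6) (by decide) (by decide)) (by decide)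

theorem r6_1_5 : ∀ x : α, path g [0, 2, 0, 1, 0, 0, 8, 7, 3, 0, 1] x = x :=
  trivial_rot 5 (H.trivial_inv (i := 6) (by decide) (by decide)) (by decide)

theorem r6_1_6 : ∀ x : α, path g [2, 0, 1, 0, 0, 8, 7, 3, 0, 1, 0] x = x :=
  trivial_rot 6 (H.trivial_inv (i := 6) (by decide) (by decide)) (by decide)

theorem r7_0_1 : ∀ x : α, path g [5, 7, 5, 6, 8, 0, 3, 6] x = x :=
  trivial_rot 1 (H.trivial_rev (i := 7) (by decide)) (by decide)

theorem r7_0_3 : ∀ x : α, path g [5, 6, 8, 0, 3, 6, 5, 7] x = x :=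
  trivial_rot 3 (H.trivial_rev (i := 7) (by decide)) (by decide)

theorem r7_0_4 : ∀ x : α, path g [6, 8, 0, 3, 6, 5, 7, 5] x = x :=
  trivial_rot 4 (H.trivial_rev (i := 7) (by decide)) (by decide)

theorem r7_0_5 : ∀ x : α, path g [8, 0, 3, 6, 5, 7, 5, 6] x = x :=
  trivial_rot 5 (H.trivial_rev (i := 7) (by decide)) (by decide)

theorem r7_1_0 : ∀ x : α, path g [8, 5, 3, 1, 0, 2, 0, 1] x = x :=
  trivial_rot 0 (H.trivial_inv (i := 7) (by decide) (by decide)) (by decide)

theorem r7_1_1 : ∀ x : α, path g [5, 3, 1, 0, 2, 0, 1, 8] x = x :=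
  trivial_rot 1 (H.trivial_inv (i := 7) (by decide) (by decide)) (by decide)

theorem r7_1_4 : ∀ x : α, path g [0, 2, 0, 1, 8, 5, 3, 1] x = x :=
  trivial_rot 4 (H.trivial_inv (i := 7) (by decide) (by decide)) (by decide)

theorem r7_1_5 : ∀ x : α, path g [2, 0, 1, 8, 5, 3, 1, 0] x = x :=
  trivial_rot 5 (H.trivial_inv (i := 7) (by decide) (by decide)) (by decide)

theorem r8_0_0 : ∀ x : α, path g [7, 5, 8, 1, 0, 2, 0, 1, 3] x = x :=
  trivial_rot 0 (H.trivial_rev (i := 8) (by decide)) (by decide)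

theorem r8_1_1 : ∀ x : α, path g [6, 5, 7, 5, 6, 3, 0, 2, 8] x = x :=
  trivial_rot 1 (H.trivial_inv (i := 8) (by decide) (by decide)) (by decide)

theorem r8_1_2 : ∀ x : α, path g [5, 7, 5, 6, 3, 0, 2, 8, 6] x = x :=
  trivial_rot 2 (H.trivial_inv (i := 8) (by decide) (by decide)) (by decide)

theorem r8_1_5 : ∀ x : α, path g [6, 3, 0, 2, 8, 6, 5, 7, 5] x = x :=
  trivial_rot 5 (H.trivial_inv (i := 8) (by decide) (by decide)) (by decide)

theorem r8_1_6 : ∀ x : α, path g [3, 0, 2, 8, 6, 5, 7, 5, 6] x = x :=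
  trivial_rot 6 (H.trivial_inv (i := 8) (by decide) (by decide)) (by decide)

theorem r8_1_7 : ∀ x : α, path g [0, 2, 8, 6, 5, 7, 5, 6, 3] x = x :=
  trivial_rot 7 (H.trivial_inv (i := 8) (by decide) (by decide)) (by decide)

theorem r8_1_8 : ∀ x : α, path g [2, 8, 6, 5, 7, 5, 6, 3, 0] x = x :=
  trivial_rot 8 (H.trivial_inv (i := 8) (by decide) (by decide)) (by decide)

theorem r9_0_0 : ∀ x : α, path g [3, 3, 3] x = x :=
  trivial_rot 0 (H.trivial_rev (i := 9) (by decide)) (by decide)

theorem r9_1_0 : ∀ x : α, path g [8, 8, 8] x = x :=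
  trivial_rot 0 (H.trivial_inv (i := 9) (by decide) (by decide)) (by decide)

theorem r10_0_0 : ∀ x : α, path g [5, 5, 5, 7, 5, 9, 2, 4] x = x :=
  trivial_rot 0 (H.trivial_rev (i := 10) (by decide)) (by decide)

theorem r10_0_1 : ∀ x : α, path g [5, 5, 7, 5, 9, 2, 4, 5] x = x :=
  trivial_rot 1 (H.trivial_rev (i := 10) (by decide)) (by decide)

theorem r10_0_2 : ∀ x : α, path g [5, 7, 5, 9, 2, 4, 5, 5] x = x :=
  trivial_rot 2 (H.trivial_rev (i := 10) (by decide)) (by decide)

theorem r10_0_3 : ∀ x : α, path g [7, 5, 9, 2, 4, 5, 5, 5] x = x :=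
  trivial_rot 3 (H.trivial_rev (i := 10) (by decide)) (by decide)

theorem r10_0_5 : ∀ x : α, path g [9, 2, 4, 5, 5, 5, 7, 5] x = x :=
  trivial_rot 5 (H.trivial_rev (i := 10) (by decide)) (by decide)

theorem r10_1_0 : ∀ x : α, path g [9, 7, 4, 0, 2, 0, 0, 0] x = x :=
  trivial_rot 0 (H.trivial_inv (i := 10) (by decide) (by decide)) (by decide)

theorem r10_1_2 : ∀ x : α, path g [4, 0, 2, 0, 0, 0, 9, 7] x = x :=
  trivial_rot 2 (H.trivial_inv (i := 10) (by decide) (by decide)) (by decide)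

theorem r10_1_5 : ∀ x : α, path g [0, 0, 0, 9, 7, 4, 0, 2] x = x :=
  trivial_rot 5 (H.trivial_inv (i := 10) (by decide) (by decide)) (by decide)

theorem r11_0_0 : ∀ x : α, path g [5, 6, 5, 7, 5, 6, 7, 9, 0, 2, 0, 4] x = x :=
  trivial_rot 0 (H.trivial_rev (i := 11) (by decide)) (by decide)

theorem r11_0_3 : ∀ x : α, path g [7, 5, 6, 7, 9, 0, 2, 0, 4, 5, 6, 5] x = x :=
  trivial_rot 3 (H.trivial_rev (i := 11) (by decide)) (by decide)

theorem r11_0_4 : ∀ x : α, path g [5, 6, 7, 9, 0, 2, 0, 4, 5, 6, 5, 7] x = x :=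
  trivial_rot 4 (H.trivial_rev (i := 11) (by decide)) (by decide)

theorem r11_0_8 : ∀ x : α, path g [0, 2, 0, 4, 5, 6, 5, 7, 5, 6, 7, 9] x = x :=
  trivial_rot 8 (H.trivial_rev (i := 11) (by decide)) (by decide)

theorem r11_0_10 : ∀ x : α, path g [0, 4, 5, 6, 5, 7, 5, 6, 7, 9, 0, 2] x = x :=
  trivial_rot 10 (H.trivial_rev (i := 11) (by decide)) (by decide)

theorem r11_1_1 : ∀ x : α, path g [5, 7, 5, 4, 2, 1, 0, 2, 0, 1, 0, 9] x = x :=
  trivial_rot 1 (H.trivial_inv (i := 11) (by decide) (by decide)) (by decide)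

theorem r11_1_9 : ∀ x : α, path g [0, 1, 0, 9, 5, 7, 5, 4, 2, 1, 0, 2] x = x :=
  trivial_rot 9 (H.trivial_inv (i := 11) (by decide) (by decide)) (by decide)

theorem r12_0_6 : ∀ x : α, path g [6, 9, 1, 1, 0, 1, 4, 5, 5, 5, 6, 7, 5] x = x :=
  trivial_rot 6 (H.trivial_rev (i := 12) (by decide)) (by decide)

theorem r12_0_8 : ∀ x : α, path g [1, 1, 0, 1, 4, 5, 5, 5, 6, 7, 5, 6, 9] x = x :=
  trivial_rot 8 (H.trivial_rev (i := 12) (by decide)) (by decide)

theorem r12_0_11 : ∀ x : α, path g [1, 4, 5, 5, 5, 6, 7, 5, 6, 9, 1, 1, 0] x = x :=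
  trivial_rot 11 (H.trivial_rev (i := 12) (by decide)) (by decide)

theorem r12_1_1 : ∀ x : α, path g [6, 5, 6, 6, 4, 1, 0, 2, 1, 0, 0, 0, 9] x = x :=
  trivial_rot 1 (H.trivial_inv (i := 12) (by decide) (by decide)) (by decide)

theorem r12_1_3 : ∀ x : α, path g [6, 6, 4, 1, 0, 2, 1, 0, 0, 0, 9, 6, 5] x = x :=
  trivial_rot 3 (H.trivial_inv (i := 12) (by decide) (by decide)) (by decide)

theorem r12_1_7 : ∀ x : α, path g [0, 2, 1, 0, 0, 0, 9, 6, 5, 6, 6, 4, 1] x = x :=
  trivial_rot 7 (H.trivial_inv (i := 12) (by decide) (by decide)) (by decide)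

theorem r12_1_8 : ∀ x : α, path g [2, 1, 0, 0, 0, 9, 6, 5, 6, 6, 4, 1, 0] x = x :=
  trivial_rot 8 (H.trivial_inv (i := 12) (by decide) (by decide)) (by decide)

theorem r12_1_11 : ∀ x : α, path g [0, 0, 9, 6, 5, 6, 6, 4, 1, 0, 2, 1, 0] x = x :=
  trivial_rot 11 (H.trivial_inv (i := 12) (by decide) (by decide)) (by decide)

theorem r13_0_0 : ∀ x : α, path g [4, 4, 4] x = x :=
  trivial_rot 0 (H.trivial_rev (i := 13) (by decide)) (by decide)

theorem r13_1_0 : ∀ x : α, path g [9, 9, 9] x = x :=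
  trivial_rot 0 (H.trivial_inv (i := 13) (by decide) (by decide)) (by decide)

theorem r14_0_0 : ∀ x : α, path g [9, 8, 4, 3] x = x :=
  trivial_rot 0 (H.trivial_rev (i := 14) (by decide)) (by decide)

theorem r14_0_3 : ∀ x : α, path g [3, 9, 8, 4] x = x :=
  trivial_rot 3 (H.trivial_rev (i := 14) (by decide)) (by decide)

theorem r14_1_0 : ∀ x : α, path g [8, 9, 3, 4] x = x :=
  trivial_rot 0 (H.trivial_inv (i := 14) (by decide) (by decide)) (by decide)

theorem r14_1_1 : ∀ x : α, path g [9, 3, 4, 8] x = x :=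
  trivial_rot 1 (H.trivial_inv (i := 14) (by decide) (by decide)) (by decide)

theorem r14_1_2 : ∀ x : α, path g [3, 4, 8, 9] x = x :=
  trivial_rot 2 (H.trivial_inv (i := 14) (by decide) (by decide)) (by decide)

theorem r14_1_3 : ∀ x : α, path g [4, 8, 9, 3] x = x :=
  trivial_rot 3 (H.trivial_inv (i := 14) (by decide) (by decide)) (by decide)

theorem r15_0_1 : ∀ x : α, path g [3, 1, 3, 1, 3, 1, 3, 1, 3, 1, 3, 1, 3, 1] x = x :=
  trivial_rot 1 (H.trivial_rev (i := 15) (by decide)) (by decide)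

theorem r16_1_2 : ∀ x : α, path g [7, 9, 6, 7, 9, 6, 7, 9, 6, 7, 9, 6, 7, 9, 6, 7, 9, 6, 7, 9, 6] x = x :=
  trivial_rot 2 (H.trivial_inv (i := 16) (by decide) (by decide)) (by decide)

theorem r17_0_9 : ∀ x : α, path g [0, 1, 3, 0, 1, 3, 6, 5, 7, 5, 6, 7, 0, 1, 3] x = x :=
  trivial_rot 9 (H.trivial_rev (i := 17) (by decide)) (by decide)

theorem r17_1_0 : ∀ x : α, path g [8, 6, 5, 8, 6, 5, 8, 6, 5, 2, 1, 0, 2, 0, 1] x = x :=
  trivial_rot 0 (H.trivial_inv (i := 17) (by decide) (by decide)) (by decide)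

theorem r17_1_2 : ∀ x : α, path g [5, 8, 6, 5, 8, 6, 5, 2, 1, 0, 2, 0, 1, 8, 6] x = x :=
  trivial_rot 2 (H.trivial_inv (i := 17) (by decide) (by decide)) (by decide)

theorem r17_1_8 : ∀ x : α, path g [5, 2, 1, 0, 2, 0, 1, 8, 6, 5, 8, 6, 5, 8, 6] x = x :=
  trivial_rot 8 (H.trivial_inv (i := 17) (by decide) (by decide)) (by decide)

theorem r18_0_1 : ∀ x : α, path g [2, 4, 1, 2, 4, 1, 2, 4, 1] x = x :=
  trivial_rot 1 (H.trivial_rev (i := 18) (by decide)) (by decide)

theorem r18_0_2 : ∀ x : α, path g [4, 1, 2, 4, 1, 2, 4, 1, 2] x = x :=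
  trivial_rot 2 (H.trivial_rev (i := 18) (by decide)) (by decide)

theorem r18_1_0 : ∀ x : α, path g [9, 7, 6, 9, 7, 6, 9, 7, 6] x = x :=
  trivial_rot 0 (H.trivial_inv (i := 18) (by decide) (by decide)) (by decide)

theorem r18_1_1 : ∀ x : α, path g [7, 6, 9, 7, 6, 9, 7, 6, 9] x = x :=
  trivial_rot 1 (H.trivial_inv (i := 18) (by decide) (by decide)) (by decide)

theorem f0 : g 0 • path g [] p = path g [] p :=
  H.base (i := 0) (by decide)

theorem f1 : g 5 • path g [] p = path g [] p :=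
  H.back (i := 0) (by decide) (f0 H)

theorem f2 : g 1 • path g [] p = path g [] p :=
  H.base (i := 1) (by decide)

theorem f3 : g 6 • path g [] p = path g [] p :=
  H.back (i := 1) (by decide) (f2 H)

theorem f4 : g 2 • path g [] p = path g [] p :=
  H.base (i := 2) (by decide)

theorem f5 : g 7 • path g [] p = path g [] p :=
  H.back (i := 2) (by decide) (f4 H)

theorem f6 : g 3 • path g [] p = path g [3] p :=
  rfl

theorem f7 : g 8 • path g [3] p = path g [] p :=
  H.back (i := 3) (by decide) (f6 H)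

theorem f8 : g 4 • path g [] p = path g [4] p :=
  rfl

theorem f9 : g 9 • path g [4] p = path g [] p :=
  H.back (i := 4) (by decide) (f8 H)

theorem f10 : g 8 • path g [] p = path g [8] p :=
  rfl

theorem f11 : g 3 • path g [8] p = path g [] p :=
  H.back (i := 8) (by decide) (f10 H)

theorem f12 : g 8 • path g [8] p = path g [3] p :=
  scan (u := [8]) (w := [8]) (i := 8) (r9_1_0 H) (step (f10 H) rfl) (step (H.back (i := 3) (by decide) (f6 H)) rfl)

theorem f14 : g 0 • path g [8] p = path g [8] p :=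
  scan (u := [8]) (w := [3, 6, 5, 7, 5, 6]) (i := 0) (r7_0_5 H) (step (f10 H) rfl) (step (H.back (i := 8) (by decide) (f10 H)) (step (H.back (i := 1) (by decide) (f2 H)) (step (H.back (i := 0) (by decide) (f0 H)) (step (H.back (i := 2) (by decide) (f4 H)) (step (H.back (i := 0) (by decide) (f0 H)) (step (H.back (i := 1) (by decide) (f2 H)) rfl))))))

theorem f15 : g 5 • path g [8] p = path g [8] p :=
  H.back (i := 0) (by decide) (f14 H)

theorem f16 : g 2 • path g [8] p = path g [8] p :=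
  scan (u := [8]) (w := [3, 5, 5, 6, 5, 7, 5, 6, 5]) (i := 2) (r6_0_8 H) (step (f10 H) rfl) (step (H.back (i := 8) (by decide) (f10 H)) (step (H.back (i := 0) (by decide) (f0 H)) (step (H.back (i := 0) (by decide) (f0 H)) (step (H.back (i := 1) (by decide) (f2 H)) (step (H.back (i := 0) (by decide) (f0 H)) (step (H.back (i := 2) (by decide) (f4 H)) (step (H.back (i := 0) (by decide) (f0 H)) (step (H.back (i := 1) (by decide) (f2 H)) (step (H.back (i := 0) (by decide) (f0 H)) rfl)))))))))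

theorem f17 : g 7 • path g [8] p = path g [8] p :=
  H.back (i := 2) (by decide) (f16 H)

theorem f18 : g 9 • path g [] p = path g [9] p :=
  rfl

theorem f19 : g 4 • path g [9] p = path g [] p :=
  H.back (i := 9) (by decide) (f18 H)

theorem f20 : g 9 • path g [9] p = path g [4] p :=
  scan (u := [9]) (w := [9]) (i := 9) (r13_1_0 H) (step (f18 H) rfl) (step (H.back (i := 4) (by decide) (f8 H)) rfl)

theorem f22 : g 2 • path g [9] p = path g [9] p :=
  scan (u := [9]) (w := [4, 5, 5, 5, 7, 5]) (i := 2) (r10_0_5 H) (step (f18 H) rfl) (step (H.back (i := 9) (by decide) (f18 H)) (step (H.back (i := 0) (by decide) (f0 H)) (step (H.back (i := 0) (by decide) (f0 H)) (step (H.back (i := 0) (by decide) (f0 H)) (step (H.back (i := 2) (by decide) (f4 H)) (step (H.back (i := 0) (by decide) (f0 H)) rfl))))))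

theorem f23 : g 7 • path g [9] p = path g [9] p :=
  H.back (i := 2) (by decide) (f22 H)

theorem f24 : g 0 • path g [3] p = path g [3, 0] p :=
  rfl

theorem f25 : g 5 • path g [3, 0] p = path g [3] p :=
  H.back (i := 0) (by decide) (f24 H)

theorem f26 : g 2 • path g [3, 0] p = path g [3] p :=
  scan (u := [0]) (w := [8, 6, 5, 7, 5, 6, 3]) (i := 2) (r8_1_7 H) (step (f24 H) rfl) (step (H.back (i := 3) (by decide) (f6 H)) (step (H.back (i := 1) (by decide) (f2 H)) (step (H.back (i := 0) (by decide) (f0 H)) (step (H.back (i := 2) (by decide) (f4 H)) (step (H.back (i := 0) (by decide) (f0 H)) (step (H.back (i := 1) (by decide) (f2 H)) (step (H.back (i := 8) (by decide) (f7 H)) rfl)))))))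

theorem f27 : g 7 • path g [3] p = path g [3, 0] p :=
  H.back (i := 2) (by decide) (f26 H)

theorem f28 : g 1 • path g [3] p = path g [3, 1] p :=
  rfl

theorem f29 : g 6 • path g [3, 1] p = path g [3] p :=
  H.back (i := 1) (by decide) (f28 H)

theorem f30 : g 2 • path g [3] p = path g [3, 2] p :=
  rfl

theorem f31 : g 7 • path g [3, 2] p = path g [3] p :=
  H.back (i := 2) (by decide) (f30 H)

theorem f32 : g 4 • path g [3] p = path g [3, 4] p :=
  rfl

theorem f33 : g 9 • path g [3, 4] p = path g [3] p :=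
  H.back (i := 4) (by decide) (f32 H)

theorem f34 : g 8 • path g [3, 4] p = path g [4] p :=
  scan (u := [4]) (w := [9, 3]) (i := 8) (r14_1_3 H) (step (f32 H) rfl) (step (H.back (i := 4) (by decide) (f8 H)) (step (H.back (i := 8) (by decide) (f7 H)) rfl))

theorem f35 : g 3 • path g [4] p = path g [3, 4] p :=
  H.back (i := 8) (by decide) (f34 H)

theorem f36 : g 5 • path g [3] p = path g [3, 5] p :=
  rfl

theorem f38 : g 6 • path g [3] p = path g [3, 6] p :=
  rfl

theorem f39 : g 1 • path g [3, 6] p = path g [3] p :=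
  H.back (i := 6) (by decide) (f38 H)

theorem f40 : g 6 • path g [3, 6] p = path g [3, 1] p :=
  scan (u := [6]) (w := [6]) (i := 6) (r0_1_0 H) (step (f38 H) rfl) (step (H.back (i := 1) (by decide) (f28 H)) rfl)

theorem f41 : g 1 • path g [3, 1] p = path g [3, 6] p :=
  H.back (i := 6) (by decide) (f40 H)

theorem f42 : g 9 • path g [3] p = path g [3, 9] p :=
  rfl

theorem f43 : g 4 • path g [3, 9] p = path g [3] p :=
  H.back (i := 9) (by decide) (f42 H)

theorem f44 : g 9 • path g [3, 9] p = path g [3, 4] p :=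
  scan (u := [9]) (w := [9]) (i := 9) (r13_1_0 H) (step (f42 H) rfl) (step (H.back (i := 4) (by decide) (f32 H)) rfl)

theorem f46 : g 8 • path g [3, 9] p = path g [9] p :=
  scan (u := [9]) (w := [4, 3]) (i := 8) (r14_0_0 H) (step (f42 H) rfl) (step (H.back (i := 9) (by decide) (f18 H)) (step (H.back (i := 8) (by decide) (f7 H)) rfl))

theorem f47 : g 3 • path g [9] p = path g [3, 9] p :=
  H.back (i := 8) (by decide) (f46 H)

theorem f48 : g 0 • path g [4] p = path g [4, 0] p :=
  rfl

theorem f49 : g 5 • path g [4, 0] p = path g [4] p :=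
  H.back (i := 0) (by decide) (f48 H)

theorem f50 : g 1 • path g [4] p = path g [4, 1] p :=
  rfl

theorem f51 : g 6 • path g [4, 1] p = path g [4] p :=
  H.back (i := 1) (by decide) (f50 H)

theorem f52 : g 2 • path g [4] p = path g [4, 2] p :=
  rfl

theorem f53 : g 7 • path g [4, 2] p = path g [4] p :=
  H.back (i := 2) (by decide) (f52 H)

theorem f54 : g 5 • path g [4] p = path g [4, 5] p :=
  rfl

theorem f55 : g 0 • path g [4, 5] p = path g [4] p :=
  H.back (i := 5) (by decide) (f54 H)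

theorem f56 : g 6 • path g [4] p = path g [4, 6] p :=
  rfl

theorem f57 : g 1 • path g [4, 6] p = path g [4] p :=
  H.back (i := 6) (by decide) (f56 H)

theorem f58 : g 6 • path g [4, 6] p = path g [4, 1] p :=
  scan (u := [6]) (w := [6]) (i := 6) (r0_1_0 H) (step (f56 H) rfl) (step (H.back (i := 1) (by decide) (f50 H)) rfl)

theorem f59 : g 1 • path g [4, 1] p = path g [4, 6] p :=
  H.back (i := 6) (by decide) (f58 H)

theorem f60 : g 7 • path g [4] p = path g [4, 7] p :=
  rfl

theorem f62 : g 8 • path g [4] p = path g [4, 8] p :=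
  rfl

theorem f64 : g 8 • path g [4, 8] p = path g [3, 4] p :=
  scan (u := [8]) (w := [8]) (i := 8) (r9_1_0 H) (step (f62 H) rfl) (step (H.back (i := 3) (by decide) (f35 H)) rfl)

theorem f66 : g 9 • path g [4, 8] p = path g [8] p :=
  scan (u := [8]) (w := [3, 4]) (i := 9) (r14_1_0 H) (step (f62 H) rfl) (step (H.back (i := 8) (by decide) (f10 H)) (step (H.back (i := 9) (by decide) (f9 H)) rfl))

theorem f67 : g 4 • path g [8] p = path g [4, 8] p :=
  H.back (i := 9) (by decide) (f66 H)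

theorem f68 : g 1 • path g [8] p = path g [8, 1] p :=
  rfl

theorem f69 : g 6 • path g [8, 1] p = path g [8] p :=
  H.back (i := 1) (by decide) (f68 H)

theorem f70 : g 6 • path g [8] p = path g [8, 6] p :=
  rfl

theorem f71 : g 1 • path g [8, 6] p = path g [8] p :=
  H.back (i := 6) (by decide) (f70 H)

theorem f72 : g 6 • path g [8, 6] p = path g [8, 1] p :=
  scan (u := [6]) (w := [6]) (i := 6) (r0_1_0 H) (step (f70 H) rfl) (step (H.back (i := 1) (by decide) (f68 H)) rfl)

theorem f73 : g 1 • path g [8, 1] p = path g [8, 6] p :=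
  H.back (i := 6) (by decide) (f72 H)

theorem f74 : g 7 • path g [8, 6] p = path g [8, 1] p :=
  scan (u := [6]) (w := [6, 7]) (i := 7) (r1_1_0 H) (step (f70 H) rfl) (step (H.back (i := 1) (by decide) (f68 H)) (step (H.back (i := 2) (by decide) (f16 H)) rfl))

theorem f75 : g 2 • path g [8, 1] p = path g [8, 6] p :=
  H.back (i := 7) (by decide) (f74 H)

theorem f76 : g 9 • path g [8] p = path g [8, 9] p :=
  rfl

theorem f77 : g 4 • path g [8, 9] p = path g [8] p :=
  H.back (i := 9) (by decide) (f76 H)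

theorem f78 : g 9 • path g [8, 9] p = path g [4, 8] p :=
  scan (u := [9]) (w := [9]) (i := 9) (r13_1_0 H) (step (f76 H) rfl) (step (H.back (i := 4) (by decide) (f67 H)) rfl)

theorem f79 : g 4 • path g [4, 8] p = path g [8, 9] p :=
  H.back (i := 9) (by decide) (f78 H)

theorem f80 : g 8 • path g [8, 9] p = path g [3, 9] p :=
  scan (u := [9]) (w := [4, 3]) (i := 8) (r14_0_0 H) (step (f76 H) rfl) (step (H.back (i := 9) (by decide) (f42 H)) (step (H.back (i := 8) (by decide) (f12 H)) rfl))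

theorem f81 : g 3 • path g [3, 9] p = path g [8, 9] p :=
  H.back (i := 8) (by decide) (f80 H)

theorem f82 : g 3 • path g [8, 9] p = path g [9] p :=
  scan (u := [9]) (w := [4, 8]) (i := 3) (r14_1_1 H) (step (f76 H) rfl) (step (H.back (i := 9) (by decide) (f18 H)) (step (H.back (i := 3) (by decide) (f11 H)) rfl))

theorem f83 : g 8 • path g [9] p = path g [8, 9] p :=
  H.back (i := 3) (by decide) (f82 H)

theorem f84 : g 2 • path g [8, 9] p = path g [8, 9] p :=
  scan (u := [9]) (w := [4, 5, 5, 5, 7, 5]) (i := 2) (r10_0_5 H) (step (f76 H) rfl) (step (H.back (i := 9) (by decide) (f76 H)) (step (H.back (i := 0) (by decide) (f14 H)) (step (H.back (i := 0) (by decide) (f14 H)) (step (H.back (i := 0) (by decide) (f14 H)) (step (H.back (i := 2) (by decide) (f16 H)) (step (H.back (i := 0) (by decide) (f14 H)) rfl))))))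

theorem f85 : g 7 • path g [8, 9] p = path g [8, 9] p :=
  H.back (i := 2) (by decide) (f84 H)

theorem f86 : g 0 • path g [9] p = path g [9, 0] p :=
  rfl

theorem f87 : g 5 • path g [9, 0] p = path g [9] p :=
  H.back (i := 0) (by decide) (f86 H)

theorem f88 : g 1 • path g [9] p = path g [9, 1] p :=
  rfl

theorem f89 : g 6 • path g [9, 1] p = path g [9] p :=
  H.back (i := 1) (by decide) (f88 H)

theorem f90 : g 5 • path g [9] p = path g [9, 5] p :=
  rfl

theorem f91 : g 0 • path g [9, 5] p = path g [9] p :=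
  H.back (i := 5) (by decide) (f90 H)

theorem f92 : g 7 • path g [9, 5] p = path g [9, 0] p :=
  scan (u := [5]) (w := [5, 4, 2, 1, 0, 2, 0, 1, 0, 9]) (i := 7) (r11_1_1 H) (step (f90 H) rfl) (step (H.back (i := 0) (by decide) (f86 H)) (step (H.back (i := 9) (by decide) (f18 H)) (step (H.back (i := 7) (by decide) (f5 H)) (step (H.back (i := 6) (by decide) (f3 H)) (step (H.back (i := 5) (by decide) (f1 H)) (step (H.back (i := 7) (by decide) (f5 H)) (step (H.back (i := 5) (by decide) (f1 H)) (step (H.back (i := 6) (by decide) (f3 H)) (step (H.back (i := 5) (by decide) (f1 H)) (step (H.back (i := 4) (by decide) (f19 H)) rfl))))))))))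

theorem f94 : g 6 • path g [9] p = path g [9, 6] p :=
  rfl

theorem f95 : g 1 • path g [9, 6] p = path g [9] p :=
  H.back (i := 6) (by decide) (f94 H)

theorem f96 : g 6 • path g [9, 6] p = path g [9, 1] p :=
  scan (u := [6]) (w := [6]) (i := 6) (r0_1_0 H) (step (f94 H) rfl) (step (H.back (i := 1) (by decide) (f88 H)) rfl)

theorem f97 : g 1 • path g [9, 1] p = path g [9, 6] p :=
  H.back (i := 6) (by decide) (f96 H)

theorem f98 : g 7 • path g [9, 6] p = path g [9, 1] p :=
  scan (u := [6]) (w := [6, 7]) (i := 7) (r1_1_0 H) (step (f94 H) rfl) (step (H.back (i := 1) (by decide) (f88 H)) (step (H.back (i := 2) (by decide) (f22 H)) rfl))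

theorem f99 : g 2 • path g [9, 1] p = path g [9, 6] p :=
  H.back (i := 7) (by decide) (f98 H)

theorem f100 : g 5 • path g [9, 6] p = path g [9, 6] p :=
  scan (u := [6]) (w := [6, 6, 4, 1, 0, 2, 1, 0, 0, 0, 9]) (i := 5) (r12_1_1 H) (step (f94 H) rfl) (step (H.back (i := 1) (by decide) (f97 H)) (step (H.back (i := 1) (by decide) (f88 H)) (step (H.back (i := 9) (by decide) (f18 H)) (step (H.back (i := 6) (by decide) (f3 H)) (step (H.back (i := 5) (by decide) (f1 H)) (step (H.back (i := 7) (by decide) (f5 H)) (step (H.back (i := 6) (by decide) (f3 H)) (step (H.back (i := 5) (by decide) (f1 H)) (step (H.back (i := 5) (by decide) (f1 H)) (step (H.back (i := 5) (by decide) (f1 H)) (step (H.back (i := 4) (by decide) (f19 H)) rfl)))))))))))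

theorem f101 : g 0 • path g [9, 6] p = path g [9, 6] p :=
  H.back (i := 5) (by decide) (f100 H)

theorem f102 : g 0 • path g [3, 0] p = path g [3, 0, 0] p :=
  rfl

theorem f104 : g 2 • path g [3, 0, 0] p = path g [3, 5] p :=
  scan (u := [0]) (w := [0, 0, 2, 0]) (i := 2) (r2_0_2 H) (step (f102 H) rfl) (step (H.back (i := 5) (by decide) (f36 H)) (step (H.back (i := 5) (by decide) (f25 H)) (step (H.back (i := 7) (by decide) (f27 H)) (step (H.back (i := 5) (by decide) (f25 H)) rfl))))

theorem f106 : g 1 • path g [3, 0] p = path g [3, 0, 1] p :=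
  rfl

theorem f107 : g 6 • path g [3, 0, 1] p = path g [3, 0] p :=
  H.back (i := 1) (by decide) (f106 H)

theorem f112 : g 6 • path g [3, 0] p = path g [3, 0, 6] p :=
  rfl

theorem f114 : g 6 • path g [3, 0, 6] p = path g [3, 0, 1] p :=
  scan (u := [6]) (w := [6]) (i := 6) (r0_1_0 H) (step (f112 H) rfl) (step (H.back (i := 1) (by decide) (f106 H)) rfl)

theorem f116 : g 7 • path g [3, 0, 6] p = path g [3, 1] p :=
  scan (u := [6]) (w := [6, 7]) (i := 7) (r1_1_0 H) (step (f112 H) rfl) (step (H.back (i := 1) (by decide) (f28 H)) (step (H.back (i := 2) (by decide) (f26 H)) rfl))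

theorem f117 : g 2 • path g [3, 1] p = path g [3, 0, 6] p :=
  H.back (i := 7) (by decide) (f116 H)

theorem f128 : g 0 • path g [3, 1] p = path g [3, 1, 0] p :=
  rfl

theorem f129 : g 5 • path g [3, 1, 0] p = path g [3, 1] p :=
  H.back (i := 0) (by decide) (f128 H)

theorem f130 : g 3 • path g [3, 1] p = path g [3, 1, 3] p :=
  rfl

theorem f131 : g 8 • path g [3, 1, 3] p = path g [3, 1] p :=
  H.back (i := 3) (by decide) (f130 H)

theorem f132 : g 4 • path g [3, 1] p = path g [3, 1, 4] p :=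
  rfl

theorem f133 : g 9 • path g [3, 1, 4] p = path g [3, 1] p :=
  H.back (i := 4) (by decide) (f132 H)

theorem f134 : g 5 • path g [3, 1] p = path g [3, 1, 5] p :=
  rfl

theorem f135 : g 0 • path g [3, 1, 5] p = path g [3, 1] p :=
  H.back (i := 5) (by decide) (f134 H)

theorem f136 : g 7 • path g [3, 1] p = path g [3, 1, 7] p :=
  rfl

theorem f138 : g 8 • path g [3, 1] p = path g [3, 1, 8] p :=
  rfl

theorem f140 : g 8 • path g [3, 1, 8] p = path g [3, 1, 3] p :=
  scan (u := [8]) (w := [8]) (i := 8) (r9_1_0 H) (step (f138 H) rfl) (step (H.back (i := 3) (by decide) (f130 H)) rfl)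

theorem f141 : g 3 • path g [3, 1, 3] p = path g [3, 1, 8] p :=
  H.back (i := 8) (by decide) (f140 H)

theorem f142 : g 9 • path g [3, 1] p = path g [3, 1, 9] p :=
  rfl

theorem f144 : g 9 • path g [3, 1, 9] p = path g [3, 1, 4] p :=
  scan (u := [9]) (w := [9]) (i := 9) (r13_1_0 H) (step (f142 H) rfl) (step (H.back (i := 4) (by decide) (f132 H)) rfl)

theorem f145 : g 4 • path g [3, 1, 4] p = path g [3, 1, 9] p :=
  H.back (i := 9) (by decide) (f144 H)

theorem f148 : g 1 • path g [3, 2] p = path g [3, 2, 1] p :=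
  rfl

theorem f150 : g 2 • path g [3, 2, 1] p = path g [3, 6] p :=
  scan (u := [1]) (w := [1, 2]) (i := 2) (r1_0_1 H) (step (f148 H) rfl) (step (H.back (i := 6) (by decide) (f38 H)) (step (H.back (i := 7) (by decide) (f31 H)) rfl))

theorem f154 : g 3 • path g [3, 2] p = path g [3, 2, 3] p :=
  rfl

theorem f160 : g 6 • path g [3, 2] p = path g [3, 2, 6] p :=
  rfl

theorem f162 : g 6 • path g [3, 2, 6] p = path g [3, 2, 1] p :=
  scan (u := [6]) (w := [6]) (i := 6) (r0_1_0 H) (step (f160 H) rfl) (step (H.back (i := 1) (by decide) (f148 H)) rfl)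

theorem f164 : g 8 • path g [3, 2] p = path g [3, 2, 8] p :=
  rfl

theorem f165 : g 3 • path g [3, 2, 8] p = path g [3, 2] p :=
  H.back (i := 8) (by decide) (f164 H)

theorem f166 : g 8 • path g [3, 2, 8] p = path g [3, 2, 3] p :=
  scan (u := [8]) (w := [8]) (i := 8) (r9_1_0 H) (step (f164 H) rfl) (step (H.back (i := 3) (by decide) (f154 H)) rfl)

theorem f167 : g 3 • path g [3, 2, 3] p = path g [3, 2, 8] p :=
  H.back (i := 8) (by decide) (f166 H)

theorem f172 : g 0 • path g [3, 4] p = path g [3, 4, 0] p :=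
  rfl

theorem f174 : g 1 • path g [3, 4] p = path g [3, 4, 1] p :=
  rfl

theorem f175 : g 6 • path g [3, 4, 1] p = path g [3, 4] p :=
  H.back (i := 1) (by decide) (f174 H)

theorem f176 : g 2 • path g [3, 4] p = path g [3, 4, 2] p :=
  rfl

theorem f177 : g 7 • path g [3, 4, 2] p = path g [3, 4] p :=
  H.back (i := 2) (by decide) (f176 H)

theorem f178 : g 5 • path g [3, 4] p = path g [3, 4, 5] p :=
  rfl

theorem f180 : g 6 • path g [3, 4] p = path g [3, 4, 6] p :=
  rfl

theorem f181 : g 1 • path g [3, 4, 6] p = path g [3, 4] p :=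
  H.back (i := 6) (by decide) (f180 H)

theorem f182 : g 6 • path g [3, 4, 6] p = path g [3, 4, 1] p :=
  scan (u := [6]) (w := [6]) (i := 6) (r0_1_0 H) (step (f180 H) rfl) (step (H.back (i := 1) (by decide) (f174 H)) rfl)

theorem f183 : g 1 • path g [3, 4, 1] p = path g [3, 4, 6] p :=
  H.back (i := 6) (by decide) (f182 H)

theorem f184 : g 7 • path g [3, 4] p = path g [3, 4, 7] p :=
  rfl

theorem f208 : g 0 • path g [3, 6] p = path g [3, 6, 0] p :=
  rfl

theorem f209 : g 5 • path g [3, 6, 0] p = path g [3, 6] p :=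
  H.back (i := 0) (by decide) (f208 H)

theorem f210 : g 2 • path g [3, 6] p = path g [3, 6, 2] p :=
  rfl

theorem f212 : g 1 • path g [3, 6, 2] p = path g [3, 1, 7] p :=
  scan (u := [2]) (w := [2, 1]) (i := 1) (r1_0_0 H) (step (f210 H) rfl) (step (H.back (i := 7) (by decide) (f136 H)) (step (H.back (i := 6) (by decide) (f40 H)) rfl))

theorem f213 : g 6 • path g [3, 1, 7] p = path g [3, 6, 2] p :=
  H.back (i := 1) (by decide) (f212 H)

theorem f214 : g 3 • path g [3, 6] p = path g [3, 6, 3] p :=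
  rfl

theorem f216 : g 4 • path g [3, 6] p = path g [3, 6, 4] p :=
  rfl

theorem f218 : g 5 • path g [3, 6] p = path g [3, 6, 5] p :=
  rfl

theorem f219 : g 0 • path g [3, 6, 5] p = path g [3, 6] p :=
  H.back (i := 5) (by decide) (f218 H)

theorem f220 : g 7 • path g [3, 6, 5] p = path g [3, 1, 0] p :=
  scan (u := [5]) (w := [5, 6, 8, 0, 3, 6]) (i := 7) (r7_0_1 H) (step (f218 H) rfl) (step (H.back (i := 0) (by decide) (f128 H)) (step (H.back (i := 1) (by decide) (f28 H)) (step (H.back (i := 3) (by decide) (f6 H)) (step (H.back (i := 5) (by decide) (f1 H)) (step (H.back (i := 8) (by decide) (f7 H)) (step (H.back (i := 1) (by decide) (f39 H)) rfl))))))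

theorem f221 : g 2 • path g [3, 1, 0] p = path g [3, 6, 5] p :=
  H.back (i := 7) (by decide) (f220 H)

theorem f222 : g 2 • path g [3, 6, 0] p = path g [3, 1, 5] p :=
  scan (u := [0, 0]) (w := [0, 0, 2]) (i := 2) (r2_0_1 H) (step (f219 H) (step (f208 H) rfl)) (step (H.back (i := 5) (by decide) (f134 H)) (step (H.back (i := 5) (by decide) (f129 H)) (step (H.back (i := 7) (by decide) (f220 H)) rfl)))

theorem f223 : g 7 • path g [3, 1, 5] p = path g [3, 6, 0] p :=
  H.back (i := 2) (by decide) (f222 H)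

theorem f224 : g 8 • path g [3, 6] p = path g [3, 6, 8] p :=
  rfl

theorem f226 : g 8 • path g [3, 6, 8] p = path g [3, 6, 3] p :=
  scan (u := [8]) (w := [8]) (i := 8) (r9_1_0 H) (step (f224 H) rfl) (step (H.back (i := 3) (by decide) (f214 H)) rfl)

theorem f228 : g 5 • path g [3, 6, 8] p = path g [3, 1, 8] p :=
  scan (u := [8]) (w := [3, 1, 0, 2, 0, 1]) (i := 5) (r7_1_0 H) (step (f224 H) rfl) (step (H.back (i := 8) (by decide) (f138 H)) (step (H.back (i := 6) (by decide) (f40 H)) (step (H.back (i := 5) (by decide) (f209 H)) (step (H.back (i := 7) (by decide) (f223 H)) (step (H.back (i := 5) (by decide) (f134 H)) (step (H.back (i := 6) (by decide) (f40 H)) rfl))))))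

theorem f229 : g 0 • path g [3, 1, 8] p = path g [3, 6, 8] p :=
  H.back (i := 5) (by decide) (f228 H)

theorem f230 : g 9 • path g [3, 6] p = path g [3, 6, 9] p :=
  rfl

theorem f231 : g 4 • path g [3, 6, 9] p = path g [3, 6] p :=
  H.back (i := 9) (by decide) (f230 H)

theorem f232 : g 9 • path g [3, 6, 9] p = path g [3, 6, 4] p :=
  scan (u := [9]) (w := [9]) (i := 9) (r13_1_0 H) (step (f230 H) rfl) (step (H.back (i := 4) (by decide) (f216 H)) rfl)

theorem f233 : g 4 • path g [3, 6, 4] p = path g [3, 6, 9] p :=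
  H.back (i := 9) (by decide) (f232 H)

theorem f234 : g 0 • path g [3, 9] p = path g [3, 9, 0] p :=
  rfl

theorem f235 : g 5 • path g [3, 9, 0] p = path g [3, 9] p :=
  H.back (i := 0) (by decide) (f234 H)

theorem f236 : g 1 • path g [3, 9] p = path g [3, 9, 1] p :=
  rfl

theorem f237 : g 6 • path g [3, 9, 1] p = path g [3, 9] p :=
  H.back (i := 1) (by decide) (f236 H)

theorem f238 : g 2 • path g [3, 9] p = path g [3, 9, 2] p :=
  rfl

theorem f240 : g 5 • path g [3, 9] p = path g [3, 9, 5] p :=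
  rfl

theorem f241 : g 0 • path g [3, 9, 5] p = path g [3, 9] p :=
  H.back (i := 5) (by decide) (f240 H)

theorem f242 : g 6 • path g [3, 9] p = path g [3, 9, 6] p :=
  rfl

theorem f243 : g 1 • path g [3, 9, 6] p = path g [3, 9] p :=
  H.back (i := 6) (by decide) (f242 H)

theorem f244 : g 6 • path g [3, 9, 6] p = path g [3, 9, 1] p :=
  scan (u := [6]) (w := [6]) (i := 6) (r0_1_0 H) (step (f242 H) rfl) (step (H.back (i := 1) (by decide) (f236 H)) rfl)

theorem f245 : g 1 • path g [3, 9, 1] p = path g [3, 9, 6] p :=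
  H.back (i := 6) (by decide) (f244 H)

theorem f246 : g 7 • path g [3, 9] p = path g [3, 9, 7] p :=
  rfl

theorem f247 : g 2 • path g [3, 9, 7] p = path g [3, 9] p :=
  H.back (i := 7) (by decide) (f246 H)

theorem f248 : g 0 • path g [4, 0] p = path g [4, 0, 0] p :=
  rfl

theorem f249 : g 5 • path g [4, 0, 0] p = path g [4, 0] p :=
  H.back (i := 0) (by decide) (f248 H)

theorem f250 : g 1 • path g [4, 0] p = path g [4, 0, 1] p :=
  rfl

theorem f251 : g 6 • path g [4, 0, 1] p = path g [4, 0] p :=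
  H.back (i := 1) (by decide) (f250 H)

theorem f252 : g 2 • path g [4, 0] p = path g [4, 0, 2] p :=
  rfl

theorem f253 : g 7 • path g [4, 0, 2] p = path g [4, 0] p :=
  H.back (i := 2) (by decide) (f252 H)

theorem f254 : g 3 • path g [4, 0] p = path g [4, 0, 3] p :=
  rfl

theorem f256 : g 4 • path g [4, 0] p = path g [4, 0, 4] p :=
  rfl

theorem f257 : g 9 • path g [4, 0, 4] p = path g [4, 0] p :=
  H.back (i := 4) (by decide) (f256 H)

theorem f258 : g 6 • path g [4, 0] p = path g [4, 0, 6] p :=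
  rfl

theorem f259 : g 1 • path g [4, 0, 6] p = path g [4, 0] p :=
  H.back (i := 6) (by decide) (f258 H)

theorem f260 : g 6 • path g [4, 0, 6] p = path g [4, 0, 1] p :=
  scan (u := [6]) (w := [6]) (i := 6) (r0_1_0 H) (step (f258 H) rfl) (step (H.back (i := 1) (by decide) (f250 H)) rfl)

theorem f261 : g 1 • path g [4, 0, 1] p = path g [4, 0, 6] p :=
  H.back (i := 6) (by decide) (f260 H)

theorem f264 : g 8 • path g [4, 0] p = path g [4, 0, 8] p :=
  rfl

theorem f268 : g 9 • path g [4, 0] p = path g [4, 0, 9] p :=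
  rfl

theorem f270 : g 9 • path g [4, 0, 9] p = path g [4, 0, 4] p :=
  scan (u := [9]) (w := [9]) (i := 9) (r13_1_0 H) (step (f268 H) rfl) (step (H.back (i := 4) (by decide) (f256 H)) rfl)

theorem f272 : g 0 • path g [4, 1] p = path g [4, 1, 0] p :=
  rfl

theorem f273 : g 5 • path g [4, 1, 0] p = path g [4, 1] p :=
  H.back (i := 0) (by decide) (f272 H)

theorem f274 : g 2 • path g [4, 1] p = path g [4, 1, 2] p :=
  rfl

theorem f275 : g 7 • path g [4, 1, 2] p = path g [4, 1] p :=
  H.back (i := 2) (by decide) (f274 H)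

theorem f276 : g 1 • path g [4, 1, 2] p = path g [4, 7] p :=
  scan (u := [2]) (w := [2, 1]) (i := 1) (r1_0_0 H) (step (f274 H) rfl) (step (H.back (i := 7) (by decide) (f60 H)) (step (H.back (i := 6) (by decide) (f51 H)) rfl))

theorem f277 : g 6 • path g [4, 7] p = path g [4, 1, 2] p :=
  H.back (i := 1) (by decide) (f276 H)

theorem f278 : g 4 • path g [4, 1, 2] p = path g [9, 6] p :=
  scan (u := [2]) (w := [1, 2, 4, 1, 2, 4, 1]) (i := 4) (r18_0_1 H) (step (f274 H) rfl) (step (H.back (i := 6) (by decide) (f94 H)) (step (H.back (i := 7) (by decide) (f23 H)) (step (H.back (i := 9) (by decide) (f18 H)) (step (H.back (i := 6) (by decide) (f3 H)) (step (H.back (i := 7) (by decide) (f5 H)) (step (H.back (i := 9) (by decide) (f9 H)) (step (H.back (i := 6) (by decide) (f51 H)) rfl)))))))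

theorem f279 : g 9 • path g [9, 6] p = path g [4, 1, 2] p :=
  H.back (i := 4) (by decide) (f278 H)

theorem f280 : g 3 • path g [4, 1] p = path g [4, 1, 3] p :=
  rfl

theorem f281 : g 8 • path g [4, 1, 3] p = path g [4, 1] p :=
  H.back (i := 3) (by decide) (f280 H)

theorem f282 : g 4 • path g [4, 1] p = path g [4, 1, 4] p :=
  rfl

theorem f283 : g 9 • path g [4, 1, 4] p = path g [4, 1] p :=
  H.back (i := 4) (by decide) (f282 H)

theorem f284 : g 0 • path g [4, 1, 4] p = path g [9, 1] p :=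
  scan (u := [4]) (w := [2, 0, 0, 0, 9, 7]) (i := 0) (r10_1_2 H) (step (f282 H) rfl) (step (H.back (i := 7) (by decide) (f98 H)) (step (H.back (i := 5) (by decide) (f100 H)) (step (H.back (i := 5) (by decide) (f100 H)) (step (H.back (i := 5) (by decide) (f100 H)) (step (H.back (i := 4) (by decide) (f278 H)) (step (H.back (i := 2) (by decide) (f274 H)) rfl))))))

theorem f285 : g 5 • path g [9, 1] p = path g [4, 1, 4] p :=
  H.back (i := 0) (by decide) (f284 H)

theorem f286 : g 1 • path g [9, 5] p = path g [4, 1, 4] p :=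
  scan (u := [0, 1, 0, 1, 5]) (w := []) (i := 1) (r3_0_3 H) (step (f284 H) (step (f97 H) (step (f101 H) (step (f95 H) (step (f90 H) rfl))))) rfl

theorem f287 : g 6 • path g [4, 1, 4] p = path g [9, 5] p :=
  H.back (i := 1) (by decide) (f286 H)

theorem f288 : path g [9, 0] p = path g [9, 5] p :=
  close (u := [0, 1, 5, 1, 0]) (w := [1]) (r3_0_5 H) (step (f284 H) (step (f97 H) (step (f100 H) (step (f95 H) (step (f86 H) rfl))))) (step (H.back (i := 6) (by decide) (f287 H)) rfl)

theorem f289 : path g [9, 5] p = path g [9, 0] p :=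
  (f288 H).symm

theorem f290 : g 0 • path g [9, 0] p = path g [9] p :=
  (congrArg (g 0 • ·) (f289 H).symm).trans (f91 H)

theorem f292 : g 5 • path g [9] p = path g [9, 0] p :=
  H.back (i := 0) (by decide) (f290 H)

theorem f293 : g 7 • path g [9, 0] p = path g [9, 0] p :=
  (congrArg (g 7 • ·) (f289 H).symm).trans (f92 H)

theorem f295 : g 2 • path g [9, 0] p = path g [9, 0] p :=
  H.back (i := 7) (by decide) (f293 H)

theorem f296 : g 1 • path g [9, 0] p = path g [4, 1, 4] p :=
  (congrArg (g 1 • ·) (f289 H).symm).trans (f286 H)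

theorem f298 : g 6 • path g [4, 1, 4] p = path g [9, 0] p :=
  H.back (i := 1) (by decide) (f296 H)

theorem f299 : g 5 • path g [4, 1, 4] p = path g [9, 1] p :=
  scan (u := [1]) (w := [1, 0, 1, 0]) (i := 5) (r3_0_0 H) (step (f296 H) rfl) (step (H.back (i := 6) (by decide) (f96 H)) (step (H.back (i := 5) (by decide) (f100 H)) (step (H.back (i := 6) (by decide) (f94 H)) (step (H.back (i := 5) (by decide) (f87 H)) rfl))))

theorem f300 : g 0 • path g [9, 1] p = path g [4, 1, 4] p :=
  H.back (i := 5) (by decide) (f299 H)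

theorem f301 : g 7 • path g [9, 1] p = path g [9, 6] p :=
  scan (u := [5]) (w := [5, 5, 7, 5]) (i := 7) (r2_1_1 H) (step (f299 H) rfl) (step (H.back (i := 0) (by decide) (f101 H)) (step (H.back (i := 0) (by decide) (f101 H)) (step (H.back (i := 2) (by decide) (f99 H)) (step (H.back (i := 0) (by decide) (f284 H)) rfl))))

theorem f303 : g 2 • path g [4, 1, 2] p = path g [4, 1] p :=
  scan (u := [5, 5, 5, 7, 5, 9]) (w := [4]) (i := 2) (r10_0_0 H) (step (f299 H) (step (f285 H) (step (f299 H) (step (f301 H) (step (f100 H) (step (f279 H) rfl)))))) (step (H.back (i := 9) (by decide) (f283 H)) rfl)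

theorem f305 : path g [4, 2] p = path g [4] p :=
  close (u := [7, 5, 9, 2]) (w := [4, 5, 5, 5]) (r10_0_3 H) (step (f293 H) (step (f87 H) (step (f20 H) (step (f52 H) rfl)))) (step (H.back (i := 9) (by decide) (f20 H)) (step (H.back (i := 0) (by decide) (f290 H)) (step (H.back (i := 0) (by decide) (f86 H)) (step (H.back (i := 0) (by decide) (f290 H)) rfl))))

theorem f306 : g 7 • path g [4] p = path g [4] p :=
  (congrArg (g 7 • ·) (f305 H).symm).trans (f53 H)

theorem f307 : path g [4, 7] p = path g [4] p :=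
  (f60 H).symm.trans (f306 H)

theorem f309 : g 2 • path g [4] p = path g [4] p :=
  (f52 H).trans (f305 H)

theorem f311 : g 6 • path g [4] p = path g [4, 1, 2] p :=
  (congrArg (g 6 • ·) (f307 H).symm).trans (f277 H)

theorem f312 : path g [4, 6] p = path g [4, 1, 2] p :=
  (f56 H).symm.trans (f311 H)

theorem f313 : path g [4, 1, 2] p = path g [4, 6] p :=
  (f312 H).symm

theorem f314 : g 7 • path g [4, 6] p = path g [4, 1] p :=
  (congrArg (g 7 • ·) (f313 H).symm).trans (f275 H)

theorem f316 : g 2 • path g [4, 1] p = path g [4, 6] p :=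
  H.back (i := 7) (by decide) (f314 H)

theorem f320 : g 4 • path g [4, 6] p = path g [9, 6] p :=
  (congrArg (g 4 • ·) (f313 H).symm).trans (f278 H)

theorem f323 : g 2 • path g [4, 6] p = path g [4, 1] p :=
  (congrArg (g 2 • ·) (f313 H).symm).trans (f303 H)

theorem f326 : g 7 • path g [4] p = path g [4] p :=
  (f60 H).trans (f307 H)

theorem f327 : g 5 • path g [4, 1] p = path g [4, 1, 5] p :=
  rfl

theorem f328 : g 0 • path g [4, 1, 5] p = path g [4, 1] p :=
  H.back (i := 5) (by decide) (f327 H)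

theorem f333 : g 9 • path g [4, 1] p = path g [4, 1, 9] p :=
  rfl

theorem f334 : g 4 • path g [4, 1, 9] p = path g [4, 1] p :=
  H.back (i := 9) (by decide) (f333 H)

theorem f335 : g 9 • path g [4, 1, 9] p = path g [4, 1, 4] p :=
  scan (u := [9]) (w := [9]) (i := 9) (r13_1_0 H) (step (f333 H) rfl) (step (H.back (i := 4) (by decide) (f282 H)) rfl)

theorem f336 : g 4 • path g [4, 1, 4] p = path g [4, 1, 9] p :=
  H.back (i := 9) (by decide) (f335 H)

theorem f337 : g 1 • path g [4, 5] p = path g [4, 5, 1] p :=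
  rfl

theorem f338 : g 6 • path g [4, 5, 1] p = path g [4, 5] p :=
  H.back (i := 1) (by decide) (f337 H)

theorem f339 : g 2 • path g [4, 5] p = path g [4, 5, 2] p :=
  rfl

theorem f340 : g 7 • path g [4, 5, 2] p = path g [4, 5] p :=
  H.back (i := 2) (by decide) (f339 H)

theorem f341 : g 3 • path g [4, 5] p = path g [4, 5, 3] p :=
  rfl

theorem f345 : g 5 • path g [4, 5] p = path g [4, 5, 5] p :=
  rfl

theorem f346 : g 0 • path g [4, 5, 5] p = path g [4, 5] p :=
  H.back (i := 5) (by decide) (f345 H)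

theorem f347 : g 7 • path g [4, 5, 5] p = path g [4, 0, 0] p :=
  scan (u := [5]) (w := [5, 5, 7, 5]) (i := 7) (r2_1_1 H) (step (f345 H) rfl) (step (H.back (i := 0) (by decide) (f248 H)) (step (H.back (i := 0) (by decide) (f48 H)) (step (H.back (i := 2) (by decide) (f309 H)) (step (H.back (i := 0) (by decide) (f55 H)) rfl))))

theorem f349 : g 5 • path g [4, 5, 5] p = path g [4, 0, 2] p :=
  scan (u := [5]) (w := [7, 5, 9, 2, 4, 5]) (i := 5) (r10_0_1 H) (step (f345 H) rfl) (step (H.back (i := 2) (by decide) (f252 H)) (step (H.back (i := 0) (by decide) (f48 H)) (step (H.back (i := 4) (by decide) (f8 H)) (step (H.back (i := 7) (by decide) (f5 H)) (step (H.back (i := 9) (by decide) (f9 H)) (step (H.back (i := 0) (by decide) (f55 H)) rfl))))))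

theorem f350 : g 0 • path g [4, 0, 2] p = path g [4, 5, 5] p :=
  H.back (i := 5) (by decide) (f349 H)

theorem f351 : g 2 • path g [4, 0, 9] p = path g [4, 0, 9] p :=
  scan (u := [5, 7, 5, 9]) (w := [4, 5, 5]) (i := 2) (r10_0_2 H) (step (f345 H) (step (f347 H) (step (f249 H) (step (f268 H) rfl)))) (step (H.back (i := 9) (by decide) (f268 H)) (step (H.back (i := 0) (by decide) (f48 H)) (step (H.back (i := 0) (by decide) (f55 H)) rfl)))

theorem f352 : g 7 • path g [4, 0, 9] p = path g [4, 0, 9] p :=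
  H.back (i := 2) (by decide) (f351 H)

theorem f353 : path g [4, 5, 2] p = path g [4, 5] p :=
  close (u := [0, 2]) (w := [0, 0, 2, 0]) (r2_0_2 H) (step (f346 H) (step (f339 H) rfl)) (step (H.back (i := 5) (by decide) (f54 H)) (step (H.back (i := 5) (by decide) (f49 H)) (step (H.back (i := 7) (by decide) (f253 H)) (step (H.back (i := 5) (by decide) (f349 H)) rfl))))

theorem f354 : g 7 • path g [4, 5] p = path g [4, 5] p :=
  (congrArg (g 7 • ·) (f353 H).symm).trans (f340 H)

theorem f356 : g 2 • path g [4, 5] p = path g [4, 5] p :=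
  H.back (i := 7) (by decide) (f354 H)

theorem f357 : path g [4, 5, 5] p = path g [4, 0, 0] p :=
  close (u := [0, 2, 0, 2, 0, 2, 0]) (w := [2]) (r4_0_1 H) (step (f346 H) (step (f356 H) (step (f55 H) (step (f309 H) (step (f48 H) (step (f252 H) (step (f350 H) rfl))))))) (step (H.back (i := 7) (by decide) (f347 H)) rfl)

theorem f358 : g 0 • path g [4, 0, 0] p = path g [4, 5] p :=
  (congrArg (g 0 • ·) (f357 H).symm).trans (f346 H)

theorem f360 : g 5 • path g [4, 5] p = path g [4, 0, 0] p :=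
  H.back (i := 0) (by decide) (f358 H)

theorem f364 : g 5 • path g [4, 0, 0] p = path g [4, 0, 2] p :=
  (congrArg (g 5 • ·) (f357 H).symm).trans (f349 H)

theorem f365 : path g [4, 0] p = path g [4, 0, 2] p :=
  (f249 H).symm.trans (f364 H)

theorem f366 : path g [4, 0, 2] p = path g [4, 0] p :=
  (f365 H).symm

theorem f373 : g 2 • path g [4, 0] p = path g [4, 0] p :=
  (f252 H).trans (f366 H)

theorem f376 : g 2 • path g [4, 1, 0] p = path g [4, 0, 6] p :=
  scan (u := [0, 0, 9, 6, 5, 6, 6, 4, 1, 0]) (w := [1, 0]) (i := 2) (r12_1_11 H) (step (f358 H) (step (f55 H) (step (f9 H) (step (f3 H) (step (f1 H) (step (f3 H) (step (f3 H) (step (f8 H) (step (f50 H) (step (f272 H) rfl)))))))))) (step (H.back (i := 6) (by decide) (f258 H)) (step (H.back (i := 5) (by decide) (f249 H)) rfl))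

theorem f378 : path g [4, 0, 1] p = path g [4, 1, 0] p :=
  close (u := [2, 1, 2, 1]) (w := []) (r1_0_0 H) (step (f376 H) (step (f259 H) (step (f373 H) (step (f250 H) rfl)))) rfl

theorem f379 : path g [4, 1, 0] p = path g [4, 0, 1] p :=
  (f378 H).symm

theorem f380 : g 5 • path g [4, 0, 1] p = path g [4, 1] p :=
  (congrArg (g 5 • ·) (f379 H).symm).trans (f273 H)

theorem f382 : g 0 • path g [4, 1] p = path g [4, 0, 1] p :=
  H.back (i := 5) (by decide) (f380 H)

theorem f383 : g 2 • path g [4, 0, 1] p = path g [4, 0, 6] p :=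
  (congrArg (g 2 • ·) (f379 H).symm).trans (f376 H)

theorem f385 : g 7 • path g [4, 0, 6] p = path g [4, 0, 1] p :=
  H.back (i := 2) (by decide) (f383 H)

theorem f386 : path g [4, 1, 5] p = path g [4, 5, 1] p :=
  close (u := [2, 1, 5, 6, 7, 5]) (w := [6, 7, 0, 2, 1, 0]) (r5_0_10 H) (step (f383 H) (step (f259 H) (step (f49 H) (step (f56 H) (step (f314 H) (step (f327 H) rfl)))))) (step (H.back (i := 1) (by decide) (f337 H)) (step (H.back (i := 2) (by decide) (f356 H)) (step (H.back (i := 5) (by decide) (f54 H)) (step (H.back (i := 7) (by decide) (f326 H)) (step (H.back (i := 6) (by decide) (f51 H)) (step (H.back (i := 5) (by decide) (f380 H)) rfl))))))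

theorem f387 : path g [4, 5, 1] p = path g [4, 1, 5] p :=
  (f386 H).symm

theorem f388 : g 6 • path g [4, 1, 5] p = path g [4, 5] p :=
  (congrArg (g 6 • ·) (f387 H).symm).trans (f338 H)

theorem f390 : g 1 • path g [4, 5] p = path g [4, 1, 5] p :=
  H.back (i := 6) (by decide) (f388 H)

theorem f391 : g 5 • path g [4, 6] p = path g [4, 6] p :=
  scan (u := [6, 0, 6]) (w := [6, 5]) (i := 5) (r3_1_3 H) (step (f388 H) (step (f55 H) (step (f56 H) rfl))) (step (H.back (i := 1) (by decide) (f59 H)) (step (H.back (i := 0) (by decide) (f328 H)) rfl))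

theorem f392 : g 0 • path g [4, 6] p = path g [4, 6] p :=
  H.back (i := 5) (by decide) (f391 H)

theorem f393 : g 0 • path g [4, 5, 3] p = path g [3, 4, 7] p :=
  scan (u := [6, 3]) (w := [2, 8, 6, 5, 7, 5]) (i := 0) (r8_1_5 H) (step (f388 H) (step (f341 H) rfl)) (step (H.back (i := 7) (by decide) (f184 H)) (step (H.back (i := 3) (by decide) (f35 H)) (step (H.back (i := 1) (by decide) (f57 H)) (step (H.back (i := 0) (by decide) (f392 H)) (step (H.back (i := 2) (by decide) (f316 H)) (step (H.back (i := 0) (by decide) (f328 H)) rfl))))))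

theorem f395 : path g [4, 0] p = path g [4, 5] p :=
  close (u := [1, 0, 1, 5, 1, 0]) (w := []) (r3_0_4 H) (step (f390 H) (step (f328 H) (step (f59 H) (step (f391 H) (step (f57 H) (step (f48 H) rfl)))))) rfl

theorem f396 : path g [4, 5] p = path g [4, 0] p :=
  (f395 H).symm

theorem f399 : g 1 • path g [4, 0] p = path g [4, 1, 5] p :=
  (congrArg (g 1 • ·) (f396 H).symm).trans (f390 H)

theorem f400 : path g [4, 0, 1] p = path g [4, 1, 5] p :=
  (f250 H).symm.trans (f399 H)

theorem f404 : g 3 • path g [4, 0] p = path g [4, 5, 3] p :=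
  (congrArg (g 3 • ·) (f396 H).symm).trans (f341 H)

theorem f405 : path g [4, 0, 3] p = path g [4, 5, 3] p :=
  (f254 H).symm.trans (f404 H)

theorem f408 : g 5 • path g [4, 0] p = path g [4, 0, 0] p :=
  (congrArg (g 5 • ·) (f396 H).symm).trans (f360 H)

theorem f409 : path g [4] p = path g [4, 0, 0] p :=
  (f49 H).symm.trans (f408 H)

theorem f413 : path g [4, 0, 0] p = path g [4] p :=
  (f409 H).symm

theorem f415 : g 5 • path g [4] p = path g [4, 0] p :=
  (f54 H).trans (f396 H)

theorem f430 : path g [4, 5, 3] p = path g [4, 0, 3] p :=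
  (f405 H).symm

theorem f434 : g 0 • path g [4, 0, 3] p = path g [3, 4, 7] p :=
  (congrArg (g 0 • ·) (f430 H).symm).trans (f393 H)

theorem f436 : g 5 • path g [3, 4, 7] p = path g [4, 0, 3] p :=
  H.back (i := 0) (by decide) (f434 H)

theorem f437 : path g [4, 1, 5] p = path g [4, 0, 1] p :=
  (f400 H).symm

theorem f438 : g 0 • path g [4, 0, 1] p = path g [4, 1] p :=
  (congrArg (g 0 • ·) (f437 H).symm).trans (f328 H)

theorem f440 : g 5 • path g [4, 1] p = path g [4, 0, 1] p :=
  H.back (i := 0) (by decide) (f438 H)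

theorem f444 : g 5 • path g [4, 0, 6] p = path g [4, 0, 6] p :=
  scan (u := [0, 6, 5, 6]) (w := [6]) (i := 5) (r3_1_4 H) (step (f438 H) (step (f51 H) (step (f415 H) (step (f258 H) rfl)))) (step (H.back (i := 1) (by decide) (f261 H)) rfl)

theorem f445 : g 0 • path g [4, 0, 6] p = path g [4, 0, 6] p :=
  H.back (i := 5) (by decide) (f444 H)

theorem f446 : g 2 • path g [4, 0, 6] p = path g [4, 0, 1] p :=
  scan (u := [0, 2, 0, 2, 0, 2, 0]) (w := []) (i := 2) (r4_0_1 H) (step (f438 H) (step (f316 H) (step (f392 H) (step (f323 H) (step (f382 H) (step (f383 H) (step (f445 H) rfl))))))) rfl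

theorem f447 : g 7 • path g [4, 0, 1] p = path g [4, 0, 6] p :=
  H.back (i := 2) (by decide) (f446 H)

theorem f448 : g 5 • path g [4, 8] p = path g [4, 0, 8] p :=
  scan (u := [0, 2, 0, 1, 8]) (w := [3, 1]) (i := 5) (r7_1_4 H) (step (f438 H) (step (f316 H) (step (f392 H) (step (f57 H) (step (f62 H) rfl))))) (step (H.back (i := 8) (by decide) (f264 H)) (step (H.back (i := 6) (by decide) (f251 H)) rfl))

theorem f450 : g 0 • path g [4, 0] p = path g [4] p :=
  (f248 H).trans (f413 H)

theorem f451 : g 7 • path g [4, 8] p = path g [4, 8] p :=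
  scan (u := [0, 2, 0, 1, 0, 0, 8]) (w := [3, 0, 1]) (i := 7) (r6_1_5 H) (step (f438 H) (step (f316 H) (step (f392 H) (step (f57 H) (step (f48 H) (step (f450 H) (step (f62 H) rfl))))))) (step (H.back (i := 8) (by decide) (f62 H)) (step (H.back (i := 5) (by decide) (f49 H)) (step (H.back (i := 6) (by decide) (f251 H)) rfl)))

theorem f452 : g 2 • path g [4, 8] p = path g [4, 8] p :=
  H.back (i := 7) (by decide) (f451 H)

theorem f453 : g 9 • path g [9, 1] p = path g [4, 0, 6] p :=
  scan (u := [0, 4, 5, 6, 5, 7, 5, 6, 7]) (w := [0, 2]) (i := 9) (r11_0_10 H) (step (f438 H) (step (f282 H) (step (f299 H) (step (f89 H) (step (f292 H) (step (f293 H) (step (f87 H) (step (f94 H) (step (f98 H) rfl))))))))) (step (H.back (i := 5) (by decide) (f444 H)) (step (H.back (i := 7) (by decide) (f447 H)) rfl))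

theorem f454 : g 4 • path g [4, 0, 6] p = path g [9, 1] p :=
  H.back (i := 9) (by decide) (f453 H)

theorem f455 : g 0 • path g [4, 8] p = path g [4, 0, 8] p :=
  scan (u := [5, 7, 5, 6, 8]) (w := [3, 6]) (i := 0) (r7_0_1 H) (step (f444 H) (step (f385 H) (step (f380 H) (step (f51 H) (step (f62 H) rfl))))) (step (H.back (i := 8) (by decide) (f264 H)) (step (H.back (i := 1) (by decide) (f259 H)) rfl))

theorem f456 : g 5 • path g [4, 0, 8] p = path g [4, 8] p :=
  H.back (i := 0) (by decide) (f455 H)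

theorem f457 : g 2 • path g [3, 4, 0] p = path g [4, 0, 3] p :=
  scan (u := [5, 7, 5, 6, 3, 0]) (w := [8, 6]) (i := 2) (r8_1_2 H) (step (f444 H) (step (f385 H) (step (f380 H) (step (f51 H) (step (f35 H) (step (f172 H) rfl)))))) (step (H.back (i := 3) (by decide) (f254 H)) (step (H.back (i := 1) (by decide) (f259 H)) rfl))

theorem f458 : g 7 • path g [4, 0, 3] p = path g [3, 4, 0] p :=
  H.back (i := 2) (by decide) (f457 H)

theorem f462 : g 3 • path g [4, 6] p = path g [4, 6, 3] p :=
  rfl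

theorem f474 : g 9 • path g [4, 6] p = path g [4, 6, 9] p :=
  rfl

theorem f476 : g 9 • path g [4, 6, 9] p = path g [9, 6] p :=
  scan (u := [9]) (w := [9]) (i := 9) (r13_1_0 H) (step (f474 H) rfl) (step (H.back (i := 4) (by decide) (f320 H)) rfl)

theorem f477 : g 4 • path g [9, 6] p = path g [4, 6, 9] p :=
  H.back (i := 9) (by decide) (f476 H)

theorem f478 : g 1 • path g [4, 8] p = path g [4, 8, 1] p :=
  rfl

theorem f479 : g 6 • path g [4, 8, 1] p = path g [4, 8] p :=
  H.back (i := 1) (by decide) (f478 H)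

theorem f480 : g 6 • path g [4, 8] p = path g [4, 8, 6] p :=
  rfl

theorem f481 : g 1 • path g [4, 8, 6] p = path g [4, 8] p :=
  H.back (i := 6) (by decide) (f480 H)

theorem f482 : g 6 • path g [4, 8, 6] p = path g [4, 8, 1] p :=
  scan (u := [6]) (w := [6]) (i := 6) (r0_1_0 H) (step (f480 H) rfl) (step (H.back (i := 1) (by decide) (f478 H)) rfl)

theorem f483 : g 1 • path g [4, 8, 1] p = path g [4, 8, 6] p :=
  H.back (i := 6) (by decide) (f482 H)

theorem f484 : g 7 • path g [4, 8, 6] p = path g [4, 8, 1] p :=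
  scan (u := [6]) (w := [6, 7]) (i := 7) (r1_1_0 H) (step (f480 H) rfl) (step (H.back (i := 1) (by decide) (f478 H)) (step (H.back (i := 2) (by decide) (f452 H)) rfl))

theorem f485 : g 2 • path g [4, 8, 1] p = path g [4, 8, 6] p :=
  H.back (i := 7) (by decide) (f484 H)

theorem f486 : g 0 • path g [8, 1] p = path g [8, 1, 0] p :=
  rfl

theorem f487 : g 5 • path g [8, 1, 0] p = path g [8, 1] p :=
  H.back (i := 0) (by decide) (f486 H)

theorem f488 : g 3 • path g [8, 1] p = path g [8, 1, 3] p :=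
  rfl

theorem f489 : g 8 • path g [8, 1, 3] p = path g [8, 1] p :=
  H.back (i := 3) (by decide) (f488 H)

theorem f490 : g 4 • path g [8, 1] p = path g [8, 1, 4] p :=
  rfl

theorem f492 : g 5 • path g [8, 1] p = path g [8, 1, 5] p :=
  rfl

theorem f493 : g 0 • path g [8, 1, 5] p = path g [8, 1] p :=
  H.back (i := 5) (by decide) (f492 H)

theorem f494 : g 7 • path g [8, 1] p = path g [8, 1, 7] p :=
  rfl

theorem f495 : g 2 • path g [8, 1, 7] p = path g [8, 1] p :=
  H.back (i := 7) (by decide) (f494 H)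

theorem f496 : g 8 • path g [8, 1] p = path g [8, 1, 8] p :=
  rfl

theorem f498 : g 8 • path g [8, 1, 8] p = path g [8, 1, 3] p :=
  scan (u := [8]) (w := [8]) (i := 8) (r9_1_0 H) (step (f496 H) rfl) (step (H.back (i := 3) (by decide) (f488 H)) rfl)

theorem f500 : g 9 • path g [8, 1] p = path g [8, 1, 9] p :=
  rfl

theorem f501 : g 4 • path g [8, 1, 9] p = path g [8, 1] p :=
  H.back (i := 9) (by decide) (f500 H)

theorem f502 : g 9 • path g [8, 1, 9] p = path g [8, 1, 4] p :=
  scan (u := [9]) (w := [9]) (i := 9) (r13_1_0 H) (step (f500 H) rfl) (step (H.back (i := 4) (by decide) (f490 H)) rfl)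

theorem f503 : g 4 • path g [8, 1, 4] p = path g [8, 1, 9] p :=
  H.back (i := 9) (by decide) (f502 H)

theorem f504 : g 0 • path g [8, 6] p = path g [8, 6, 0] p :=
  rfl

theorem f505 : g 5 • path g [8, 6, 0] p = path g [8, 6] p :=
  H.back (i := 0) (by decide) (f504 H)

theorem f506 : g 6 • path g [8, 6, 0] p = path g [8, 1, 0] p :=
  scan (u := [0]) (w := [5, 6, 5, 6]) (i := 6) (r3_1_4 H) (step (f504 H) rfl) (step (H.back (i := 0) (by decide) (f486 H)) (step (H.back (i := 1) (by decide) (f68 H)) (step (H.back (i := 0) (by decide) (f14 H)) (step (H.back (i := 1) (by decide) (f71 H)) rfl))))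

theorem f508 : g 5 • path g [8, 6] p = path g [8, 6, 0] p :=
  scan (u := [6, 5, 6, 0, 6]) (w := []) (i := 5) (r3_1_1 H) (step (f506 H) (step (f487 H) (step (f69 H) (step (f14 H) (step (f70 H) rfl))))) rfl

theorem f509 : g 0 • path g [8, 6, 0] p = path g [8, 6] p :=
  H.back (i := 5) (by decide) (f508 H)

theorem f510 : path g [8, 1, 0] p = path g [8, 1, 5] p :=
  close (u := [6]) (w := [0, 6, 5, 6, 5]) (r3_1_3 H) (step (f506 H) rfl) (step (H.back (i := 5) (by decide) (f492 H)) (step (H.back (i := 1) (by decide) (f68 H)) (step (H.back (i := 0) (by decide) (f14 H)) (step (H.back (i := 1) (by decide) (f71 H)) (step (H.back (i := 0) (by decide) (f509 H)) rfl)))))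

theorem f511 : path g [8, 1, 5] p = path g [8, 1, 0] p :=
  (f510 H).symm

theorem f512 : g 0 • path g [8, 1, 0] p = path g [8, 1] p :=
  (congrArg (g 0 • ·) (f511 H).symm).trans (f493 H)

theorem f514 : g 5 • path g [8, 1] p = path g [8, 1, 0] p :=
  H.back (i := 0) (by decide) (f512 H)

theorem f515 : path g [8, 6] p = path g [8, 1, 7] p :=
  close (u := [0, 2, 0, 0]) (w := [2, 0]) (r2_0_2 H) (step (f512 H) (step (f75 H) (step (f504 H) (step (f509 H) rfl)))) (step (H.back (i := 7) (by decide) (f494 H)) (step (H.back (i := 5) (by decide) (f487 H)) rfl))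

theorem f516 : path g [8, 1, 7] p = path g [8, 6] p :=
  (f515 H).symm

theorem f517 : g 2 • path g [8, 6] p = path g [8, 1] p :=
  (congrArg (g 2 • ·) (f516 H).symm).trans (f495 H)

theorem f519 : g 7 • path g [8, 1] p = path g [8, 6] p :=
  H.back (i := 2) (by decide) (f517 H)

theorem f520 : g 7 • path g [8, 6, 0] p = path g [8, 1, 0] p :=
  scan (u := [5]) (w := [5, 6, 3, 0, 2, 8, 6]) (i := 7) (r8_1_2 H) (step (f508 H) rfl) (step (H.back (i := 0) (by decide) (f486 H)) (step (H.back (i := 1) (by decide) (f68 H)) (step (H.back (i := 8) (by decide) (f10 H)) (step (H.back (i := 5) (by decide) (f1 H)) (step (H.back (i := 7) (by decide) (f5 H)) (step (H.back (i := 3) (by decide) (f11 H)) (step (H.back (i := 1) (by decide) (f71 H)) rfl)))))))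

theorem f522 : path g [3, 2, 3] p = path g [8] p :=
  close (u := [5, 7, 5, 6, 5, 8, 2, 3]) (w := [5, 5, 6]) (r6_0_3 H) (step (f508 H) (step (f520 H) (step (f487 H) (step (f69 H) (step (f15 H) (step (f12 H) (step (f30 H) (step (f154 H) rfl)))))))) (step (H.back (i := 0) (by decide) (f14 H)) (step (H.back (i := 0) (by decide) (f14 H)) (step (H.back (i := 1) (by decide) (f71 H)) rfl)))

theorem f525 : g 3 • path g [8] p = path g [3, 2, 8] p :=
  (congrArg (g 3 • ·) (f522 H).symm).trans (f167 H)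

theorem f526 : path g [] p = path g [3, 2, 8] p :=
  (f11 H).symm.trans (f525 H)

theorem f527 : path g [3, 2, 8] p = path g [] p :=
  (f526 H).symm

theorem f528 : g 3 • path g [] p = path g [3, 2] p :=
  (congrArg (g 3 • ·) (f527 H).symm).trans (f165 H)

theorem f529 : path g [3] p = path g [3, 2] p :=
  (f6 H).symm.trans (f528 H)

theorem f533 : path g [3, 2] p = path g [3] p :=
  (f529 H).symm

theorem f541 : g 2 • path g [3] p = path g [3] p :=
  (f30 H).trans (f533 H)

theorem f550 : g 6 • path g [3] p = path g [3, 2, 6] p :=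
  (congrArg (g 6 • ·) (f533 H).symm).trans (f160 H)

theorem f551 : path g [3, 6] p = path g [3, 2, 6] p :=
  (f38 H).symm.trans (f550 H)

theorem f570 : path g [3, 2, 6] p = path g [3, 6] p :=
  (f551 H).symm

theorem f574 : g 6 • path g [3, 6] p = path g [3, 2, 1] p :=
  (congrArg (g 6 • ·) (f570 H).symm).trans (f162 H)

theorem f575 : path g [3, 1] p = path g [3, 2, 1] p :=
  (f40 H).symm.trans (f574 H)

theorem f576 : path g [3, 2, 1] p = path g [3, 1] p :=
  (f575 H).symm

theorem f580 : g 2 • path g [3, 1] p = path g [3, 6] p :=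
  (congrArg (g 2 • ·) (f576 H).symm).trans (f150 H)

theorem f581 : path g [3, 0, 6] p = path g [3, 6] p :=
  (f117 H).symm.trans (f580 H)

theorem f587 : g 6 • path g [3, 6] p = path g [3, 0, 1] p :=
  (congrArg (g 6 • ·) (f581 H).symm).trans (f114 H)

theorem f588 : path g [3, 1] p = path g [3, 0, 1] p :=
  (f40 H).symm.trans (f587 H)

theorem f592 : path g [3, 0, 1] p = path g [3, 1] p :=
  (f588 H).symm

theorem f593 : g 6 • path g [3, 1] p = path g [3, 0] p :=
  (congrArg (g 6 • ·) (f592 H).symm).trans (f107 H)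

theorem f594 : path g [3] p = path g [3, 0] p :=
  (f29 H).symm.trans (f593 H)

theorem f598 : path g [3, 0] p = path g [3] p :=
  (f594 H).symm

theorem f603 : g 0 • path g [3] p = path g [3, 0, 0] p :=
  (congrArg (g 0 • ·) (f598 H).symm).trans (f102 H)

theorem f604 : g 0 • path g [3] p = path g [3] p :=
  (f24 H).trans (f598 H)

theorem f605 : path g [3] p = path g [3, 0, 0] p :=
  (f604 H).symm.trans (f603 H)

theorem f617 : g 7 • path g [3] p = path g [3] p :=
  (f27 H).trans (f598 H)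

theorem f653 : path g [3, 0, 0] p = path g [3] p :=
  (f605 H).symm

theorem f657 : g 2 • path g [3] p = path g [3, 5] p :=
  (congrArg (g 2 • ·) (f653 H).symm).trans (f104 H)

theorem f658 : path g [3] p = path g [3, 5] p :=
  (f541 H).symm.trans (f657 H)

theorem f659 : path g [3, 5] p = path g [3] p :=
  (f658 H).symm

theorem f674 : g 5 • path g [3] p = path g [3] p :=
  (f36 H).trans (f659 H)

theorem f743 : path g [8, 6, 0] p = path g [3, 1, 3] p :=
  close (u := [5]) (w := [8, 6, 5, 8, 6, 5, 2, 1, 0, 2, 0, 1, 8, 6]) (r17_1_2 H) (step (f508 H) rfl) (step (H.back (i := 3) (by decide) (f130 H)) (step (H.back (i := 1) (by decide) (f28 H)) (step (H.back (i := 0) (by decide) (f604 H)) (step (H.back (i := 3) (by decide) (f6 H)) (step (H.back (i := 1) (by decide) (f2 H)) (step (H.back (i := 0) (by decide) (f0 H)) (step (H.back (i := 7) (by decide) (f5 H)) (step (H.back (i := 6) (by decide) (f3 H)) (step (H.back (i := 5) (by decide) (f1 H)) (step (H.back (i := 7) (by decide)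 (f5 H)) (step (H.back (i := 5) (by decide) (f1 H)) (step (H.back (i := 6) (by decide) (f3 H)) (step (H.back (i := 3) (by decide) (f11 H)) (step (H.back (i := 1) (by decide) (f71 H)) rfl))))))))))))))

theorem f744 : g 5 • path g [3, 1, 3] p = path g [8, 6] p :=
  (congrArg (g 5 • ·) (f743 H).symm).trans (f505 H)

theorem f746 : g 0 • path g [8, 6] p = path g [3, 1, 3] p :=
  H.back (i := 5) (by decide) (f744 H)

theorem f747 : g 6 • path g [3, 1, 3] p = path g [8, 1, 0] p :=
  (congrArg (g 6 • ·) (f743 H).symm).trans (f506 H)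

theorem f749 : g 1 • path g [8, 1, 0] p = path g [3, 1, 3] p :=
  H.back (i := 6) (by decide) (f747 H)

theorem f750 : g 0 • path g [3, 1, 3] p = path g [8, 6] p :=
  (congrArg (g 0 • ·) (f743 H).symm).trans (f509 H)

theorem f752 : g 5 • path g [8, 6] p = path g [3, 1, 3] p :=
  H.back (i := 0) (by decide) (f750 H)

theorem f753 : g 7 • path g [3, 1, 3] p = path g [8, 1, 0] p :=
  (congrArg (g 7 • ·) (f743 H).symm).trans (f520 H)

theorem f755 : g 2 • path g [8, 1, 0] p = path g [3, 1, 3] p :=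
  H.back (i := 7) (by decide) (f753 H)

theorem f756 : g 2 • path g [3, 1, 3] p = path g [8, 1, 0] p :=
  scan (u := [5]) (w := [1, 0, 2, 0, 1, 8, 6, 5, 8, 6, 5, 8, 6]) (i := 2) (r17_1_8 H) (step (f752 H) rfl) (step (H.back (i := 6) (by decide) (f747 H)) (step (H.back (i := 5) (by decide) (f752 H)) (step (H.back (i := 7) (by decide) (f519 H)) (step (H.back (i := 5) (by decide) (f487 H)) (step (H.back (i := 6) (by decide) (f747 H)) (step (H.back (i := 3) (by decide) (f130 H)) (step (H.back (i := 1) (by decide) (f28 H)) (step (H.back (i := 0) (by decide) (f604 H)) (step (H.back (i := 3) (by decide) (f6 H)) (step (H.back (i := 1) (by decide) (f2 H)) (step (H.back (i := 0) (by decide) (f0 H)) (step (H.back (i := 3) (by decide) (f11 H)) (step (H.back (i := 1) (by decide) (f71 H)) rfl)))))))))))))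

theorem f757 : g 7 • path g [8, 1, 0] p = path g [3, 1, 3] p :=
  H.back (i := 2) (by decide) (f756 H)

theorem f758 : g 3 • path g [3, 1, 5] p = path g [8, 1, 0] p :=
  scan (u := [0, 2, 0, 1, 8, 5]) (w := [1]) (i := 3) (r7_1_4 H) (step (f750 H) (step (f517 H) (step (f486 H) (step (f749 H) (step (f131 H) (step (f134 H) rfl)))))) (step (H.back (i := 6) (by decide) (f747 H)) rfl)

theorem f759 : g 8 • path g [8, 1, 0] p = path g [3, 1, 5] p :=
  H.back (i := 3) (by decide) (f758 H)

theorem f760 : path g [8, 1, 8] p = path g [3, 6] p :=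
  close (u := [0, 2, 8]) (w := [6, 5, 7, 5, 6, 3]) (r8_1_7 H) (step (f750 H) (step (f517 H) (step (f496 H) rfl))) (step (H.back (i := 1) (by decide) (f41 H)) (step (H.back (i := 0) (by decide) (f135 H)) (step (H.back (i := 2) (by decide) (f222 H)) (step (H.back (i := 0) (by decide) (f208 H)) (step (H.back (i := 1) (by decide) (f41 H)) (step (H.back (i := 8) (by decide) (f131 H)) rfl))))))

theorem f763 : g 8 • path g [3, 6] p = path g [8, 1, 3] p :=
  (congrArg (g 8 • ·) (f760 H).symm).trans (f498 H)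

theorem f764 : path g [3, 6, 8] p = path g [8, 1, 3] p :=
  (f224 H).symm.trans (f763 H)

theorem f765 : path g [8, 1, 3] p = path g [3, 6, 8] p :=
  (f764 H).symm

theorem f766 : g 8 • path g [3, 6, 8] p = path g [8, 1] p :=
  (congrArg (g 8 • ·) (f765 H).symm).trans (f489 H)

theorem f767 : path g [3, 6, 3] p = path g [8, 1] p :=
  (f226 H).symm.trans (f766 H)

theorem f772 : g 8 • path g [8, 1] p = path g [3, 6] p :=
  (f496 H).trans (f760 H)

theorem f775 : g 3 • path g [8, 1] p = path g [3, 6, 8] p :=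
  (f488 H).trans (f765 H)

theorem f777 : path g [3, 1, 7] p = path g [3, 6] p :=
  close (u := [0, 2, 0, 1, 0, 0, 8, 7]) (w := [3, 0, 1]) (r6_1_5 H) (step (f750 H) (step (f517 H) (step (f486 H) (step (f749 H) (step (f750 H) (step (f746 H) (step (f131 H) (step (f136 H) rfl)))))))) (step (H.back (i := 8) (by decide) (f772 H)) (step (H.back (i := 5) (by decide) (f487 H)) (step (H.back (i := 6) (by decide) (f747 H)) rfl)))

theorem f780 : g 6 • path g [3, 6] p = path g [3, 6, 2] p :=
  (congrArg (g 6 • ·) (f777 H).symm).trans (f213 H)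

theorem f781 : path g [3, 1] p = path g [3, 6, 2] p :=
  (f40 H).symm.trans (f780 H)

theorem f782 : path g [3, 6, 2] p = path g [3, 1] p :=
  (f781 H).symm

theorem f784 : g 7 • path g [3, 1] p = path g [3, 6] p :=
  (f136 H).trans (f777 H)

theorem f789 : g 3 • path g [3, 6] p = path g [8, 1] p :=
  (f214 H).trans (f767 H)

theorem f790 : g 8 • path g [8, 6] p = path g [3, 6, 0] p :=
  scan (u := [2, 0, 1]) (w := [5, 3, 1, 0]) (i := 8) (r7_1_5 H) (step (f756 H) (step (f512 H) (step (f73 H) rfl))) (step (H.back (i := 0) (by decide) (f208 H)) (step (H.back (i := 8) (by decide) (f772 H)) (step (H.back (i := 6) (by decide) (f72 H)) (step (H.back (i := 5) (by decide) (f744 H)) rfl))))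

theorem f791 : g 3 • path g [3, 6, 0] p = path g [8, 6] p :=
  H.back (i := 8) (by decide) (f790 H)

theorem f792 : g 7 • path g [3, 6, 0] p = path g [3, 1, 5] p :=
  scan (u := [2, 0, 1, 0, 0, 8]) (w := [3, 0, 1, 0]) (i := 7) (r6_1_6 H) (step (f756 H) (step (f512 H) (step (f73 H) (step (f746 H) (step (f750 H) (step (f790 H) rfl)))))) (step (H.back (i := 8) (by decide) (f759 H)) (step (H.back (i := 5) (by decide) (f514 H)) (step (H.back (i := 6) (by decide) (f72 H)) (step (H.back (i := 5) (by decide) (f744 H)) rfl))))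

theorem f794 : g 2 • path g [3, 1] p = path g [3, 6] p :=
  (f117 H).trans (f581 H)

theorem f795 : path g [3, 6, 0] p = path g [3, 6, 5] p :=
  close (u := [8]) (w := [0, 3, 6, 5, 7, 5, 6]) (r7_0_5 H) (step (f790 H) rfl) (step (H.back (i := 5) (by decide) (f218 H)) (step (H.back (i := 8) (by decide) (f772 H)) (step (H.back (i := 1) (by decide) (f68 H)) (step (H.back (i := 0) (by decide) (f14 H)) (step (H.back (i := 2) (by decide) (f16 H)) (step (H.back (i := 0) (by decide) (f14 H)) (step (H.back (i := 1) (by decide) (f71 H)) rfl)))))))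

theorem f796 : path g [3, 6, 5] p = path g [3, 6, 0] p :=
  (f795 H).symm

theorem f797 : g 0 • path g [3, 6, 0] p = path g [3, 6] p :=
  (congrArg (g 0 • ·) (f796 H).symm).trans (f219 H)

theorem f799 : g 5 • path g [3, 6] p = path g [3, 6, 0] p :=
  H.back (i := 0) (by decide) (f797 H)

theorem f800 : g 7 • path g [3, 6, 0] p = path g [3, 1, 0] p :=
  (congrArg (g 7 • ·) (f796 H).symm).trans (f220 H)

theorem f801 : path g [3, 1, 5] p = path g [3, 1, 0] p :=
  (f792 H).symm.trans (f800 H)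

theorem f802 : g 0 • path g [3, 1, 0] p = path g [3, 1] p :=
  (congrArg (g 0 • ·) (f801 H).symm).trans (f135 H)

theorem f804 : g 5 • path g [3, 1] p = path g [3, 1, 0] p :=
  H.back (i := 0) (by decide) (f802 H)

theorem f805 : g 7 • path g [3, 1, 0] p = path g [3, 6, 0] p :=
  (congrArg (g 7 • ·) (f801 H).symm).trans (f223 H)

theorem f808 : g 3 • path g [3, 1, 0] p = path g [8, 1, 0] p :=
  (congrArg (g 3 • ·) (f801 H).symm).trans (f758 H)

theorem f812 : g 2 • path g [3, 1, 0] p = path g [3, 6, 0] p :=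
  (f221 H).trans (f796 H)

theorem f814 : g 7 • path g [3, 6, 0] p = path g [3, 1, 0] p :=
  (f792 H).trans (f801 H)

theorem f815 : g 2 • path g [3, 6, 9] p = path g [3, 1, 9] p :=
  scan (u := [7, 5, 9]) (w := [4, 5, 5, 5]) (i := 2) (r10_0_3 H) (step (f805 H) (step (f209 H) (step (f230 H) rfl))) (step (H.back (i := 9) (by decide) (f142 H)) (step (H.back (i := 0) (by decide) (f802 H)) (step (H.back (i := 0) (by decide) (f128 H)) (step (H.back (i := 0) (by decide) (f802 H)) rfl))))

theorem f816 : g 7 • path g [3, 1, 9] p = path g [3, 6, 9] p :=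
  H.back (i := 2) (by decide) (f815 H)

theorem f817 : g 2 • path g [3, 6] p = path g [3, 1] p :=
  (f210 H).trans (f782 H)

theorem f818 : g 6 • path g [3, 6, 0] p = path g [3, 1, 0] p :=
  scan (u := [0, 6, 5, 6, 5]) (w := []) (i := 6) (r3_1_4 H) (step (f802 H) (step (f29 H) (step (f674 H) (step (f38 H) (step (f799 H) rfl))))) rfl

theorem f819 : g 1 • path g [3, 1, 0] p = path g [3, 6, 0] p :=
  H.back (i := 6) (by decide) (f818 H)

theorem f820 : g 7 • path g [3, 6, 9] p = path g [3, 1, 9] p :=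
  scan (u := [0, 0, 0, 9]) (w := [4, 0, 2]) (i := 7) (r10_1_5 H) (step (f797 H) (step (f208 H) (step (f797 H) (step (f230 H) rfl)))) (step (H.back (i := 9) (by decide) (f142 H)) (step (H.back (i := 5) (by decide) (f129 H)) (step (H.back (i := 7) (by decide) (f814 H)) rfl)))

theorem f821 : g 2 • path g [3, 1, 9] p = path g [3, 6, 9] p :=
  H.back (i := 7) (by decide) (f820 H)

theorem f822 : g 7 • path g [3, 9, 5] p = path g [3, 9, 0] p :=
  scan (u := [0, 1, 0, 9, 5]) (w := [5, 4, 2, 1, 0, 2]) (i := 7) (r11_1_9 H) (step (f797 H) (step (f39 H) (step (f604 H) (step (f42 H) (step (f240 H) rfl))))) (step (H.back (i := 0) (by decide) (f234 H)) (step (H.back (i := 9) (by decide) (f42 H)) (step (H.back (i := 7) (by decide) (f617 H)) (step (H.back (i := 6) (by decide) (f29 H)) (step (H.back (i := 5) (by decide) (f129 H)) (step (H.back (i := 7) (by decide) (f814 H)) rfl))))))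

theorem f823 : g 2 • path g [3, 9, 0] p = path g [3, 9, 5] p :=
  H.back (i := 7) (by decide) (f822 H)

theorem f824 : g 3 • path g [8, 6] p = path g [8, 6, 3] p :=
  rfl

theorem f825 : g 8 • path g [8, 6, 3] p = path g [8, 6] p :=
  H.back (i := 3) (by decide) (f824 H)

theorem f826 : g 3 • path g [8, 6, 3] p = path g [3, 6, 0] p :=
  scan (u := [3]) (w := [3]) (i := 3) (r9_0_0 H) (step (f824 H) rfl) (step (H.back (i := 8) (by decide) (f790 H)) rfl)

theorem f827 : g 8 • path g [3, 6, 0] p = path g [8, 6, 3] p :=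
  H.back (i := 3) (by decide) (f826 H)

theorem f828 : g 2 • path g [3, 1, 8] p = path g [8, 6, 3] p :=
  scan (u := [3, 5, 5, 6, 5, 7, 5, 6, 5, 8]) (w := []) (i := 2) (r6_0_10 H) (step (f826 H) (step (f209 H) (step (f799 H) (step (f818 H) (step (f129 H) (step (f784 H) (step (f799 H) (step (f818 H) (step (f129 H) (step (f138 H) rfl)))))))))) rfl

theorem f832 : g 0 • path g [3, 6, 8] p = path g [3, 1, 8] p :=
  scan (u := [2, 8, 6, 5, 7, 5, 6, 3]) (w := []) (i := 0) (r8_1_8 H) (step (f828 H) (step (f825 H) (step (f72 H) (step (f514 H) (step (f757 H) (step (f744 H) (step (f72 H) (step (f775 H) rfl)))))))) rfl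

theorem f834 : g 8 • path g [3, 6, 8] p = path g [8, 1] p :=
  (f226 H).trans (f767 H)

theorem f835 : g 1 • path g [3, 1, 8] p = path g [8, 6, 3] p :=
  scan (u := [0]) (w := [3, 0, 1, 3, 6, 5, 7, 5, 6, 7, 0, 1, 3]) (i := 1) (r17_0_9 H) (step (f832 H) rfl) (step (H.back (i := 8) (by decide) (f827 H)) (step (H.back (i := 5) (by decide) (f799 H)) (step (H.back (i := 6) (by decide) (f38 H)) (step (H.back (i := 8) (by decide) (f12 H)) (step (H.back (i := 1) (by decide) (f71 H)) (step (H.back (i := 0) (by decide) (f750 H)) (step (H.back (i := 2) (by decide) (f755 H)) (step (H.back (i := 0) (by decide) (f486 H)) (step (H.back (i := 1) (by decide) (f68 H)) (step (H.back (i := 2) (by decide) (f16 H)) (step (H.back (i := 5) (by decide) (f15 H)) (step (H.back (i := 6) (by decide) (f69 H)) (step (H.back (i := 8) (by decide) (f834 H)) rfl)))))))))))))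

theorem f837 : g 4 • path g [8, 6] p = path g [8, 6, 4] p :=
  rfl

theorem f838 : g 9 • path g [8, 6, 4] p = path g [8, 6] p :=
  H.back (i := 4) (by decide) (f837 H)

theorem f839 : g 9 • path g [8, 6] p = path g [8, 6, 9] p :=
  rfl

theorem f840 : g 4 • path g [8, 6, 9] p = path g [8, 6] p :=
  H.back (i := 9) (by decide) (f839 H)

theorem f841 : g 9 • path g [8, 6, 9] p = path g [8, 6, 4] p :=
  scan (u := [9]) (w := [9]) (i := 9) (r13_1_0 H) (step (f839 H) rfl) (step (H.back (i := 4) (by decide) (f837 H)) rfl)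

theorem f842 : g 4 • path g [8, 6, 4] p = path g [8, 6, 9] p :=
  H.back (i := 9) (by decide) (f841 H)

theorem f843 : g 2 • path g [8, 6, 9] p = path g [8, 1, 9] p :=
  scan (u := [9]) (w := [4, 5, 5, 5, 7, 5]) (i := 2) (r10_0_5 H) (step (f839 H) rfl) (step (H.back (i := 9) (by decide) (f500 H)) (step (H.back (i := 0) (by decide) (f512 H)) (step (H.back (i := 0) (by decide) (f486 H)) (step (H.back (i := 0) (by decide) (f512 H)) (step (H.back (i := 2) (by decide) (f756 H)) (step (H.back (i := 0) (by decide) (f746 H)) rfl))))))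

theorem f844 : g 7 • path g [8, 1, 9] p = path g [8, 6, 9] p :=
  H.back (i := 2) (by decide) (f843 H)

theorem f845 : g 7 • path g [8, 6, 9] p = path g [8, 1, 9] p :=
  scan (u := [9]) (w := [4, 0, 2, 0, 0, 0]) (i := 7) (r10_1_0 H) (step (f839 H) rfl) (step (H.back (i := 9) (by decide) (f500 H)) (step (H.back (i := 5) (by decide) (f487 H)) (step (H.back (i := 7) (by decide) (f753 H)) (step (H.back (i := 5) (by decide) (f752 H)) (step (H.back (i := 5) (by decide) (f744 H)) (step (H.back (i := 5) (by decide) (f752 H)) rfl))))))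

theorem f847 : g 0 • path g [8, 9] p = path g [8, 9, 0] p :=
  rfl

theorem f848 : g 5 • path g [8, 9, 0] p = path g [8, 9] p :=
  H.back (i := 0) (by decide) (f847 H)

theorem f849 : g 1 • path g [8, 9] p = path g [8, 9, 1] p :=
  rfl

theorem f850 : g 6 • path g [8, 9, 1] p = path g [8, 9] p :=
  H.back (i := 1) (by decide) (f849 H)

theorem f851 : g 5 • path g [8, 9] p = path g [8, 9, 5] p :=
  rfl

theorem f852 : g 0 • path g [8, 9, 5] p = path g [8, 9] p :=
  H.back (i := 5) (by decide) (f851 H)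

theorem f853 : g 3 • path g [8, 9, 5] p = path g [9, 0] p :=
  scan (u := [5]) (w := [1, 0, 2, 0, 1, 8]) (i := 3) (r7_1_1 H) (step (f851 H) rfl) (step (H.back (i := 6) (by decide) (f298 H)) (step (H.back (i := 5) (by decide) (f285 H)) (step (H.back (i := 7) (by decide) (f98 H)) (step (H.back (i := 5) (by decide) (f100 H)) (step (H.back (i := 6) (by decide) (f94 H)) (step (H.back (i := 3) (by decide) (f82 H)) rfl))))))

theorem f855 : g 7 • path g [8, 9, 5] p = path g [8, 9, 0] p :=
  scan (u := [5]) (w := [5, 4, 2, 1, 0, 2, 0, 1, 0, 9]) (i := 7) (r11_1_1 H) (step (f851 H) rfl) (step (H.back (i := 0) (by decide) (f847 H)) (step (H.back (i := 9) (by decide) (f76 H)) (step (H.back (i := 7) (by decide) (f17 H)) (step (H.back (i := 6) (by decide) (f69 H)) (step (H.back (i := 5) (by decide) (f487 H)) (step (H.back (i := 7) (by decide) (f753 H)) (step (H.back (i := 5) (by decide) (f752 H)) (step (H.back (i := 6) (by decide) (f70 H)) (step (H.back (i := 5) (by decide) (f15 H)) (step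 (H.back (i := 4) (by decide) (f77 H)) rfl))))))))))

theorem f857 : path g [8, 9, 0] p = path g [8, 9, 5] p :=
  close (u := [0, 0]) (w := [0, 9, 7, 4, 0, 2]) (r10_1_5 H) (step (f852 H) (step (f847 H) rfl)) (step (H.back (i := 5) (by decide) (f851 H)) (step (H.back (i := 4) (by decide) (f79 H)) (step (H.back (i := 2) (by decide) (f452 H)) (step (H.back (i := 9) (by decide) (f78 H)) (step (H.back (i := 5) (by decide) (f848 H)) (step (H.back (i := 7) (by decide) (f855 H)) rfl))))))

theorem f858 : path g [8, 9, 5] p = path g [8, 9, 0] p :=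
  (f857 H).symm

theorem f859 : g 0 • path g [8, 9, 0] p = path g [8, 9] p :=
  (congrArg (g 0 • ·) (f858 H).symm).trans (f852 H)

theorem f861 : g 5 • path g [8, 9] p = path g [8, 9, 0] p :=
  H.back (i := 0) (by decide) (f859 H)

theorem f862 : g 3 • path g [8, 9, 0] p = path g [9, 0] p :=
  (congrArg (g 3 • ·) (f858 H).symm).trans (f853 H)

theorem f864 : g 8 • path g [9, 0] p = path g [8, 9, 0] p :=
  H.back (i := 3) (by decide) (f862 H)

theorem f868 : g 6 • path g [8, 9] p = path g [8, 9, 6] p :=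
  rfl

theorem f869 : g 1 • path g [8, 9, 6] p = path g [8, 9] p :=
  H.back (i := 6) (by decide) (f868 H)

theorem f870 : g 6 • path g [8, 9, 6] p = path g [8, 9, 1] p :=
  scan (u := [6]) (w := [6]) (i := 6) (r0_1_0 H) (step (f868 H) rfl) (step (H.back (i := 1) (by decide) (f849 H)) rfl)

theorem f871 : g 1 • path g [8, 9, 1] p = path g [8, 9, 6] p :=
  H.back (i := 6) (by decide) (f870 H)

theorem f872 : g 7 • path g [8, 9, 6] p = path g [8, 9, 1] p :=
  scan (u := [6]) (w := [6, 7]) (i := 7) (r1_1_0 H) (step (f868 H) rfl) (step (H.back (i := 1) (by decide) (f849 H)) (step (H.back (i := 2) (by decide) (f84 H)) rfl))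

theorem f873 : g 2 • path g [8, 9, 1] p = path g [8, 9, 6] p :=
  H.back (i := 7) (by decide) (f872 H)

theorem f874 : g 3 • path g [9, 0] p = path g [9, 0, 3] p :=
  rfl

theorem f875 : g 8 • path g [9, 0, 3] p = path g [9, 0] p :=
  H.back (i := 3) (by decide) (f874 H)

theorem f876 : g 3 • path g [9, 0, 3] p = path g [8, 9, 0] p :=
  scan (u := [3]) (w := [3]) (i := 3) (r9_0_0 H) (step (f874 H) rfl) (step (H.back (i := 8) (by decide) (f864 H)) rfl)

theorem f878 : g 0 • path g [9, 0, 3] p = path g [3, 9, 7] p :=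
  scan (u := [3]) (w := [2, 8, 6, 5, 7, 5, 6]) (i := 0) (r8_1_6 H) (step (f874 H) rfl) (step (H.back (i := 7) (by decide) (f246 H)) (step (H.back (i := 3) (by decide) (f47 H)) (step (H.back (i := 1) (by decide) (f95 H)) (step (H.back (i := 0) (by decide) (f101 H)) (step (H.back (i := 2) (by decide) (f99 H)) (step (H.back (i := 0) (by decide) (f284 H)) (step (H.back (i := 1) (by decide) (f296 H)) rfl)))))))

theorem f882 : g 6 • path g [9, 0] p = path g [9, 0, 6] p :=
  rfl

theorem f884 : g 6 • path g [9, 0, 6] p = path g [4, 1, 4] p :=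
  scan (u := [6]) (w := [6]) (i := 6) (r0_1_0 H) (step (f882 H) rfl) (step (H.back (i := 1) (by decide) (f296 H)) rfl)

theorem f885 : g 1 • path g [4, 1, 4] p = path g [9, 0, 6] p :=
  H.back (i := 6) (by decide) (f884 H)

theorem f886 : g 7 • path g [9, 0, 6] p = path g [4, 1, 4] p :=
  scan (u := [6]) (w := [6, 7]) (i := 7) (r1_1_0 H) (step (f882 H) rfl) (step (H.back (i := 1) (by decide) (f296 H)) (step (H.back (i := 2) (by decide) (f295 H)) rfl))

theorem f888 : g 5 • path g [9, 0, 6] p = path g [9, 0, 6] p :=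
  scan (u := [6]) (w := [6, 0, 6, 5]) (i := 5) (r3_1_1 H) (step (f882 H) rfl) (step (H.back (i := 1) (by decide) (f885 H)) (step (H.back (i := 5) (by decide) (f285 H)) (step (H.back (i := 1) (by decide) (f88 H)) (step (H.back (i := 0) (by decide) (f290 H)) rfl))))

theorem f889 : g 0 • path g [9, 0, 6] p = path g [9, 0, 6] p :=
  H.back (i := 5) (by decide) (f888 H)

theorem f890 : path g [3, 9, 5] p = path g [9, 0, 3] p :=
  close (u := [6, 5, 7, 5, 6, 3, 0, 2]) (w := [8]) (r8_1_1 H) (step (f882 H) (step (f888 H) (step (f886 H) (step (f299 H) (step (f89 H) (step (f47 H) (step (f234 H) (step (f823 H) rfl)))))))) (step (H.back (i := 3) (by decide) (f874 H)) rfl)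

theorem f891 : path g [9, 0, 3] p = path g [3, 9, 5] p :=
  (f890 H).symm

theorem f892 : g 8 • path g [3, 9, 5] p = path g [9, 0] p :=
  (congrArg (g 8 • ·) (f891 H).symm).trans (f875 H)

theorem f895 : g 3 • path g [3, 9, 5] p = path g [8, 9, 0] p :=
  (congrArg (g 3 • ·) (f891 H).symm).trans (f876 H)

theorem f897 : g 8 • path g [8, 9, 0] p = path g [3, 9, 5] p :=
  H.back (i := 3) (by decide) (f895 H)

theorem f898 : g 0 • path g [3, 9, 5] p = path g [3, 9, 7] p :=
  (congrArg (g 0 • ·) (f891 H).symm).trans (f878 H)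

theorem f899 : path g [3, 9] p = path g [3, 9, 7] p :=
  (f241 H).symm.trans (f898 H)

theorem f900 : path g [3, 9, 7] p = path g [3, 9] p :=
  (f899 H).symm

theorem f901 : g 2 • path g [3, 9] p = path g [3, 9] p :=
  (congrArg (g 2 • ·) (f900 H).symm).trans (f247 H)

theorem f902 : path g [3, 9, 2] p = path g [3, 9] p :=
  (f238 H).symm.trans (f901 H)

theorem f907 : g 7 • path g [3, 9] p = path g [3, 9] p :=
  (f246 H).trans (f900 H)

theorem f909 : g 9 • path g [9, 0, 6] p = path g [4, 0, 1] p :=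
  scan (u := [6]) (w := [1, 1, 0, 1, 4, 5, 5, 5, 6, 7, 5]) (i := 9) (r12_0_6 H) (step (f882 H) rfl) (step (H.back (i := 6) (by decide) (f260 H)) (step (H.back (i := 6) (by decide) (f258 H)) (step (H.back (i := 5) (by decide) (f415 H)) (step (H.back (i := 6) (by decide) (f51 H)) (step (H.back (i := 9) (by decide) (f283 H)) (step (H.back (i := 0) (by decide) (f300 H)) (step (H.back (i := 0) (by decide) (f284 H)) (step (H.back (i := 0) (by decide) (f300 H)) (step (H.back (i := 1) (by decide) (f88 H)) (step (H.back (i := 2) (by decide) (f22 H)) (step (H.back (i := 0) (by decide) (f290 H)) rfl)))))))))))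

theorem f911 : g 7 • path g [4, 1, 4] p = path g [9, 0, 6] p :=
  scan (u := [9, 2, 4, 5, 5, 5]) (w := [5]) (i := 7) (r10_0_5 H) (step (f909 H) (step (f383 H) (step (f454 H) (step (f285 H) (step (f299 H) (step (f285 H) rfl)))))) (step (H.back (i := 0) (by decide) (f889 H)) rfl)

theorem f912 : g 2 • path g [9, 0, 6] p = path g [4, 1, 4] p :=
  H.back (i := 7) (by decide) (f911 H)

theorem f913 : g 2 • path g [3, 9] p = path g [3, 9] p :=
  (f238 H).trans (f902 H)

theorem f922 : g 4 • path g [9, 1] p = path g [9, 1, 4] p :=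
  rfl

theorem f923 : g 9 • path g [9, 1, 4] p = path g [9, 1] p :=
  H.back (i := 4) (by decide) (f922 H)

theorem f924 : g 4 • path g [9, 1, 4] p = path g [4, 0, 6] p :=
  scan (u := [4]) (w := [4]) (i := 4) (r13_0_0 H) (step (f922 H) rfl) (step (H.back (i := 9) (by decide) (f453 H)) rfl)

theorem f926 : g 1 • path g [9, 1, 4] p = path g [4, 0, 9] p :=
  scan (u := [4]) (w := [2, 4, 1, 2, 4, 1, 2]) (i := 1) (r18_0_2 H) (step (f922 H) rfl) (step (H.back (i := 7) (by decide) (f352 H)) (step (H.back (i := 9) (by decide) (f268 H)) (step (H.back (i := 6) (by decide) (f251 H)) (step (H.back (i := 7) (by decide) (f385 H)) (step (H.back (i := 9) (by decide) (f453 H)) (step (H.back (i := 6) (by decide) (f96 H)) (step (H.back (i := 7) (by decide) (f301 H)) rfl)))))))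

theorem f930 : g 7 • path g [4, 1, 9] p = path g [9, 1, 4] p :=
  scan (u := [4, 0, 2, 0, 0, 0, 9]) (w := []) (i := 7) (r10_1_2 H) (step (f924 H) (step (f445 H) (step (f446 H) (step (f438 H) (step (f382 H) (step (f438 H) (step (f333 H) rfl))))))) rfl

theorem f932 : g 6 • path g [9, 1, 4] p = path g [4, 1, 9] p :=
  scan (u := [7]) (w := [9, 7, 6, 9, 7, 6, 9]) (i := 6) (r18_1_1 H) (step (f930 H) rfl) (step (H.back (i := 4) (by decide) (f336 H)) (step (H.back (i := 2) (by decide) (f912 H)) (step (H.back (i := 1) (by decide) (f885 H)) (step (H.back (i := 4) (by decide) (f282 H)) (step (H.back (i := 2) (by decide) (f323 H)) (step (H.back (i := 1) (by decide) (f59 H)) (step (H.back (i := 4) (by decide) (f334 H)) rfl)))))))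

theorem f933 : g 1 • path g [4, 1, 9] p = path g [9, 1, 4] p :=
  H.back (i := 6) (by decide) (f932 H)

theorem f934 : path g [4, 1, 9] p = path g [4, 1] p :=
  close (u := [7, 9, 6, 7, 9, 6, 7, 9]) (w := [6, 7, 9, 6, 7, 9, 6, 7, 9, 6, 7, 9, 6]) (r16_1_2 H) (step (f930 H) (step (f923 H) (step (f89 H) (step (f23 H) (step (f20 H) (step (f56 H) (step (f314 H) (step (f333 H) rfl)))))))) (step (H.back (i := 1) (by decide) (f50 H)) (step (H.back (i := 2) (by decide) (f309 H)) (step (H.back (i := 4) (by decide) (f8 H)) (step (H.back (i := 1) (by decide) (f2 H)) (step (H.back (i := 2) (by decide) (f4 H)) (step (H.back (i := 4) (by decide) (f19 H)) (step (H.back (i := 1) (by decide) (f95 H)) (step (H.back (i := 2) (by decide) (f99 H)) (step (H.back (i := 4) (by decide) (f454 H)) (step (H.back (i := 1) (by decide) (f261 H)) (step (H.back (i := 2) (by decide) (f446 H)) (step (H.back (i := 4) (by decide) (f924 H)) (step (H.back (i := 1) (by decide) (f933 H)) rfl)))))))))))))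

theorem f944 : g 1 • path g [4, 1] p = path g [9, 1, 4] p :=
  (congrArg (g 1 • ·) (f934 H).symm).trans (f933 H)

theorem f945 : path g [4, 6] p = path g [9, 1, 4] p :=
  (f59 H).symm.trans (f944 H)

theorem f946 : path g [9, 1, 4] p = path g [4, 6] p :=
  (f945 H).symm

theorem f951 : g 1 • path g [4, 6] p = path g [4, 0, 9] p :=
  (congrArg (g 1 • ·) (f946 H).symm).trans (f926 H)

theorem f952 : path g [4] p = path g [4, 0, 9] p :=
  (f57 H).symm.trans (f951 H)

theorem f962 : path g [4, 0, 9] p = path g [4] p :=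
  (f952 H).symm

theorem f965 : g 9 • path g [4] p = path g [4, 0, 4] p :=
  (congrArg (g 9 • ·) (f962 H).symm).trans (f270 H)

theorem f966 : path g [] p = path g [4, 0, 4] p :=
  (f9 H).symm.trans (f965 H)

theorem f976 : path g [4, 0, 4] p = path g [] p :=
  (f966 H).symm

theorem f977 : g 9 • path g [] p = path g [4, 0] p :=
  (congrArg (g 9 • ·) (f976 H).symm).trans (f257 H)

theorem f978 : path g [9] p = path g [4, 0] p :=
  (f18 H).symm.trans (f977 H)

theorem f982 : path g [4, 0] p = path g [9] p :=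
  (f978 H).symm

theorem f1002 : g 8 • path g [9] p = path g [4, 0, 8] p :=
  (congrArg (g 8 • ·) (f982 H).symm).trans (f264 H)

theorem f1003 : path g [8, 9] p = path g [4, 0, 8] p :=
  (f83 H).symm.trans (f1002 H)

theorem f1007 : path g [4, 0, 8] p = path g [8, 9] p :=
  (f1003 H).symm

theorem f1015 : g 5 • path g [8, 9] p = path g [4, 8] p :=
  (congrArg (g 5 • ·) (f1007 H).symm).trans (f456 H)

theorem f1016 : path g [8, 9, 0] p = path g [4, 8] p :=
  (f861 H).symm.trans (f1015 H)

theorem f1024 : g 5 • path g [4, 8] p = path g [8, 9] p :=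
  (f448 H).trans (f1007 H)

theorem f1037 : g 8 • path g [4, 8] p = path g [3, 9, 5] p :=
  (congrArg (g 8 • ·) (f1016 H).symm).trans (f897 H)

theorem f1038 : path g [3, 4] p = path g [3, 9, 5] p :=
  (f64 H).symm.trans (f1037 H)

theorem f1039 : path g [3, 9, 5] p = path g [3, 4] p :=
  (f1038 H).symm

theorem f1042 : g 7 • path g [3, 4] p = path g [3, 9, 0] p :=
  (congrArg (g 7 • ·) (f1039 H).symm).trans (f822 H)

theorem f1043 : path g [3, 4, 7] p = path g [3, 9, 0] p :=
  (f184 H).symm.trans (f1042 H)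

theorem f1044 : g 8 • path g [3, 4] p = path g [9, 0] p :=
  (congrArg (g 8 • ·) (f1039 H).symm).trans (f892 H)

theorem f1045 : path g [4] p = path g [9, 0] p :=
  (f34 H).symm.trans (f1044 H)

theorem f1049 : path g [9, 0] p = path g [4] p :=
  (f1045 H).symm

theorem f1051 : g 5 • path g [4] p = path g [9] p :=
  (f415 H).trans (f982 H)

theorem f1072 : g 6 • path g [4] p = path g [9, 0, 6] p :=
  (congrArg (g 6 • ·) (f1049 H).symm).trans (f882 H)

theorem f1073 : path g [4, 6] p = path g [9, 0, 6] p :=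
  (f56 H).symm.trans (f1072 H)

theorem f1095 : path g [9, 0, 6] p = path g [4, 6] p :=
  (f1073 H).symm

theorem f1111 : g 2 • path g [4, 6] p = path g [4, 1, 4] p :=
  (congrArg (g 2 • ·) (f1095 H).symm).trans (f912 H)

theorem f1112 : path g [4, 1] p = path g [4, 1, 4] p :=
  (f323 H).symm.trans (f1111 H)

theorem f1113 : path g [4, 1, 4] p = path g [4, 1] p :=
  (f1112 H).symm

theorem f1121 : g 5 • path g [4, 1] p = path g [9, 1] p :=
  (congrArg (g 5 • ·) (f1113 H).symm).trans (f299 H)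

theorem f1122 : path g [4, 0, 1] p = path g [9, 1] p :=
  (f440 H).symm.trans (f1121 H)

theorem f1147 : g 0 • path g [9, 1] p = path g [4, 1] p :=
  (f300 H).trans (f1113 H)

theorem f1149 : g 7 • path g [9, 1] p = path g [4, 0, 6] p :=
  (congrArg (g 7 • ·) (f1122 H).symm).trans (f447 H)

theorem f1150 : path g [9, 6] p = path g [4, 0, 6] p :=
  (f301 H).symm.trans (f1149 H)

theorem f1155 : path g [4, 0, 6] p = path g [9, 6] p :=
  (f1150 H).symm

theorem f1174 : g 4 • path g [9, 6] p = path g [9, 1] p :=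
  (congrArg (g 4 • ·) (f1155 H).symm).trans (f454 H)

theorem f1175 : path g [4, 6, 9] p = path g [9, 1] p :=
  (f477 H).symm.trans (f1174 H)

theorem f1182 : g 9 • path g [9, 1] p = path g [9, 6] p :=
  (f453 H).trans (f1155 H)

theorem f1184 : path g [3, 9, 0] p = path g [3, 4, 7] p :=
  (f1043 H).symm

theorem f1185 : g 5 • path g [3, 4, 7] p = path g [3, 9] p :=
  (congrArg (g 5 • ·) (f1184 H).symm).trans (f235 H)

theorem f1186 : path g [4, 0, 3] p = path g [3, 9] p :=
  (f436 H).symm.trans (f1185 H)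

theorem f1197 : g 0 • path g [3, 9] p = path g [3, 4, 7] p :=
  (f234 H).trans (f1184 H)

theorem f1199 : g 7 • path g [3, 9] p = path g [3, 4, 0] p :=
  (congrArg (g 7 • ·) (f1186 H).symm).trans (f458 H)

theorem f1200 : path g [3, 9] p = path g [3, 4, 0] p :=
  (f907 H).symm.trans (f1199 H)

theorem f1201 : path g [3, 4, 0] p = path g [3, 9] p :=
  (f1200 H).symm

theorem f1203 : g 5 • path g [3, 9] p = path g [3, 4] p :=
  (f240 H).trans (f1039 H)

theorem f1216 : g 5 • path g [9] p = path g [4] p :=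
  (f292 H).trans (f1049 H)

theorem f1219 : g 9 • path g [4, 6] p = path g [9, 1] p :=
  (f474 H).trans (f1175 H)

theorem f1247 : g 0 • path g [3, 4] p = path g [3, 9] p :=
  (f172 H).trans (f1201 H)

theorem f1254 : g 6 • path g [3, 1, 0] p = path g [3, 1, 0, 6] p :=
  rfl

theorem f1255 : g 1 • path g [3, 1, 0, 6] p = path g [3, 1, 0] p :=
  H.back (i := 6) (by decide) (f1254 H)

theorem f1256 : g 6 • path g [3, 1, 0, 6] p = path g [3, 6, 0] p :=
  scan (u := [6]) (w := [6]) (i := 6) (r0_1_0 H) (step (f1254 H) rfl) (step (H.back (i := 1) (by decide) (f819 H)) rfl)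

theorem f1257 : g 1 • path g [3, 6, 0] p = path g [3, 1, 0, 6] p :=
  H.back (i := 6) (by decide) (f1256 H)

theorem f1258 : g 7 • path g [3, 1, 0, 6] p = path g [3, 1, 0, 6] p :=
  scan (u := [6]) (w := [6, 7]) (i := 7) (r1_1_0 H) (step (f1254 H) rfl) (step (H.back (i := 1) (by decide) (f1257 H)) (step (H.back (i := 2) (by decide) (f812 H)) rfl))

theorem f1260 : g 5 • path g [3, 1, 0, 6] p = path g [3, 1, 0, 6] p :=
  scan (u := [6]) (w := [6, 0, 6, 5]) (i := 5) (r3_1_1 H) (step (f1254 H) rfl) (step (H.back (i := 1) (by decide) (f1257 H)) (step (H.back (i := 5) (by decide) (f799 H)) (step (H.back (i := 1) (by decide) (f41 H)) (step (H.back (i := 0) (by decide) (f802 H)) rfl))))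

theorem f1262 : g 8 • path g [3, 1, 0] p = path g [3, 1, 0, 8] p :=
  rfl

theorem f1263 : g 3 • path g [3, 1, 0, 8] p = path g [3, 1, 0] p :=
  H.back (i := 8) (by decide) (f1262 H)

theorem f1264 : g 8 • path g [3, 1, 0, 8] p = path g [8, 1, 0] p :=
  scan (u := [8]) (w := [8]) (i := 8) (r9_1_0 H) (step (f1262 H) rfl) (step (H.back (i := 3) (by decide) (f808 H)) rfl)

theorem f1265 : g 3 • path g [8, 1, 0] p = path g [3, 1, 0, 8] p :=
  H.back (i := 8) (by decide) (f1264 H)

theorem f1274 : g 6 • path g [3, 1, 0, 8] p = path g [3, 6, 8] p :=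
  scan (u := [8]) (w := [5, 8, 6, 5, 8, 6, 5, 2, 1, 0, 2, 0, 1]) (i := 6) (r17_1_0 H) (step (f1262 H) rfl) (step (H.back (i := 0) (by decide) (f229 H)) (step (H.back (i := 3) (by decide) (f141 H)) (step (H.back (i := 1) (by decide) (f749 H)) (step (H.back (i := 0) (by decide) (f486 H)) (step (H.back (i := 3) (by decide) (f789 H)) (step (H.back (i := 1) (by decide) (f41 H)) (step (H.back (i := 0) (by decide) (f802 H)) (step (H.back (i := 7) (by decide) (f814 H)) (step (H.back (i := 6) (by decide) (f1256 H)) (step (H.back (i := 5) (by decide) (f1260 H)) (step (H.back (i := 7) (by decide) (f1258 H)) (step (H.back (i := 5) (by decide) (f1260 H)) (step (H.back (i := 6) (by decide) (f1254 H)) rfl)))))))))))))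

theorem f1276 : path g [3, 1, 3] p = path g [3, 6] p :=
  close (u := [3, 1, 3, 1, 3, 1, 3, 1, 3]) (w := [1, 3, 1, 3, 1]) (r15_0_1 H) (step (f1263 H) (step (f819 H) (step (f791 H) (step (f71 H) (step (f11 H) (step (f2 H) (step (f6 H) (step (f28 H) (step (f130 H) rfl))))))))) (step (H.back (i := 6) (by decide) (f38 H)) (step (H.back (i := 8) (by decide) (f12 H)) (step (H.back (i := 6) (by decide) (f69 H)) (step (H.back (i := 8) (by decide) (f834 H)) (step (H.back (i := 6) (by decide) (f1274 H)) rfl)))))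

theorem f1289 : g 2 • path g [3, 6] p = path g [8, 1, 0] p :=
  (congrArg (g 2 • ·) (f1276 H).symm).trans (f756 H)

theorem f1290 : path g [3, 1] p = path g [8, 1, 0] p :=
  (f817 H).symm.trans (f1289 H)

theorem f1291 : path g [8, 1, 0] p = path g [3, 1] p :=
  (f1290 H).symm

theorem f1307 : g 3 • path g [3, 1] p = path g [3, 1, 0, 8] p :=
  (congrArg (g 3 • ·) (f1291 H).symm).trans (f1265 H)

theorem f1308 : g 3 • path g [3, 1] p = path g [3, 6] p :=
  (f130 H).trans (f1276 H)

theorem f1309 : path g [3, 6] p = path g [3, 1, 0, 8] p :=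
  (f1308 H).symm.trans (f1307 H)

theorem f1310 : path g [3, 1, 0, 8] p = path g [3, 6] p :=
  (f1309 H).symm

theorem f1324 : g 6 • path g [3, 6] p = path g [3, 6, 8] p :=
  (congrArg (g 6 • ·) (f1310 H).symm).trans (f1274 H)

theorem f1325 : path g [3, 1] p = path g [3, 6, 8] p :=
  (f40 H).symm.trans (f1324 H)

theorem f1326 : path g [3, 6, 8] p = path g [3, 1] p :=
  (f1325 H).symm

theorem f1333 : g 0 • path g [3, 1] p = path g [3, 1, 8] p :=
  (congrArg (g 0 • ·) (f1326 H).symm).trans (f832 H)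

theorem f1334 : path g [3, 1, 0] p = path g [3, 1, 8] p :=
  (f128 H).symm.trans (f1333 H)

theorem f1344 : path g [3, 1, 8] p = path g [3, 1, 0] p :=
  (f1334 H).symm

theorem f1362 : g 1 • path g [3, 1, 0] p = path g [8, 6, 3] p :=
  (congrArg (g 1 • ·) (f1344 H).symm).trans (f835 H)

theorem f1363 : path g [3, 6, 0] p = path g [8, 6, 3] p :=
  (f819 H).symm.trans (f1362 H)

theorem f1364 : path g [8, 6, 3] p = path g [3, 6, 0] p :=
  (f1363 H).symm

theorem f1368 : g 3 • path g [3, 6, 0] p = path g [3, 6, 0] p :=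
  (congrArg (g 3 • ·) (f1364 H).symm).trans (f826 H)

theorem f1369 : path g [8, 6] p = path g [3, 6, 0] p :=
  (f791 H).symm.trans (f1368 H)

theorem f1385 : path g [3, 6, 0] p = path g [8, 6] p :=
  (f1369 H).symm

theorem f1387 : g 5 • path g [8, 6] p = path g [3, 6] p :=
  (f752 H).trans (f1276 H)

theorem f1392 : path g [8, 6, 3] p = path g [8, 6] p :=
  (f1364 H).trans (f1385 H)

theorem f1393 : g 3 • path g [8, 6] p = path g [8, 6] p :=
  (f824 H).trans (f1392 H)

theorem f1406 : g 1 • path g [8, 6] p = path g [3, 1, 0, 6] p :=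
  (congrArg (g 1 • ·) (f1385 H).symm).trans (f1257 H)

theorem f1407 : path g [8] p = path g [3, 1, 0, 6] p :=
  (f71 H).symm.trans (f1406 H)

theorem f1408 : path g [3, 1, 0, 6] p = path g [8] p :=
  (f1407 H).symm

theorem f1409 : g 1 • path g [8] p = path g [3, 1, 0] p :=
  (congrArg (g 1 • ·) (f1408 H).symm).trans (f1255 H)

theorem f1410 : path g [8, 1] p = path g [3, 1, 0] p :=
  (f68 H).symm.trans (f1409 H)

theorem f1426 : path g [3, 1, 0] p = path g [8, 1] p :=
  (f1410 H).symm

theorem f1428 : g 5 • path g [8, 1] p = path g [3, 1] p :=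
  (f514 H).trans (f1291 H)

theorem f1434 : g 0 • path g [8, 1] p = path g [3, 1] p :=
  (f486 H).trans (f1291 H)

theorem f1456 : path g [3, 1, 8] p = path g [8, 1] p :=
  (f1344 H).trans (f1426 H)

theorem f1459 : g 1 • path g [3, 1, 4] p = path g [3, 1, 4, 1] p :=
  rfl

theorem f1460 : g 6 • path g [3, 1, 4, 1] p = path g [3, 1, 4] p :=
  H.back (i := 1) (by decide) (f1459 H)

theorem f1463 : g 0 • path g [3, 1] p = path g [8, 1] p :=
  (f128 H).trans (f1426 H)

theorem f1464 : g 3 • path g [3, 1, 4] p = path g [3, 1, 4, 3] p :=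
  rfl

theorem f1465 : g 8 • path g [3, 1, 4, 3] p = path g [3, 1, 4] p :=
  H.back (i := 3) (by decide) (f1464 H)

theorem f1466 : path g [3, 1, 4, 3] p = path g [3, 6, 4] p :=
  close (u := [3]) (w := [9, 8, 4]) (r14_0_3 H) (step (f1464 H) rfl) (step (H.back (i := 4) (by decide) (f216 H)) (step (H.back (i := 3) (by decide) (f1308 H)) (step (H.back (i := 9) (by decide) (f133 H)) rfl)))

theorem f1467 : g 8 • path g [3, 6, 4] p = path g [3, 1, 4] p :=
  (congrArg (g 8 • ·) (f1466 H).symm).trans (f1465 H)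

theorem f1469 : g 3 • path g [3, 1, 4] p = path g [3, 6, 4] p :=
  H.back (i := 8) (by decide) (f1467 H)

theorem f1470 : g 8 • path g [3, 6, 9] p = path g [3, 1, 9] p :=
  scan (u := [3, 4]) (w := [9]) (i := 8) (r14_1_2 H) (step (f1469 H) (step (f233 H) rfl)) (step (H.back (i := 4) (by decide) (f145 H)) rfl)

theorem f1471 : g 3 • path g [3, 1, 9] p = path g [3, 6, 9] p :=
  H.back (i := 8) (by decide) (f1470 H)

theorem f1475 : g 5 • path g [3, 1] p = path g [8, 1] p :=
  (f804 H).trans (f1426 H)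

theorem f1476 : g 6 • path g [3, 1, 4] p = path g [3, 1, 4, 6] p :=
  rfl

theorem f1478 : g 6 • path g [3, 1, 4, 6] p = path g [3, 1, 4, 1] p :=
  scan (u := [6]) (w := [6]) (i := 6) (r0_1_0 H) (step (f1476 H) rfl) (step (H.back (i := 1) (by decide) (f1459 H)) rfl)

theorem f1479 : g 1 • path g [3, 1, 4, 1] p = path g [3, 1, 4, 6] p :=
  H.back (i := 6) (by decide) (f1478 H)

theorem f1482 : g 8 • path g [3, 1, 4] p = path g [3, 1, 4, 8] p :=
  rfl

theorem f1483 : g 3 • path g [3, 1, 4, 8] p = path g [3, 1, 4] p :=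
  H.back (i := 8) (by decide) (f1482 H)

theorem f1484 : g 8 • path g [3, 1, 4, 8] p = path g [3, 6, 4] p :=
  scan (u := [8]) (w := [8]) (i := 8) (r9_1_0 H) (step (f1482 H) rfl) (step (H.back (i := 3) (by decide) (f1469 H)) rfl)

theorem f1486 : g 8 • path g [3, 1] p = path g [8, 1] p :=
  (f138 H).trans (f1456 H)

theorem f1487 : path g [3, 1, 4, 8] p = path g [8, 1, 4] p :=
  close (u := [8]) (w := [9, 3, 4]) (r14_1_0 H) (step (f1482 H) rfl) (step (H.back (i := 4) (by decide) (f490 H)) (step (H.back (i := 8) (by decide) (f1486 H)) (step (H.back (i := 9) (by decide) (f133 H)) rfl)))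

theorem f1488 : g 3 • path g [8, 1, 4] p = path g [3, 1, 4] p :=
  (congrArg (g 3 • ·) (f1487 H).symm).trans (f1483 H)

theorem f1490 : g 8 • path g [3, 1, 4] p = path g [8, 1, 4] p :=
  H.back (i := 3) (by decide) (f1488 H)

theorem f1491 : g 8 • path g [8, 1, 4] p = path g [3, 6, 4] p :=
  (congrArg (g 8 • ·) (f1487 H).symm).trans (f1484 H)

theorem f1493 : g 3 • path g [3, 6, 4] p = path g [8, 1, 4] p :=
  H.back (i := 8) (by decide) (f1491 H)

theorem f1494 : g 8 • path g [3, 1, 9] p = path g [8, 1, 9] p :=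
  scan (u := [3, 4]) (w := [9]) (i := 8) (r14_1_2 H) (step (f1488 H) (step (f145 H) rfl)) (step (H.back (i := 4) (by decide) (f503 H)) rfl)

theorem f1495 : g 3 • path g [8, 1, 9] p = path g [3, 1, 9] p :=
  H.back (i := 8) (by decide) (f1494 H)

theorem f1496 : g 8 • path g [8, 1, 9] p = path g [3, 6, 9] p :=
  scan (u := [8]) (w := [8]) (i := 8) (r9_1_0 H) (step (f1494 H) rfl) (step (H.back (i := 3) (by decide) (f1471 H)) rfl)

theorem f1497 : g 3 • path g [3, 6, 9] p = path g [8, 1, 9] p :=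
  H.back (i := 8) (by decide) (f1496 H)

theorem f1499 : g 0 • path g [3, 1, 9] p = path g [3, 1, 9, 0] p :=
  rfl

theorem f1500 : g 5 • path g [3, 1, 9, 0] p = path g [3, 1, 9] p :=
  H.back (i := 0) (by decide) (f1499 H)

theorem f1501 : g 1 • path g [3, 1, 9] p = path g [3, 1, 9, 1] p :=
  rfl

theorem f1502 : g 6 • path g [3, 1, 9, 1] p = path g [3, 1, 9] p :=
  H.back (i := 1) (by decide) (f1501 H)

theorem f1503 : g 0 • path g [3, 6] p = path g [8, 6] p :=
  (f208 H).trans (f1385 H)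

theorem f1504 : g 5 • path g [3, 1, 9] p = path g [3, 1, 9, 5] p :=
  rfl

theorem f1505 : g 0 • path g [3, 1, 9, 5] p = path g [3, 1, 9] p :=
  H.back (i := 5) (by decide) (f1504 H)

theorem f1506 : g 6 • path g [3, 1, 9] p = path g [3, 1, 9, 6] p :=
  rfl

theorem f1507 : g 1 • path g [3, 1, 9, 6] p = path g [3, 1, 9] p :=
  H.back (i := 6) (by decide) (f1506 H)

theorem f1508 : g 6 • path g [3, 1, 9, 6] p = path g [3, 1, 9, 1] p :=
  scan (u := [6]) (w := [6]) (i := 6) (r0_1_0 H) (step (f1506 H) rfl) (step (H.back (i := 1) (by decide) (f1501 H)) rfl)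

theorem f1509 : g 1 • path g [3, 1, 9, 1] p = path g [3, 1, 9, 6] p :=
  H.back (i := 6) (by decide) (f1508 H)

theorem f1510 : g 0 • path g [3, 4, 1] p = path g [3, 4, 1, 0] p :=
  rfl

theorem f1511 : g 5 • path g [3, 4, 1, 0] p = path g [3, 4, 1] p :=
  H.back (i := 0) (by decide) (f1510 H)

theorem f1512 : g 5 • path g [3, 4, 7] p = path g [3, 9] p :=
  (f436 H).trans (f1186 H)

theorem f1513 : g 5 • path g [8, 9] p = path g [4, 8] p :=
  (f861 H).trans (f1016 H)

theorem f1514 : path g [3, 4, 1, 0] p = path g [8, 9, 1] p :=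
  close (u := [0]) (w := [2, 1, 0, 0, 0, 9, 6, 5, 6, 6, 4, 1]) (r12_1_7 H) (step (f1510 H) rfl) (step (H.back (i := 7) (by decide) (f872 H)) (step (H.back (i := 6) (by decide) (f868 H)) (step (H.back (i := 5) (by decide) (f1024 H)) (step (H.back (i := 5) (by decide) (f1513 H)) (step (H.back (i := 5) (by decide) (f1024 H)) (step (H.back (i := 4) (by decide) (f67 H)) (step (H.back (i := 1) (by decide) (f71 H)) (step (H.back (i := 0) (by decide) (f1503 H)) (step (H.back (i := 1) (by decide) (f41 H)) (step (H.back (i := 1) (by decide) (f28 H)) (step (H.back (i := 9) (by decide) (f33 H)) (step (H.back (i := 6) (by decide) (f175 H)) rfl))))))))))))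

theorem f1515 : g 5 • path g [8, 9, 1] p = path g [3, 4, 1] p :=
  (congrArg (g 5 • ·) (f1514 H).symm).trans (f1511 H)

theorem f1517 : g 0 • path g [3, 4, 1] p = path g [8, 9, 1] p :=
  H.back (i := 5) (by decide) (f1515 H)

theorem f1518 : g 0 • path g [3, 4, 6] p = path g [4, 8, 6] p :=
  scan (u := [5, 1]) (w := [1, 0, 1]) (i := 0) (r3_0_1 H) (step (f1515 H) (step (f183 H) rfl)) (step (H.back (i := 6) (by decide) (f480 H)) (step (H.back (i := 5) (by decide) (f1513 H)) (step (H.back (i := 6) (by decide) (f850 H)) rfl)))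

theorem f1519 : g 5 • path g [4, 8, 6] p = path g [3, 4, 6] p :=
  H.back (i := 0) (by decide) (f1518 H)

theorem f1520 : g 5 • path g [3, 9, 6] p = path g [8, 9, 6] p :=
  scan (u := [5, 6, 0, 6]) (w := [6]) (i := 5) (r3_1_2 H) (step (f1515 H) (step (f175 H) (step (f1247 H) (step (f242 H) rfl)))) (step (H.back (i := 1) (by decide) (f871 H)) rfl)

theorem f1521 : g 0 • path g [8, 9, 6] p = path g [3, 9, 6] p :=
  H.back (i := 5) (by decide) (f1520 H)

theorem f1522 : g 0 • path g [8, 9] p = path g [4, 8] p :=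
  (f847 H).trans (f1016 H)

theorem f1523 : g 0 • path g [3, 9, 1] p = path g [4, 8, 1] p :=
  scan (u := [5, 6, 7, 5, 2, 1]) (w := [2, 1, 0, 6, 7]) (i := 0) (r5_1_2 H) (step (f1515 H) (step (f175 H) (step (f184 H) (step (f1512 H) (step (f913 H) (step (f236 H) rfl)))))) (step (H.back (i := 7) (by decide) (f484 H)) (step (H.back (i := 6) (by decide) (f480 H)) (step (H.back (i := 5) (by decide) (f1513 H)) (step (H.back (i := 1) (by decide) (f869 H)) (step (H.back (i := 2) (by decide) (f873 H)) rfl)))))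

theorem f1524 : g 5 • path g [4, 8, 1] p = path g [3, 9, 1] p :=
  H.back (i := 0) (by decide) (f1523 H)

theorem f1525 : g 2 • path g [3, 4, 1] p = path g [3, 4, 6] p :=
  scan (u := [5]) (w := [1, 0, 2, 1, 0, 6, 7, 5, 6, 7]) (i := 2) (r5_1_5 H) (step (f1515 H) rfl) (step (H.back (i := 6) (by decide) (f180 H)) (step (H.back (i := 5) (by decide) (f1203 H)) (step (H.back (i := 7) (by decide) (f907 H)) (step (H.back (i := 6) (by decide) (f237 H)) (step (H.back (i := 5) (by decide) (f1524 H)) (step (H.back (i := 1) (by decide) (f478 H)) (step (H.back (i := 2) (by decide) (f452 H)) (step (H.back (i := 0) (by decide) (f1522 H)) (step (H.back (i := 1) (by decide) (f869 H)) (step (H.back (i := 2) (by decide) (f873 H)) rfl))))))))))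

theorem f1526 : g 7 • path g [3, 4, 6] p = path g [3, 4, 1] p :=
  H.back (i := 2) (by decide) (f1525 H)

theorem f1527 : path g [3, 4, 2] p = path g [3, 4] p :=
  close (u := [2, 1, 2]) (w := [1]) (r1_0_0 H) (step (f1525 H) (step (f181 H) (step (f176 H) rfl))) (step (H.back (i := 6) (by decide) (f175 H)) rfl)

theorem f1528 : g 7 • path g [3, 4] p = path g [3, 4] p :=
  (congrArg (g 7 • ·) (f1527 H).symm).trans (f177 H)

theorem f1529 : path g [3, 4, 7] p = path g [3, 4] p :=
  (f184 H).symm.trans (f1528 H)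

theorem f1533 : g 5 • path g [3, 4] p = path g [3, 9] p :=
  (congrArg (g 5 • ·) (f1529 H).symm).trans (f1512 H)

theorem f1534 : path g [3, 4, 5] p = path g [3, 9] p :=
  (f178 H).symm.trans (f1533 H)

theorem f1536 : g 0 • path g [3, 9] p = path g [3, 4] p :=
  (f1197 H).trans (f1529 H)

theorem f1538 : g 5 • path g [3, 4] p = path g [3, 9] p :=
  (f178 H).trans (f1534 H)

theorem f1539 : g 0 • path g [8, 9, 1] p = path g [3, 4, 1] p :=
  scan (u := [2, 0, 1, 8, 5, 3, 1]) (w := []) (i := 0) (r7_1_5 H) (step (f1525 H) (step (f1518 H) (step (f481 H) (step (f64 H) (step (f1538 H) (step (f81 H) (step (f849 H) rfl))))))) rfl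

theorem f1540 : g 5 • path g [3, 4, 1] p = path g [8, 9, 1] p :=
  H.back (i := 0) (by decide) (f1539 H)

theorem f1541 : g 4 • path g [3, 4, 6] p = path g [3, 1, 9, 6] p :=
  scan (u := [2]) (w := [1, 2, 4, 1, 2, 4, 1]) (i := 4) (r18_0_1 H) (step (f1525 H) rfl) (step (H.back (i := 6) (by decide) (f1506 H)) (step (H.back (i := 7) (by decide) (f820 H)) (step (H.back (i := 9) (by decide) (f230 H)) (step (H.back (i := 6) (by decide) (f38 H)) (step (H.back (i := 7) (by decide) (f617 H)) (step (H.back (i := 9) (by decide) (f33 H)) (step (H.back (i := 6) (by decide) (f175 H)) rfl)))))))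

theorem f1542 : g 9 • path g [3, 1, 9, 6] p = path g [3, 4, 6] p :=
  H.back (i := 4) (by decide) (f1541 H)

theorem f1543 : g 7 • path g [3, 4] p = path g [3, 4] p :=
  (f184 H).trans (f1529 H)

theorem f1544 : g 5 • path g [3, 9, 1] p = path g [4, 8, 1] p :=
  scan (u := [2, 1, 0, 2, 1]) (w := [6, 7, 5, 6, 7, 0]) (i := 5) (r5_0_7 H) (step (f1525 H) (step (f181 H) (step (f1247 H) (step (f913 H) (step (f236 H) rfl))))) (step (H.back (i := 1) (by decide) (f478 H)) (step (H.back (i := 2) (by decide) (f452 H)) (step (H.back (i := 0) (by decide) (f1522 H)) (step (H.back (i := 1) (by decide) (f869 H)) (step (H.back (i := 2) (by decide) (f873 H)) (step (H.back (i := 5) (by decide) (f1540 H)) rfl))))))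

theorem f1545 : g 0 • path g [4, 8, 1] p = path g [3, 9, 1] p :=
  H.back (i := 5) (by decide) (f1544 H)

theorem f1546 : g 7 • path g [3, 9, 6] p = path g [3, 9, 1] p :=
  scan (u := [2, 1, 5, 6]) (w := [5, 6, 7, 0, 2, 1, 0]) (i := 7) (r5_0_10 H) (step (f1525 H) (step (f181 H) (step (f1538 H) (step (f242 H) rfl)))) (step (H.back (i := 0) (by decide) (f1545 H)) (step (H.back (i := 1) (by decide) (f478 H)) (step (H.back (i := 2) (by decide) (f452 H)) (step (H.back (i := 5) (by decide) (f1513 H)) (step (H.back (i := 7) (by decide) (f85 H)) (step (H.back (i := 6) (by decide) (f850 H)) (step (H.back (i := 5) (by decide) (f1540 H)) rfl)))))))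

theorem f1547 : g 2 • path g [3, 9, 1] p = path g [3, 9, 6] p :=
  H.back (i := 7) (by decide) (f1546 H)

theorem f1548 : g 5 • path g [3, 4, 6] p = path g [4, 8, 6] p :=
  scan (u := [2, 1, 0, 0, 0, 9, 6]) (w := [6, 6, 4, 1, 0]) (i := 5) (r12_1_8 H) (step (f1525 H) (step (f181 H) (step (f1247 H) (step (f1536 H) (step (f1247 H) (step (f44 H) (step (f180 H) rfl))))))) (step (H.back (i := 1) (by decide) (f483 H)) (step (H.back (i := 1) (by decide) (f478 H)) (step (H.back (i := 9) (by decide) (f78 H)) (step (H.back (i := 6) (by decide) (f850 H)) (step (H.back (i := 5) (by decide) (f1540 H)) rfl)))))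

theorem f1549 : g 0 • path g [4, 8, 6] p = path g [3, 4, 6] p :=
  H.back (i := 5) (by decide) (f1548 H)

theorem f1550 : g 7 • path g [3, 4, 1] p = path g [3, 4, 6] p :=
  scan (u := [7, 5, 5]) (w := [5, 5]) (i := 7) (r2_1_2 H) (step (f1526 H) (step (f1540 H) (step (f1515 H) rfl))) (step (H.back (i := 0) (by decide) (f1549 H)) (step (H.back (i := 0) (by decide) (f1518 H)) rfl))

theorem f1552 : g 7 • path g [3, 9, 1] p = path g [3, 9, 6] p :=
  scan (u := [7, 5, 7, 5]) (w := [5, 7, 5]) (i := 7) (r4_1_1 H) (step (f1550 H) (step (f1548 H) (step (f484 H) (step (f1524 H) rfl)))) (step (H.back (i := 0) (by decide) (f1521 H)) (step (H.back (i := 2) (by decide) (f873 H)) (step (H.back (i := 0) (by decide) (f1517 H)) rfl)))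

theorem f1553 : g 2 • path g [3, 9, 6] p = path g [3, 9, 1] p :=
  H.back (i := 7) (by decide) (f1552 H)

theorem f1554 : g 5 • path g [8, 9, 6] p = path g [3, 9, 6] p :=
  scan (u := [7, 5]) (w := [7, 5, 5]) (i := 5) (r2_1_2 H) (step (f1552 H) (step (f1520 H) rfl)) (step (H.back (i := 2) (by decide) (f1547 H)) (step (H.back (i := 0) (by decide) (f1545 H)) (step (H.back (i := 0) (by decide) (f1523 H)) rfl)))

theorem f1555 : g 0 • path g [3, 9, 6] p = path g [8, 9, 6] p :=
  H.back (i := 5) (by decide) (f1554 H)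

theorem f1556 : g 7 • path g [8, 9, 1] p = path g [8, 9, 6] p :=
  scan (u := [5, 5, 7, 5, 5]) (w := []) (i := 7) (r2_1_0 H) (step (f1554 H) (step (f1520 H) (step (f872 H) (step (f1515 H) (step (f1540 H) rfl))))) rfl

theorem f1557 : g 2 • path g [8, 9, 6] p = path g [8, 9, 1] p :=
  H.back (i := 7) (by decide) (f1556 H)

theorem f1558 : g 7 • path g [4, 8, 1] p = path g [4, 8, 6] p :=
  scan (u := [5, 7, 5]) (w := [5, 7, 5, 7]) (i := 7) (r4_1_0 H) (step (f1554 H) (step (f1546 H) (step (f1544 H) rfl))) (step (H.back (i := 0) (by decide) (f1518 H)) (step (H.back (i := 2) (by decide) (f1525 H)) (step (H.back (i := 0) (by decide) (f1539 H)) (step (H.back (i := 2) (by decide) (f1557 H)) rfl))))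

theorem f1559 : g 2 • path g [4, 8, 6] p = path g [4, 8, 1] p :=
  H.back (i := 7) (by decide) (f1558 H)

theorem f1560 : g 5 • path g [3, 6] p = path g [8, 6] p :=
  (f799 H).trans (f1385 H)

theorem f1561 : g 3 • path g [3, 4, 1] p = path g [3, 4, 1, 3] p :=
  rfl

theorem f1562 : g 8 • path g [3, 4, 1, 3] p = path g [3, 4, 1] p :=
  H.back (i := 3) (by decide) (f1561 H)

theorem f1563 : g 4 • path g [3, 4, 1] p = path g [3, 4, 1, 4] p :=
  rfl

theorem f1564 : g 9 • path g [3, 4, 1, 4] p = path g [3, 4, 1] p :=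
  H.back (i := 4) (by decide) (f1563 H)

theorem f1565 : g 8 • path g [3, 4, 1] p = path g [3, 4, 1, 8] p :=
  rfl

theorem f1567 : g 8 • path g [3, 4, 1, 8] p = path g [3, 4, 1, 3] p :=
  scan (u := [8]) (w := [8]) (i := 8) (r9_1_0 H) (step (f1565 H) rfl) (step (H.back (i := 3) (by decide) (f1561 H)) rfl)

theorem f1569 : g 9 • path g [3, 4, 1] p = path g [3, 4, 1, 9] p :=
  rfl

theorem f1570 : g 4 • path g [3, 4, 1, 9] p = path g [3, 4, 1] p :=
  H.back (i := 9) (by decide) (f1569 H)

theorem f1571 : g 9 • path g [3, 4, 1, 9] p = path g [3, 4, 1, 4] p :=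
  scan (u := [9]) (w := [9]) (i := 9) (r13_1_0 H) (step (f1569 H) rfl) (step (H.back (i := 4) (by decide) (f1563 H)) rfl)

theorem f1575 : g 8 • path g [3, 4, 6] p = path g [3, 4, 6, 8] p :=
  rfl

theorem f1576 : g 3 • path g [3, 4, 6, 8] p = path g [3, 4, 6] p :=
  H.back (i := 8) (by decide) (f1575 H)

theorem f1581 : g 9 • path g [3, 4, 6] p = path g [3, 4, 6, 9] p :=
  rfl

theorem f1582 : g 4 • path g [3, 4, 6, 9] p = path g [3, 4, 6] p :=
  H.back (i := 9) (by decide) (f1581 H)

theorem f1583 : g 9 • path g [3, 4, 6, 9] p = path g [3, 1, 9, 6] p :=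
  scan (u := [9]) (w := [9]) (i := 9) (r13_1_0 H) (step (f1581 H) rfl) (step (H.back (i := 4) (by decide) (f1541 H)) rfl)

theorem f1585 : g 0 • path g [3, 6, 4] p = path g [3, 6, 4, 0] p :=
  rfl

theorem f1586 : g 5 • path g [3, 6, 4, 0] p = path g [3, 6, 4] p :=
  H.back (i := 0) (by decide) (f1585 H)

theorem f1587 : g 1 • path g [3, 6, 4] p = path g [3, 6, 4, 1] p :=
  rfl

theorem f1588 : g 6 • path g [3, 6, 4, 1] p = path g [3, 6, 4] p :=
  H.back (i := 1) (by decide) (f1587 H)

theorem f1589 : g 2 • path g [3, 6, 4] p = path g [3, 6, 4, 2] p :=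
  rfl

theorem f1590 : g 7 • path g [3, 6, 4, 2] p = path g [3, 6, 4] p :=
  H.back (i := 2) (by decide) (f1589 H)

theorem f1591 : g 5 • path g [3, 6, 4] p = path g [3, 6, 4, 5] p :=
  rfl

theorem f1593 : g 6 • path g [3, 6, 4] p = path g [3, 6, 4, 6] p :=
  rfl

theorem f1594 : g 1 • path g [3, 6, 4, 6] p = path g [3, 6, 4] p :=
  H.back (i := 6) (by decide) (f1593 H)

theorem f1595 : g 6 • path g [3, 6, 4, 6] p = path g [3, 6, 4, 1] p :=
  scan (u := [6]) (w := [6]) (i := 6) (r0_1_0 H) (step (f1593 H) rfl) (step (H.back (i := 1) (by decide) (f1587 H)) rfl)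

theorem f1596 : g 1 • path g [3, 6, 4, 1] p = path g [3, 6, 4, 6] p :=
  H.back (i := 6) (by decide) (f1595 H)

theorem f1597 : g 7 • path g [3, 6, 4] p = path g [3, 6, 4, 7] p :=
  rfl

theorem f1600 : g 0 • path g [3, 6, 9] p = path g [3, 6, 9, 0] p :=
  rfl

theorem f1601 : g 5 • path g [3, 6, 9, 0] p = path g [3, 6, 9] p :=
  H.back (i := 0) (by decide) (f1600 H)

theorem f1602 : g 1 • path g [3, 6, 9] p = path g [3, 6, 9, 1] p :=
  rfl

theorem f1604 : g 2 • path g [3, 6, 9, 1] p = path g [3, 1, 9, 6] p :=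
  scan (u := [1]) (w := [1, 2]) (i := 2) (r1_0_1 H) (step (f1602 H) rfl) (step (H.back (i := 6) (by decide) (f1506 H)) (step (H.back (i := 7) (by decide) (f820 H)) rfl))

theorem f1605 : g 7 • path g [3, 1, 9, 6] p = path g [3, 6, 9, 1] p :=
  H.back (i := 2) (by decide) (f1604 H)

theorem f1606 : g 5 • path g [3, 6, 9] p = path g [3, 6, 9, 5] p :=
  rfl

theorem f1607 : g 0 • path g [3, 6, 9, 5] p = path g [3, 6, 9] p :=
  H.back (i := 5) (by decide) (f1606 H)

theorem f1608 : g 6 • path g [3, 6, 9] p = path g [3, 6, 9, 6] p :=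
  rfl

theorem f1609 : g 1 • path g [3, 6, 9, 6] p = path g [3, 6, 9] p :=
  H.back (i := 6) (by decide) (f1608 H)

theorem f1610 : g 6 • path g [3, 6, 9, 6] p = path g [3, 6, 9, 1] p :=
  scan (u := [6]) (w := [6]) (i := 6) (r0_1_0 H) (step (f1608 H) rfl) (step (H.back (i := 1) (by decide) (f1602 H)) rfl)

theorem f1611 : g 1 • path g [3, 6, 9, 1] p = path g [3, 6, 9, 6] p :=
  H.back (i := 6) (by decide) (f1610 H)

theorem f1612 : g 7 • path g [3, 6, 9, 6] p = path g [3, 1, 9, 1] p :=
  scan (u := [6]) (w := [6, 7]) (i := 7) (r1_1_0 H) (step (f1608 H) rfl) (step (H.back (i := 1) (by decide) (f1501 H)) (step (H.back (i := 2) (by decide) (f815 H)) rfl))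

theorem f1613 : g 2 • path g [3, 1, 9, 1] p = path g [3, 6, 9, 6] p :=
  H.back (i := 7) (by decide) (f1612 H)

theorem f1614 : g 5 • path g [3, 6, 9, 6] p = path g [3, 1, 9, 6] p :=
  scan (u := [6]) (w := [6, 6, 4, 1, 0, 2, 1, 0, 0, 0, 9]) (i := 5) (r12_1_1 H) (step (f1608 H) rfl) (step (H.back (i := 1) (by decide) (f1509 H)) (step (H.back (i := 1) (by decide) (f1501 H)) (step (H.back (i := 9) (by decide) (f142 H)) (step (H.back (i := 6) (by decide) (f40 H)) (step (H.back (i := 5) (by decide) (f1387 H)) (step (H.back (i := 7) (by decide) (f519 H)) (step (H.back (i := 6) (by decide) (f72 H)) (step (H.back (i := 5) (by decide) (f1560 H)) (step (H.back (i := 5) (by decide) (f1387 H)) (step (H.back (i := 5) (by decide) (f1560 H)) (step (H.back (i := 4) (by decide) (f231 H)) rfl)))))))))))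

theorem f1615 : g 0 • path g [3, 1, 9, 6] p = path g [3, 6, 9, 6] p :=
  H.back (i := 5) (by decide) (f1614 H)

theorem f1621 : g 8 • path g [3, 9, 1] p = path g [3, 9, 1, 8] p :=
  rfl

theorem f1625 : g 0 • path g [3, 9, 1, 8] p = path g [3, 4, 6, 8] p :=
  scan (u := [8]) (w := [3, 6, 5, 7, 5, 6]) (i := 0) (r7_0_5 H) (step (f1621 H) rfl) (step (H.back (i := 8) (by decide) (f1575 H)) (step (H.back (i := 1) (by decide) (f183 H)) (step (H.back (i := 0) (by decide) (f1539 H)) (step (H.back (i := 2) (by decide) (f1557 H)) (step (H.back (i := 0) (by decide) (f1555 H)) (step (H.back (i := 1) (by decide) (f245 H)) rfl))))))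

theorem f1627 : g 9 • path g [3, 9, 1] p = path g [3, 9, 1, 9] p :=
  rfl

theorem f1628 : g 4 • path g [3, 9, 1, 9] p = path g [3, 9, 1] p :=
  H.back (i := 9) (by decide) (f1627 H)

theorem f1631 : g 2 • path g [3, 9, 1, 9] p = path g [3, 4, 6, 9] p :=
  scan (u := [9]) (w := [4, 5, 5, 5, 7, 5]) (i := 2) (r10_0_5 H) (step (f1627 H) rfl) (step (H.back (i := 9) (by decide) (f1581 H)) (step (H.back (i := 0) (by decide) (f1549 H)) (step (H.back (i := 0) (by decide) (f1518 H)) (step (H.back (i := 0) (by decide) (f1549 H)) (step (H.back (i := 2) (by decide) (f485 H)) (step (H.back (i := 0) (by decide) (f1523 H)) rfl))))))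

theorem f1632 : g 7 • path g [3, 4, 6, 9] p = path g [3, 9, 1, 9] p :=
  H.back (i := 2) (by decide) (f1631 H)

theorem f1633 : g 7 • path g [3, 9, 1, 9] p = path g [3, 4, 6, 9] p :=
  scan (u := [9]) (w := [4, 0, 2, 0, 0, 0]) (i := 7) (r10_1_0 H) (step (f1627 H) rfl) (step (H.back (i := 9) (by decide) (f1581 H)) (step (H.back (i := 5) (by decide) (f1519 H)) (step (H.back (i := 7) (by decide) (f1558 H)) (step (H.back (i := 5) (by decide) (f1544 H)) (step (H.back (i := 5) (by decide) (f1524 H)) (step (H.back (i := 5) (by decide) (f1544 H)) rfl))))))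

theorem f1637 : g 4 • path g [3, 9, 6] p = path g [3, 9, 6, 4] p :=
  rfl

theorem f1638 : g 9 • path g [3, 9, 6, 4] p = path g [3, 9, 6] p :=
  H.back (i := 4) (by decide) (f1637 H)

theorem f1639 : g 1 • path g [3, 9, 6, 4] p = path g [3, 9, 1, 9] p :=
  scan (u := [4]) (w := [2, 4, 1, 2, 4, 1, 2]) (i := 1) (r18_0_2 H) (step (f1637 H) rfl) (step (H.back (i := 7) (by decide) (f1632 H)) (step (H.back (i := 9) (by decide) (f1581 H)) (step (H.back (i := 6) (by decide) (f180 H)) (step (H.back (i := 7) (by decide) (f1543 H)) (step (H.back (i := 9) (by decide) (f44 H)) (step (H.back (i := 6) (by decide) (f237 H)) (step (H.back (i := 7) (by decide) (f1546 H)) rfl)))))))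

theorem f1649 : g 9 • path g [3, 9, 6] p = path g [3, 9, 6, 9] p :=
  rfl

theorem f1651 : g 9 • path g [3, 9, 6, 9] p = path g [3, 9, 6, 4] p :=
  scan (u := [9]) (w := [9]) (i := 9) (r13_1_0 H) (step (f1649 H) rfl) (step (H.back (i := 4) (by decide) (f1637 H)) rfl)

theorem f1653 : g 2 • path g [3, 9, 6, 9] p = path g [3, 4, 1, 9] p :=
  scan (u := [9]) (w := [4, 5, 5, 5, 7, 5]) (i := 2) (r10_0_5 H) (step (f1649 H) rfl) (step (H.back (i := 9) (by decide) (f1569 H)) (step (H.back (i := 0) (by decide) (f1539 H)) (step (H.back (i := 0) (by decide) (f1517 H)) (step (H.back (i := 0) (by decide) (f1539 H)) (step (H.back (i := 2) (by decide) (f1557 H)) (step (H.back (i := 0) (by decide) (f1555 H)) rfl))))))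

theorem f1655 : g 7 • path g [3, 9, 6, 9] p = path g [3, 4, 1, 9] p :=
  scan (u := [9]) (w := [4, 0, 2, 0, 0, 0]) (i := 7) (r10_1_0 H) (step (f1649 H) rfl) (step (H.back (i := 9) (by decide) (f1569 H)) (step (H.back (i := 5) (by decide) (f1515 H)) (step (H.back (i := 7) (by decide) (f872 H)) (step (H.back (i := 5) (by decide) (f1520 H)) (step (H.back (i := 5) (by decide) (f1554 H)) (step (H.back (i := 5) (by decide) (f1520 H)) rfl))))))

theorem f1656 : g 2 • path g [3, 4, 1, 9] p = path g [3, 9, 6, 9] p :=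
  H.back (i := 7) (by decide) (f1655 H)

theorem f1657 : path g [3, 4, 1, 9] p = path g [3, 6, 4, 1] p :=
  close (u := [9, 7]) (w := [6, 9, 7, 6, 9, 7, 6]) (r18_1_0 H) (step (f1649 H) (step (f1655 H) rfl)) (step (H.back (i := 1) (by decide) (f1587 H)) (step (H.back (i := 4) (by decide) (f216 H)) (step (H.back (i := 2) (by decide) (f794 H)) (step (H.back (i := 1) (by decide) (f28 H)) (step (H.back (i := 4) (by decide) (f43 H)) (step (H.back (i := 2) (by decide) (f913 H)) (step (H.back (i := 1) (by decide) (f243 H)) rfl)))))))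

theorem f1658 : path g [3, 6, 4, 1] p = path g [3, 4, 1, 9] p :=
  (f1657 H).symm

theorem f1659 : g 6 • path g [3, 4, 1, 9] p = path g [3, 6, 4] p :=
  (congrArg (g 6 • ·) (f1658 H).symm).trans (f1588 H)

theorem f1662 : g 1 • path g [3, 4, 1, 9] p = path g [3, 6, 4, 6] p :=
  (congrArg (g 1 • ·) (f1658 H).symm).trans (f1596 H)

theorem f1664 : g 6 • path g [3, 6, 4, 6] p = path g [3, 4, 1, 9] p :=
  H.back (i := 1) (by decide) (f1662 H)

theorem f1665 : g 1 • path g [3, 6, 4, 0] p = path g [3, 4, 6, 9] p :=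
  scan (u := [1, 1, 0]) (w := [4, 5, 5, 5, 6, 7, 5, 6, 9]) (i := 1) (r12_0_8 H) (step (f1662 H) (step (f1594 H) (step (f1585 H) rfl))) (step (H.back (i := 9) (by decide) (f1581 H)) (step (H.back (i := 0) (by decide) (f1549 H)) (step (H.back (i := 0) (by decide) (f1518 H)) (step (H.back (i := 0) (by decide) (f1549 H)) (step (H.back (i := 1) (by decide) (f483 H)) (step (H.back (i := 2) (by decide) (f1559 H)) (step (H.back (i := 0) (by decide) (f1518 H)) (step (H.back (i := 1) (by decide) (f183 H)) (step (H.back (i := 4) (by decide) (f1570 H)) rfl)))))))))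

theorem f1666 : g 6 • path g [3, 4, 6, 9] p = path g [3, 6, 4, 0] p :=
  H.back (i := 1) (by decide) (f1665 H)

theorem f1667 : g 6 • path g [3, 6, 4, 7] p = path g [3, 9, 6, 9] p :=
  scan (u := [6, 7]) (w := [7]) (i := 6) (r1_1_0 H) (step (f1659 H) (step (f1597 H) rfl)) (step (H.back (i := 2) (by decide) (f1656 H)) rfl)

theorem f1672 : g 0 • path g [4, 1, 3] p = path g [4, 1, 3, 0] p :=
  rfl

theorem f1676 : g 1 • path g [4, 1, 3, 0] p = path g [3, 4, 6, 8] p :=
  scan (u := [0]) (w := [3, 0, 1, 3, 6, 5, 7, 5, 6, 7, 0, 1, 3]) (i := 1) (r17_0_9 H) (step (f1672 H) rfl) (step (H.back (i := 8) (by decide) (f1575 H)) (step (H.back (i := 5) (by decide) (f1519 H)) (step (H.back (i := 6) (by decide) (f480 H)) (step (H.back (i := 8) (by decide) (f62 H)) (step (H.back (i := 1) (by decide) (f57 H)) (step (H.back (i := 0) (by decide) (f392 H)) (step (H.back (i := 2) (by decide) (f316 H)) (step (H.back (i := 0) (by decide) (f1147 H)) (step (H.back (i := 1) (by decide) (f88 H)) (step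 (H.back (i := 2) (by decide) (f22 H)) (step (H.back (i := 5) (by decide) (f1051 H)) (step (H.back (i := 6) (by decide) (f51 H)) (step (H.back (i := 8) (by decide) (f281 H)) rfl)))))))))))))

theorem f1688 : g 7 • path g [4, 1, 3] p = path g [4, 1, 3, 7] p :=
  rfl

theorem f1689 : g 2 • path g [4, 1, 3, 7] p = path g [4, 1, 3] p :=
  H.back (i := 7) (by decide) (f1688 H)

theorem f1690 : g 5 • path g [4, 1, 3, 7] p = path g [4, 6, 3] p :=
  scan (u := [7]) (w := [8, 1, 0, 2, 0, 1, 3]) (i := 5) (r8_0_0 H) (step (f1688 H) rfl) (step (H.back (i := 3) (by decide) (f462 H)) (step (H.back (i := 6) (by decide) (f56 H)) (step (H.back (i := 5) (by decide) (f1216 H)) (step (H.back (i := 7) (by decide) (f23 H)) (step (H.back (i := 5) (by decide) (f1051 H)) (step (H.back (i := 6) (by decide) (f51 H)) (step (H.back (i := 8) (by decide) (f281 H)) rfl)))))))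

theorem f1691 : g 0 • path g [4, 6, 3] p = path g [4, 1, 3, 7] p :=
  H.back (i := 5) (by decide) (f1690 H)

theorem f1710 : g 6 • path g [4, 6, 3] p = path g [4, 6, 3, 6] p :=
  rfl

theorem f1714 : g 3 • path g [4, 6, 3, 6] p = path g [8, 9, 1] p :=
  scan (u := [6]) (w := [0, 2, 8, 6, 5, 7, 5]) (i := 3) (r8_1_5 H) (step (f1710 H) rfl) (step (H.back (i := 5) (by decide) (f1540 H)) (step (H.back (i := 7) (by decide) (f1526 H)) (step (H.back (i := 3) (by decide) (f1576 H)) (step (H.back (i := 1) (by decide) (f1676 H)) (step (H.back (i := 0) (by decide) (f1672 H)) (step (H.back (i := 2) (by decide) (f1689 H)) (step (H.back (i := 0) (by decide) (f1691 H)) rfl)))))))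

theorem f1715 : g 8 • path g [8, 9, 1] p = path g [4, 6, 3, 6] p :=
  H.back (i := 3) (by decide) (f1714 H)

theorem f1740 : g 3 • path g [4, 8, 1] p = path g [4, 8, 1, 3] p :=
  rfl

theorem f1741 : g 8 • path g [4, 8, 1, 3] p = path g [4, 8, 1] p :=
  H.back (i := 3) (by decide) (f1740 H)

theorem f1742 : g 4 • path g [4, 8, 1] p = path g [4, 8, 1, 4] p :=
  rfl

theorem f1743 : g 9 • path g [4, 8, 1, 4] p = path g [4, 8, 1] p :=
  H.back (i := 4) (by decide) (f1742 H)

theorem f1744 : g 8 • path g [4, 8, 1] p = path g [4, 8, 1, 8] p :=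
  rfl

theorem f1746 : g 8 • path g [4, 8, 1, 8] p = path g [4, 8, 1, 3] p :=
  scan (u := [8]) (w := [8]) (i := 8) (r9_1_0 H) (step (f1744 H) rfl) (step (H.back (i := 3) (by decide) (f1740 H)) rfl)

theorem f1748 : g 2 • path g [4, 8, 1, 8] p = path g [3, 4, 6, 8] p :=
  scan (u := [8]) (w := [3, 5, 5, 6, 5, 7, 5, 6, 5]) (i := 2) (r6_0_8 H) (step (f1744 H) rfl) (step (H.back (i := 8) (by decide) (f1575 H)) (step (H.back (i := 0) (by decide) (f1549 H)) (step (H.back (i := 0) (by decide) (f1518 H)) (step (H.back (i := 1) (by decide) (f183 H)) (step (H.back (i := 0) (by decide) (f1539 H)) (step (H.back (i := 2) (by decide) (f1557 H)) (step (H.back (i := 0) (by decide) (f1555 H)) (step (H.back (i := 1) (by decide) (f245 H)) (step (H.back (i := 0) (by decide) (f1545 H)) rfl)))))))))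

theorem f1749 : g 7 • path g [3, 4, 6, 8] p = path g [4, 8, 1, 8] p :=
  H.back (i := 2) (by decide) (f1748 H)

theorem f1752 : g 9 • path g [4, 8, 1] p = path g [4, 8, 1, 9] p :=
  rfl

theorem f1754 : g 9 • path g [4, 8, 1, 9] p = path g [4, 8, 1, 4] p :=
  scan (u := [9]) (w := [9]) (i := 9) (r13_1_0 H) (step (f1752 H) rfl) (step (H.back (i := 4) (by decide) (f1742 H)) rfl)

theorem f1755 : g 4 • path g [4, 8, 1, 4] p = path g [4, 8, 1, 9] p :=
  H.back (i := 9) (by decide) (f1754 H)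

theorem f1758 : g 4 • path g [4, 8, 6] p = path g [4, 8, 6, 4] p :=
  rfl

theorem f1759 : g 9 • path g [4, 8, 6, 4] p = path g [4, 8, 6] p :=
  H.back (i := 4) (by decide) (f1758 H)

theorem f1760 : g 1 • path g [4, 8, 6, 4] p = path g [8, 1, 9] p :=
  scan (u := [4]) (w := [2, 4, 1, 2, 4, 1, 2]) (i := 1) (r18_0_2 H) (step (f1758 H) rfl) (step (H.back (i := 7) (by decide) (f845 H)) (step (H.back (i := 9) (by decide) (f839 H)) (step (H.back (i := 6) (by decide) (f70 H)) (step (H.back (i := 7) (by decide) (f17 H)) (step (H.back (i := 9) (by decide) (f66 H)) (step (H.back (i := 6) (by decide) (f479 H)) (step (H.back (i := 7) (by decide) (f484 H)) rfl)))))))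

theorem f1761 : g 6 • path g [8, 1, 9] p = path g [4, 8, 6, 4] p :=
  H.back (i := 1) (by decide) (f1760 H)

theorem f1762 : g 0 • path g [3, 6, 9, 6] p = path g [4, 8, 6, 4] p :=
  scan (u := [1, 4, 5, 5, 5, 6, 7, 5, 6, 9, 1, 1]) (w := []) (i := 0) (r12_0_11 H) (step (f1760 H) (step (f501 H) (step (f1428 H) (step (f1475 H) (step (f1428 H) (step (f29 H) (step (f617 H) (step (f674 H) (step (f38 H) (step (f230 H) (step (f1602 H) (step (f1611 H) rfl)))))))))))) rfl

theorem f1763 : g 5 • path g [4, 8, 6, 4] p = path g [3, 6, 9, 6] p :=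
  H.back (i := 0) (by decide) (f1762 H)

theorem f1764 : g 8 • path g [4, 8, 6] p = path g [4, 8, 6, 8] p :=
  rfl

theorem f1770 : g 5 • path g [4, 8, 6, 8] p = path g [4, 6, 3, 6] p :=
  scan (u := [8]) (w := [3, 1, 0, 2, 0, 1]) (i := 5) (r7_1_0 H) (step (f1764 H) rfl) (step (H.back (i := 8) (by decide) (f1715 H)) (step (H.back (i := 6) (by decide) (f870 H)) (step (H.back (i := 5) (by decide) (f1520 H)) (step (H.back (i := 7) (by decide) (f1552 H)) (step (H.back (i := 5) (by decide) (f1524 H)) (step (H.back (i := 6) (by decide) (f482 H)) rfl))))))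

theorem f1771 : g 0 • path g [4, 6, 3, 6] p = path g [4, 8, 6, 8] p :=
  H.back (i := 5) (by decide) (f1770 H)

theorem f1774 : g 7 • path g [4, 8, 6, 8] p = path g [3, 4, 1, 8] p :=
  scan (u := [8]) (w := [3, 0, 1, 0, 2, 0, 1, 0, 0]) (i := 7) (r6_1_0 H) (step (f1764 H) rfl) (step (H.back (i := 8) (by decide) (f1565 H)) (step (H.back (i := 5) (by decide) (f1515 H)) (step (H.back (i := 6) (by decide) (f870 H)) (step (H.back (i := 5) (by decide) (f1520 H)) (step (H.back (i := 7) (by decide) (f1552 H)) (step (H.back (i := 5) (by decide) (f1524 H)) (step (H.back (i := 6) (by decide) (f482 H)) (step (H.back (i := 5) (by decide) (f1548 H)) (step (H.back (i := 5) (by decide) (f1519 H)) rfl)))))))))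

theorem f1783 : g 1 • path g [8, 1, 4] p = path g [8, 1, 4, 1] p :=
  rfl

theorem f1784 : g 6 • path g [8, 1, 4, 1] p = path g [8, 1, 4] p :=
  H.back (i := 1) (by decide) (f1783 H)

theorem f1787 : g 5 • path g [8, 1, 4] p = path g [8, 1, 4, 5] p :=
  rfl

theorem f1789 : g 6 • path g [8, 1, 4] p = path g [8, 1, 4, 6] p :=
  rfl

theorem f1791 : g 6 • path g [8, 1, 4, 6] p = path g [8, 1, 4, 1] p :=
  scan (u := [6]) (w := [6]) (i := 6) (r0_1_0 H) (step (f1789 H) rfl) (step (H.back (i := 1) (by decide) (f1783 H)) rfl)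

theorem f1796 : g 0 • path g [8, 1, 9] p = path g [8, 1, 9, 0] p :=
  rfl

theorem f1797 : g 5 • path g [8, 1, 9, 0] p = path g [8, 1, 9] p :=
  H.back (i := 0) (by decide) (f1796 H)

theorem f1798 : g 2 • path g [8, 1, 9, 0] p = path g [3, 1, 9, 5] p :=
  scan (u := [0]) (w := [0, 4, 5, 6, 5, 7, 5, 6, 7, 9]) (i := 2) (r11_0_8 H) (step (f1796 H) rfl) (step (H.back (i := 5) (by decide) (f1504 H)) (step (H.back (i := 9) (by decide) (f142 H)) (step (H.back (i := 0) (by decide) (f1434 H)) (step (H.back (i := 1) (by decide) (f68 H)) (step (H.back (i := 0) (by decide) (f14 H)) (step (H.back (i := 2) (by decide) (f16 H)) (step (H.back (i := 0) (by decide) (f14 H)) (step (H.back (i := 1) (by decide) (f71 H)) (step (H.back (i := 2) (by decide) (f75 H)) (step (H.back (i := 4) (by decide) (f501 H)) rfl))))))))))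

theorem f1800 : g 1 • path g [8, 1, 9] p = path g [8, 1, 9, 1] p :=
  rfl

theorem f1802 : g 1 • path g [8, 1, 9, 1] p = path g [4, 8, 6, 4] p :=
  scan (u := [1]) (w := [1]) (i := 1) (r0_0_0 H) (step (f1800 H) rfl) (step (H.back (i := 6) (by decide) (f1761 H)) rfl)

theorem f1803 : g 6 • path g [4, 8, 6, 4] p = path g [8, 1, 9, 1] p :=
  H.back (i := 1) (by decide) (f1802 H)

theorem f1804 : g 5 • path g [8, 1, 9] p = path g [8, 1, 9, 5] p :=
  rfl

theorem f1805 : g 0 • path g [8, 1, 9, 5] p = path g [8, 1, 9] p :=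
  H.back (i := 5) (by decide) (f1804 H)

theorem f1806 : g 7 • path g [8, 1, 9, 5] p = path g [3, 1, 9, 0] p :=
  scan (u := [5]) (w := [5, 5, 7, 5]) (i := 7) (r2_1_1 H) (step (f1804 H) rfl) (step (H.back (i := 0) (by decide) (f1499 H)) (step (H.back (i := 0) (by decide) (f1505 H)) (step (H.back (i := 2) (by decide) (f1798 H)) (step (H.back (i := 0) (by decide) (f1796 H)) rfl))))

theorem f1815 : g 3 • path g [8, 6, 4] p = path g [8, 6, 4, 3] p :=
  rfl

theorem f1816 : g 8 • path g [8, 6, 4, 3] p = path g [8, 6, 4] p :=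
  H.back (i := 3) (by decide) (f1815 H)

theorem f1817 : path g [8, 6, 4, 3] p = path g [8, 6, 4] p :=
  close (u := [3]) (w := [9, 8, 4]) (r14_0_3 H) (step (f1815 H) rfl) (step (H.back (i := 4) (by decide) (f837 H)) (step (H.back (i := 3) (by decide) (f1393 H)) (step (H.back (i := 9) (by decide) (f838 H)) rfl)))

theorem f1818 : g 8 • path g [8, 6, 4] p = path g [8, 6, 4] p :=
  (congrArg (g 8 • ·) (f1817 H).symm).trans (f1816 H)

theorem f1820 : g 3 • path g [8, 6, 4] p = path g [8, 6, 4] p :=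
  H.back (i := 8) (by decide) (f1818 H)

theorem f1821 : g 8 • path g [8, 6, 9] p = path g [8, 6, 9] p :=
  scan (u := [3, 4]) (w := [9]) (i := 8) (r14_1_2 H) (step (f1820 H) (step (f842 H) rfl)) (step (H.back (i := 4) (by decide) (f842 H)) rfl)

theorem f1831 : g 0 • path g [8, 6, 9] p = path g [8, 6, 9, 0] p :=
  rfl

theorem f1832 : g 5 • path g [8, 6, 9, 0] p = path g [8, 6, 9] p :=
  H.back (i := 0) (by decide) (f1831 H)

theorem f1833 : g 2 • path g [8, 6, 9, 0] p = path g [3, 6, 9, 5] p :=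
  scan (u := [0]) (w := [0, 2, 0, 2, 0, 2]) (i := 2) (r4_0_1 H) (step (f1831 H) rfl) (step (H.back (i := 5) (by decide) (f1606 H)) (step (H.back (i := 7) (by decide) (f816 H)) (step (H.back (i := 5) (by decide) (f1500 H)) (step (H.back (i := 7) (by decide) (f1806 H)) (step (H.back (i := 5) (by decide) (f1804 H)) (step (H.back (i := 7) (by decide) (f845 H)) rfl))))))

theorem f1835 : g 1 • path g [8, 6, 9] p = path g [8, 6, 9, 1] p :=
  rfl

theorem f1836 : g 6 • path g [8, 6, 9, 1] p = path g [8, 6, 9] p :=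
  H.back (i := 1) (by decide) (f1835 H)

theorem f1837 : g 2 • path g [8, 6, 9, 1] p = path g [4, 8, 6, 4] p :=
  scan (u := [1]) (w := [1, 2]) (i := 2) (r1_0_1 H) (step (f1835 H) rfl) (step (H.back (i := 6) (by decide) (f1761 H)) (step (H.back (i := 7) (by decide) (f845 H)) rfl))

theorem f1838 : g 7 • path g [4, 8, 6, 4] p = path g [8, 6, 9, 1] p :=
  H.back (i := 2) (by decide) (f1837 H)

theorem f1839 : g 5 • path g [8, 6, 9] p = path g [8, 6, 9, 5] p :=
  rfl

theorem f1840 : g 0 • path g [8, 6, 9, 5] p = path g [8, 6, 9] p :=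
  H.back (i := 5) (by decide) (f1839 H)

theorem f1841 : g 7 • path g [8, 6, 9, 5] p = path g [3, 6, 9, 0] p :=
  scan (u := [5]) (w := [5, 5, 7, 5]) (i := 7) (r2_1_1 H) (step (f1839 H) rfl) (step (H.back (i := 0) (by decide) (f1600 H)) (step (H.back (i := 0) (by decide) (f1607 H)) (step (H.back (i := 2) (by decide) (f1833 H)) (step (H.back (i := 0) (by decide) (f1831 H)) rfl))))

theorem f1843 : g 6 • path g [8, 6, 9] p = path g [8, 6, 9, 6] p :=
  rfl

theorem f1844 : g 1 • path g [8, 6, 9, 6] p = path g [8, 6, 9] p :=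
  H.back (i := 6) (by decide) (f1843 H)

theorem f1845 : g 6 • path g [8, 6, 9, 6] p = path g [8, 6, 9, 1] p :=
  scan (u := [6]) (w := [6]) (i := 6) (r0_1_0 H) (step (f1843 H) rfl) (step (H.back (i := 1) (by decide) (f1835 H)) rfl)

theorem f1847 : g 7 • path g [8, 6, 9, 6] p = path g [8, 1, 9, 1] p :=
  scan (u := [6]) (w := [6, 7]) (i := 7) (r1_1_0 H) (step (f1843 H) rfl) (step (H.back (i := 1) (by decide) (f1800 H)) (step (H.back (i := 2) (by decide) (f843 H)) rfl))

theorem f1848 : g 2 • path g [8, 1, 9, 1] p = path g [8, 6, 9, 6] p :=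
  H.back (i := 7) (by decide) (f1847 H)

theorem f1849 : g 5 • path g [8, 6, 9, 6] p = path g [4, 8, 6, 4] p :=
  scan (u := [6]) (w := [6, 6, 4, 1, 0, 2, 1, 0, 0, 0, 9]) (i := 5) (r12_1_1 H) (step (f1843 H) rfl) (step (H.back (i := 1) (by decide) (f1802 H)) (step (H.back (i := 1) (by decide) (f1800 H)) (step (H.back (i := 9) (by decide) (f500 H)) (step (H.back (i := 6) (by decide) (f72 H)) (step (H.back (i := 5) (by decide) (f1560 H)) (step (H.back (i := 7) (by decide) (f784 H)) (step (H.back (i := 6) (by decide) (f40 H)) (step (H.back (i := 5) (by decide) (f1387 H)) (step (H.back (i := 5) (by decide) (f1560 H)) (step (H.back (i := 5) (by decide) (f1387 H)) (step (H.back (i := 4) (by decide) (f840 H)) rfl)))))))))))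

theorem f1850 : g 0 • path g [4, 8, 6, 4] p = path g [8, 6, 9, 6] p :=
  H.back (i := 5) (by decide) (f1849 H)

theorem f1851 : g 5 • path g [3, 1, 9, 6] p = path g [8, 6, 9, 6] p :=
  scan (u := [6, 6, 4, 1, 0, 2, 1, 0, 0, 0, 9, 6]) (w := []) (i := 5) (r12_1_3 H) (step (f1845 H) (step (f1836 H) (step (f840 H) (step (f71 H) (step (f14 H) (step (f16 H) (step (f68 H) (step (f1434 H) (step (f1463 H) (step (f1434 H) (step (f142 H) (step (f1506 H) rfl)))))))))))) rfl

theorem f1852 : g 0 • path g [8, 6, 9, 6] p = path g [3, 1, 9, 6] p :=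
  H.back (i := 5) (by decide) (f1851 H)

theorem f1853 : g 5 • path g [3, 1, 9, 1] p = path g [3, 4, 1, 4] p :=
  scan (u := [5, 5, 5, 7]) (w := [9, 2, 4]) (i := 5) (r10_0_0 H) (step (f1851 H) (step (f1849 H) (step (f1763 H) (step (f1612 H) rfl)))) (step (H.back (i := 4) (by decide) (f1563 H)) (step (H.back (i := 7) (by decide) (f1526 H)) (step (H.back (i := 9) (by decide) (f1542 H)) rfl)))

theorem f1854 : g 0 • path g [3, 4, 1, 4] p = path g [3, 1, 9, 1] p :=
  H.back (i := 5) (by decide) (f1853 H)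

theorem f1855 : g 5 • path g [8, 1, 9, 1] p = path g [4, 8, 1, 4] p :=
  scan (u := [5, 7]) (w := [9, 2, 4, 5, 5]) (i := 5) (r10_0_2 H) (step (f1851 H) (step (f1847 H) rfl)) (step (H.back (i := 4) (by decide) (f1742 H)) (step (H.back (i := 7) (by decide) (f484 H)) (step (H.back (i := 9) (by decide) (f1759 H)) (step (H.back (i := 0) (by decide) (f1762 H)) (step (H.back (i := 0) (by decide) (f1615 H)) rfl)))))

theorem f1856 : g 0 • path g [4, 8, 1, 4] p = path g [8, 1, 9, 1] p :=
  H.back (i := 5) (by decide) (f1855 H)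

theorem f1857 : g 6 • path g [3, 4, 1, 4] p = path g [8, 6, 9, 0] p :=
  scan (u := [0, 6, 5]) (w := [5, 6]) (i := 6) (r3_1_4 H) (step (f1852 H) (step (f1508 H) (step (f1853 H) rfl))) (step (H.back (i := 0) (by decide) (f1831 H)) (step (H.back (i := 1) (by decide) (f1844 H)) rfl))

theorem f1858 : g 1 • path g [8, 6, 9, 0] p = path g [3, 4, 1, 4] p :=
  H.back (i := 6) (by decide) (f1857 H)

theorem f1859 : path g [8, 6, 9, 0] p = path g [3, 6, 9, 5] p :=
  close (u := [6]) (w := [0, 6, 5, 6, 5]) (r3_1_3 H) (step (f1857 H) rfl) (step (H.back (i := 5) (by decide) (f1606 H)) (step (H.back (i := 1) (by decide) (f1609 H)) (step (H.back (i := 0) (by decide) (f1615 H)) (step (H.back (i := 1) (by decide) (f1509 H)) (step (H.back (i := 0) (by decide) (f1854 H)) rfl)))))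

theorem f1860 : g 5 • path g [3, 6, 9, 5] p = path g [8, 6, 9] p :=
  (congrArg (g 5 • ·) (f1859 H).symm).trans (f1832 H)

theorem f1862 : g 0 • path g [8, 6, 9] p = path g [3, 6, 9, 5] p :=
  H.back (i := 5) (by decide) (f1860 H)

theorem f1866 : g 1 • path g [3, 6, 9, 5] p = path g [3, 4, 1, 4] p :=
  (congrArg (g 1 • ·) (f1859 H).symm).trans (f1858 H)

theorem f1868 : g 6 • path g [3, 4, 1, 4] p = path g [3, 6, 9, 5] p :=
  H.back (i := 1) (by decide) (f1866 H)

theorem f1869 : g 0 • path g [8, 1, 9, 1] p = path g [3, 4, 1, 4] p :=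
  scan (u := [6, 5, 6, 5, 6]) (w := []) (i := 0) (r3_1_5 H) (step (f1868 H) (step (f1860 H) (step (f1843 H) (step (f1849 H) (step (f1803 H) rfl))))) rfl

theorem f1870 : g 5 • path g [3, 4, 1, 4] p = path g [8, 1, 9, 1] p :=
  H.back (i := 0) (by decide) (f1869 H)

theorem f1871 : g 8 • path g [3, 6, 9, 5] p = path g [3, 6, 9, 5] p :=
  scan (u := [6]) (w := [0, 3, 6, 5, 7, 5]) (i := 8) (r7_0_4 H) (step (f1868 H) rfl) (step (H.back (i := 5) (by decide) (f1606 H)) (step (H.back (i := 8) (by decide) (f1496 H)) (step (H.back (i := 1) (by decide) (f1760 H)) (step (H.back (i := 0) (by decide) (f1762 H)) (step (H.back (i := 2) (by decide) (f1613 H)) (step (H.back (i := 0) (by decide) (f1854 H)) rfl))))))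

theorem f1872 : g 3 • path g [3, 6, 9, 5] p = path g [3, 6, 9, 5] p :=
  H.back (i := 8) (by decide) (f1871 H)

theorem f1873 : path g [3, 1, 9, 5] p = path g [8, 1, 9, 0] p :=
  close (u := [6, 5, 8, 2, 3, 5]) (w := [5, 6, 5, 7, 5]) (r6_0_6 H) (step (f1868 H) (step (f1860 H) (step (f1821 H) (step (f843 H) (step (f1495 H) (step (f1504 H) rfl)))))) (step (H.back (i := 0) (by decide) (f1796 H)) (step (H.back (i := 1) (by decide) (f1760 H)) (step (H.back (i := 0) (by decide) (f1762 H)) (step (H.back (i := 2) (by decide) (f1613 H)) (step (H.back (i := 0) (by decide) (f1854 H)) rfl)))))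

theorem f1874 : path g [8, 1, 9, 0] p = path g [3, 1, 9, 5] p :=
  (f1873 H).symm

theorem f1875 : g 5 • path g [3, 1, 9, 5] p = path g [8, 1, 9] p :=
  (congrArg (g 5 • ·) (f1874 H).symm).trans (f1797 H)

theorem f1877 : g 0 • path g [8, 1, 9] p = path g [3, 1, 9, 5] p :=
  H.back (i := 5) (by decide) (f1875 H)

theorem f1881 : path g [8, 6, 9, 5] p = path g [3, 6, 9, 0] p :=
  close (u := [5, 7, 5]) (w := [5, 7, 5]) (r2_1_1 H) (step (f1875 H) (step (f844 H) (step (f1839 H) rfl))) (step (H.back (i := 0) (by decide) (f1600 H)) (step (H.back (i := 2) (by decide) (f821 H)) (step (H.back (i := 0) (by decide) (f1505 H)) rfl)))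

theorem f1882 : g 0 • path g [3, 6, 9, 0] p = path g [8, 6, 9] p :=
  (congrArg (g 0 • ·) (f1881 H).symm).trans (f1840 H)

theorem f1885 : g 7 • path g [3, 6, 9, 0] p = path g [3, 6, 9, 0] p :=
  (congrArg (g 7 • ·) (f1881 H).symm).trans (f1841 H)

theorem f1895 : path g [3, 6, 4, 2] p = path g [3, 6, 4] p :=
  close (u := [7, 5, 9, 2]) (w := [4, 5, 5, 5]) (r10_0_3 H) (step (f1885 H) (step (f1601 H) (step (f232 H) (step (f1589 H) rfl)))) (step (H.back (i := 9) (by decide) (f232 H)) (step (H.back (i := 0) (by decide) (f1607 H)) (step (H.back (i := 0) (by decide) (f1862 H)) (step (H.back (i := 0) (by decide) (f1882 H)) rfl))))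

theorem f1896 : g 7 • path g [3, 6, 4] p = path g [3, 6, 4] p :=
  (congrArg (g 7 • ·) (f1895 H).symm).trans (f1590 H)

theorem f1897 : path g [3, 6, 4, 7] p = path g [3, 6, 4] p :=
  (f1597 H).symm.trans (f1896 H)

theorem f1901 : g 6 • path g [3, 6, 4] p = path g [3, 9, 6, 9] p :=
  (congrArg (g 6 • ·) (f1897 H).symm).trans (f1667 H)

theorem f1902 : path g [3, 6, 4, 6] p = path g [3, 9, 6, 9] p :=
  (f1593 H).symm.trans (f1901 H)

theorem f1903 : path g [3, 9, 6, 9] p = path g [3, 6, 4, 6] p :=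
  (f1902 H).symm

theorem f1907 : g 9 • path g [3, 6, 4, 6] p = path g [3, 9, 6, 4] p :=
  (congrArg (g 9 • ·) (f1903 H).symm).trans (f1651 H)

theorem f1909 : g 4 • path g [3, 9, 6, 4] p = path g [3, 6, 4, 6] p :=
  H.back (i := 9) (by decide) (f1907 H)

theorem f1910 : g 2 • path g [3, 6, 4, 6] p = path g [3, 4, 1, 9] p :=
  (congrArg (g 2 • ·) (f1903 H).symm).trans (f1653 H)

theorem f1913 : g 7 • path g [3, 6, 4, 6] p = path g [3, 4, 1, 9] p :=
  (congrArg (g 7 • ·) (f1903 H).symm).trans (f1655 H)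

theorem f1919 : g 7 • path g [3, 6, 4] p = path g [3, 6, 4] p :=
  (f1597 H).trans (f1897 H)

theorem f1920 : g 6 • path g [4, 8, 1, 4] p = path g [3, 6, 9, 0] p :=
  scan (u := [0, 6, 5, 6, 5]) (w := []) (i := 6) (r3_1_4 H) (step (f1882 H) (step (f1843 H) (step (f1849 H) (step (f1803 H) (step (f1855 H) rfl))))) rfl

theorem f1921 : g 1 • path g [3, 6, 9, 0] p = path g [4, 8, 1, 4] p :=
  H.back (i := 6) (by decide) (f1920 H)

theorem f1929 : g 0 • path g [3, 1, 9, 1] p = path g [4, 8, 1, 4] p :=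
  scan (u := [6, 5, 6, 5, 6]) (w := []) (i := 0) (r3_1_5 H) (step (f1920 H) (step (f1601 H) (step (f1608 H) (step (f1614 H) (step (f1508 H) rfl))))) rfl

theorem f1930 : g 5 • path g [4, 8, 1, 4] p = path g [3, 1, 9, 1] p :=
  H.back (i := 0) (by decide) (f1929 H)

theorem f1931 : g 8 • path g [3, 6, 9, 0] p = path g [8, 1, 9, 5] p :=
  scan (u := [6]) (w := [0, 3, 6, 5, 7, 5]) (i := 8) (r7_0_4 H) (step (f1920 H) rfl) (step (H.back (i := 5) (by decide) (f1804 H)) (step (H.back (i := 8) (by decide) (f1494 H)) (step (H.back (i := 1) (by decide) (f1507 H)) (step (H.back (i := 0) (by decide) (f1852 H)) (step (H.back (i := 2) (by decide) (f1848 H)) (step (H.back (i := 0) (by decide) (f1856 H)) rfl))))))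

theorem f1932 : g 3 • path g [8, 1, 9, 5] p = path g [3, 6, 9, 0] p :=
  H.back (i := 8) (by decide) (f1931 H)

theorem f1933 : g 3 • path g [3, 6, 9, 0] p = path g [3, 1, 9, 5] p :=
  scan (u := [6]) (w := [0, 2, 8, 6, 5, 7, 5]) (i := 3) (r8_1_5 H) (step (f1920 H) rfl) (step (H.back (i := 5) (by decide) (f1504 H)) (step (H.back (i := 7) (by decide) (f820 H)) (step (H.back (i := 3) (by decide) (f1471 H)) (step (H.back (i := 1) (by decide) (f1507 H)) (step (H.back (i := 0) (by decide) (f1852 H)) (step (H.back (i := 2) (by decide) (f1848 H)) (step (H.back (i := 0) (by decide) (f1856 H)) rfl)))))))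

theorem f1935 : path g [8, 1, 9, 5] p = path g [3, 1, 9, 0] p :=
  close (u := [6, 5, 8, 2, 3, 5]) (w := [5, 6, 5, 7, 5]) (r6_0_6 H) (step (f1920 H) (step (f1601 H) (step (f1470 H) (step (f821 H) (step (f1497 H) (step (f1804 H) rfl)))))) (step (H.back (i := 0) (by decide) (f1499 H)) (step (H.back (i := 1) (by decide) (f1507 H)) (step (H.back (i := 0) (by decide) (f1852 H)) (step (H.back (i := 2) (by decide) (f1848 H)) (step (H.back (i := 0) (by decide) (f1856 H)) rfl)))))

theorem f1936 : g 0 • path g [3, 1, 9, 0] p = path g [8, 1, 9] p :=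
  (congrArg (g 0 • ·) (f1935 H).symm).trans (f1805 H)

theorem f1939 : g 7 • path g [3, 1, 9, 0] p = path g [3, 1, 9, 0] p :=
  (congrArg (g 7 • ·) (f1935 H).symm).trans (f1806 H)

theorem f1942 : g 3 • path g [3, 1, 9, 0] p = path g [3, 6, 9, 0] p :=
  (congrArg (g 3 • ·) (f1935 H).symm).trans (f1932 H)

theorem f1945 : g 3 • path g [3, 1, 9, 5] p = path g [3, 1, 9, 0] p :=
  scan (u := [3, 3]) (w := []) (i := 3) (r9_0_0 H) (step (f1942 H) (step (f1933 H) rfl)) rfl

theorem f1947 : path g [3, 6, 9, 1] p = path g [3, 9, 6, 4] p :=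
  close (u := [7, 5, 6, 7]) (w := [9, 0, 2, 0, 4, 5, 6, 5]) (r11_0_3 H) (step (f1939 H) (step (f1500 H) (step (f1506 H) (step (f1605 H) rfl)))) (step (H.back (i := 4) (by decide) (f1637 H)) (step (H.back (i := 5) (by decide) (f1554 H)) (step (H.back (i := 7) (by decide) (f1556 H)) (step (H.back (i := 5) (by decide) (f1540 H)) (step (H.back (i := 9) (by decide) (f1564 H)) (step (H.back (i := 0) (by decide) (f1869 H)) (step (H.back (i := 1) (by decide) (f1800 H)) (step (H.back (i := 0) (by decide) (f1936 H)) rfl))))))))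

theorem f1948 : path g [3, 9, 6, 4] p = path g [3, 6, 9, 1] p :=
  (f1947 H).symm

theorem f1949 : g 9 • path g [3, 6, 9, 1] p = path g [3, 9, 6] p :=
  (congrArg (g 9 • ·) (f1948 H).symm).trans (f1638 H)

theorem f1952 : g 1 • path g [3, 6, 9, 1] p = path g [3, 9, 1, 9] p :=
  (congrArg (g 1 • ·) (f1948 H).symm).trans (f1639 H)

theorem f1953 : path g [3, 6, 9, 6] p = path g [3, 9, 1, 9] p :=
  (f1611 H).symm.trans (f1952 H)

theorem f1954 : g 4 • path g [3, 6, 9, 1] p = path g [3, 6, 4, 6] p :=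
  (congrArg (g 4 • ·) (f1948 H).symm).trans (f1909 H)

theorem f1956 : g 9 • path g [3, 6, 4, 6] p = path g [3, 6, 9, 1] p :=
  H.back (i := 4) (by decide) (f1954 H)

theorem f1957 : path g [3, 9, 1, 9] p = path g [3, 6, 9, 6] p :=
  (f1953 H).symm

theorem f1958 : g 4 • path g [3, 6, 9, 6] p = path g [3, 9, 1] p :=
  (congrArg (g 4 • ·) (f1957 H).symm).trans (f1628 H)

theorem f1960 : g 9 • path g [3, 9, 1] p = path g [3, 6, 9, 6] p :=
  H.back (i := 4) (by decide) (f1958 H)

theorem f1964 : g 2 • path g [3, 6, 9, 6] p = path g [3, 4, 6, 9] p :=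
  (congrArg (g 2 • ·) (f1957 H).symm).trans (f1631 H)

theorem f1966 : g 7 • path g [3, 4, 6, 9] p = path g [3, 6, 9, 6] p :=
  H.back (i := 2) (by decide) (f1964 H)

theorem f1967 : g 7 • path g [3, 6, 9, 6] p = path g [3, 4, 6, 9] p :=
  (congrArg (g 7 • ·) (f1957 H).symm).trans (f1633 H)

theorem f1968 : path g [3, 1, 9, 1] p = path g [3, 4, 6, 9] p :=
  (f1612 H).symm.trans (f1967 H)

theorem f1972 : path g [3, 4, 6, 9] p = path g [3, 1, 9, 1] p :=
  (f1968 H).symm

theorem f1973 : g 4 • path g [3, 1, 9, 1] p = path g [3, 4, 6] p :=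
  (congrArg (g 4 • ·) (f1972 H).symm).trans (f1582 H)

theorem f1975 : g 9 • path g [3, 4, 6] p = path g [3, 1, 9, 1] p :=
  H.back (i := 4) (by decide) (f1973 H)

theorem f1976 : g 9 • path g [3, 1, 9, 1] p = path g [3, 1, 9, 6] p :=
  (congrArg (g 9 • ·) (f1972 H).symm).trans (f1583 H)

theorem f1979 : g 7 • path g [3, 1, 9, 1] p = path g [3, 6, 9, 6] p :=
  (congrArg (g 7 • ·) (f1972 H).symm).trans (f1966 H)

theorem f1981 : g 2 • path g [3, 6, 9, 6] p = path g [3, 1, 9, 1] p :=
  H.back (i := 7) (by decide) (f1979 H)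

theorem f1985 : g 6 • path g [3, 1, 9, 1] p = path g [3, 6, 4, 0] p :=
  (congrArg (g 6 • ·) (f1972 H).symm).trans (f1666 H)

theorem f1986 : path g [3, 1, 9] p = path g [3, 6, 4, 0] p :=
  (f1502 H).symm.trans (f1985 H)

theorem f1987 : path g [3, 6, 4, 0] p = path g [3, 1, 9] p :=
  (f1986 H).symm

theorem f1988 : g 5 • path g [3, 1, 9] p = path g [3, 6, 4] p :=
  (congrArg (g 5 • ·) (f1987 H).symm).trans (f1586 H)

theorem f1989 : path g [3, 1, 9, 5] p = path g [3, 6, 4] p :=
  (f1504 H).symm.trans (f1988 H)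

theorem f1994 : g 0 • path g [3, 6, 4] p = path g [3, 1, 9] p :=
  (f1585 H).trans (f1987 H)

theorem f1999 : g 5 • path g [3, 6, 4] p = path g [8, 1, 9] p :=
  (congrArg (g 5 • ·) (f1989 H).symm).trans (f1875 H)

theorem f2000 : path g [3, 6, 4, 5] p = path g [8, 1, 9] p :=
  (f1591 H).symm.trans (f1999 H)

theorem f2006 : g 3 • path g [3, 6, 4] p = path g [3, 1, 9, 0] p :=
  (congrArg (g 3 • ·) (f1989 H).symm).trans (f1945 H)

theorem f2007 : path g [8, 1, 4] p = path g [3, 1, 9, 0] p :=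
  (f1493 H).symm.trans (f2006 H)

theorem f2008 : path g [3, 1, 9, 0] p = path g [8, 1, 4] p :=
  (f2007 H).symm

theorem f2009 : g 5 • path g [8, 1, 4] p = path g [3, 1, 9] p :=
  (congrArg (g 5 • ·) (f2008 H).symm).trans (f1500 H)

theorem f2010 : path g [8, 1, 4, 5] p = path g [3, 1, 9] p :=
  (f1787 H).symm.trans (f2009 H)

theorem f2019 : g 3 • path g [8, 1, 4] p = path g [3, 6, 9, 0] p :=
  (congrArg (g 3 • ·) (f2008 H).symm).trans (f1942 H)

theorem f2020 : path g [3, 1, 4] p = path g [3, 6, 9, 0] p :=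
  (f1488 H).symm.trans (f2019 H)

theorem f2024 : path g [3, 6, 9, 0] p = path g [3, 1, 4] p :=
  (f2020 H).symm

theorem f2035 : g 1 • path g [3, 1, 4] p = path g [4, 8, 1, 4] p :=
  (congrArg (g 1 • ·) (f2024 H).symm).trans (f1921 H)

theorem f2036 : path g [3, 1, 4, 1] p = path g [4, 8, 1, 4] p :=
  (f1459 H).symm.trans (f2035 H)

theorem f2043 : path g [4, 8, 1, 4] p = path g [3, 1, 4, 1] p :=
  (f2036 H).symm

theorem f2044 : g 9 • path g [3, 1, 4, 1] p = path g [4, 8, 1] p :=
  (congrArg (g 9 • ·) (f2043 H).symm).trans (f1743 H)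

theorem f2047 : g 4 • path g [3, 1, 4, 1] p = path g [4, 8, 1, 9] p :=
  (congrArg (g 4 • ·) (f2043 H).symm).trans (f1755 H)

theorem f2049 : g 9 • path g [4, 8, 1, 9] p = path g [3, 1, 4, 1] p :=
  H.back (i := 4) (by decide) (f2047 H)

theorem f2056 : g 5 • path g [3, 1, 4, 1] p = path g [3, 1, 9, 1] p :=
  (congrArg (g 5 • ·) (f2043 H).symm).trans (f1930 H)

theorem f2063 : g 0 • path g [3, 6, 9] p = path g [3, 1, 4] p :=
  (f1600 H).trans (f2024 H)

theorem f2074 : g 0 • path g [3, 1, 9] p = path g [8, 1, 4] p :=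
  (f1499 H).trans (f2008 H)

theorem f2077 : g 0 • path g [8, 1, 9] p = path g [3, 6, 4] p :=
  (f1877 H).trans (f1989 H)

theorem f2079 : g 5 • path g [3, 1, 9] p = path g [3, 6, 4] p :=
  (f1504 H).trans (f1989 H)

theorem f2082 : g 5 • path g [8, 1, 4, 6] p = path g [3, 1, 4, 6] p :=
  scan (u := [5, 6, 0, 6]) (w := [6]) (i := 5) (r3_1_2 H) (step (f2056 H) (step (f1502 H) (step (f2074 H) (step (f1789 H) rfl)))) (step (H.back (i := 1) (by decide) (f1479 H)) rfl)

theorem f2083 : g 0 • path g [3, 1, 4, 6] p = path g [8, 1, 4, 6] p :=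
  H.back (i := 5) (by decide) (f2082 H)

theorem f2084 : g 7 • path g [3, 1, 4, 6] p = path g [3, 1, 4, 1] p :=
  scan (u := [5, 6, 8, 0, 3, 6, 5]) (w := []) (i := 7) (r7_0_3 H) (step (f2056 H) (step (f1502 H) (step (f1494 H) (step (f2077 H) (step (f1493 H) (step (f1789 H) (step (f2082 H) rfl))))))) rfl

theorem f2085 : g 2 • path g [3, 1, 4, 1] p = path g [3, 1, 4, 6] p :=
  H.back (i := 7) (by decide) (f2084 H)

theorem f2086 : g 7 • path g [8, 1, 9, 1] p = path g [8, 6, 9, 6] p :=
  scan (u := [5, 5, 5]) (w := [5, 9, 2, 4]) (i := 7) (r10_0_0 H) (step (f2056 H) (step (f1853 H) (step (f1870 H) rfl))) (step (H.back (i := 0) (by decide) (f1850 H)) (step (H.back (i := 4) (by decide) (f1758 H)) (step (H.back (i := 7) (by decide) (f1558 H)) (step (H.back (i := 9) (by decide) (f2044 H)) rfl))))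

theorem f2088 : g 5 • path g [3, 6, 4] p = path g [8, 1, 9] p :=
  (f1591 H).trans (f2000 H)

theorem f2090 : g 9 • path g [8, 6, 9, 1] p = path g [8, 9, 6] p :=
  scan (u := [5, 6, 5, 7, 5, 6, 7]) (w := [0, 2, 0, 4]) (i := 9) (r11_0_0 H) (step (f2056 H) (step (f1502 H) (step (f2079 H) (step (f1919 H) (step (f2088 H) (step (f1761 H) (step (f1838 H) rfl))))))) (step (H.back (i := 5) (by decide) (f1520 H)) (step (H.back (i := 7) (by decide) (f1552 H)) (step (H.back (i := 5) (by decide) (f1524 H)) (step (H.back (i := 9) (by decide) (f2044 H)) rfl))))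

theorem f2092 : path g [3, 6, 4, 6] p = path g [8, 1, 4, 6] p :=
  close (u := [5, 6, 7, 9, 0, 2, 0, 4, 5, 6]) (w := [5, 7]) (r11_0_4 H) (step (f2056 H) (step (f1502 H) (step (f816 H) (step (f232 H) (step (f1994 H) (step (f821 H) (step (f2063 H) (step (f145 H) (step (f2079 H) (step (f1593 H) rfl)))))))))) (step (H.back (i := 0) (by decide) (f2083 H)) (step (H.back (i := 2) (by decide) (f2085 H)) rfl))

theorem f2093 : path g [8, 1, 4, 6] p = path g [3, 6, 4, 6] p :=
  (f2092 H).symm

theorem f2096 : g 6 • path g [3, 6, 4, 6] p = path g [8, 1, 4, 1] p :=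
  (congrArg (g 6 • ·) (f2093 H).symm).trans (f1791 H)

theorem f2097 : path g [3, 4, 1, 9] p = path g [8, 1, 4, 1] p :=
  (f1664 H).symm.trans (f2096 H)

theorem f2101 : path g [8, 1, 4, 1] p = path g [3, 4, 1, 9] p :=
  (f2097 H).symm

theorem f2102 : g 6 • path g [3, 4, 1, 9] p = path g [8, 1, 4] p :=
  (congrArg (g 6 • ·) (f2101 H).symm).trans (f1784 H)

theorem f2103 : path g [3, 6, 4] p = path g [8, 1, 4] p :=
  (f1659 H).symm.trans (f2102 H)

theorem f2107 : path g [8, 1, 4] p = path g [3, 6, 4] p :=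
  (f2103 H).symm

theorem f2127 : g 5 • path g [8, 1, 4] p = path g [3, 1, 9] p :=
  (f1787 H).trans (f2010 H)

theorem f2128 : g 5 • path g [3, 6, 4] p = path g [3, 1, 9] p :=
  (congrArg (g 5 • ·) (f2107 H).symm).trans (f2127 H)

theorem f2129 : path g [8, 1, 9] p = path g [3, 1, 9] p :=
  (f2088 H).symm.trans (f2128 H)

theorem f2155 : g 1 • path g [3, 1, 9] p = path g [8, 1, 9, 1] p :=
  (congrArg (g 1 • ·) (f2129 H).symm).trans (f1800 H)

theorem f2156 : path g [3, 1, 9, 1] p = path g [8, 1, 9, 1] p :=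
  (f1501 H).symm.trans (f2155 H)

theorem f2160 : path g [8, 1, 9, 1] p = path g [3, 1, 9, 1] p :=
  (f2156 H).symm

theorem f2172 : g 7 • path g [3, 1, 9, 1] p = path g [8, 6, 9, 6] p :=
  (congrArg (g 7 • ·) (f2160 H).symm).trans (f2086 H)

theorem f2173 : path g [3, 6, 9, 6] p = path g [8, 6, 9, 6] p :=
  (f1979 H).symm.trans (f2172 H)

theorem f2174 : path g [8, 6, 9, 6] p = path g [3, 6, 9, 6] p :=
  (f2173 H).symm

theorem f2184 : g 0 • path g [3, 6, 9, 6] p = path g [3, 1, 9, 6] p :=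
  (congrArg (g 0 • ·) (f2174 H).symm).trans (f1852 H)

theorem f2185 : path g [4, 8, 6, 4] p = path g [3, 1, 9, 6] p :=
  (f1762 H).symm.trans (f2184 H)

theorem f2195 : g 5 • path g [3, 1, 9, 6] p = path g [3, 6, 9, 6] p :=
  (f1851 H).trans (f2174 H)

theorem f2202 : g 7 • path g [3, 1, 9, 6] p = path g [8, 6, 9, 1] p :=
  (congrArg (g 7 • ·) (f2185 H).symm).trans (f1838 H)

theorem f2203 : path g [3, 6, 9, 1] p = path g [8, 6, 9, 1] p :=
  (f1605 H).symm.trans (f2202 H)

theorem f2207 : path g [8, 6, 9, 1] p = path g [3, 6, 9, 1] p :=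
  (f2203 H).symm

theorem f2216 : g 9 • path g [3, 6, 9, 1] p = path g [8, 9, 6] p :=
  (congrArg (g 9 • ·) (f2207 H).symm).trans (f2090 H)

theorem f2217 : path g [3, 9, 6] p = path g [8, 9, 6] p :=
  (f1949 H).symm.trans (f2216 H)

theorem f2218 : path g [8, 9, 6] p = path g [3, 9, 6] p :=
  (f2217 H).symm

theorem f2229 : g 5 • path g [3, 9, 6] p = path g [3, 9, 6] p :=
  (f1520 H).trans (f2218 H)

theorem f2231 : g 2 • path g [3, 9, 6] p = path g [8, 9, 1] p :=
  (congrArg (g 2 • ·) (f2218 H).symm).trans (f1557 H)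

theorem f2232 : path g [3, 9, 1] p = path g [8, 9, 1] p :=
  (f1553 H).symm.trans (f2231 H)

theorem f2236 : path g [8, 9, 1] p = path g [3, 9, 1] p :=
  (f2232 H).symm

theorem f2252 : g 8 • path g [3, 9, 1] p = path g [4, 6, 3, 6] p :=
  (congrArg (g 8 • ·) (f2236 H).symm).trans (f1715 H)

theorem f2253 : path g [3, 9, 1, 8] p = path g [4, 6, 3, 6] p :=
  (f1621 H).symm.trans (f2252 H)

theorem f2254 : path g [4, 6, 3, 6] p = path g [3, 9, 1, 8] p :=
  (f2253 H).symm

theorem f2270 : g 0 • path g [3, 9, 1, 8] p = path g [4, 8, 6, 8] p :=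
  (congrArg (g 0 • ·) (f2254 H).symm).trans (f1771 H)

theorem f2271 : path g [3, 4, 6, 8] p = path g [4, 8, 6, 8] p :=
  (f1625 H).symm.trans (f2270 H)

theorem f2272 : path g [4, 8, 6, 8] p = path g [3, 4, 6, 8] p :=
  (f2271 H).symm

theorem f2284 : g 7 • path g [3, 4, 6, 8] p = path g [3, 4, 1, 8] p :=
  (congrArg (g 7 • ·) (f2272 H).symm).trans (f1774 H)

theorem f2285 : path g [4, 8, 1, 8] p = path g [3, 4, 1, 8] p :=
  (f1749 H).symm.trans (f2284 H)

theorem f2288 : g 8 • path g [3, 4, 1, 8] p = path g [4, 8, 1, 3] p :=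
  (congrArg (g 8 • ·) (f2285 H).symm).trans (f1746 H)

theorem f2289 : path g [3, 4, 1, 3] p = path g [4, 8, 1, 3] p :=
  (f1567 H).symm.trans (f2288 H)

theorem f2299 : path g [4, 8, 1, 3] p = path g [3, 4, 1, 3] p :=
  (f2289 H).symm

theorem f2300 : g 8 • path g [3, 4, 1, 3] p = path g [4, 8, 1] p :=
  (congrArg (g 8 • ·) (f2299 H).symm).trans (f1741 H)

theorem f2301 : path g [3, 4, 1] p = path g [4, 8, 1] p :=
  (f1562 H).symm.trans (f2300 H)

theorem f2305 : path g [4, 8, 1] p = path g [3, 4, 1] p :=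
  (f2301 H).symm

theorem f2328 : g 9 • path g [3, 4, 1] p = path g [4, 8, 1, 9] p :=
  (congrArg (g 9 • ·) (f2305 H).symm).trans (f1752 H)

theorem f2329 : path g [3, 4, 1, 9] p = path g [4, 8, 1, 9] p :=
  (f1569 H).symm.trans (f2328 H)

theorem f2330 : path g [4, 8, 1, 9] p = path g [3, 4, 1, 9] p :=
  (f2329 H).symm

theorem f2334 : g 9 • path g [3, 4, 1, 9] p = path g [3, 1, 4, 1] p :=
  (congrArg (g 9 • ·) (f2330 H).symm).trans (f2049 H)

theorem f2335 : path g [3, 4, 1, 4] p = path g [3, 1, 4, 1] p :=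
  (f1571 H).symm.trans (f2334 H)

theorem f2337 : g 9 • path g [3, 1, 4, 1] p = path g [3, 4, 1] p :=
  (f2044 H).trans (f2305 H)

theorem f2345 : g 6 • path g [3, 1, 4, 1] p = path g [3, 6, 9, 5] p :=
  (congrArg (g 6 • ·) (f2335 H).symm).trans (f1868 H)

theorem f2346 : path g [3, 1, 4] p = path g [3, 6, 9, 5] p :=
  (f1460 H).symm.trans (f2345 H)

theorem f2350 : path g [3, 6, 9, 5] p = path g [3, 1, 4] p :=
  (f2346 H).symm

theorem f2367 : g 8 • path g [3, 1, 4] p = path g [3, 6, 4] p :=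
  (f1490 H).trans (f2107 H)

theorem f2369 : g 3 • path g [3, 6, 9, 5] p = path g [3, 1, 4] p :=
  (f1872 H).trans (f2350 H)

theorem f2370 : g 3 • path g [3, 1, 4] p = path g [3, 1, 4] p :=
  (congrArg (g 3 • ·) (f2350 H).symm).trans (f2369 H)

theorem f2371 : path g [3, 6, 4] p = path g [3, 1, 4] p :=
  (f1469 H).symm.trans (f2370 H)

theorem f2377 : g 8 • path g [3, 1, 4] p = path g [3, 1, 4] p :=
  (f2367 H).trans (f2371 H)

theorem f2393 : g 6 • path g [3, 1, 4] p = path g [3, 6, 4, 6] p :=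
  (congrArg (g 6 • ·) (f2371 H).symm).trans (f1593 H)

theorem f2394 : path g [3, 1, 4, 6] p = path g [3, 6, 4, 6] p :=
  (f1476 H).symm.trans (f2393 H)

theorem f2398 : path g [3, 6, 4, 6] p = path g [3, 1, 4, 6] p :=
  (f2394 H).symm

theorem f2407 : g 9 • path g [3, 1, 4, 6] p = path g [3, 6, 9, 1] p :=
  (congrArg (g 9 • ·) (f2398 H).symm).trans (f1956 H)

theorem f2410 : g 2 • path g [3, 1, 4, 6] p = path g [3, 4, 1, 9] p :=
  (congrArg (g 2 • ·) (f2398 H).symm).trans (f1910 H)

theorem f2412 : g 7 • path g [3, 4, 1, 9] p = path g [3, 1, 4, 6] p :=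
  H.back (i := 2) (by decide) (f2410 H)

theorem f2413 : g 7 • path g [3, 1, 4, 6] p = path g [3, 4, 1, 9] p :=
  (congrArg (g 7 • ·) (f2398 H).symm).trans (f1913 H)

theorem f2414 : path g [3, 1, 4, 1] p = path g [3, 4, 1, 9] p :=
  (f2084 H).symm.trans (f2413 H)

theorem f2421 : path g [3, 4, 1, 9] p = path g [3, 1, 4, 1] p :=
  (f2414 H).symm

theorem f2425 : g 9 • path g [3, 4, 1, 9] p = path g [3, 1, 4, 1] p :=
  (f1571 H).trans (f2335 H)

theorem f2426 : g 9 • path g [3, 1, 4, 1] p = path g [3, 1, 4, 1] p :=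
  (congrArg (g 9 • ·) (f2421 H).symm).trans (f2425 H)

theorem f2427 : path g [3, 4, 1] p = path g [3, 1, 4, 1] p :=
  (f2337 H).symm.trans (f2426 H)

theorem f2428 : g 7 • path g [3, 1, 4, 1] p = path g [3, 1, 4, 6] p :=
  (congrArg (g 7 • ·) (f2421 H).symm).trans (f2412 H)

theorem f2440 : path g [3, 1, 4, 1] p = path g [3, 4, 1] p :=
  (f2427 H).symm

theorem f2460 : g 7 • path g [3, 4, 1] p = path g [3, 1, 4, 6] p :=
  (congrArg (g 7 • ·) (f2440 H).symm).trans (f2428 H)

theorem f2461 : path g [3, 4, 6] p = path g [3, 1, 4, 6] p :=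
  (f1550 H).symm.trans (f2460 H)

theorem f2462 : path g [3, 1, 4, 6] p = path g [3, 4, 6] p :=
  (f2461 H).symm

theorem f2479 : g 9 • path g [3, 4, 6] p = path g [3, 6, 9, 1] p :=
  (congrArg (g 9 • ·) (f2462 H).symm).trans (f2407 H)

theorem f2480 : path g [3, 1, 9, 1] p = path g [3, 6, 9, 1] p :=
  (f1975 H).symm.trans (f2479 H)

theorem f2484 : path g [3, 6, 9, 1] p = path g [3, 1, 9, 1] p :=
  (f2480 H).symm

theorem f2491 : g 9 • path g [3, 1, 9, 1] p = path g [3, 9, 6] p :=
  (congrArg (g 9 • ·) (f2484 H).symm).trans (f1949 H)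

theorem f2492 : path g [3, 1, 9, 6] p = path g [3, 9, 6] p :=
  (f1976 H).symm.trans (f2491 H)

theorem f2511 : g 5 • path g [3, 9, 6] p = path g [3, 6, 9, 6] p :=
  (congrArg (g 5 • ·) (f2492 H).symm).trans (f2195 H)

theorem f2512 : path g [3, 9, 6] p = path g [3, 6, 9, 6] p :=
  (f2229 H).symm.trans (f2511 H)

theorem f2513 : path g [3, 6, 9, 6] p = path g [3, 9, 6] p :=
  (f2512 H).symm

theorem f2532 : g 2 • path g [3, 9, 6] p = path g [3, 1, 9, 1] p :=
  (congrArg (g 2 • ·) (f2513 H).symm).trans (f1981 H)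

theorem f2533 : path g [3, 9, 1] p = path g [3, 1, 9, 1] p :=
  (f1553 H).symm.trans (f2532 H)

theorem f2534 : path g [3, 1, 9, 1] p = path g [3, 9, 1] p :=
  (f2533 H).symm

theorem f2535 : g 6 • path g [3, 9, 1] p = path g [3, 1, 9] p :=
  (congrArg (g 6 • ·) (f2534 H).symm).trans (f1502 H)

theorem f2536 : path g [3, 9] p = path g [3, 1, 9] p :=
  (f237 H).symm.trans (f2535 H)

theorem f2555 : g 9 • path g [3, 9, 1] p = path g [3, 9, 6] p :=
  (f1960 H).trans (f2513 H)

theorem f2561 : g 9 • path g [3, 4, 6] p = path g [3, 9, 1] p :=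
  (f1975 H).trans (f2534 H)

theorem f2567 : path g [3, 1, 9] p = path g [3, 9] p :=
  (f2536 H).symm

theorem f2587 : g 5 • path g [3, 1, 9] p = path g [3, 1, 4] p :=
  (f2079 H).trans (f2371 H)

theorem f2588 : g 5 • path g [3, 9] p = path g [3, 1, 4] p :=
  (congrArg (g 5 • ·) (f2567 H).symm).trans (f2587 H)

theorem f2589 : path g [3, 4] p = path g [3, 1, 4] p :=
  (f1203 H).symm.trans (f2588 H)

theorem f2593 : path g [3, 1, 4] p = path g [3, 4] p :=
  (f2589 H).symm

theorem f2618 : g 8 • path g [3, 1, 4] p = path g [3, 4] p :=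
  (f2377 H).trans (f2593 H)

theorem f2619 : g 8 • path g [3, 4] p = path g [3, 4] p :=
  (congrArg (g 8 • ·) (f2593 H).symm).trans (f2618 H)

theorem f2620 : path g [4] p = path g [3, 4] p :=
  (f34 H).symm.trans (f2619 H)

theorem f2621 : path g [3, 4] p = path g [4] p :=
  (f2620 H).symm

theorem f2640 : g 6 • path g [4] p = path g [3, 4, 6] p :=
  (congrArg (g 6 • ·) (f2621 H).symm).trans (f180 H)

theorem f2641 : path g [4, 6] p = path g [3, 4, 6] p :=
  (f56 H).symm.trans (f2640 H)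

theorem f2645 : path g [3, 4, 6] p = path g [4, 6] p :=
  (f2641 H).symm

theorem f2665 : g 9 • path g [4, 6] p = path g [3, 9, 1] p :=
  (congrArg (g 9 • ·) (f2645 H).symm).trans (f2561 H)

theorem f2666 : path g [9, 1] p = path g [3, 9, 1] p :=
  (f1219 H).symm.trans (f2665 H)

theorem f2667 : path g [3, 9, 1] p = path g [9, 1] p :=
  (f2666 H).symm

theorem f2688 : g 9 • path g [9, 1] p = path g [3, 9, 6] p :=
  (congrArg (g 9 • ·) (f2667 H).symm).trans (f2555 H)

theorem f2689 : path g [9, 6] p = path g [3, 9, 6] p :=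
  (f1182 H).symm.trans (f2688 H)

theorem f2690 : path g [3, 9, 6] p = path g [9, 6] p :=
  (f2689 H).symm

theorem f2691 : g 1 • path g [9, 6] p = path g [3, 9] p :=
  (congrArg (g 1 • ·) (f2690 H).symm).trans (f243 H)

theorem f2692 : path g [9] p = path g [3, 9] p :=
  (f95 H).symm.trans (f2691 H)

theorem f2873 : path g [3, 9] p = path g [9] p :=
  (f2692 H).symm

theorem f2881 : g 3 • path g [9] p = path g [8, 9] p :=
  (congrArg (g 3 • ·) (f2873 H).symm).trans (f81 H)

theorem f2882 : g 3 • path g [9] p = path g [9] p :=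
  (f47 H).trans (f2873 H)

theorem f2883 : path g [9] p = path g [8, 9] p :=
  (f2882 H).symm.trans (f2881 H)

theorem f2902 : path g [8, 9] p = path g [9] p :=
  (f2883 H).symm

theorem f2925 : g 5 • path g [9] p = path g [4, 8] p :=
  (congrArg (g 5 • ·) (f2902 H).symm).trans (f1513 H)

theorem f2926 : path g [4] p = path g [4, 8] p :=
  (f1216 H).symm.trans (f2925 H)

theorem f2931 : path g [4, 8] p = path g [4] p :=
  (f2926 H).symm

theorem f2938 : g 9 • path g [4] p = path g [8] p :=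
  (congrArg (g 9 • ·) (f2931 H).symm).trans (f66 H)

theorem f2939 : path g [] p = path g [8] p :=
  (f9 H).symm.trans (f2938 H)

theorem f3006 : path g [8] p = path g [] p :=
  (f2939 H).symm

theorem f3029 : g 6 • path g [] p = path g [8, 6] p :=
  (congrArg (g 6 • ·) (f3006 H).symm).trans (f70 H)

theorem f3030 : path g [] p = path g [8, 6] p :=
  (f3 H).symm.trans (f3029 H)

theorem f3034 : path g [8, 6] p = path g [] p :=
  (f3030 H).symm

theorem f3051 : g 3 • path g [8, 6] p = path g [] p :=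
  (f1393 H).trans (f3034 H)

theorem f3052 : g 3 • path g [] p = path g [] p :=
  (congrArg (g 3 • ·) (f3034 H).symm).trans (f3051 H)

theorem f3053 : path g [3] p = path g [] p :=
  (f6 H).symm.trans (f3052 H)

theorem f3148 : g 3 • path g [] p = path g [] p :=
  (f6 H).trans (f3053 H)

theorem collapse : g 3 • p = p :=
  (f3148 H)

end CfsgQS3.Cert110
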